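import Mathlib.FieldTheory.Finite.Basic
import Mathlib.GroupTheory.SpecificGroups.Cyclic

/-!
Fixed points of the power maps of a finite field.
-/

set_option autoImplicit false

namespace CfsgLib.Chevalley.Twist

variable {K : Type*} [Field K] [Finite K]

theorem card_pow_eq_self {q : ℕ} (hq : 2 ≤ q) (hdvd : q - 1 ∣ Nat.card K - 1) :
    Nat.card {t : K // t ^ q = t} = q := by
  classical
  have := Fintype.ofFinite K
  let U : Subgroup Kˣ := (powMonoidHom (q - 1) : Kˣ →* Kˣ).ker
  have hU : Nat.card U = q - 1 := by
    rw [IsCyclic.card_powMonoidHom_ker, Nat.card_units, Nat.gcd_eq_right hdvd]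
  have e : {t : K // t ^ q = t} ≃ Option U :=
    { toFun := fun t => if h : t.1 = 0 then none else some ⟨Units.mk0 t.1 h, by
        rw [MonoidHom.mem_ker, powMonoidHom_apply]
        apply Units.ext
        rw [Units.val_pow_eq_pow_val, Units.val_mk0, Units.val_one]
        refine mul_left_cancel₀ h ?_
        rw [mul_one, ← pow_succ', show q - 1 + 1 = q by omega]
        exact t.2⟩
      invFun := fun o => match o with
        | none => ⟨0, zero_pow (by omega)⟩
        | some u => ⟨(u.1 : K), by
            have h := congrArg (Units.val) (MonoidHom.mem_ker.mp u.2)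
            rw [powMonoidHom_apply, Units.val_pow_eq_pow_val, Units.val_one] at h
            conv_lhs => rw [show q = q - 1 + 1 by omega, pow_succ, h, one_mul]⟩
      left_inv := fun t => by
        by_cases h : t.1 = 0
        · simp only [dif_pos h]; exact Subtype.ext h.symm
        · simp only [dif_neg h]; rfl
      right_inv := fun o => by
        match o with
        | none => simp
        | some u => simp [Units.ne_zero] }
  rw [Nat.card_congr e, Finite.card_option, hU]
  omega

theorem pow_card_eq {q : ℕ} (h : Nat.card K = q) (t : K) : t ^ q = t := by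
  have := Fintype.ofFinite K
  rw [← h, Nat.card_eq_fintype_card, FiniteField.pow_card]

omit [Finite K] in
theorem two_le_of_isPrimePow {q : ℕ} (h : IsPrimePow q) : 2 ≤ q := h.two_le

/-- A finite field with at least four elements has a non-zero element with square different from one. -/
theorem exists_sq_ne_one (h : 4 ≤ Nat.card K) : ∃ c : K, c ≠ 0 ∧ c ^ 2 ≠ 1 := by
  classical
  have := Fintype.ofFinite K
  by_contra hall
  push Not at hall
  have : (Finset.univ : Finset K) ⊆ {0, 1, -1} := by
    intro x _
    simp only [Finset.mem_insert, Finset.mem_singleton]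
    by_cases hx : x = 0
    · exact Or.inl hx
    · exact Or.inr (sq_eq_one_iff.mp (hall x hx))
  have h2 := Finset.card_le_card this
  rw [Finset.card_univ, ← Nat.card_eq_fintype_card] at h2
  have h3 : ({0, 1, -1} : Finset K).card ≤ 3 := Finset.card_le_three
  omega

end CfsgLib.Chevalley.Twist
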