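import Cfsg.Agent.Lib.Chevalley.Twist.Torus1
import Cfsg.Agent.Lib.Chevalley.SteinbergTorus
import Mathlib.GroupTheory.SpecificGroups.Cyclic

/-!
The kernel of the torus map, and counting of parameters.
-/

set_option autoImplicit false

namespace CfsgLib.Chevalley.Tbl

variable {T : Tbl} {F : Type*} [Field F]

/-- The exponent of the kernel of the torus map divides the common multiples of the divisors. -/
theorem pow_eq_one_of_torusHom (hT : T.Valid) {U U' V V' : List (List ℤ)} {d : List ℕ}
    (h : T.chkSmith U U' V V' d = true) {m : ℕ} (hd : ∀ i < T.rank, d.getD i 0 ∣ m)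
    {z : Fin T.rank → Fˣ} (hz : torusHom T F z = 1) : z ^ m = 1 := by
  have hf' := (torusHom_ker (F := F) hT).le (MonoidHom.mem_ker.mpr hz)
  rw [MonoidHom.mem_ker] at hf'
  simp only [chkSmith, allLt_iff, Bool.and_eq_true, decide_eq_true_eq] at h
  let D : ℕ → ℕ → ℤ := fun i j => if i = j then (d.getD i 0 : ℤ) else 0
  have e : (powMat T.rank (fun i j => T.ca i (T.simple j)) : (Fin T.rank → Fˣ) →* _) =
      powMat T.rank (mMul T.rank (mMul T.rank (mEnt U) D) (mEnt V)) :=
    powMat_congr _ _ _ fun i j => (h i i.2 j j.2).2.symm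
  rw [e, ← powMat_comp, ← powMat_comp] at hf'
  have h1 := congrArg (powMat T.rank (mEnt V')) hf'
  rw [powMat_comp, powMat_eq_id T.rank _ (fun i j => (h i i.2 j j.2).1.1.2), map_one] at h1
  set g := powMat T.rank (mEnt U) z with hg
  have hgm : g ^ m = 1 := by
    funext j
    have h2 := congrFun h1 j
    have hj : powMat T.rank D g j = g j ^ (d.getD j 0 : ℤ) := by
      show ∏ i : Fin T.rank, g i ^ D i j = _
      rw [Finset.prod_eq_single j]
      · simp [D]
      · intro i _ hij
        simp [D, Fin.val_ne_of_ne hij]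
      · simp
    rw [hj, zpow_natCast] at h2
    obtain ⟨k, hk⟩ := hd j j.2
    show g j ^ m = 1
    rw [hk, pow_mul, show g j ^ d.getD j 0 = 1 from h2, one_pow]
  have h2 := congrArg (powMat T.rank (mEnt U')) hgm
  rw [map_pow, hg, powMat_comp, powMat_eq_id T.rank _ (fun i j => (h i i.2 j j.2).1.1.1.1), map_one] at h2
  exact h2

/-- The equations of the kernel of the torus map. -/
theorem torusHom_eq_one_iff (hT : T.Valid) {z : Fin T.rank → Fˣ} :
    torusHom T F z = 1 ↔ ∀ j : Fin T.rank, ∏ i : Fin T.rank, z i ^ T.ca i (T.simple j) = 1 := by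
  rw [← MonoidHom.mem_ker, torusHom_ker hT, MonoidHom.mem_ker]
  exact ⟨fun h j => congrFun h j, funext⟩

namespace TwistData

variable (D : TwistData T F)

/-- The fixed diagonal elements come from fixed parameters, the exponent of the kernel being `m`
and a power prime to `m` of a parameter being congruent to a fixed one. -/
theorem diag_fix_eq_map {U U' V V' : List (List ℤ)} {d : List ℕ}
    (h : T.chkSmith U U' V V' d = true) {m : ℕ} (hd : ∀ i < T.rank, d.getD i 0 ∣ m) {k : ℕ}
    (hm : m.Coprime k)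
    (hk : ∀ f, torusHom T F (D.tau f) = torusHom T F f →
      ∃ g ∈ D.tauFix, torusHom T F g = torusHom T F f ^ k) :
    T.datum.diagonalSubgroup F ⊓ D.twist.fix = D.tauFix.map (torusHom T F) := by
  refine le_antisymm (fun g hg => ?_) D.map_tauFix_le
  obtain ⟨f, rfl, hf⟩ := D.mem_diag_fix_iff.mp hg
  have h1 : torusHom T F f ^ m ∈ D.tauFix.map (torusHom T F) := by
    refine ⟨f ^ m, ?_, map_pow _ _ _⟩
    show D.tau (f ^ m) = f ^ m
    have hz : torusHom T F (D.tau f / f) = 1 := by rw [map_div, hf, div_self']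
    have := pow_eq_one_of_torusHom D.ok.valid h hd hz
    rwa [div_pow, div_eq_one, ← map_pow] at this
  obtain ⟨g', hg', e⟩ := hk f hf
  have h2 : torusHom T F f ^ k ∈ D.tauFix.map (torusHom T F) := ⟨g', hg', e⟩
  have hb := Nat.gcd_eq_gcd_ab m k
  rw [Nat.coprime_iff_gcd_eq_one.mp hm, Nat.cast_one] at hb
  have := mul_mem (zpow_mem h1 (Nat.gcdA m k)) (zpow_mem h2 (Nat.gcdB m k))
  rwa [← zpow_natCast, ← zpow_mul, ← zpow_natCast (torusHom T F f) k, ← zpow_mul, ← zpow_add, ← hb,
    zpow_one] at this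

end TwistData

end CfsgLib.Chevalley.Tbl

namespace CfsgLib.Chevalley.Twist

theorem card_units_pow_eq_one {K : Type*} [Field K] [Finite K] {d : ℕ} (hd : d ∣ Nat.card K - 1) :
    Nat.card {c : Kˣ // c ^ d = 1} = d := by
  rw [show Nat.card {c : Kˣ // c ^ d = 1} = Nat.card (powMonoidHom d : Kˣ →* Kˣ).ker from rfl,
    IsCyclic.card_powMonoidHom_ker, Nat.card_units, Nat.gcd_eq_right hd]

theorem units_pow_eq_self {K : Type*} [Field K] {q : ℕ} (hq : 1 ≤ q) {c : Kˣ} :
    c ^ q = c ↔ c ^ (q - 1) = 1 := by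
  conv_lhs => rw [← Nat.sub_add_cancel hq, pow_succ, mul_eq_right]

theorem val_iterate_unitsMap {K : Type*} [Field K] (f : K ≃+* K) (c : Kˣ) (e : ℕ) :
    (((⇑(Units.map f.toRingHom.toMonoidHom))^[e] c : Kˣ) : K) = (⇑f)^[e] (c : K) := by
  induction e with
  | zero => rfl
  | succ e ih =>
    rw [Function.iterate_succ_apply', Function.iterate_succ_apply', Units.coe_map, ih]
    rfl

theorem iterate_pow {K : Type*} [Field K] {q : ℕ} {f : K ≃+* K} (hf : ∀ t, f t = t ^ q) (e : ℕ)
    (t : K) : (⇑f)^[e] t = t ^ q ^ e := by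
  induction e with
  | zero => simp
  | succ e ih => rw [Function.iterate_succ_apply', ih, hf, ← pow_mul, ← pow_succ]

theorem unitsMap_pow {K : Type*} [Field K] {q : ℕ} {f : K ≃+* K} (hf : ∀ t, f t = t ^ q) (c : Kˣ) :
    Units.map f.toRingHom.toMonoidHom c = c ^ q :=
  Units.ext (by rw [Units.coe_map, Units.val_pow_eq_pow_val]; exact hf _)

end CfsgLib.Chevalley.Twist
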