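import Cfsg.Agent.Lib.Chevalley.Twist.AbPerfect
import Cfsg.Agent.Lib.Chevalley.Twist.Field
import Cfsg.Agent.Lib.Chevalley.Twist.Torus2
import Cfsg.Agent.Lib.Chevalley.Data.TwistD4
import Cfsg.Agent.Lib.Chevalley.Data.GraphCerts
import Cfsg.Agent.Lib.Chevalley.Data.SmithCerts
import Cfsg.Agent.Lib.Chevalley.Data.StCerts
import Cfsg.Agent.Lib.Chevalley.Data.D4Comm
import Cfsg.Prelude.Def_LieTwisted

/-!
The groups of type ³D₄.
-/

set_option autoImplicit false
set_option maxRecDepth 20000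
set_option Elab.async false

namespace CfsgLib.Chevalley.Twist.D4

open Tbl

theorem stOk : Data.D4.tbl.StOk :=
  ⟨Data.D4.valid, Data.D4.chkComm, Data.D4.chkSorted, Data.D4.chkSplit⟩

theorem chk_twist : Data.D4.tbl.chkTwist Data.D4.graph [2, 1, 3, 0] = true := by decide +kernel

theorem chk_orbits :
    Data.D4.tbl.chkOrbits Data.D4.graph 2 [1, 0, 1, 1] Data.D4.orbWords = true := by decide +kernel

theorem chk_ab :
    Data.D4.tbl.chkAbInst Data.D4.graph 2 Data.D4.orbWords [[1], [0, 2, 3]] = true := by decide +kernel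

theorem chk_single :
    Data.D4.tbl.chkSingle Data.D4.graph Data.D4.orbWords 2 14 22 23 [0, 1] = true := by decide +kernel

variable {K : Type*} [Field K]

/-- The data of the twist. -/
def data (f : K ≃+* K) : TwistData Data.D4.tbl K where
  ok := stOk
  p := 0
  hp := Or.inl rfl
  M := Data.D4.graph
  N := Data.D4.graph2
  hM := Data.D4.chk_graph
  hN := Data.D4.chk_graph2
  hinv := Data.D4.chk_graph_inv
  hperf _ := ⟨0, Or.inr rfl⟩
  π := [2, 1, 3, 0]
  hπ := chk_twist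
  f := f

theorem simples0 : Data.D4.tbl.simples ([[1], [0, 2, 3]].getD 0 []) = [14] := by decide +kernel
theorem simples1 : Data.D4.tbl.simples ([[1], [0, 2, 3]].getD 1 []) = [18, 13, 12] := by decide +kernel
theorem negs0 : ([14] : List ℕ).map Data.D4.tbl.neg = [9] := by decide +kernel
theorem negs1 : ([18, 13, 12] : List ℕ).map Data.D4.tbl.neg = [5, 10, 11] := by decide +kernel

variable [Finite K] {q : ℕ} (hq : IsPrimePow q) (hK : Nat.card K = q ^ 3)

/-- The power map. -/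
noncomputable def fq : K ≃+* K := (exists_powAut hq (by norm_num : 0 < 3) hK).choose

theorem fq_apply (t : K) : fq hq hK t = t ^ q := (exists_powAut hq (by norm_num : 0 < 3) hK).choose_spec t

include hK in
theorem pow_cube (t : K) : t ^ q ^ 3 = t := pow_card_eq hK t

theorem cyc1 (a : ℕ) (t : K) : cycWord (fq hq hK) [a] t = [(a, t)] := rfl

theorem cyc3 (a b c : ℕ) (t : K) :
    cycWord (fq hq hK) [a, b, c] t = [(a, t), (b, t ^ q), (c, t ^ q ^ 2)] := by
  show [(a, t), (b, fq hq hK t), (c, fq hq hK (fq hq hK t))] = _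
  rw [fq_apply, fq_apply, ← pow_mul, pow_two]

theorem mem_words (w : List (ℕ × K)) :
    w ∈ Cfsg.Lie.d4Words K q ↔ ∃ j < 2, ∃ t, (⇑(fq hq hK))^[([[1], [0, 2, 3]].getD j []).length] t = t ∧
      (w = cycWord (fq hq hK) (Data.D4.tbl.simples ([[1], [0, 2, 3]].getD j [])) t ∨
        w = cycWord (fq hq hK) ((Data.D4.tbl.simples ([[1], [0, 2, 3]].getD j [])).map Data.D4.tbl.neg) t) := by
  constructor
  · rintro (⟨t, ht, r, hr, rfl⟩ | ⟨t, rs, hrs, rfl⟩)
    · refine ⟨0, by norm_num, t, (fq_apply hq hK t).trans ht, ?_⟩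
      rw [simples0, negs0, cyc1, cyc1]
      rcases List.mem_pair.mp hr with rfl | rfl
      · exact Or.inl rfl
      · exact Or.inr rfl
    · refine ⟨1, by norm_num, t, (iterate_pow (fq_apply hq hK) 3 t).trans (pow_cube hK t), ?_⟩
      rw [simples1, negs1, cyc3, cyc3]
      rcases List.mem_pair.mp hrs with rfl | rfl
      · exact Or.inl rfl
      · exact Or.inr rfl
  · rintro ⟨j, hj, t, ht, hw⟩
    obtain rfl | rfl : j = 0 ∨ j = 1 := by omega
    · rw [simples0, negs0, cyc1, cyc1] at hw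
      have ht' : t ^ q = t := (fq_apply hq hK t).symm.trans ht
      rcases hw with rfl | rfl
      · exact Or.inl ⟨t, ht', Cfsg.Lie.d4p2, List.mem_cons_self, rfl⟩
      · exact Or.inl ⟨t, ht', Cfsg.Lie.d4m2, List.mem_cons_of_mem _ List.mem_cons_self, rfl⟩
    · rw [simples1, negs1, cyc3, cyc3] at hw
      rcases hw with rfl | rfl
      · exact Or.inr ⟨t, (Cfsg.Lie.d4p1, Cfsg.Lie.d4p3, Cfsg.Lie.d4p4), List.mem_cons_self, rfl⟩
      · exact Or.inr ⟨t, (Cfsg.Lie.d4m1, Cfsg.Lie.d4m3, Cfsg.Lie.d4m4),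
          List.mem_cons_of_mem _ List.mem_cons_self, rfl⟩

/-- The setup. -/
noncomputable def setup : AbSetup Data.D4.tbl K where
  D := data (fq hq hK)
  o := 2
  orb := [1, 0, 1, 1]
  words := Data.D4.orbWords
  Ss := [[1], [0, 2, 3]]
  hO := chk_orbits
  hA := chk_ab
  W := Cfsg.Lie.d4Words K q
  hW w hw := (mem_words hq hK w).mp hw
  hpos j hj t ht := (mem_words hq hK _).mpr ⟨j, hj, t, ht, Or.inl rfl⟩
  hneg j hj t ht := (mem_words hq hK _).mpr ⟨j, hj, t, ht, Or.inr rfl⟩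

theorem G_def : (setup hq hK).G = Data.D4.tbl.datum.genSubgroup K (Cfsg.Lie.d4Words K q) := rfl

theorem tau_val (f : Fin Data.D4.tbl.rank → Kˣ) (i : Fin Data.D4.tbl.rank) :
    (setup hq hK).D.tau f ((setup hq hK).D.permS i) = f i ^ q := by
  have h1 : Data.D4.graph.lam (Data.D4.tbl.simple i.val) = 1 := by
    revert i; decide +kernel
  apply Units.ext
  rw [TwistData.tau_apply, Units.val_pow_eq_pow_val]
  show fq hq hK _ ^ Data.D4.graph.lam _ = _
  rw [h1, pow_one, fq_apply]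

theorem tau_eqs (f : Fin Data.D4.tbl.rank → Kˣ) :
    (setup hq hK).D.tau f (2 : Fin 4) = f (0 : Fin 4) ^ q ∧
    (setup hq hK).D.tau f (1 : Fin 4) = f (1 : Fin 4) ^ q ∧
    (setup hq hK).D.tau f (3 : Fin 4) = f (2 : Fin 4) ^ q ∧
    (setup hq hK).D.tau f (0 : Fin 4) = f (3 : Fin 4) ^ q :=
  ⟨tau_val hq hK f (0 : Fin 4), tau_val hq hK f (1 : Fin 4), tau_val hq hK f (2 : Fin 4),
    tau_val hq hK f (3 : Fin 4)⟩

include hq hK in
theorem units_pow_cube (a : Kˣ) : ((a ^ q) ^ q) ^ q = a := by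
  have := hq
  refine Units.ext ?_
  simp only [Units.val_pow_eq_pow_val, ← pow_mul]
  rw [show q * q * q = q ^ 3 by ring]
  exact pow_cube hK _

theorem mem_tauFix {f : Fin Data.D4.tbl.rank → Kˣ} :
    f ∈ (setup hq hK).D.tauFix ↔ f (1 : Fin 4) ^ q = f (1 : Fin 4) ∧ f (2 : Fin 4) = f (0 : Fin 4) ^ q ∧
      f (3 : Fin 4) = (f (0 : Fin 4) ^ q) ^ q := by
  obtain ⟨e2, e1, e3, e0⟩ := tau_eqs hq hK f
  refine ⟨fun h => ?_, fun ⟨h1, h2, h3⟩ => ?_⟩
  · have h' : (setup hq hK).D.tau f = f := h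
    rw [h'] at e0 e1 e2 e3
    exact ⟨e1.symm, e2, e3.trans (by rw [e2])⟩
  · show (setup hq hK).D.tau f = f
    exact funext fun (i : Fin 4) => match i with
      | 0 => e0.trans ((congrArg (· ^ q) h3).trans (units_pow_cube hq hK _))
      | 1 => e1.trans h1
      | 2 => e2.trans h2.symm
      | 3 => e3.trans ((congrArg (· ^ q) h2).trans h3.symm)

theorem tau_cube (f : Fin Data.D4.tbl.rank → Kˣ) :
    (setup hq hK).D.tau ((setup hq hK).D.tau ((setup hq hK).D.tau f)) = f := by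
  obtain ⟨a2, a1, a3, a0⟩ := tau_eqs hq hK f
  obtain ⟨b2, b1, b3, b0⟩ := tau_eqs hq hK ((setup hq hK).D.tau f)
  obtain ⟨c2, c1, c3, c0⟩ := tau_eqs hq hK ((setup hq hK).D.tau ((setup hq hK).D.tau f))
  exact funext fun (i : Fin 4) => match i with
    | 0 => c0.trans (by rw [b3, a2, units_pow_cube hq hK])
    | 1 => c1.trans (by rw [b1, a1, units_pow_cube hq hK])
    | 2 => c2.trans (by rw [b0, a3, units_pow_cube hq hK])
    | 3 => c3.trans (by rw [b2, a0, units_pow_cube hq hK])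

theorem diag_fix :
    Data.D4.tbl.datum.diagonalSubgroup K ⊓ (setup hq hK).S.fix =
      (setup hq hK).D.tauFix.map (torusHom Data.D4.tbl K) := by
  refine (setup hq hK).D.diag_fix_eq_map (m := 2) (k := 3) Data.D4.chkSmith (by decide) (by norm_num) ?_
  intro f hf
  set τ := (setup hq hK).D.tau
  refine ⟨f * τ f * τ (τ f), ?_, ?_⟩
  · show τ (f * τ f * τ (τ f)) = _
    rw [map_mul, map_mul, tau_cube hq hK, MonoidHom.id_apply, mul_comm, mul_assoc f]
  · have e : ∀ g, torusHom Data.D4.tbl K (τ g) = (setup hq hK).D.twist.sg (torusHom Data.D4.tbl K g) :=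
      fun g => ((setup hq hK).D.sg_torus g).symm
    rw [map_mul, map_mul, e (τ f), hf, ← e f, hf, pow_succ, pow_two]

theorem fit_iff0 (t : K) : (setup hq hK).Fit 0 t ↔ t ^ q = t := by
  show fq hq hK t = t ↔ _
  rw [fq_apply]

theorem fit1 (t : K) : (setup hq hK).Fit 1 t := (iterate_pow (fq_apply hq hK) 3 t).trans (pow_cube hK t)

theorem orbTorus0 (c : Kˣ) : (setup hq hK).orbTorus 0 c = Pi.mulSingle (1 : Fin 4) c := by
  show ([_] : List (Fin Data.D4.tbl.rank → Kˣ)).prod = _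
  exact List.prod_singleton

theorem orbTorus1 (c : Kˣ) : (setup hq hK).orbTorus 1 c =
    Pi.mulSingle (0 : Fin 4) c * (Pi.mulSingle (2 : Fin 4) (c ^ q) * Pi.mulSingle (3 : Fin 4) ((c ^ q) ^ q)) := by
  have e : ∀ c, Units.map (fq hq hK).toRingHom.toMonoidHom c = c ^ q := unitsMap_pow (fq_apply hq hK)
  rw [← e c, ← e (Units.map _ c)]
  show ([_, _, _] : List (Fin Data.D4.tbl.rank → Kˣ)).prod = _
  simp only [List.prod_cons, List.prod_nil, mul_one]
  rfl

theorem G_eq : (setup hq hK).G = (setup hq hK).S.fix := by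
  refine (setup hq hK).G_eq_fix (diag_fix hq hK).le fun f hf => ?_
  obtain ⟨h1, h2, h3⟩ := (mem_tauFix hq hK).mp hf
  have hdec : f = (setup hq hK).orbTorus 0 (f (1 : Fin 4)) * (setup hq hK).orbTorus 1 (f (0 : Fin 4)) := by
    rw [orbTorus0, orbTorus1]
    have key : ∀ i : Fin 4, f i = (Pi.mulSingle (1 : Fin 4) (f (1 : Fin 4)) *
      (Pi.mulSingle (0 : Fin 4) (f (0 : Fin 4)) * (Pi.mulSingle (2 : Fin 4) (f (0 : Fin 4) ^ q) *
        Pi.mulSingle (3 : Fin 4) ((f (0 : Fin 4) ^ q) ^ q))) : Fin 4 → Kˣ) i := by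
      intro i
      fin_cases i <;> simp [h2, h3]
    exact funext key
  rw [hdec]
  refine mul_mem (Subgroup.subset_closure ⟨0, by norm_num [setup], _, ?_, rfl⟩)
    (Subgroup.subset_closure ⟨1, by norm_num [setup], _, fit1 hq hK _, rfl⟩)
  rw [fit_iff0, ← Units.val_pow_eq_pow_val, h1]

include hq in
theorem one_le : 1 ≤ q := le_of_lt (two_le_of_isPrimePow hq)

theorem card_diag :
    Nat.card ↥(Data.D4.tbl.datum.diagonalSubgroup K ⊓ (setup hq hK).S.fix) = (q - 1) * (q ^ 3 - 1) := by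
  have h := (setup hq hK).D.card_map_tauFix
  rw [← diag_fix hq hK] at h
  have htriv : (torusHom Data.D4.tbl K).ker ⊓ (setup hq hK).D.tauFix = ⊥ := by
    rw [eq_bot_iff]
    rintro z ⟨hz, hfix⟩
    have hz2 : z ^ 2 = 1 := pow_eq_one_of_torusHom stOk.valid Data.D4.chkSmith (by decide) hz
    obtain ⟨-, h2', h3'⟩ := (mem_tauFix hq hK).mp hfix
    obtain ⟨g, hg⟩ : ∃ g : Fin 4 → Kˣ, g = z := ⟨z, rfl⟩
    subst hg
    have h2 : g 2 = g 0 ^ q := h2'
    have h3 : g 3 = (g 0 ^ q) ^ q := h3'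
    have heq := (torusHom_eq_one_iff stOk.valid).mp hz
    have hca : ∀ i j : Fin 4, Data.D4.tbl.ca i.val (Data.D4.tbl.simple j.val) =
        ([[2, -1, 0, 0], [-1, 2, -1, -1], [0, -1, 2, 0], [0, -1, 0, 2]].getD i.val []).getD j.val 0 := by
      decide +kernel
    have E : ∀ j : Fin 4, ∏ i : Fin 4, g i ^
        ([[2, -1, 0, 0], [-1, 2, -1, -1], [0, -1, 2, 0], [0, -1, 0, 2]].getD i.val []).getD j.val (0 : ℤ) = 1 := by
      intro j
      refine Eq.trans ?_ (heq j)
      exact Finset.prod_congr rfl fun i _ => congrArg (g i ^ ·) (hca i j).symm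
    have e0 := E 0
    have e1 := E 1
    simp [Fin.prod_univ_four] at e0 e1
    have s : ∀ i : Fin 4, g i ^ 2 = 1 := fun i => congrFun hz2 i
    have z1 : g 1 = 1 := by
      rw [s 0, one_mul, inv_eq_one] at e0
      exact e0
    have z0 : g 0 = 1 := by
      have e1' : (g 0)⁻¹ * (g 2)⁻¹ * (g 3)⁻¹ = 1 := by
        simpa [z1] using e1
      rw [← mul_inv, ← mul_inv, inv_eq_one, h2, h3] at e1'
      obtain ⟨k, hk⟩ : Odd (1 + q + q * q) := by
        rw [add_assoc, show q + q * q = q * (q + 1) by ring]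
        exact (Nat.even_mul_succ_self q).one_add
      rw [← pow_mul, mul_assoc, ← pow_add, ← pow_succ', show q + q * q + 1 = 2 * k + 1 by omega, pow_succ,
        pow_mul, s 0, one_pow, one_mul] at e1'
      exact e1'
    show (g : Fin 4 → Kˣ) = 1
    exact funext fun i => match i with
      | 0 => z0
      | 1 => z1
      | 2 => h2.trans (by rw [z0, one_pow]; rfl)
      | 3 => h3.trans (by rw [z0, one_pow, one_pow]; rfl)
  rw [htriv, Subgroup.card_bot, one_mul] at h
  rw [h]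
  let e : ↥(setup hq hK).D.tauFix ≃ {c : Kˣ // c ^ (q - 1) = 1} × Kˣ :=
    { toFun := fun f => ⟨⟨f.1 (1 : Fin 4), (units_pow_eq_self (one_le hq)).mp ((mem_tauFix hq hK).mp f.2).1⟩,
        f.1 (0 : Fin 4)⟩
      invFun := fun p => ⟨![p.2, p.1.1, p.2 ^ q, (p.2 ^ q) ^ q],
        (mem_tauFix hq hK).mpr ⟨(units_pow_eq_self (one_le hq)).mpr p.1.2, rfl, rfl⟩⟩
      left_inv := fun f => by
        obtain ⟨-, h2, h3⟩ := (mem_tauFix hq hK).mp f.2
        refine Subtype.ext ?_
        have key : ∀ i : Fin 4, (![f.1 (0 : Fin 4), f.1 (1 : Fin 4), f.1 (0 : Fin 4) ^ q,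
            (f.1 (0 : Fin 4) ^ q) ^ q] : Fin 4 → Kˣ) i = f.1 i := by
          intro i
          fin_cases i <;> simp [h2, h3]
        exact funext key
      right_inv := fun p => rfl }
  rw [Nat.card_congr e, Nat.card_prod, Nat.card_units, hK,
    card_units_pow_eq_one (by rw [hK]; exact (Nat.sub_dvd_pow_sub_pow q 1 3).trans (by rw [one_pow]))]

theorem hcard (j : ℕ) (hj : j < (setup hq hK).o) :
    Nat.card {t : K // (setup hq hK).Fit j t} = q ^ ((setup hq hK).Ss.getD j []).length := by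
  obtain rfl | rfl : j = 0 ∨ j = 1 := by have : j < 2 := hj; omega
  · rw [Nat.card_congr (Equiv.subtypeEquivRight (fit_iff0 hq hK)),
      card_pow_eq_self (two_le_of_isPrimePow hq) (by rw [hK]; exact (Nat.sub_dvd_pow_sub_pow q 1 3).trans (by rw [one_pow]))]
    exact (pow_one q).symm
  · rw [Nat.card_congr (Equiv.subtypeUnivEquiv (fit1 hq hK)), hK]
    rfl

theorem perfect : commutator ↥(setup hq hK).G = ⊤ := by
  refine (setup hq hK).commutator_eq_top fun j hj t ht => ?_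
  obtain rfl | rfl : j = 0 ∨ j = 1 := by have : j < 2 := hj; omega
  · have hw : cycWord (setup hq hK).D.f ((setup hq hK).L 0) t = [(14, t)] := by
      show cycWord (fq hq hK) _ t = _
      rw [show (setup hq hK).L 0 = [14] from simples0, cyc1]
    rw [hw, show Data.D4.tbl.gprod [((14 : ℕ), t)] = Data.D4.tbl.xU K 14 t from List.prod_singleton]
    exact (setup hq hK).single_mem_commutator (G_eq hq hK) chk_single ((fq_apply hq hK t).trans
      ((fit_iff0 hq hK t).mp ht))
  · refine (setup hq hK).word_mem_commutator hj ?_ ?_ ht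
    · show ∀ e < ([0, 2, 3] : List ℕ).length, ∀ e' < ([0, 2, 3] : List ℕ).length,
        Data.D4.tbl.ca (([0, 2, 3] : List ℕ).getD e 0) (Data.D4.tbl.simple (([0, 2, 3] : List ℕ).getD e' 0)) =
          if e = e' then 2 else 0
      decide +kernel
    · have h2 := two_le_of_isPrimePow hq
      obtain ⟨c, h1, h3⟩ := exists_sq_ne_one (K := K) (by
        rw [hK]; exact le_trans (by norm_num) (Nat.pow_le_pow_left h2 3))
      exact ⟨c, h1, fit1 hq hK c, h3⟩

theorem irreducible (J : Fin 2 → Bool) (ha : ∃ a, J a = true) (hb : ∃ b, J b = false) :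
    ∃ a b, J a = true ∧ J b = false ∧
      ¬ Commute ((setup hq hK).S.wJ (setup hq hK).O a) ((setup hq hK).S.wJ (setup hq hK).O b) := by
  obtain ⟨a, ha⟩ := ha
  obtain ⟨b, hb⟩ := hb
  refine ⟨a, b, ha, hb, (setup hq hK).not_commute ?_⟩
  have hne : a ≠ b := fun e => by rw [e, hb] at ha; exact Bool.false_ne_true ha
  have : ∀ a b : Fin 2, a ≠ b → ∃ r < Data.D4.tbl.n,
      Data.D4.tbl.actWord (Data.D4.orbWords.getD a []) (Data.D4.tbl.actWord (Data.D4.orbWords.getD b []) r) ≠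
        Data.D4.tbl.actWord (Data.D4.orbWords.getD b []) (Data.D4.tbl.actWord (Data.D4.orbWords.getD a []) r) := by
    decide +kernel
  exact this a b hne

theorem simple : IsSimpleGroup ↥(setup hq hK).G ∧ ¬ IsMulCommutative ↥(setup hq hK).G :=
  (setup hq hK).simple (G_eq hq hK) (show 0 < 2 by norm_num) (perfect hq hK) (irreducible hq hK)

theorem weylHom :
    ∃ φ : ↥(Data.D4.tbl.datum.monomialSubgroup K ⊓ (setup hq hK).S.fix) →* CoxeterMatrix.G₂.Group,
      Function.Surjective φ ∧ φ.ker = (Data.D4.tbl.datum.diagonalSubgroup K ⊓ (setup hq hK).S.fix).subgroupOf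
        (Data.D4.tbl.datum.monomialSubgroup K ⊓ (setup hq hK).S.fix) := by
  refine Tbl.Twist.exists_weylHom (setup hq hK).hV (Equiv.refl (Fin 2)) CoxeterMatrix.G₂ fun i j => ?_
  refine (setup hq hK).orderOf_wJ_mul i j ?_
  rw [List.map_append]
  have key : ∀ i j : Fin 2, Data.D4.tbl.chkOrd (Data.D4.orbWords.getD i [] ++ Data.D4.orbWords.getD j [])
      (CoxeterMatrix.G₂ (Equiv.refl (Fin 2) i) (Equiv.refl (Fin 2) j)) = true := by decide +kernel
  have hw : ∀ k : Fin (setup hq hK).O.o,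
      ((setup hq hK).O.word k).map Fin.val = Data.D4.orbWords.getD k.val [] := by
    intro k
    show List.map Fin.val (List.map _ _) = _
    rw [List.map_map]
    simp [Function.comp_def]
    rfl
  exact (congrArg₂ (fun a b => Data.D4.tbl.chkOrd (a ++ b) _) (hw i) (hw j)).trans (key i j)

theorem card_eq : Nat.card ↥(setup hq hK).G =
    q ^ 12 * (q ^ 2 - 1) * (q ^ 6 - 1) * (q ^ 8 + q ^ 4 + 1) := by
  have h := (setup hq hK).card_G (G_eq hq hK) (hcard hq hK) (show _ = 2 from rfl) Data.D4.chk_elts rfl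
  have h1 := one_le hq
  rw [card_diag hq hK, show Data.D4.elts.hist = [1, 1, 0, 1, 2, 1, 0, 1, 2, 1, 0, 1, 1] by decide +kernel,
    show Data.D4.tbl.half = 12 from rfl] at h
  have : (1 : ℕ) ≤ q ^ 3 := Nat.one_le_pow _ _ h1
  have : (1 : ℕ) ≤ q ^ 2 := Nat.one_le_pow _ _ h1
  have : (1 : ℕ) ≤ q ^ 6 := Nat.one_le_pow _ _ h1
  apply Nat.cast_injective (R := ℤ)
  rw [h]
  push_cast [*]
  simp only [pEval]
  ring

/-- Properties of the fixed points are properties of the group of the table. -/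
theorem transfer (P : ∀ D : Cfsg.Lie.ChevalleyDatum, Subgroup (GL D.Idx K) → Prop)
    (h : P Data.D4.tbl.datum (setup hq hK).S.fix) : P Cfsg.Lie.chevD4 (Cfsg.Lie.twistedD4 K q) := by
  rw [← G_eq hq hK, G_def] at h
  show P Cfsg.Lie.chevD4 (Cfsg.Lie.chevD4.genSubgroup K (Cfsg.Lie.d4Words K q))
  rw [← Data.D4.datum_eq]
  exact h

end CfsgLib.Chevalley.Twist.D4
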