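import Cfsg.Agent.Lib.Chevalley.Twist.AbPerfect
import Cfsg.Agent.Lib.Chevalley.Twist.Field
import Cfsg.Agent.Lib.Chevalley.Twist.Torus2
import Cfsg.Agent.Lib.Chevalley.Data.TwistE6
import Cfsg.Agent.Lib.Chevalley.Data.GraphCerts
import Cfsg.Agent.Lib.Chevalley.Data.SmithCerts
import Cfsg.Agent.Lib.Chevalley.Data.StCerts
import Cfsg.Agent.Lib.Chevalley.Data.E6Comm
import Cfsg.Prelude.Def_LieTwisted

/-!
The groups of type ²E₆.
-/

set_option autoImplicit false
set_option maxRecDepth 20000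
set_option Elab.async false

namespace CfsgLib.Chevalley.Twist.E6

open Tbl

theorem stOk : Data.E6.tbl.StOk :=
  ⟨Data.E6.valid, Data.E6.chkComm, Data.E6.chkSorted, Data.E6.chkSplit⟩

theorem chk_twist : Data.E6.tbl.chkTwist Data.E6.graph [5, 1, 4, 3, 2, 0] = true := by decide +kernel

theorem chk_orbits :
    Data.E6.tbl.chkOrbits Data.E6.graph 4 [2, 0, 3, 1, 3, 2] Data.E6.orbWords = true := by decide +kernel

theorem chk_ab :
    Data.E6.tbl.chkAbInst Data.E6.graph 4 Data.E6.orbWords [[1], [3], [0, 5], [2, 4]] = true := by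
  decide +kernel

theorem chk_single0 :
    Data.E6.tbl.chkSingle Data.E6.graph Data.E6.orbWords 4 46 39 47 [1] = true := by decide +kernel

theorem chk_single1 :
    Data.E6.tbl.chkSingle Data.E6.graph Data.E6.orbWords 4 39 46 47 [0] = true := by decide +kernel

variable {K : Type*} [Field K]

/-- The data of the twist. -/
def data (f : K ≃+* K) : TwistData Data.E6.tbl K where
  ok := stOk
  p := 0
  hp := Or.inl rfl
  M := Data.E6.graph
  N := Data.E6.graph
  hM := Data.E6.chk_graph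
  hN := Data.E6.chk_graph
  hinv := Data.E6.chk_graph_inv
  hperf _ := ⟨0, Or.inr rfl⟩
  π := [5, 1, 4, 3, 2, 0]
  hπ := chk_twist
  f := f

/-- The orbits. -/
abbrev orbs : List (List ℕ) := [[1], [3], [0, 5], [2, 4]]

theorem simples0 : Data.E6.tbl.simples (orbs.getD 0 []) = [46] := by decide +kernel
theorem simples1 : Data.E6.tbl.simples (orbs.getD 1 []) = [39] := by decide +kernel
theorem simples2 : Data.E6.tbl.simples (orbs.getD 2 []) = [56, 36] := by decide +kernel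
theorem simples3 : Data.E6.tbl.simples (orbs.getD 3 []) = [42, 37] := by decide +kernel
theorem negs0 : ([46] : List ℕ).map Data.E6.tbl.neg = [25] := by decide +kernel
theorem negs1 : ([39] : List ℕ).map Data.E6.tbl.neg = [32] := by decide +kernel
theorem negs2 : ([56, 36] : List ℕ).map Data.E6.tbl.neg = [15, 35] := by decide +kernel
theorem negs3 : ([42, 37] : List ℕ).map Data.E6.tbl.neg = [29, 34] := by decide +kernel

variable [Finite K] {q : ℕ} (hq : IsPrimePow q) (hK : Nat.card K = q ^ 2)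

/-- The power map. -/
noncomputable def fq : K ≃+* K := (exists_powAut hq (by norm_num : 0 < 2) hK).choose

theorem fq_apply (t : K) : fq hq hK t = t ^ q := (exists_powAut hq (by norm_num : 0 < 2) hK).choose_spec t

include hK in
theorem pow_sq (t : K) : t ^ q ^ 2 = t := pow_card_eq hK t

theorem cyc1 (a : ℕ) (t : K) : cycWord (fq hq hK) [a] t = [(a, t)] := rfl

theorem cyc2 (a b : ℕ) (t : K) : cycWord (fq hq hK) [a, b] t = [(a, t), (b, t ^ q)] := by
  show [(a, t), (b, fq hq hK t)] = _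
  rw [fq_apply]

theorem mem_words (w : List (ℕ × K)) :
    w ∈ Cfsg.Lie.e6Words K q ↔ ∃ j < 4, ∃ t, (⇑(fq hq hK))^[(orbs.getD j []).length] t = t ∧
      (w = cycWord (fq hq hK) (Data.E6.tbl.simples (orbs.getD j [])) t ∨
        w = cycWord (fq hq hK) ((Data.E6.tbl.simples (orbs.getD j [])).map Data.E6.tbl.neg) t) := by
  constructor
  · rintro (⟨t, ht, r, hr, rfl⟩ | ⟨t, rs, hrs, rfl⟩)
    · have ht' : fq hq hK t = t := (fq_apply hq hK t).trans ht
      simp only [List.mem_cons, List.not_mem_nil, or_false] at hr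
      rcases hr with rfl | rfl | rfl | rfl
      · exact ⟨0, by norm_num, t, ht', Or.inl (by rw [simples0, cyc1]; rfl)⟩
      · exact ⟨0, by norm_num, t, ht', Or.inr (by rw [simples0, negs0, cyc1]; rfl)⟩
      · exact ⟨1, by norm_num, t, ht', Or.inl (by rw [simples1, cyc1]; rfl)⟩
      · exact ⟨1, by norm_num, t, ht', Or.inr (by rw [simples1, negs1, cyc1]; rfl)⟩
    · have ht' : (⇑(fq hq hK))^[2] t = t := (iterate_pow (fq_apply hq hK) 2 t).trans (pow_sq hK t)
      simp only [List.mem_cons, List.not_mem_nil, or_false] at hrs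
      rcases hrs with rfl | rfl | rfl | rfl
      · exact ⟨2, by norm_num, t, ht', Or.inl (by rw [simples2, cyc2]; rfl)⟩
      · exact ⟨2, by norm_num, t, ht', Or.inr (by rw [simples2, negs2, cyc2]; rfl)⟩
      · exact ⟨3, by norm_num, t, ht', Or.inl (by rw [simples3, cyc2]; rfl)⟩
      · exact ⟨3, by norm_num, t, ht', Or.inr (by rw [simples3, negs3, cyc2]; rfl)⟩
  · rintro ⟨j, hj, t, ht, hw⟩
    obtain rfl | rfl | rfl | rfl : j = 0 ∨ j = 1 ∨ j = 2 ∨ j = 3 := by omega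
    · rw [simples0, negs0, cyc1, cyc1] at hw
      have ht' : t ^ q = t := (fq_apply hq hK t).symm.trans ht
      rcases hw with rfl | rfl
      · exact Or.inl ⟨t, ht', Cfsg.Lie.e6p2, by simp, rfl⟩
      · exact Or.inl ⟨t, ht', Cfsg.Lie.e6m2, by simp, rfl⟩
    · rw [simples1, negs1, cyc1, cyc1] at hw
      have ht' : t ^ q = t := (fq_apply hq hK t).symm.trans ht
      rcases hw with rfl | rfl
      · exact Or.inl ⟨t, ht', Cfsg.Lie.e6p4, by simp, rfl⟩
      · exact Or.inl ⟨t, ht', Cfsg.Lie.e6m4, by simp, rfl⟩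
    · rw [simples2, negs2, cyc2, cyc2] at hw
      rcases hw with rfl | rfl
      · exact Or.inr ⟨t, (Cfsg.Lie.e6p1, Cfsg.Lie.e6p6), by simp, rfl⟩
      · exact Or.inr ⟨t, (Cfsg.Lie.e6m1, Cfsg.Lie.e6m6), by simp, rfl⟩
    · rw [simples3, negs3, cyc2, cyc2] at hw
      rcases hw with rfl | rfl
      · exact Or.inr ⟨t, (Cfsg.Lie.e6p3, Cfsg.Lie.e6p5), by simp, rfl⟩
      · exact Or.inr ⟨t, (Cfsg.Lie.e6m3, Cfsg.Lie.e6m5), by simp, rfl⟩

/-- The setup. -/
noncomputable def setup : AbSetup Data.E6.tbl K where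
  D := data (fq hq hK)
  o := 4
  orb := [2, 0, 3, 1, 3, 2]
  words := Data.E6.orbWords
  Ss := orbs
  hO := chk_orbits
  hA := chk_ab
  W := Cfsg.Lie.e6Words K q
  hW w hw := (mem_words hq hK w).mp hw
  hpos j hj t ht := (mem_words hq hK _).mpr ⟨j, hj, t, ht, Or.inl rfl⟩
  hneg j hj t ht := (mem_words hq hK _).mpr ⟨j, hj, t, ht, Or.inr rfl⟩

theorem G_def : (setup hq hK).G = Data.E6.tbl.datum.genSubgroup K (Cfsg.Lie.e6Words K q) := rfl

theorem lam_one : ∀ i : Fin 6, Data.E6.graph.lam (Data.E6.tbl.simple i.val) = 1 := by decide +kernel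

theorem tau_val (f : Fin Data.E6.tbl.rank → Kˣ) (i : Fin Data.E6.tbl.rank) :
    (setup hq hK).D.tau f ((setup hq hK).D.permS i) = f i ^ q := by
  apply Units.ext
  rw [TwistData.tau_apply, Units.val_pow_eq_pow_val]
  show fq hq hK _ ^ Data.E6.graph.lam _ = _
  rw [lam_one i, pow_one, fq_apply]

theorem tau_eqs (f : Fin Data.E6.tbl.rank → Kˣ) :
    (setup hq hK).D.tau f (5 : Fin 6) = f (0 : Fin 6) ^ q ∧
    (setup hq hK).D.tau f (1 : Fin 6) = f (1 : Fin 6) ^ q ∧
    (setup hq hK).D.tau f (4 : Fin 6) = f (2 : Fin 6) ^ q ∧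
    (setup hq hK).D.tau f (3 : Fin 6) = f (3 : Fin 6) ^ q ∧
    (setup hq hK).D.tau f (2 : Fin 6) = f (4 : Fin 6) ^ q ∧
    (setup hq hK).D.tau f (0 : Fin 6) = f (5 : Fin 6) ^ q :=
  ⟨tau_val hq hK f (0 : Fin 6), tau_val hq hK f (1 : Fin 6), tau_val hq hK f (2 : Fin 6),
    tau_val hq hK f (3 : Fin 6), tau_val hq hK f (4 : Fin 6), tau_val hq hK f (5 : Fin 6)⟩

include hK in
theorem units_pow_sq (a : Kˣ) : (a ^ q) ^ q = a := by
  refine Units.ext ?_
  simp only [Units.val_pow_eq_pow_val, ← pow_mul]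
  rw [← pow_two]
  exact pow_sq hK _

theorem mem_tauFix {f : Fin Data.E6.tbl.rank → Kˣ} :
    f ∈ (setup hq hK).D.tauFix ↔ f (1 : Fin 6) ^ q = f (1 : Fin 6) ∧ f (3 : Fin 6) ^ q = f (3 : Fin 6) ∧
      f (5 : Fin 6) = f (0 : Fin 6) ^ q ∧ f (4 : Fin 6) = f (2 : Fin 6) ^ q := by
  obtain ⟨e5, e1, e4, e3, e2, e0⟩ := tau_eqs hq hK f
  refine ⟨fun h => ?_, fun ⟨h1, h3, h5, h4⟩ => ?_⟩
  · have h' : (setup hq hK).D.tau f = f := h
    rw [h'] at e1 e3 e4 e5
    exact ⟨e1.symm, e3.symm, e5, e4⟩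
  · show (setup hq hK).D.tau f = f
    exact funext fun (i : Fin 6) => match i with
      | 0 => e0.trans ((congrArg (· ^ q) h5).trans (units_pow_sq hK _))
      | 1 => e1.trans h1
      | 2 => e2.trans ((congrArg (· ^ q) h4).trans (units_pow_sq hK _))
      | 3 => e3.trans h3
      | 4 => e4.trans h4.symm
      | 5 => e5.trans h5.symm

theorem tau_sq (f : Fin Data.E6.tbl.rank → Kˣ) :
    (setup hq hK).D.tau ((setup hq hK).D.tau f) = f := by
  obtain ⟨a5, a1, a4, a3, a2, a0⟩ := tau_eqs hq hK f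
  obtain ⟨b5, b1, b4, b3, b2, b0⟩ := tau_eqs hq hK ((setup hq hK).D.tau f)
  exact funext fun (i : Fin 6) => match i with
    | 0 => b0.trans (by rw [a5, units_pow_sq hK])
    | 1 => b1.trans (by rw [a1, units_pow_sq hK])
    | 2 => b2.trans (by rw [a4, units_pow_sq hK])
    | 3 => b3.trans (by rw [a3, units_pow_sq hK])
    | 4 => b4.trans (by rw [a2, units_pow_sq hK])
    | 5 => b5.trans (by rw [a0, units_pow_sq hK])

theorem diag_fix :
    Data.E6.tbl.datum.diagonalSubgroup K ⊓ (setup hq hK).S.fix =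
      (setup hq hK).D.tauFix.map (torusHom Data.E6.tbl K) := by
  refine (setup hq hK).D.diag_fix_eq_map (m := 3) (k := 2) Data.E6.chkSmith (by decide) (by norm_num) ?_
  intro f hf
  set τ := (setup hq hK).D.tau
  refine ⟨f * τ f, ?_, ?_⟩
  · show τ (f * τ f) = _
    rw [map_mul, tau_sq hq hK, MonoidHom.id_apply, mul_comm]
  · rw [map_mul, hf, pow_two]

theorem fit_single {j : ℕ} (hj : (orbs.getD j []).length = 1) (t : K) :
    (setup hq hK).Fit j t ↔ t ^ q = t := by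
  show (⇑(fq hq hK))^[(orbs.getD j []).length] t = t ↔ _
  rw [hj, Function.iterate_one, fq_apply]

theorem fit_pair {j : ℕ} (hj : (orbs.getD j []).length = 2) (t : K) : (setup hq hK).Fit j t := by
  show (⇑(fq hq hK))^[(orbs.getD j []).length] t = t
  rw [hj]
  exact (iterate_pow (fq_apply hq hK) 2 t).trans (pow_sq hK t)

theorem orbTorus0 (c : Kˣ) : (setup hq hK).orbTorus 0 c = Pi.mulSingle (1 : Fin 6) c := by
  show ([_] : List (Fin Data.E6.tbl.rank → Kˣ)).prod = _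
  exact List.prod_singleton

theorem orbTorus1 (c : Kˣ) : (setup hq hK).orbTorus 1 c = Pi.mulSingle (3 : Fin 6) c := by
  show ([_] : List (Fin Data.E6.tbl.rank → Kˣ)).prod = _
  exact List.prod_singleton

theorem orbTorus2 (c : Kˣ) : (setup hq hK).orbTorus 2 c =
    Pi.mulSingle (0 : Fin 6) c * Pi.mulSingle (5 : Fin 6) (c ^ q) := by
  rw [← unitsMap_pow (fq_apply hq hK) c]
  show ([_, _] : List (Fin Data.E6.tbl.rank → Kˣ)).prod = _
  simp only [List.prod_cons, List.prod_nil, mul_one]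
  rfl

theorem orbTorus3 (c : Kˣ) : (setup hq hK).orbTorus 3 c =
    Pi.mulSingle (2 : Fin 6) c * Pi.mulSingle (4 : Fin 6) (c ^ q) := by
  rw [← unitsMap_pow (fq_apply hq hK) c]
  show ([_, _] : List (Fin Data.E6.tbl.rank → Kˣ)).prod = _
  simp only [List.prod_cons, List.prod_nil, mul_one]
  rfl

theorem G_eq : (setup hq hK).G = (setup hq hK).S.fix := by
  refine (setup hq hK).G_eq_fix (diag_fix hq hK).le fun f hf => ?_
  obtain ⟨h1, h3, h5, h4⟩ := (mem_tauFix hq hK).mp hf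
  have hdec : f = (setup hq hK).orbTorus 0 (f (1 : Fin 6)) * ((setup hq hK).orbTorus 1 (f (3 : Fin 6)) *
      ((setup hq hK).orbTorus 2 (f (0 : Fin 6)) * (setup hq hK).orbTorus 3 (f (2 : Fin 6)))) := by
    rw [orbTorus0, orbTorus1, orbTorus2, orbTorus3]
    have key : ∀ i : Fin 6, f i = (Pi.mulSingle (1 : Fin 6) (f (1 : Fin 6)) *
      (Pi.mulSingle (3 : Fin 6) (f (3 : Fin 6)) *
        (Pi.mulSingle (0 : Fin 6) (f (0 : Fin 6)) * Pi.mulSingle (5 : Fin 6) (f (0 : Fin 6) ^ q) *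
          (Pi.mulSingle (2 : Fin 6) (f (2 : Fin 6)) * Pi.mulSingle (4 : Fin 6) (f (2 : Fin 6) ^ q)))) :
            Fin 6 → Kˣ) i := by
      intro i
      fin_cases i <;> simp [h4, h5]
    exact funext key
  rw [hdec]
  have hmem : ∀ j < 4, ∀ c : Kˣ, (setup hq hK).Fit j (c : K) →
      (setup hq hK).orbTorus j c ∈ Subgroup.closure {g | ∃ j < (setup hq hK).o, ∃ c : Kˣ,
        (setup hq hK).Fit j (c : K) ∧ g = (setup hq hK).orbTorus j c} :=
    fun j hj c hc => Subgroup.subset_closure ⟨j, hj, c, hc, rfl⟩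
  exact mul_mem (hmem 0 (by norm_num) _ ((fit_single hq hK rfl _).mpr (by rw [← Units.val_pow_eq_pow_val, h1])))
    (mul_mem (hmem 1 (by norm_num) _ ((fit_single hq hK rfl _).mpr (by rw [← Units.val_pow_eq_pow_val, h3])))
      (mul_mem (hmem 2 (by norm_num) _ (fit_pair hq hK rfl _)) (hmem 3 (by norm_num) _ (fit_pair hq hK rfl _))))

include hq in
theorem one_le : 1 ≤ q := le_of_lt (two_le_of_isPrimePow hq)

theorem mem_kerFix {g : Fin Data.E6.tbl.rank → Kˣ} :
    g ∈ (torusHom Data.E6.tbl K).ker ⊓ (setup hq hK).D.tauFix ↔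
      ∃ a : Kˣ, a ^ Nat.gcd 3 (q + 1) = 1 ∧ g = (![a, 1, a ^ 2, 1, (a ^ 2) ^ q, a ^ q] : Fin 6 → Kˣ) := by
  have hca : ∀ i j : Fin 6, Data.E6.tbl.ca i.val (Data.E6.tbl.simple j.val) =
      ([[2, 0, -1, 0, 0, 0], [0, 2, 0, -1, 0, 0], [-1, 0, 2, -1, 0, 0], [0, -1, -1, 2, -1, 0],
        [0, 0, 0, -1, 2, -1], [0, 0, 0, 0, -1, 2]].getD i.val []).getD j.val 0 := by
    decide +kernel
  have E : ∀ g : Fin 6 → Kˣ, torusHom Data.E6.tbl K g = 1 ↔ ∀ j : Fin 6, ∏ i : Fin 6, g i ^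
      ([[2, 0, -1, 0, 0, 0], [0, 2, 0, -1, 0, 0], [-1, 0, 2, -1, 0, 0], [0, -1, -1, 2, -1, 0],
        [0, 0, 0, -1, 2, -1], [0, 0, 0, 0, -1, 2]].getD i.val []).getD j.val (0 : ℤ) = 1 := by
    intro g
    refine (torusHom_eq_one_iff stOk.valid).trans ?_
    refine forall_congr' fun (j : Fin 6) => ?_
    refine iff_of_eq (congrArg (· = 1) ?_)
    exact Finset.prod_congr rfl fun i _ => congrArg (g i ^ ·) (hca i j)
  revert g
  show ∀ g : Fin 6 → Kˣ, _
  intro g
  constructor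
  · rintro ⟨hz, hfix⟩
    obtain ⟨h1', h3', h5', h4'⟩ := (mem_tauFix hq hK).mp hfix
    have h5 : g 5 = g 0 ^ q := h5'
    have h4 : g 4 = g 2 ^ q := h4'
    have hz3 : g ^ 3 = 1 := pow_eq_one_of_torusHom stOk.valid Data.E6.chkSmith (by decide) hz
    have s : ∀ i : Fin 6, g i ^ 3 = 1 := fun i => congrFun hz3 i
    have e0 := (E g).mp hz 0
    have e1 := (E g).mp hz 1
    have e2 := (E g).mp hz 2
    have e3 := (E g).mp hz 3
    simp [Fin.prod_univ_six] at e0 e1 e2 e3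
    have f2 : g 2 = g 0 ^ 2 := (mul_inv_eq_one.mp e0).symm
    have f3 : g 3 = 1 := by
      have hh : g 3 = g 0 ^ 3 := by
        have := mul_inv_eq_one.mp e2
        rw [f2] at this
        rw [← this]
        group
      rw [hh, s 0]
    have f1 : g 1 = 1 := by
      rw [f3, inv_one, mul_one] at e1
      have := s 1
      rw [pow_succ, e1, one_mul] at this
      exact this
    refine ⟨g 0, pow_gcd_eq_one.mpr ⟨s 0, ?_⟩, funext fun i => match i with
      | 0 => rfl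
      | 1 => f1
      | 2 => f2
      | 3 => f3
      | 4 => h4.trans (by rw [f2]; rfl)
      | 5 => h5⟩
    rw [f1, f2, f3, h4, f2] at e3
    simp only [one_pow, inv_one, one_mul, mul_one, ← mul_inv, inv_eq_one] at e3
    have h6 : (g 0 ^ (q + 1)) ^ 2 = 1 := by
      rw [← e3, ← pow_mul, ← pow_mul, ← pow_add]
      congr 1
      ring
    have h7 : (g 0 ^ (q + 1)) ^ 3 = 1 := by rw [← pow_mul, mul_comm, pow_mul, s 0, one_pow]
    rwa [pow_succ, h6, one_mul] at h7
  · rintro ⟨a, ha, rfl⟩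
    have a3 : a ^ 3 = 1 := orderOf_dvd_iff_pow_eq_one.mp ((orderOf_dvd_of_pow_eq_one ha).trans (Nat.gcd_dvd_left 3 (q + 1)))
    have aq : a ^ (q + 1) = 1 := orderOf_dvd_iff_pow_eq_one.mp ((orderOf_dvd_of_pow_eq_one ha).trans (Nat.gcd_dvd_right 3 (q + 1)))
    refine ⟨(E _).mpr fun j => ?_, (mem_tauFix hq hK).mpr ⟨one_pow _, one_pow _, rfl, rfl⟩⟩
    fin_cases j <;> simp [Fin.prod_univ_six]
    · rw [← a3]; group
    · rw [← mul_inv, inv_eq_one, ← one_pow 2, ← aq, ← pow_mul, ← pow_mul, ← pow_add]; congr 1; ring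
    · rw [← pow_mul, ← pow_mul, mul_inv_eq_one, show 2 * (q * 2) = 3 * q + q by ring, pow_add,
        pow_mul, a3, one_pow, one_mul]
    · rw [← pow_mul, ← pow_mul, inv_mul_eq_one, mul_comm 2 q]

theorem card_diag :
    Nat.gcd 3 (q + 1) * Nat.card ↥(Data.E6.tbl.datum.diagonalSubgroup K ⊓ (setup hq hK).S.fix) =
      (q - 1) ^ 2 * (q ^ 2 - 1) ^ 2 := by
  have h := (setup hq hK).D.card_map_tauFix
  rw [← diag_fix hq hK] at h
  have h1 := one_le hq
  have hd : Nat.gcd 3 (q + 1) ∣ Nat.card K - 1 := by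
    rw [hK]
    refine (Nat.gcd_dvd_right 3 (q + 1)).trans ?_
    rw [show q ^ 2 - 1 = (q + 1) * (q - 1) by rw [← Nat.sq_sub_sq, one_pow]]
    exact dvd_mul_right _ _
  have hk : Nat.card ↥((torusHom Data.E6.tbl K).ker ⊓ (setup hq hK).D.tauFix) = Nat.gcd 3 (q + 1) := by
    refine (Nat.card_congr ?_).trans (card_units_pow_eq_one hd)
    exact
      { toFun := fun g => ⟨g.1 (0 : Fin 6), by
          obtain ⟨a, ha, e⟩ := (mem_kerFix hq hK).mp g.2
          rw [e]; exact ha⟩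
        invFun := fun a => ⟨(![a.1, 1, a.1 ^ 2, 1, (a.1 ^ 2) ^ q, a.1 ^ q] : Fin 6 → Kˣ),
          (mem_kerFix hq hK).mpr ⟨a.1, a.2, rfl⟩⟩
        left_inv := fun g => by
          obtain ⟨a, ha, e⟩ := (mem_kerFix hq hK).mp g.2
          refine Subtype.ext ?_
          show (![g.1 (0 : Fin 6), 1, g.1 (0 : Fin 6) ^ 2, 1, (g.1 (0 : Fin 6) ^ 2) ^ q, g.1 (0 : Fin 6) ^ q] :
            Fin 6 → Kˣ) = g.1
          rw [e]; rfl
        right_inv := fun a => rfl }
  rw [hk] at h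
  rw [h]
  let C := {c : Kˣ // c ^ (q - 1) = 1}
  let e : ↥(setup hq hK).D.tauFix ≃ (C × C) × (Kˣ × Kˣ) :=
    { toFun := fun f => ⟨⟨⟨f.1 (1 : Fin 6), (units_pow_eq_self h1).mp ((mem_tauFix hq hK).mp f.2).1⟩,
        ⟨f.1 (3 : Fin 6), (units_pow_eq_self h1).mp ((mem_tauFix hq hK).mp f.2).2.1⟩⟩,
        f.1 (0 : Fin 6), f.1 (2 : Fin 6)⟩
      invFun := fun p => ⟨(![p.2.1, p.1.1.1, p.2.2, p.1.2.1, p.2.2 ^ q, p.2.1 ^ q] : Fin 6 → Kˣ),
        (mem_tauFix hq hK).mpr ⟨(units_pow_eq_self h1).mpr p.1.1.2, (units_pow_eq_self h1).mpr p.1.2.2,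
          rfl, rfl⟩⟩
      left_inv := fun f => by
        obtain ⟨-, -, h5, h4⟩ := (mem_tauFix hq hK).mp f.2
        refine Subtype.ext ?_
        exact funext fun (i : Fin 6) => match i with
          | 0 => rfl
          | 1 => rfl
          | 2 => rfl
          | 3 => rfl
          | 4 => h4.symm
          | 5 => h5.symm
      right_inv := fun p => rfl }
  rw [Nat.card_congr e, Nat.card_prod, Nat.card_prod, Nat.card_prod, Nat.card_units, hK,
    card_units_pow_eq_one (by rw [hK]; exact (Nat.sub_dvd_pow_sub_pow q 1 2).trans (by rw [one_pow]))]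
  ring

theorem hcard (j : ℕ) (hj : j < (setup hq hK).o) :
    Nat.card {t : K // (setup hq hK).Fit j t} = q ^ ((setup hq hK).Ss.getD j []).length := by
  have h : (orbs.getD j []).length = 1 ∨ (orbs.getD j []).length = 2 := by
    have : ∀ j < 4, (orbs.getD j []).length = 1 ∨ (orbs.getD j []).length = 2 := by decide +kernel
    exact this j hj
  rcases h with h | h
  · rw [Nat.card_congr (Equiv.subtypeEquivRight (fit_single hq hK h)),
      card_pow_eq_self (two_le_of_isPrimePow hq)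
        (by rw [hK]; exact (Nat.sub_dvd_pow_sub_pow q 1 2).trans (by rw [one_pow]))]
    exact (pow_one q).symm.trans (congrArg (q ^ ·) h.symm)
  · rw [Nat.card_congr (Equiv.subtypeUnivEquiv (fit_pair hq hK h)), hK]
    exact congrArg (q ^ ·) h.symm

theorem perfect : commutator ↥(setup hq hK).G = ⊤ := by
  refine (setup hq hK).commutator_eq_top fun j hj t ht => ?_
  obtain rfl | rfl | hj2 : j = 0 ∨ j = 1 ∨ (j = 2 ∨ j = 3) := by have : j < 4 := hj; omega
  · have hw : cycWord (setup hq hK).D.f ((setup hq hK).L 0) t = [(46, t)] := by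
      show cycWord (fq hq hK) _ t = _
      rw [show (setup hq hK).L 0 = [46] from simples0, cyc1]
    rw [hw, show Data.E6.tbl.gprod [((46 : ℕ), t)] = Data.E6.tbl.xU K 46 t from List.prod_singleton]
    exact (setup hq hK).single_mem_commutator (G_eq hq hK) chk_single0 ((fq_apply hq hK t).trans
      ((fit_single hq hK rfl t).mp ht))
  · have hw : cycWord (setup hq hK).D.f ((setup hq hK).L 1) t = [(39, t)] := by
      show cycWord (fq hq hK) _ t = _
      rw [show (setup hq hK).L 1 = [39] from simples1, cyc1]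
    rw [hw, show Data.E6.tbl.gprod [((39 : ℕ), t)] = Data.E6.tbl.xU K 39 t from List.prod_singleton]
    exact (setup hq hK).single_mem_commutator (G_eq hq hK) chk_single1 ((fq_apply hq hK t).trans
      ((fit_single hq hK rfl t).mp ht))
  · refine (setup hq hK).word_mem_commutator hj ?_ ?_ ht
    · have : ∀ j < 4, (j = 2 ∨ j = 3) → ∀ e < (orbs.getD j []).length, ∀ e' < (orbs.getD j []).length,
          Data.E6.tbl.ca ((orbs.getD j []).getD e 0) (Data.E6.tbl.simple ((orbs.getD j []).getD e' 0)) =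
            if e = e' then 2 else 0 := by decide +kernel
      exact this j hj hj2
    · have h2 := two_le_of_isPrimePow hq
      obtain ⟨c, h1, h3⟩ := exists_sq_ne_one (K := K) (by
        rw [hK]; exact le_trans (by norm_num) (Nat.pow_le_pow_left h2 2))
      have hl : (orbs.getD j []).length = 2 := by rcases hj2 with rfl | rfl <;> rfl
      exact ⟨c, h1, fit_pair hq hK hl c, h3⟩

theorem irreducible (J : Fin 4 → Bool) (ha : ∃ a, J a = true) (hb : ∃ b, J b = false) :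
    ∃ a b, J a = true ∧ J b = false ∧
      ¬ Commute ((setup hq hK).S.wJ (setup hq hK).O a) ((setup hq hK).S.wJ (setup hq hK).O b) := by
  have key : ∀ J : Fin 4 → Bool, (∃ a, J a = true) → (∃ b, J b = false) →
      ∃ p ∈ ([(0, 1), (1, 0), (1, 3), (3, 1), (3, 2), (2, 3)] : List (Fin 4 × Fin 4)),
        J p.1 = true ∧ J p.2 = false := by
    decide +kernel
  have nc : ∀ p ∈ ([(0, 1), (1, 0), (1, 3), (3, 1), (3, 2), (2, 3)] : List (Fin 4 × Fin 4)),
      ∃ r < Data.E6.tbl.n,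
      Data.E6.tbl.actWord (Data.E6.orbWords.getD p.1 []) (Data.E6.tbl.actWord (Data.E6.orbWords.getD p.2 []) r) ≠
        Data.E6.tbl.actWord (Data.E6.orbWords.getD p.2 []) (Data.E6.tbl.actWord (Data.E6.orbWords.getD p.1 []) r) := by
    decide +kernel
  obtain ⟨p, hp, h1, h2⟩ := key J ha hb
  exact ⟨p.1, p.2, h1, h2, (setup hq hK).not_commute (nc p hp)⟩

theorem simple : IsSimpleGroup ↥(setup hq hK).G ∧ ¬ IsMulCommutative ↥(setup hq hK).G :=
  (setup hq hK).simple (G_eq hq hK) (show 0 < 4 by norm_num) (perfect hq hK) (irreducible hq hK)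

theorem weylHom :
    ∃ φ : ↥(Data.E6.tbl.datum.monomialSubgroup K ⊓ (setup hq hK).S.fix) →* CoxeterMatrix.F₄.Group,
      Function.Surjective φ ∧ φ.ker = (Data.E6.tbl.datum.diagonalSubgroup K ⊓ (setup hq hK).S.fix).subgroupOf
        (Data.E6.tbl.datum.monomialSubgroup K ⊓ (setup hq hK).S.fix) := by
  refine Tbl.Twist.exists_weylHom (setup hq hK).hV (show Fin 4 ≃ Fin 4 from Equiv.swap 2 3) CoxeterMatrix.F₄ fun i j => ?_
  refine (setup hq hK).orderOf_wJ_mul i j ?_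
  rw [List.map_append]
  have key : ∀ i j : Fin 4, Data.E6.tbl.chkOrd (Data.E6.orbWords.getD i [] ++ Data.E6.orbWords.getD j [])
      (CoxeterMatrix.F₄ (Equiv.swap (2 : Fin 4) 3 i) (Equiv.swap (2 : Fin 4) 3 j)) = true := by decide +kernel
  have hw : ∀ k : Fin (setup hq hK).O.o,
      ((setup hq hK).O.word k).map Fin.val = Data.E6.orbWords.getD k.val [] := by
    intro k
    show List.map Fin.val (List.map _ _) = _
    rw [List.map_map]
    simp [Function.comp_def]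
    rfl
  exact (congrArg₂ (fun a b => Data.E6.tbl.chkOrd (a ++ b) _) (hw i) (hw j)).trans (key i j)

theorem card_eq : Nat.gcd 3 (q + 1) * Nat.card ↥(setup hq hK).G =
    q ^ 36 * (q ^ 2 - 1) * (q ^ 5 + 1) * (q ^ 6 - 1) * (q ^ 8 - 1) * (q ^ 9 + 1) * (q ^ 12 - 1) := by
  have h := (setup hq hK).card_G (G_eq hq hK) (hcard hq hK) (show _ = 4 from rfl) Data.E6.chk_elts rfl
  have h1 := one_le hq
  rw [show Data.E6.elts.hist = [1, 2, 4, 6, 9, 13, 17, 22, 26, 32, 37, 43, 47, 51, 55, 58, 61, 61, 62, 61,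
    61, 58, 55, 51, 47, 43, 37, 32, 26, 22, 17, 13, 9, 6, 4, 2, 1] by decide +kernel,
    show Data.E6.tbl.half = 36 from rfl] at h
  have hd := congrArg (Nat.cast (R := ℤ)) (card_diag hq hK)
  have : (1 : ℕ) ≤ q ^ 2 := Nat.one_le_pow _ _ h1
  have : (1 : ℕ) ≤ q ^ 6 := Nat.one_le_pow _ _ h1
  have : (1 : ℕ) ≤ q ^ 8 := Nat.one_le_pow _ _ h1
  have : (1 : ℕ) ≤ q ^ 12 := Nat.one_le_pow _ _ h1
  push_cast [*] at hd
  apply Nat.cast_injective (R := ℤ)
  push_cast [*]
  have key : ((q : ℤ) - 1) ^ 2 * ((q : ℤ) ^ 2 - 1) ^ 2 * pEval [1, 2, 4, 6, 9, 13, 17, 22, 26, 32, 37, 43,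
      47, 51, 55, 58, 61, 61, 62, 61, 61, 58, 55, 51, 47, 43, 37, 32, 26, 22, 17, 13, 9, 6, 4, 2, 1] (q : ℤ) =
      ((q : ℤ) ^ 2 - 1) * ((q : ℤ) ^ 5 + 1) * ((q : ℤ) ^ 6 - 1) * ((q : ℤ) ^ 8 - 1) * ((q : ℤ) ^ 9 + 1) *
        ((q : ℤ) ^ 12 - 1) := by
    simp only [pEval]
    ring
  linear_combination ((q : ℤ) ^ 36 * pEval [1, 2, 4, 6, 9, 13, 17, 22, 26, 32, 37, 43, 47, 51, 55, 58, 61,
    61, 62, 61, 61, 58, 55, 51, 47, 43, 37, 32, 26, 22, 17, 13, 9, 6, 4, 2, 1] (q : ℤ)) * hd +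
    (q : ℤ) ^ 36 * key

/-- Properties of the fixed points are properties of the group of the table. -/
theorem transfer (P : ∀ D : Cfsg.Lie.ChevalleyDatum, Subgroup (GL D.Idx K) → Prop)
    (h : P Data.E6.tbl.datum (setup hq hK).S.fix) : P Cfsg.Lie.chevE6 (Cfsg.Lie.twistedE6 K q) := by
  rw [← G_eq hq hK, G_def] at h
  show P Cfsg.Lie.chevE6 (Cfsg.Lie.chevE6.genSubgroup K (Cfsg.Lie.e6Words K q))
  rw [← Data.E6.datum_eq]
  exact h

end CfsgLib.Chevalley.Twist.E6
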