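import Cfsg.Agent.Lib.Chevalley.Twist.Make
import Cfsg.Agent.Lib.Chevalley.PosProduct

/-!
Products of root elements over short lists of roots: existence, uniqueness, reordering.
-/

set_option autoImplicit false

namespace CfsgLib.Chevalley.Tbl

variable {T : Tbl} {F : Type*} [Field F]

/-- The product of the root elements of a word. -/
noncomputable def gprod (T : Tbl) (l : List (ℕ × F)) : GL T.I F :=
  (l.map fun p => T.xU F p.1 p.2).prod

theorem gprod_nil : T.gprod ([] : List (ℕ × F)) = 1 := rfl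

theorem gprod_cons (p : ℕ × F) (l : List (ℕ × F)) :
    T.gprod (p :: l) = T.xU F p.1 p.2 * T.gprod l := rfl

theorem gprod_mem {P : ℕ → Prop} {l : List (ℕ × F)} (h : ∀ p ∈ l, p.1 < T.n ∧ P p.1) :
    T.gprod l ∈ T.rootGen F P :=
  list_prod_mem fun x hx => by
    obtain ⟨p, hp, rfl⟩ := List.mem_map.mp hx
    exact xU_mem_rootGen (h p hp).1 (h p hp).2 _

variable (hT : T.Valid)
include hT

theorem gprod_wordMat {l : List (ℕ × F)} (h : ∀ p ∈ l, p.1 < T.n) :
    T.datum.wordMat F l = ((T.gprod l : GL T.I F) : Matrix T.I T.I F) := by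
  rw [wordMat_eq hT _ h]; rfl

theorem gprod_mem_group {l : List (ℕ × F)} (h : ∀ p ∈ l, p.1 < T.n) : T.gprod l ∈ T.datum.group F :=
  list_prod_mem fun x hx => by
    obtain ⟨p, hp, rfl⟩ := List.mem_map.mp hx
    exact xU_mem_group hT (h p hp) _

theorem dU_gprod {χ : ℕ → Fˣ} (hχ : T.IsChar χ) : ∀ {l : List (ℕ × F)}, (∀ p ∈ l, p.1 < T.n) →
    T.dU χ * T.gprod l = T.gprod (l.map fun p => (p.1, (χ p.1 : F) * p.2)) * T.dU χ := by
  intro l
  induction l with
  | nil => intro _; simp [gprod]
  | cons p l ih =>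
    intro h
    rw [List.map_cons, gprod_cons, gprod_cons, ← mul_assoc,
      dU_conj_X hT hχ (h p List.mem_cons_self), mul_assoc, ih fun q hq => h q (List.mem_cons_of_mem _ hq),
      ← mul_assoc]

omit hT in
theorem sg_gprod (S : Twist T F) : ∀ {l : List (ℕ × F)}, (∀ p ∈ l, p.1 < T.n) →
    ∀ g : ℕ × F → ℕ × F, (∀ p ∈ l, S.sg (T.xU F p.1 p.2) = T.xU F (g p).1 (g p).2) →
      S.sg (T.gprod l) = T.gprod (l.map g) := by
  intro l
  induction l with
  | nil => intro _ g _; exact S.sg_one
  | cons p l ih =>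
    intro h g hg
    rw [List.map_cons, gprod_cons, gprod_cons,
      S.sg_mul (xU_mem_group S.valid (h p List.mem_cons_self) _)
        (gprod_mem_group S.valid fun q hq => h q (List.mem_cons_of_mem _ hq)),
      hg p List.mem_cons_self,
      ih (fun q hq => h q (List.mem_cons_of_mem _ hq)) g fun q hq => hg q (List.mem_cons_of_mem _ hq)]

variable (hC : T.chkComm = true)
include hC

/-- A closed set of positive roots gives an ordered product. -/
theorem exists_gprod {P : ℕ → Prop} [DecidablePred P] (hP : T.Closed P) : ∀ m k, k + m = T.n →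
    T.half ≤ k → ∀ g ∈ T.rootGen F (fun r => P r ∧ k ≤ r),
      ∃ f : ℕ → F, g = T.gprod (((List.range' k m).filter fun r => decide (P r)).map fun r => (r, f r)) := by
  intro m
  induction m with
  | zero =>
    intro k hkm _ g hg
    refine ⟨0, ?_⟩
    have : g = 1 := Subgroup.mem_bot.mp ((rootGen_le (K := (⊥ : Subgroup (GL T.I F)))
      fun r hr h => absurd h.2 (by omega)) hg)
    simp [this, gprod]
  | succ m ih =>
    intro k hkm hk g hg
    rw [List.range'_succ]
    by_cases hPk : P k
    · obtain ⟨t, g', hg', rfl⟩ := mem_closed_split hT hC hP hk (by omega) hPk hg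
      obtain ⟨f, rfl⟩ := ih (k + 1) (by omega) (by omega) g' hg'
      refine ⟨Function.update f k t, ?_⟩
      rw [List.filter_cons_of_pos (by simpa using hPk), List.map_cons, gprod_cons]
      congr 1
      · simp
      · congr 1
        refine List.map_congr_left fun r hr => ?_
        have := (List.mem_range'_1.mp (List.mem_of_mem_filter hr)).1
        rw [Function.update_of_ne (by omega)]
    · rw [List.filter_cons_of_neg (by simpa using hPk)]
      exact ih (k + 1) (by omega) (by omega) g (rootGen_mono (fun r _ ⟨h1, h2⟩ =>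
        ⟨h1, lt_of_le_of_ne h2 fun e => hPk (e ▸ h1)⟩) hg)

/-- Ordered products over a list are unique. -/
theorem gprod_inj : ∀ {L : List ℕ}, L.Pairwise (· < ·) → (∀ r ∈ L, T.half ≤ r ∧ r < T.n) →
    ∀ f f' : ℕ → F, T.gprod (L.map fun r => (r, f r)) = T.gprod (L.map fun r => (r, f' r)) →
      ∀ r ∈ L, f r = f' r := by
  intro L
  induction L with
  | nil => intro _ _ f f' _ r hr; exact absurd hr (List.not_mem_nil)
  | cons k L ih =>
    intro hs hb f f' h r hr
    obtain ⟨hk, hs'⟩ := List.pairwise_cons.mp hs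
    have hmem : ∀ g : ℕ → F, T.gprod (L.map fun r => (r, g r)) ∈ T.rootGen F (fun s => k + 1 ≤ s) :=
      fun g => gprod_mem fun p hp => by
        obtain ⟨s, hs, rfl⟩ := List.mem_map.mp hp
        exact ⟨(hb s (List.mem_cons_of_mem _ hs)).2, hk s hs⟩
    rw [List.map_cons, List.map_cons, gprod_cons, gprod_cons] at h
    obtain ⟨h1, h2⟩ := xU_mul_inj hT hC (hb k List.mem_cons_self).1 (hb k List.mem_cons_self).2
      (hmem f) (hmem f') h
    rcases List.mem_cons.mp hr with rfl | hr
    · exact h1
    · exact ih hs' (fun s hs => hb s (List.mem_cons_of_mem _ hs)) f f' h2 r hr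

omit hT hC in
/-- Closed under the twist with the diagonal fixed: trivial on simple roots means trivial. -/
theorem dU_eq_one_of_simple (hT : T.Valid) {χ : ℕ → Fˣ} (hχ : T.IsChar χ)
    (h : ∀ i < T.rank, χ (T.simple i) = 1) : (T.dU χ : GL T.I F) = 1 := by
  have key : ∀ k : ℕ, ∀ r < T.n, T.isPos r = true → (T.ht r).toNat ≤ k → χ r = 1 := by
    intro k
    induction k with
    | zero => intro r hr hp hk; have := ht_pos hT hr hp; omega
    | succ k ih =>
      intro r hr hp hk
      obtain ⟨i, hi, rfl | ⟨r', N, N', hs, hp', hlt, hs'⟩⟩ := exists_gen hT hr hp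
      · exact h i hi
      · have hr' : r' < T.n := sum?_lt hT (neg_lt' (simple_lt hT hi)) hr hs
        have hpr := ht_pos hT hr' hp'
        rw [hχ.add _ (simple_lt hT hi) _ hr' _ _ hs', h i hi, one_mul, ih r' hr' hp' (by omega)]
  rw [← dU_one (T := T) (F := F)]
  refine dU_congr fun s hs => ?_
  by_cases hp : T.isPos s = true
  · exact key _ s hs hp le_rfl
  · have h1 := key _ (T.neg s) (neg_lt' hs) (by rw [isPos_neg hs]; simpa using hp) le_rfl
    have h2 := hχ.neg s hs
    rw [h1] at h2
    show χ s = 1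
    exact inv_eq_one.mp h2.symm

/-- Two root elements commute when every coefficient of their commutator vanishes. -/
theorem commute_xU {a b : ℕ} (ha : a < T.n) (hb : b < T.n) (hne : b ≠ T.neg a)
    (h : ∀ c ∈ T.commT a b, (c.2.1 : F) = 0) (s t : F) :
    Commute (T.xU F a s) (T.xU F b t) := by
  by_cases e : b = a
  · subst e
    show _ * _ = _ * _
    rw [xU_add hT hb, xU_add hT hb, add_comm]
  · have h3 := comm_xU hT hC ha hb e hne s t
    rw [List.prod_eq_one, mul_one] at h3
    · exact h3.symm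
    · intro x hx
      obtain ⟨d, hd, rfl⟩ := List.mem_map.mp hx
      rw [h d hd, zero_mul, zero_mul, xU_zero hT (commT_lt hT ha hb d hd)]

/-- A fundamental negative root element times others of other negative roots is nontrivial. -/
theorem neg_simple_mul_ne_one {i : Fin T.rank} {c : F} (hc : c ≠ 0) {y : GL T.I F}
    (hy : y ∈ T.rootGen F (fun s => s < T.half ∧ s ≠ T.neg (T.simple i))) :
    T.xU F (T.neg (T.simple i)) c * y ≠ 1 := by
  intro h
  set n := T.nU F (T.simple i) 1 with hn
  have hr := simple_lt hT i.2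
  have hy' : n * y * n⁻¹ ∈ T.rootGen F (fun s => s < T.half) := by
    refine conj_mem_rootGen hT (mono_nU_simple hT i) (fun s ⟨h1, h2⟩ => ?_) hy
    by_contra hge
    have h3 := negF_lt (T := T) (s := T.refP hT i s) (not_lt.mp hge)
    rw [← WP_negF hT (Subgroup.subset_closure ⟨i, rfl⟩)] at h3
    exact absurd h3 (not_lt.mpr (refP_pos hT (le_negF h1) (fun e => h2 (by
      rw [show T.neg (T.simple i) = (T.negF (T.negF s)).val from (congrArg (fun z => (T.negF z).val) e).symm,
        negF_negF]))))
  have e1 : n * T.xU F (T.neg (T.simple i)) c * n⁻¹ ∈ T.rootGen F (fun s => T.half ≤ s) := by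
    rw [hn, nU_simple_xU hT i.2 (neg_lt' hr), mul_inv_cancel_right]
    refine xU_mem_rootGen (refl_lt hT i.2 (neg_lt' hr)) ?_ _
    rw [refl_neg hT i.2 hr, refl_simple_self hT, neg_neg' hr]
    exact isPos_iff.mp (simple_pos hT i.2)
  have e2 : n * T.xU F (T.neg (T.simple i)) c * n⁻¹ = (n * y * n⁻¹)⁻¹ := by
    refine eq_inv_of_mul_eq_one_left ?_
    calc n * T.xU F (T.neg (T.simple i)) c * n⁻¹ * (n * y * n⁻¹)
        = n * (T.xU F (T.neg (T.simple i)) c * y) * n⁻¹ := by group
      _ = 1 := by rw [h]; group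
  have h4 := eq_one_of_pos_neg hT e1 (e2 ▸ inv_mem hy')
  rw [conj_eq_one_iff, ← xU_zero hT (neg_lt' hr)] at h4
  exact hc (xU_inj hT (neg_lt' hr) h4)

end CfsgLib.Chevalley.Tbl
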