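import Cfsg.Agent.Lib.Chevalley.Twist.Cells
import Cfsg.Agent.Lib.Chevalley.Twist.OrbitProd

/-!
Fixed diagonal elements normalise the groups generated by fixed unipotent elements; their squares.
-/

set_option autoImplicit false

namespace CfsgLib.Chevalley.Tbl

variable {T : Tbl} {F : Type*} [Field F]

/-- A monomial element inverting the values of a character inverts its diagonal element. -/
theorem conj_dU_eq_inv (hT : T.Valid) {n : GL T.I F} (hn : n ∈ T.datum.monomialSubgroup F)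
    {π : Equiv.Perm (Fin T.n)} (hm : T.Mono n π) {χ : ℕ → Fˣ} (hχ : T.IsChar χ)
    (hd : (T.dU χ : GL T.I F) ∈ T.datum.diagonalSubgroup F)
    (h : ∀ r : Fin T.n, χ (π r).val = (χ r.val)⁻¹) : n * T.dU χ * n⁻¹ = (T.dU χ)⁻¹ := by
  have hd' : n * T.dU χ * n⁻¹ ∈ T.datum.diagonalSubgroup F := by
    refine mem_diag_of_mono_one hT (mul_mem (mul_mem hn (diag_le_N hT hd)) (inv_mem hn)) ?_
    have := (hm.mul (mono_diag hT hd)).mul hm.inv
    rwa [mul_one, mul_inv_cancel] at this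
  obtain ⟨ψ, hψ, e⟩ := diag_exists_char hT hd'
  have key : ∀ r : Fin T.n, ψ (π r).val = χ r.val := by
    intro r
    obtain ⟨c, hc⟩ := hm.conj r
    have h2 : (n * T.dU χ * n⁻¹) * T.xU F (π r).val (c : F) =
        T.xU F (π r).val ((χ r.val : F) * c) * (n * T.dU χ * n⁻¹) := by
      have e2 : T.xU F (π r).val (c : F) = n * T.xU F r.val 1 * n⁻¹ := by
        rw [(hc 1).1, mul_one, mul_inv_cancel_right]
      rw [show T.xU F (π r).val ((χ r.val : F) * c) = n * T.xU F r.val (χ r.val : F) * n⁻¹ by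
          rw [(hc _).1, mul_inv_cancel_right, mul_comm],
        e2]
      calc n * T.dU χ * n⁻¹ * (n * T.xU F r.val 1 * n⁻¹)
          = n * (T.dU χ * T.xU F r.val 1) * n⁻¹ := by group
        _ = n * (T.xU F r.val (χ r.val : F) * T.dU χ) * n⁻¹ := by rw [dU_conj_X hT hχ r.2, mul_one]
        _ = _ := by group
    rw [e, dU_conj_X hT hψ (π r).2] at h2
    have h3 := xU_inj hT (π r).2 (mul_right_cancel h2)
    exact Units.ext (mul_right_cancel₀ c.ne_zero h3)
  rw [eq_inv_iff_mul_eq_one, e, dU_mul]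
  refine dU_eq_one_of_simple hT ⟨fun r hr => ?_, fun r hr s hs u N hu => ?_⟩ fun i hi => ?_
  · simp only [Pi.mul_apply, hψ.neg r hr, hχ.neg r hr, mul_inv]
  · simp only [Pi.mul_apply, hψ.add r hr s hs u N hu, hχ.add r hr s hs u N hu]
    exact mul_mul_mul_comm _ _ _ _
  obtain ⟨r, hr⟩ : ∃ r, π r = T.simpF hT ⟨i, hi⟩ := π.surjective _
  have e1 : (π r).val = T.simple i := congrArg Fin.val hr
  show ψ (T.simple i) * χ (T.simple i) = 1
  rw [← e1, key r, h r, mul_inv_cancel]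

namespace Twist

variable {S : Twist T F} {O : Orbits T S.valid S.ρ} (G : S.Gen O)

/-- A fixed diagonal element normalises a group generated by fixed unipotent elements. -/
theorem Gen.diag_conj_mem {X : Set (GL T.I F)} (hX : G.Γ = Subgroup.closure X)
    (hXU : ∀ x ∈ X, x ∈ T.rootGen F (fun r => T.half ≤ r) ∨ x ∈ T.rootGen F (fun r => r < T.half))
    {h : GL T.I F} (hd : h ∈ T.datum.diagonalSubgroup F) (hf : h ∈ S.fix) {g : GL T.I F}
    (hg : g ∈ G.Γ) : h * g * h⁻¹ ∈ G.Γ := by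
  suffices G.Γ ≤ G.Γ.comap (MulAut.conj h).toMonoidHom from this hg
  conv_lhs => rw [hX]
  rw [Subgroup.closure_le]
  intro x hx
  have hxf : x ∈ S.fix := G.le (hX ▸ Subgroup.subset_closure hx)
  have hc : h * x * h⁻¹ ∈ S.fix := mul_mem (mul_mem hf hxf) (inv_mem hf)
  show h * x * h⁻¹ ∈ G.Γ
  rcases hXU x hx with h1 | h1
  · exact G.pos_fix ⟨hc, conj_mem_rootGen S.valid (mono_diag S.valid hd) (fun s hs => hs) h1⟩
  · exact G.neg_fix ⟨hc, conj_mem_rootGen S.valid (mono_diag S.valid hd) (fun s hs => hs) h1⟩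

/-- The square of a fixed diagonal element inverted by an element of the twisted Weyl group. -/
theorem Gen.sq_mem {X : Set (GL T.I F)} (hX : G.Γ = Subgroup.closure X)
    (hXU : ∀ x ∈ X, x ∈ T.rootGen F (fun r => T.half ≤ r) ∨ x ∈ T.rootGen F (fun r => r < T.half))
    {χ : ℕ → Fˣ} (hχ : T.IsChar χ) (hd : (T.dU χ : GL T.I F) ∈ T.datum.diagonalSubgroup F)
    (hf : T.dU χ ∈ S.fix) {w : Equiv.Perm (Fin T.n)} (hw : w ∈ S.W1)
    (h : ∀ r : Fin T.n, χ (w r).val = (χ r.val)⁻¹) : T.dU χ * T.dU χ ∈ G.Γ := by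
  obtain ⟨n, hnG, hnN, hm⟩ := (G.main w hw).1
  have e := conj_dU_eq_inv S.valid hnN hm hχ hd h
  have h1 := mul_mem (G.diag_conj_mem hX hXU hd hf hnG) (inv_mem hnG)
  have e2 : T.dU χ * n * (T.dU χ)⁻¹ * n⁻¹ = T.dU χ * T.dU χ := by
    calc T.dU χ * n * (T.dU χ)⁻¹ * n⁻¹ = T.dU χ * (n * T.dU χ * n⁻¹)⁻¹ := by group
      _ = _ := by rw [e, inv_inv]
  rwa [e2] at h1

end Twist

end CfsgLib.Chevalley.Tbl
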