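import Cfsg.Agent.Lib.Chevalley.Twist.Pair
import Cfsg.Agent.Lib.Chevalley.Coxeter

/-!
The twisted Weyl group as a Coxeter group, the order formula, simplicity.
-/

set_option autoImplicit false

namespace CfsgLib.Chevalley.Tbl.Twist

open CfsgLib.BNPair

variable {T : Tbl} {F : Type*} [Field F] (S : Twist T F) {O : Orbits T S.valid S.ρ}

/-- The map of the fixed monomial elements onto the twisted Weyl group. -/
noncomputable def wHom1 : ↥(T.datum.monomialSubgroup F ⊓ S.fix) →* ↥S.W1 :=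
  ((T.WP S.valid).subtype.comp ((wHom F S.valid).comp (Subgroup.inclusion inf_le_left))).codRestrict
    S.W1 (fun g => S.perm_mem_W1 g.2.1 g.2.2 (show T.Mono (g : GL T.I F) _ from mono_wHom (F := F) S.valid (Subgroup.inclusion inf_le_left g)))

theorem mono_wHom1 (g : ↥(T.datum.monomialSubgroup F ⊓ S.fix)) :
    T.Mono (g : GL T.I F) (S.wHom1 g : Equiv.Perm (Fin T.n)) :=
  mono_wHom (F := F) S.valid (Subgroup.inclusion inf_le_left g)

theorem wHom1_eq {g : ↥(T.datum.monomialSubgroup F ⊓ S.fix)} {w : Equiv.Perm (Fin T.n)}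
    (h : T.Mono (g : GL T.I F) w) : (S.wHom1 g : Equiv.Perm (Fin T.n)) = w :=
  (S.mono_wHom1 g).unique h

theorem wHom1_ker : S.wHom1.ker =
    (T.datum.diagonalSubgroup F ⊓ S.fix).subgroupOf (T.datum.monomialSubgroup F ⊓ S.fix) := by
  ext g
  rw [MonoidHom.mem_ker, Subgroup.mem_subgroupOf]
  refine ⟨fun h => ⟨?_, g.2.2⟩, fun h => Subtype.ext (S.wHom1_eq (mono_diag S.valid h.1))⟩
  refine mem_diag_of_mono_one S.valid g.2.1 ?_
  have := S.mono_wHom1 g
  rwa [h, Subgroup.coe_one] at this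

variable {S} (hV : S.VHyp O)
include hV

theorem wHom1_surjective : Function.Surjective S.wHom1 := by
  rintro ⟨w, hw⟩
  obtain ⟨n, hn, hm⟩ := exists_rep_W1 hV w hw
  exact ⟨⟨n, closure_rep_le hV hn⟩, Subtype.ext (S.wHom1_eq hm)⟩

omit hV in
/-- The generators of the twisted Weyl group. -/
def genW (j : Fin O.o) : ↥S.W1 := ⟨S.wJ O j, S.wJ_mem O j⟩

/-- The twisted Weyl group as the Coxeter group with the given orders of products. -/
theorem exists_coxeter {ι : Type} (e : Fin O.o ≃ ι) (M : CoxeterMatrix ι)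
    (hM : ∀ i j, orderOf (S.wJ O i * S.wJ O j) = M (e i) (e j)) :
    ∃ f : ↥S.W1 ≃* M.Group, ∀ j, f (genW j) = M.simple (e j) := by
  let P := pair hV
  obtain ⟨M', cs, hcs, hM'⟩ := Exchange.exists_coxeterSystem (Basic.isInvGen P) (Basic.hasExchange P)
    (Basic.σ_inj P)
  -- the Weyl group of the pair is the twisted Weyl group
  let i0 : ↥P.N →* ↥(T.datum.monomialSubgroup F ⊓ S.fix) :=
    (S.fix.subtype.comp P.N.subtype).codRestrict _ (fun x => Subgroup.mem_subgroupOf.mp x.2)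
  let ψ : ↥P.N →* ↥S.W1 := S.wHom1.comp i0
  have hψs : Function.Surjective ψ := fun w => by
    obtain ⟨g, rfl⟩ := wHom1_surjective hV w
    exact ⟨⟨⟨g, g.2.2⟩, Subgroup.mem_subgroupOf.mpr g.2⟩, rfl⟩
  have hψk : ψ.ker = Basic.T P := by
    ext x
    rw [MonoidHom.mem_ker, Basic.mem_T, ← MonoidHom.mem_ker]
    show i0 x ∈ S.wHom1.ker ↔ _
    rw [S.wHom1_ker, Subgroup.mem_subgroupOf, pair_B, Subgroup.mem_subgroupOf]
    refine ⟨fun h => ⟨Subgroup.mem_sup_right h.1, h.2⟩, fun h => ⟨?_, h.2⟩⟩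
    exact borel_inf_monomial (T := T) (F := F) S.valid ▸
      Subgroup.mem_inf.mpr ⟨h.1, (Subgroup.mem_subgroupOf.mp x.2).1⟩
  let g : Basic.W P ≃* ↥S.W1 :=
    (QuotientGroup.quotientMulEquivOfEq hψk.symm).trans
      (QuotientGroup.quotientKerEquivOfSurjective ψ hψs)
  -- relabel the generators
  let r : Fin O.o → P.S := fun j => ⟨⟨rep hV j, rep_fix hV j⟩, ⟨j, rfl⟩⟩
  have hgσ : ∀ j, g (Basic.σ P (r j)) = genW j := fun j =>
    Subtype.ext (S.wHom1_eq (rep_mono hV j))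
  have hr : Function.Bijective r := by
    refine ⟨fun a b h => S.wJ_injective O ?_, fun ⟨x, j, hj⟩ => ⟨j, Subtype.ext hj⟩⟩
    have := hgσ a
    rw [h, hgσ b] at this
    exact (congrArg Subtype.val this).symm
  let e' : P.S ≃ ι := (Equiv.ofBijective r hr).symm.trans e
  have hMM : M'.reindex e' = M := by
    apply CoxeterMatrix.ext
    ext a b
    obtain ⟨x, rfl⟩ := e'.surjective a
    obtain ⟨y, rfl⟩ := e'.surjective b
    obtain ⟨i, rfl⟩ := hr.2 x
    obtain ⟨j, rfl⟩ := hr.2 y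
    have e1 : ∀ k, e' (r k) = e k := fun k => by
      show e ((Equiv.ofBijective r hr).symm (r k)) = e k
      exact congrArg e ((Equiv.ofBijective r hr).symm_apply_apply k)
    show M' (e'.symm (e' (r i))) (e'.symm (e' (r j))) = M (e' (r i)) (e' (r j))
    rw [Equiv.symm_apply_apply, Equiv.symm_apply_apply, hM', e1, e1, ← hM, ← g.orderOf_eq, map_mul,
      hgσ, hgσ, ← Subgroup.orderOf_coe]
    rfl
  subst hMM
  refine ⟨g.symm.trans (cs.reindex e').mulEquiv, fun j => ?_⟩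
  rw [MulEquiv.trans_apply, show g.symm (genW j) = Basic.σ P (r j) from g.symm_apply_eq.mpr (hgσ j).symm,
    ← hcs (r j), show cs.simple (r j) = (cs.reindex e').simple (e' (r j)) by simp,
    show e' (r j) = e j from congrArg e ((Equiv.ofBijective r hr).symm_apply_apply j)]
  exact (cs.reindex e').mulEquiv.apply_symm_apply _

/-- The map of the fixed monomial elements onto a Coxeter group. -/
theorem exists_weylHom {ι : Type} (e : Fin O.o ≃ ι) (M : CoxeterMatrix ι)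
    (hM : ∀ i j, orderOf (S.wJ O i * S.wJ O j) = M (e i) (e j)) :
    ∃ φ : ↥(T.datum.monomialSubgroup F ⊓ S.fix) →* M.Group, Function.Surjective φ ∧
      φ.ker = (T.datum.diagonalSubgroup F ⊓ S.fix).subgroupOf (T.datum.monomialSubgroup F ⊓ S.fix) := by
  obtain ⟨f, -⟩ := exists_coxeter hV e M hM
  refine ⟨f.toMonoidHom.comp S.wHom1, f.surjective.comp (wHom1_surjective hV), ?_⟩
  rw [← S.wHom1_ker]
  ext g
  simp [MonoidHom.mem_ker]

/-- Orders of the fixed parts of the `U_w`. -/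
theorem card_Uw_div {q e : ℕ} (he : 0 < e)
    (hJ : ∀ j, ∃ k, e * k = T.invN (S.wJ O j) ∧ Nat.card (S.Uw (S.wJ O j)) = q ^ k) :
    ∀ w ∈ S.W1, e ∣ T.invN w ∧ Nat.card (S.Uw w) = q ^ (T.invN w / e) := by
  refine S.W1_induction O ?_ ?_
  · rw [Uw_one, invN_one S.valid]; simp
  · rintro w hw j hadd ⟨⟨a, ha⟩, ih⟩
    obtain ⟨k, hk, hk'⟩ := hJ j
    obtain ⟨h1, h2⟩ := (S.fullGen O hV).main w hw
    rw [((S.fullGen O hV).step hw j hadd h1 h2).2.2, ih, hk', hadd, ha, ← hk, ← Nat.mul_add,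
      Nat.mul_div_cancel_left _ he, Nat.mul_div_cancel_left _ he, ← pow_add]
    exact ⟨⟨_, rfl⟩, rfl⟩

/-- The order of the group of fixed points. -/
theorem card_fix [Finite F] [DecidablePred (· ∈ S.W1)] :
    Nat.card ↥S.fix = Nat.card ↥(T.datum.posUnipotent F ⊓ S.fix) *
      Nat.card ↥(T.datum.diagonalSubgroup F ⊓ S.fix) * ∑ w : ↥S.W1, Nat.card (S.Uw w) := by
  classical
  have hT := S.valid
  have hC := S.comm
  let rp : ↥S.W1 → ↥(T.datum.monomialSubgroup F ⊓ S.fix) := fun w => (wHom1_surjective hV w).choose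
  have hrp : ∀ w, T.Mono (rp w : GL T.I F) (w : Equiv.Perm (Fin T.n)) := fun w => by
    have := S.mono_wHom1 (rp w)
    rwa [show S.wHom1 (rp w) = w from (wHom1_surjective hV w).choose_spec] at this
  have hUF : ∀ w : ↥S.W1, S.Uw (w : Equiv.Perm (Fin T.n)) ≤ S.fix := fun _ => inf_le_left
  let f : (Σ w : ↥S.W1, ↥(T.datum.posUnipotent F ⊓ S.fix) × ↥(T.datum.diagonalSubgroup F ⊓ S.fix) ×
      ↥(S.Uw (w : Equiv.Perm (Fin T.n)))) → ↥S.fix := fun x =>
    ⟨(x.2.1 : GL T.I F) * (x.2.2.1 : GL T.I F) * (rp x.1 : GL T.I F) * (x.2.2.2 : GL T.I F),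
      mul_mem (mul_mem (mul_mem x.2.1.2.2 x.2.2.1.2.2) (rp x.1).2.2) (hUF x.1 x.2.2.2.2)⟩
  have hB : ∀ (a : ↥(T.datum.posUnipotent F ⊓ S.fix)) (h : ↥(T.datum.diagonalSubgroup F ⊓ S.fix)),
      (a : GL T.I F) * (h : GL T.I F) ∈ T.datum.borelSubgroup F := fun a h =>
    mul_mem (Subgroup.mem_sup_left a.2.1) (Subgroup.mem_sup_right h.2.1)
  have hf : Function.Bijective f := by
    refine ⟨?_, fun g => ?_⟩
    · rintro ⟨w, a, h, u⟩ ⟨w', a', h', u'⟩ e
      have e' := congrArg Subtype.val e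
      obtain ⟨h1, h2⟩ := canonical_unique hT hC (hB a h) (hB a' h') (rp w).2.1 (rp w').2.1 (hrp w)
        u.2.2 u'.2.2 e'
      have hww : w = w' := by
        have h3 := ((hrp w).inv.mul (hrp w')).unique (mono_diag hT h1)
        rw [inv_mul_eq_one] at h3
        exact Subtype.ext h3
      subst hww
      obtain ⟨hb, hu⟩ := h2 (hrp w) rfl
      obtain ⟨ha, hh⟩ := borel_unique hT hC (posUnipotent_rootGen (F := F) hT ▸ a.2.1)
        (posUnipotent_rootGen (F := F) hT ▸ a'.2.1) h.2.1 h'.2.1 hb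
      obtain rfl := Subtype.ext ha
      obtain rfl := Subtype.ext hh
      obtain rfl := Subtype.ext hu
      rfl
    · obtain ⟨a, ha, haf, n, hn, hnf, w, hw, hm, u, hu, huf, e⟩ := S.fix_canonical g.2
      have hd : n * (rp ⟨w, hw⟩ : GL T.I F)⁻¹ ∈ T.datum.diagonalSubgroup F := by
        refine mem_diag_of_mono_one hT (mul_mem hn (inv_mem (rp _).2.1)) ?_
        have := hm.mul (hrp ⟨w, hw⟩).inv
        rwa [mul_inv_cancel] at this
      refine ⟨⟨⟨w, hw⟩, ⟨a, (posUnipotent_rootGen (F := F) hT).symm ▸ ha, haf⟩,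
        ⟨_, Subgroup.mem_inf.mpr ⟨hd, mul_mem hnf (inv_mem (Subgroup.mem_inf.mp (rp _).2).2)⟩⟩,
        ⟨u, Subgroup.mem_inf.mpr ⟨huf, hu⟩⟩⟩, Subtype.ext ?_⟩
      show a * (n * (rp ⟨w, hw⟩ : GL T.I F)⁻¹) * _ * u = (g : GL T.I F)
      rw [e]
      group
  rw [← Nat.card_eq_of_bijective f hf, Nat.card_sigma, Finset.mul_sum]
  refine Finset.sum_congr rfl fun w _ => ?_
  rw [Nat.card_prod, Nat.card_prod, mul_assoc]

/-- Irreducibility from non-commuting generators. -/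
theorem pair_irreducible
    (hirr : ∀ J : Fin O.o → Bool, (∃ a, J a = true) → (∃ b, J b = false) →
      ∃ a b, J a = true ∧ J b = false ∧ ¬ Commute (S.wJ O a) (S.wJ O b)) :
    (pair hV).Irreducible := by
  classical
  intro J hJ hne hne'
  obtain ⟨a, b, ha, hb, hab⟩ := hirr
    (fun j => decide ((⟨rep hV j, rep_fix hV j⟩ : ↥S.fix) ∈ J))
    (by obtain ⟨x, hx⟩ := hne; obtain ⟨j, rfl⟩ := hJ hx; exact ⟨j, by simpa using hx⟩)
    (by obtain ⟨x, hx, hx'⟩ := hne'; obtain ⟨j, rfl⟩ := hx; exact ⟨j, by simpa using hx'⟩)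
  simp only [decide_eq_true_eq, decide_eq_false_iff_not] at ha hb
  refine ⟨_, ha, _, ⟨⟨b, rfl⟩, hb⟩, fun h => hab ?_⟩
  rw [pair_B, Subgroup.mem_subgroupOf] at h
  simp only [Subgroup.coe_mul, Subgroup.coe_inv] at h
  have hN : rep hV a * rep hV b * (rep hV a)⁻¹ * (rep hV b)⁻¹ ∈ T.datum.monomialSubgroup F :=
    mul_mem (mul_mem (mul_mem (rep_N hV a) (rep_N hV b)) (inv_mem (rep_N hV a))) (inv_mem (rep_N hV b))
  have hd : rep hV a * rep hV b * (rep hV a)⁻¹ * (rep hV b)⁻¹ ∈ T.datum.diagonalSubgroup F :=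
    borel_inf_monomial (T := T) (F := F) S.valid ▸ Subgroup.mem_inf.mpr ⟨h.1, hN⟩
  have e := ((((rep_mono hV a).mul (rep_mono hV b)).mul (rep_mono hV a).inv).mul
    (rep_mono hV b).inv).unique (mono_diag S.valid hd)
  rw [mul_inv_eq_one, mul_inv_eq_iff_eq_mul] at e
  exact e

/-- Simplicity of a perfect group of fixed points. -/
theorem isSimpleGroup_fix
    (hirr : ∀ J : Fin O.o → Bool, (∃ a, J a = true) → (∃ b, J b = false) →
      ∃ a b, J a = true ∧ J b = false ∧ ¬ Commute (S.wJ O a) (S.wJ O b))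
    (hc : ∀ h ∈ T.datum.diagonalSubgroup F, h ∈ S.fix →
      (∀ u ∈ S.fix, u ∈ T.rootGen F (fun r => T.half ≤ r) → h * u = u * h) → h = 1)
    (hne : Nontrivial ↥S.fix) (hperf : commutator ↥S.fix = ⊤) : IsSimpleGroup ↥S.fix := by
  have := hne
  refine Simple.isSimpleGroup_of_BN (pair hV) (pair_irreducible hV hirr) ?_ hperf (core_eq_bot hV hc)
  have := isSolvable_borel (F := F) S.valid S.comm
  let f : ↥(pair hV).B →* ↥(T.datum.borelSubgroup F) :=
    (S.fix.subtype.comp (pair hV).B.subtype).codRestrict _ (fun x => (Subgroup.mem_subgroupOf.mp x.2).1)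
  exact Group.isSolvable_of_isSolvable_injective (f := f) fun x y h =>
    Subtype.ext (Subtype.ext (congrArg Subtype.val h :))

end CfsgLib.Chevalley.Tbl.Twist
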