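import Cfsg.Agent.Lib.Chevalley.Twist.Setup
import Cfsg.Agent.Lib.Chevalley.Length

/-!
The group of elements of `W` commuting with the diagram map, from its orbits on the fundamental roots.
-/

set_option autoImplicit false

namespace CfsgLib.Chevalley.Tbl

/-- The orbits of a diagram map on the fundamental roots, with their longest elements. -/
structure Orbits (T : Tbl) (hT : T.Valid) (ρ : Equiv.Perm (Fin T.n)) where
  o : ℕ
  orb : Fin T.rank → Fin o
  word : Fin o → List (Fin T.rank)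
  word_mem : ∀ j, ∀ i ∈ word j, orb i = j
  neg : ∀ j i, orb i = j → (T.pw hT (word j) (T.simpF hT i)).val < T.half
  supp : ∀ j (r : Fin T.n), T.half ≤ r.val → (T.pw hT (word j) r).val < T.half →
    ∀ i : Fin T.rank, orb i ≠ j → T.co r.val i.val = 0
  comm : ∀ j, ρ * T.pw hT (word j) * ρ⁻¹ = T.pw hT (word j)
  inv : ∀ j, T.pw hT (word j) * T.pw hT (word j) = 1
  chain : ∀ i i', orb i = orb i' → ∃ k : ℕ, (ρ ^ k) (T.simpF hT i) = T.simpF hT i'
  onto : ∀ j, ∃ i, orb i = j

variable {T : Tbl} {F : Type*} [Field F] (S : Twist T F) (O : Orbits T S.valid S.ρ)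

namespace Twist

/-- The longest element of an orbit. -/
def wJ (j : Fin O.o) : Equiv.Perm (Fin T.n) := T.pw S.valid (O.word j)

theorem wJ_mem (j : Fin O.o) : S.wJ O j ∈ S.W1 :=
  S.mem_W1_iff.mpr ⟨pw_mem S.valid _, O.comm j⟩

theorem wJ_inv (j : Fin O.o) : (S.wJ O j)⁻¹ = S.wJ O j := inv_eq_of_mul_eq_one_left (O.inv j)

theorem wJ_wJ (j : Fin O.o) (r : Fin T.n) : S.wJ O j (S.wJ O j r) = r := by
  rw [← Equiv.Perm.mul_apply]
  show (T.pw S.valid (O.word j) * T.pw S.valid (O.word j)) r = r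
  rw [O.inv j]
  rfl

theorem W1_comm {w : Equiv.Perm (Fin T.n)} (hw : w ∈ S.W1) (r : Fin T.n) :
    S.ρ (w r) = w (S.ρ r) := by
  have h := (S.mem_W1_iff.mp hw).2
  rw [mul_inv_eq_iff_eq_mul] at h
  exact congrArg (fun x : Equiv.Perm (Fin T.n) => x r) h

theorem neg_orbit {w : Equiv.Perm (Fin T.n)} (hw : w ∈ S.W1) {i i' : Fin T.rank}
    (h : O.orb i = O.orb i') (hn : (w (T.simpF S.valid i)).val < T.half) :
    (w (T.simpF S.valid i')).val < T.half := by
  obtain ⟨k, hk⟩ := O.chain i i' h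
  rw [← hk]
  clear hk
  induction k with
  | zero => simpa using hn
  | succ k ih =>
    rw [pow_succ', Equiv.Perm.mul_apply, ← S.W1_comm hw]
    by_contra hge
    exact absurd ((S.pos _).mp (not_lt.mp hge)) (not_le.mpr ih)

theorem negSet_of_neg {w : Equiv.Perm (Fin T.n)} (hw : w ∈ S.W1) {j : Fin O.o} {i : Fin T.rank}
    (hi : O.orb i = j) (hn : (w (T.simpF S.valid i)).val < T.half) {r : Fin T.n}
    (hr : T.half ≤ r.val) (hrJ : (S.wJ O j r).val < T.half) : (w r).val < T.half := by
  refine lt_half_of_co_nonpos S.valid (w r).2 fun c hc => ?_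
  rw [WP_linear S.valid hw.1 r hc]
  refine Finset.sum_nonpos fun k _ => ?_
  by_cases hk : O.orb k = j
  · exact mul_nonpos_of_nonneg_of_nonpos (co_nonneg' S.valid hr k.2)
      (co_nonpos' S.valid (S.neg_orbit O hw (hi.trans hk.symm) hn) hc)
  · rw [O.supp j r hr hrJ k hk, zero_mul]

/-- Lengths add along an orbit made negative. -/
theorem invN_split {w : Equiv.Perm (Fin T.n)} (hw : w ∈ S.W1) {j : Fin O.o} {i : Fin T.rank}
    (hi : O.orb i = j) (hn : (w (T.simpF S.valid i)).val < T.half) :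
    T.invN w = T.invN (w * S.wJ O j) + T.invN (S.wJ O j) := by
  classical
  have key : ∀ r : Fin T.n, T.half ≤ r.val → (S.wJ O j r).val < T.half → (w r).val < T.half :=
    fun r h h' => S.negSet_of_neg O hw hi hn h h'
  rw [invN, invN, invN, ← Finset.card_filter_add_card_filter_not (fun r : Fin T.n => T.half ≤ (S.wJ O j r).val)
    (s := Finset.univ.filter fun r : Fin T.n => T.half ≤ r.val ∧ (w r).val < T.half)]
  congr 1
  · refine Finset.card_bij (fun r _ => S.wJ O j r) (fun r hr => ?_) (fun a _ b _ h => (S.wJ O j).injective h)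
      (fun r hr => ?_)
    · simp only [Finset.mem_filter, Finset.mem_univ, true_and] at hr ⊢
      exact ⟨hr.2, by rw [Equiv.Perm.mul_apply, S.wJ_wJ]; exact hr.1.2⟩
    · replace hr : T.half ≤ r.val ∧ (w (S.wJ O j r)).val < T.half := (Finset.mem_filter.mp hr).2
      have hpos : T.half ≤ (S.wJ O j r).val := by
        by_contra hlt
        have h1 : T.half ≤ (T.negF (S.wJ O j r)).val := le_negF (not_le.mp hlt)
        have h2 : (S.wJ O j (T.negF (S.wJ O j r))).val < T.half := by
          rw [WP_negF S.valid (S.wJ_mem O j).1, S.wJ_wJ]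
          exact negF_lt hr.1
        have h3 := key _ h1 h2
        rw [WP_negF S.valid hw.1] at h3
        exact absurd h3 (not_lt.mpr (le_negF hr.2))
      refine ⟨S.wJ O j r, ?_, S.wJ_wJ O j r⟩
      simp only [Finset.mem_filter, Finset.mem_univ, true_and]
      exact ⟨⟨hpos, hr.2⟩, by rw [S.wJ_wJ]; exact hr.1⟩
  · congr 1
    ext r
    simp only [Finset.mem_filter, Finset.mem_univ, true_and, not_le]
    exact ⟨fun ⟨⟨h1, _⟩, h3⟩ => ⟨h1, h3⟩, fun ⟨h1, h3⟩ => ⟨⟨h1, key r h1 h3⟩, h3⟩⟩

theorem invN_wJ_pos (j : Fin O.o) : 0 < T.invN (S.wJ O j) := by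
  obtain ⟨i, hi⟩ := O.onto j
  exact Finset.card_pos.mpr ⟨T.simpF S.valid i, Finset.mem_filter.mpr
    ⟨Finset.mem_univ _, half_le_simpF S.valid i, O.neg j i hi⟩⟩

/-- Induction along reduced expressions in the longest elements of the orbits. -/
theorem W1_induction {P : Equiv.Perm (Fin T.n) → Prop} (h1 : P 1)
    (hstep : ∀ w ∈ S.W1, ∀ j, T.invN (w * S.wJ O j) = T.invN w + T.invN (S.wJ O j) →
      P w → P (w * S.wJ O j)) : ∀ w ∈ S.W1, P w := by
  suffices ∀ m, ∀ w ∈ S.W1, T.invN w = m → P w from fun w hw => this _ w hw rfl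
  intro m
  induction m using Nat.strong_induction_on with
  | _ m IH =>
  intro w hw hm
  by_cases hall : ∀ i, T.half ≤ (w (T.simpF S.valid i)).val
  · rw [eq_one_of_pos S.valid hw.1 hall]; exact h1
  push Not at hall
  obtain ⟨i, hi⟩ := hall
  set j := O.orb i
  have hs := S.invN_split O hw (j := j) rfl hi
  have hw' : w * S.wJ O j ∈ S.W1 := mul_mem hw (S.wJ_mem O j)
  have hpos := S.invN_wJ_pos O j
  have hback : w * S.wJ O j * S.wJ O j = w := by rw [mul_assoc]; show w * (T.pw S.valid _ * T.pw S.valid _) = w; rw [O.inv j, mul_one]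
  have := hstep _ hw' j (by rw [hback]; exact hs) (IH _ (by omega) _ hw' rfl)
  rwa [hback] at this

/-- Elements permuting the positive roots outside an orbit. -/
def keepSet (j : Fin O.o) : Set (Equiv.Perm (Fin T.n)) :=
  {x | ∀ r : Fin T.n, T.half ≤ r.val → T.half ≤ (S.wJ O j r).val →
    T.half ≤ (x r).val ∧ T.half ≤ (S.wJ O j (x r)).val}

theorem keepSet_W1 {j : Fin O.o} {x : Equiv.Perm (Fin T.n)} (hx : x ∈ S.W1)
    (hk : x ∈ S.keepSet O j) : x = 1 ∨ x = S.wJ O j := by
  by_cases hall : ∀ i, T.half ≤ (x (T.simpF S.valid i)).val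
  · exact Or.inl (eq_one_of_pos S.valid hx.1 hall)
  push Not at hall
  obtain ⟨i, hi⟩ := hall
  have hij : O.orb i = j := by
    by_contra hne
    have h2 : T.half ≤ (S.wJ O j (T.simpF S.valid i)).val := by
      by_contra hlt
      have := O.supp j _ (half_le_simpF S.valid i) (not_le.mp hlt) i hne
      rw [co_simpF S.valid i i.2, if_pos rfl] at this
      exact one_ne_zero this
    exact absurd (hk _ (half_le_simpF S.valid i) h2).1 (not_le.mpr hi)
  refine Or.inr ?_
  have h1 : x * S.wJ O j = 1 := by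
    refine eq_one_of_pos S.valid (mul_mem hx.1 (S.wJ_mem O j).1) fun k => ?_
    rw [Equiv.Perm.mul_apply]
    set t := S.wJ O j (T.simpF S.valid k) with ht
    by_cases hk' : T.half ≤ t.val
    · refine (hk t hk' ?_).1
      rw [ht, S.wJ_wJ]
      exact half_le_simpF S.valid k
    · have := S.negSet_of_neg O hx hij hi (r := T.negF t) (le_negF (not_le.mp hk')) (by
        rw [WP_negF S.valid (S.wJ_mem O j).1, ht, S.wJ_wJ]
        exact negF_lt (half_le_simpF S.valid k))
      rw [WP_negF S.valid hx.1] at this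
      by_contra hlt
      exact absurd this (not_lt.mpr (le_negF (not_le.mp hlt)))
  rw [mul_eq_one_iff_eq_inv.mp h1, S.wJ_inv]

end Twist

end CfsgLib.Chevalley.Tbl
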