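import Cfsg.Agent.Lib.Chevalley.Twist.Check
import Cfsg.Agent.Lib.Chevalley.Twist.Orbits
import Cfsg.Agent.Lib.Chevalley.GraphEnd
import Cfsg.Agent.Lib.Chevalley.Coxeter

/-!
Twists from certificates: a graph map composed with a field automorphism.
-/

set_option autoImplicit false

namespace CfsgLib.Chevalley.Tbl

variable {T : Tbl} {F : Type*} [Field F]

/-- A ring automorphism acting on the group entrywise. -/
theorem exists_field_aut (hT : T.Valid) (f : F ≃+* F) :
    ∃ φ : ↥(T.datum.group F) ≃* ↥(T.datum.group F),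
      ∀ (g : ↥(T.datum.group F)) (r : ℕ) (t : F), r < T.n → (g : GL T.I F) = T.xU F r t →
        (φ g : GL T.I F) = T.xU F r (f t) := by
  have hgen : ∀ f : F ≃+* F, ∀ {r : ℕ}, r < T.n → ∀ t : F,
      Units.map (f.toRingHom.mapMatrix).toMonoidHom (T.xU F r t) = T.xU F r (f t) := by
    intro f r hr t
    apply Units.ext
    show f.toRingHom.mapMatrix _ = _
    rw [xU_val hT hr, xU_val hT hr, map_X]
    rfl
  have hle : ∀ f : F ≃+* F, (T.datum.group F).map
      (Units.map (f.toRingHom.mapMatrix).toMonoidHom : GL T.I F →* GL T.I F) ≤ T.datum.group F := by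
    intro f
    rw [Subgroup.map_le_iff_le_comap, group_eq hT, Subgroup.closure_le]
    rintro _ ⟨r, hr, t, rfl⟩
    rw [SetLike.mem_coe, Subgroup.mem_comap, hgen f hr]
    exact Subgroup.subset_closure ⟨r, hr, _, rfl⟩
  let Φ : (F ≃+* F) → ↥(T.datum.group F) →* ↥(T.datum.group F) := fun f =>
    ((Units.map (f.toRingHom.mapMatrix).toMonoidHom : GL T.I F →* GL T.I F).comp
      (T.datum.group F).subtype).codRestrict _ (fun g => hle f ⟨g, g.2, rfl⟩)
  have hinv : ∀ f : F ≃+* F, ∀ g, Φ f.symm (Φ f g) = g := by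
    intro f g
    apply Subtype.ext
    apply Units.ext
    ext i j
    show f.symm (f ((g : GL T.I F).val i j)) = _
    exact f.symm_apply_apply _
  refine ⟨{ toFun := Φ f, invFun := Φ f.symm, left_inv := hinv f, right_inv := hinv f.symm,
            map_mul' := map_mul (Φ f) }, fun g r t hr hg => ?_⟩
  show Units.map (f.toRingHom.mapMatrix).toMonoidHom (g : GL T.I F) = _
  rw [hg, hgen f hr]

/-- What a twist is built from. -/
structure TwistData (T : Tbl) (F : Type*) [Field F] where
  ok : T.StOk
  p : ℕ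
  hp : CharOk F p
  M : RootMap
  N : RootMap
  hM : T.chkMap p M = true
  hN : T.chkMap p N = true
  hinv : T.chkInvMap p M N = true
  hperf : ∀ x : F, ∃ y : F, y ^ p = x ∨ p = 0
  π : List ℕ
  hπ : T.chkTwist M π = true
  f : F ≃+* F

namespace TwistData

variable (D : TwistData T F)

/-- The permutation of the roots. -/
noncomputable def perm : Equiv.Perm (Fin T.n) :=
  Equiv.ofBijective (fun r => ⟨D.M.ρ r, (chkMap_facts D.hM r.2).1⟩)
    (Finite.injective_iff_bijective.mp fun a b h =>
      Fin.ext ((chkMap_facts D.hM a.2).2.2.2.2.2.2 b.val b.2 (congrArg Fin.val h)))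

theorem perm_apply (r : Fin T.n) : (D.perm r).val = D.M.ρ r := rfl

theorem twist_facts {i : ℕ} (hi : i < T.rank) : D.π.getD i 0 < T.rank ∧
    D.M.ρ (T.simple i) = T.simple (D.π.getD i 0) ∧
    (∀ k < T.rank, D.π.getD i 0 = D.π.getD k 0 → i = k) ∧
    ∀ r < T.n, D.M.ρ (T.refl i r) = T.refl (D.π.getD i 0) (D.M.ρ r) := by
  have h := D.hπ
  simp only [chkTwist, Bool.and_eq_true, allLt_iff] at h
  obtain ⟨⟨⟨a, b⟩, c⟩, d⟩ := h.2 i hi
  refine ⟨Nat.le_of_ble_eq_true a, Nat.eq_of_beq_eq_true b, fun k hk e => ?_,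
    fun r hr => Nat.eq_of_beq_eq_true (d r hr)⟩
  have := c k hk
  simp only [Bool.or_eq_true, Bool.not_eq_true', e, Nat.beq_refl] at this
  exact Nat.eq_of_beq_eq_true (this.resolve_right (by simp))

/-- The permutation of the fundamental roots. -/
noncomputable def permS : Equiv.Perm (Fin T.rank) :=
  Equiv.ofBijective (fun i => ⟨D.π.getD i 0, (D.twist_facts i.2).1⟩)
    (Finite.injective_iff_bijective.mp fun a b h =>
      Fin.ext ((D.twist_facts a.2).2.2.1 b.val b.2 (congrArg Fin.val h)))

/-- The automorphism: the field automorphism, then the graph automorphism. -/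
noncomputable def aut : ↥(T.datum.group F) ≃* ↥(T.datum.group F) :=
  (exists_field_aut D.ok.valid D.f).choose.trans
    (exists_rootMap_aut D.ok D.hp D.hM D.hN D.hinv D.hperf).choose

theorem aut_x (g : ↥(T.datum.group F)) (r : Fin T.n) (t : F) (h : (g : GL T.I F) = T.xU F r t) :
    (D.aut g : GL T.I F) = T.xU F (D.perm r) (D.M.par r (D.f t)) :=
  (exists_rootMap_aut D.ok D.hp D.hM D.hN D.hinv D.hperf).choose_spec _ r.val (D.f t) r.2
    ((exists_field_aut D.ok.valid D.f).choose_spec g r.val t r.2 h)

/-- The twist. -/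
noncomputable def twist : Twist T F where
  valid := D.ok.valid
  comm := D.ok.comm
  ρ := D.perm
  π := D.permS
  par r t := D.M.par r (D.f t)
  σ := D.aut
  pos r := by
    have h := D.hπ
    simp only [chkTwist, Bool.and_eq_true, allLt_iff, beq_iff_eq] at h
    rw [D.perm_apply, ← Nat.ble_eq, ← Nat.ble_eq, h.1 r r.2]
  negEq r := Fin.ext (chkMap_facts D.hM r.2).2.1
  simple i := Fin.ext (D.twist_facts i.2).2.1
  refl i := by
    rw [mul_inv_eq_iff_eq_mul]
    exact Equiv.ext fun r => Fin.ext ((D.twist_facts i.2).2.2.2 r r.2)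
  par_ne r t ht := by
    refine mul_ne_zero (fun h => ?_) (pow_ne_zero _ (by simpa using ht))
    have := eps_sq D.hp D.hM r.2 (F := F)
    simp [h] at this
  par_inv r t := by
    show D.M.par (T.neg r.val) (D.f (-t⁻¹)) = -(D.M.par r.val (D.f t))⁻¹
    rw [map_neg, map_inv₀, map_par_neg_inv D.ok D.hp D.hM r.2]
  σ_x := D.aut_x

theorem twist_ρ (r : Fin T.n) : (D.twist.ρ r).val = D.M.ρ r := rfl

theorem sg_x {r : ℕ} (hr : r < T.n) (t : F) :
    D.twist.sg (T.xU F r t) = T.xU F (D.M.ρ r) (D.M.par r (D.f t)) :=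
  D.twist.sg_xU ⟨r, hr⟩ t

theorem iter_perm (e : ℕ) (r : Fin T.n) : ((D.perm ^ e) r).val = iterMap D.M e r := by
  induction e with
  | zero => rfl
  | succ e ih => rw [pow_succ', Equiv.Perm.mul_apply, D.perm_apply, ih]; rfl

theorem pw_apply (l : List (Fin T.rank)) (r : Fin T.n) :
    (T.pw D.ok.valid l r).val = T.actWord (l.map Fin.val) r := by
  induction l with
  | nil => rfl
  | cons a l ih => rw [pw_cons, Equiv.Perm.mul_apply, refP_apply, ih]; rfl

/-- The orbits from a certificate. -/
noncomputable def orbits {o : ℕ} {orb : List ℕ} {words : List (List ℕ)}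
    (h : T.chkOrbits D.M o orb words = true) : Orbits T D.twist.valid D.twist.ρ :=
  have h1 := (Bool.and_eq_true _ _ ▸ h).1
  have h2 := (Bool.and_eq_true _ _ ▸ h).2
  have hi : ∀ i : Fin T.rank, orb.getD i 0 < o := fun i => by
    have := allLt_iff.mp h1 i i.2
    simp only [Bool.and_eq_true] at this
    exact Nat.le_of_ble_eq_true this.1
  have hw : ∀ j : Fin o, ∀ x ∈ words.getD j [], x < T.rank ∧ orb.getD x 0 = j := fun j x hx => by
    have := allLt_iff.mp h2 j j.2
    simp only [Bool.and_eq_true, List.all_eq_true] at this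
    exact ⟨Nat.le_of_ble_eq_true (this.1.1.1 x hx).1, Nat.eq_of_beq_eq_true (this.1.1.1 x hx).2⟩
  have hval : ∀ j : Fin o, (((words.getD j []).attach.map fun x =>
      (⟨x.1, (hw j x.1 x.2).1⟩ : Fin T.rank)).map Fin.val) = words.getD j [] := fun j => by
    rw [List.map_map]; simp [Function.comp_def]
  { o := o
    orb := fun i => ⟨orb.getD i 0, hi i⟩
    word := fun j => (words.getD j []).attach.map fun x => ⟨x.1, (hw j x.1 x.2).1⟩
    word_mem := fun j i hi => by
      obtain ⟨x, -, rfl⟩ := List.mem_map.mp hi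
      exact Fin.ext (hw j x.1 x.2).2
    neg := fun j i hij => by
      rw [D.pw_apply, hval]
      have := allLt_iff.mp h2 j j.2
      simp only [Bool.and_eq_true, allLt_iff, Bool.or_eq_true] at this
      rcases this.1.2 i i.2 with h | h
      · rw [show orb.getD i 0 = j.val from congrArg Fin.val hij, Nat.beq_refl] at h
        simp at h
      · exact Nat.le_of_ble_eq_true h
    supp := fun j r hr hneg i hij => by
      rw [D.pw_apply, hval] at hneg
      have := allLt_iff.mp h2 j j.2
      simp only [Bool.and_eq_true, allLt_iff, Bool.or_eq_true, decide_eq_true_eq] at this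
      rcases (this.2 r r.2).2 with h | h
      · exfalso
        have e1 : Nat.ble T.half r.val = true := Nat.ble_eq.mpr hr
        have e2 : Nat.blt (T.actWord (words.getD j []) r) T.half = true := Nat.ble_eq.mpr hneg
        rw [e1, e2] at h
        exact Bool.false_ne_true h
      · exact (h i i.2).resolve_left fun e => hij (Fin.ext (Nat.eq_of_beq_eq_true e))
    comm := fun j => by
      rw [mul_inv_eq_iff_eq_mul]
      refine Equiv.ext fun r => Fin.ext ?_
      show D.M.ρ (T.pw D.ok.valid _ r).val = (T.pw D.ok.valid _ (D.perm r)).val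
      rw [D.pw_apply, D.pw_apply, hval, D.perm_apply]
      have := allLt_iff.mp h2 j j.2
      simp only [Bool.and_eq_true, allLt_iff] at this
      exact Nat.eq_of_beq_eq_true (this.2 r r.2).1.1
    inv := fun j => by
      refine Equiv.ext fun r => Fin.ext ?_
      rw [Equiv.Perm.mul_apply, D.pw_apply, D.pw_apply, hval]
      have := allLt_iff.mp h2 j j.2
      simp only [Bool.and_eq_true, allLt_iff] at this
      exact Nat.eq_of_beq_eq_true (this.2 r r.2).1.2
    chain := fun i k hik => by
      have := allLt_iff.mp h1 i i.2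
      simp only [Bool.and_eq_true, allLt_iff, Bool.or_eq_true, List.any_eq_true] at this
      rcases this.2 k k.2 with h | ⟨e, -, he⟩
      · rw [show orb.getD i 0 = orb.getD k 0 from congrArg Fin.val hik, Nat.beq_refl] at h
        simp at h
      · exact ⟨e, Fin.ext ((D.iter_perm e _).trans (Nat.eq_of_beq_eq_true he))⟩
    onto := fun j => by
      have := allLt_iff.mp h2 j j.2
      simp only [Bool.and_eq_true, List.any_eq_true, List.mem_range] at this
      obtain ⟨i, hi', he⟩ := this.1.1.2
      exact ⟨⟨i, hi'⟩, Fin.ext (Nat.eq_of_beq_eq_true he)⟩ }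

theorem orbits_wJ {o : ℕ} {orb : List ℕ} {words : List (List ℕ)}
    (h : T.chkOrbits D.M o orb words = true) (j : Fin o) (r : Fin T.n) :
    (D.twist.wJ (D.orbits h) j r).val = T.actWord (words.getD j []) r := by
  show (T.pw D.ok.valid ((D.orbits h).word j) r).val = _
  refine (D.pw_apply _ r).trans ?_
  congr 1
  show List.map Fin.val (List.map _ _) = _
  rw [List.map_map]
  simp [Function.comp_def]

end TwistData

end CfsgLib.Chevalley.Tbl
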