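import Cfsg.Agent.Lib.Chevalley.Twist.Weyl1Check
import Cfsg.Agent.Lib.Chevalley.Twist.Make
import Cfsg.Agent.Lib.Chevalley.Poincare

/-!
Sums over a twisted Weyl group from a certificate.
-/

set_option autoImplicit false

namespace CfsgLib.Chevalley.Tbl.TwistData

variable {T : Tbl} {F : Type*} [Field F] (D : TwistData T F) {o : ℕ} {orb : List ℕ}
  {words : List (List ℕ)} (h : T.chkOrbits D.M o orb words = true) {E : Elts}

theorem pos_det {v w : Equiv.Perm (Fin T.n)} (hv : v ∈ T.WP D.ok.valid) (hw : w ∈ T.WP D.ok.valid)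
    (he : ∀ r : Fin T.n, T.half ≤ r.val → v r = w r) : v = w := by
  refine Equiv.ext fun r => ?_
  rcases Nat.lt_or_ge r.val T.half with hr | hr
  · have := he (T.negF r) (le_negF hr)
    rw [WP_negF D.ok.valid hv, WP_negF D.ok.valid hw] at this
    have h2 := congrArg T.negF this
    rwa [negF_negF, negF_negF] at h2
  · exact he r hr

theorem cntNeg_eq (key : ℕ) : ∀ k, T.cntNeg key k =
    ((Finset.range k).filter fun i => byteAt key i < T.half).card
  | 0 => rfl
  | k + 1 => by
    have ih := cntNeg_eq key k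
    rw [Finset.range_add_one, Finset.filter_insert]
    show (bif Nat.blt (byteAt key k) T.half then 1 else 0) + T.cntNeg key k = _
    by_cases hlt : byteAt key k < T.half
    · rw [if_pos hlt, Finset.card_insert_of_notMem (by simp), show Nat.blt (byteAt key k) T.half = true from
        Nat.ble_eq.mpr hlt, ih, cond_true, add_comm]
    · rw [if_neg hlt, show Nat.blt (byteAt key k) T.half = false from
        Bool.eq_false_iff.mpr fun hh => hlt (Nat.le_of_ble_eq_true hh), ih, cond_false, zero_add]

theorem byte_ext : ∀ (k a b : ℕ), a < 256 ^ k → b < 256 ^ k →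
    (∀ i < k, byteAt a i = byteAt b i) → a = b := by
  intro k
  induction k with
  | zero => intro a b ha hb _; simp at ha hb; omega
  | succ k ih =>
    intro a b ha hb he
    have key : ∀ x i : ℕ, byteAt (x / 256) i = byteAt x (i + 1) := by
      intro x i
      simp only [byteAt, Nat.shiftRight_eq, Nat.shiftRight_eq_div_pow, show 8 * (i + 1) = 8 + 8 * i by ring,
        pow_add, Nat.div_div_eq_div_mul]
      norm_num
    have h0 := he 0 (by omega)
    have h1 : ∀ x : ℕ, byteAt x 0 = x % 256 := by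
      intro x
      show Nat.land (Nat.shiftRight x (8 * 0)) 255 = _
      exact Nat.and_two_pow_sub_one_eq_mod x 8
    rw [h1, h1] at h0
    have h2 := ih (a / 256) (b / 256) (by rw [pow_succ] at ha; omega) (by rw [pow_succ] at hb; omega)
      fun i hi => by rw [key, key]; exact he (i + 1) (by omega)
    omega

include h in
/-- The twisted Weyl group is the listed set. -/
theorem exists_list (hw : words.length = o) (hE : T.chkElts words E = true) :
    ∃ f : Fin E.len → ↥D.twist.W1, Function.Bijective f ∧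
      ∀ m, T.invN (f m : Equiv.Perm (Fin T.n)) = E.e * (E.ent m).deg := by
  classical
  have hT := D.ok.valid
  simp only [chkElts, chkEltGens, Bool.and_eq_true, allLt_iff, List.any_eq_true, List.mem_range] at hE
  obtain ⟨⟨⟨⟨hgl, hgen⟩, he⟩, ⟨m0, hm0, hdep0⟩⟩, helt⟩ := hE
  have hgl' := Nat.eq_of_beq_eq_true hgl
  have hG : ∀ (j : Fin o) (r : Fin T.n),
      byteAt (E.gens.getD j 0) r.val = (D.twist.wJ (D.orbits h) j r).val := fun j r => by
    rw [D.orbits_wJ h j r]
    exact Nat.eq_of_beq_eq_true (hgen j (by rw [hw]; exact j.2) r r.2)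
  have hfact : ∀ m < E.len,
      (∀ k < T.half, byteAt (E.ent m).key k < T.n) ∧ T.cntNeg (E.ent m).key T.half = E.e * (E.ent m).deg ∧
      (E.ent m).key < 256 ^ T.half ∧ (m + 1 < E.len → (E.ent m).key < (E.ent (m + 1)).key) ∧
      (∀ j < o, (E.ent m).trans.getD j 0 < E.len ∧ ∀ k < T.half,
        byteAt (E.gens.getD j 0) (byteAt (E.ent m).key k) =
          byteAt (E.ent ((E.ent m).trans.getD j 0)).key k) ∧
      (((E.ent m).dep = 0 ∧ ∀ k < T.half, byteAt (E.ent m).key k = T.half + k) ∨
        ((E.ent m).par < E.len ∧ (E.ent m).g < o ∧ (E.ent (E.ent m).par).dep < (E.ent m).dep ∧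
          ∀ k < T.half, byteAt (E.gens.getD (E.ent m).g 0) (byteAt (E.ent (E.ent m).par).key k) =
            byteAt (E.ent m).key k)) := by
    intro m hm
    have h1 := helt m hm
    simp only [chkElt, Bool.and_eq_true, allLt_iff, Bool.or_eq_true, chkMulKey] at h1
    obtain ⟨⟨⟨⟨⟨a, b⟩, c⟩, d⟩, e⟩, f⟩ := h1
    refine ⟨fun k hk => Nat.le_of_ble_eq_true (b k hk), Nat.eq_of_beq_eq_true d,
      Nat.le_of_ble_eq_true e, fun hlt => ?_, fun j hj => ?_, ?_⟩
    · rcases f with f | f
      · have := Nat.eq_of_beq_eq_true f; omega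
      · exact Nat.le_of_ble_eq_true f
    · have := c j (by rw [hgl', hw]; exact hj)
      exact ⟨Nat.le_of_ble_eq_true this.1, fun k hk => Nat.eq_of_beq_eq_true (this.2 k hk)⟩
    · cases hd : Nat.beq (E.ent m).dep 0 with
      | true =>
        rw [hd] at a
        simp only [cond_true, allLt_iff] at a
        exact Or.inl ⟨Nat.eq_of_beq_eq_true hd, fun k hk => Nat.eq_of_beq_eq_true (a k hk)⟩
      | false =>
        rw [hd] at a
        simp only [cond_false, Bool.and_eq_true, allLt_iff] at a
        obtain ⟨⟨⟨a1, a2⟩, a3⟩, a4⟩ := a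
        exact Or.inr ⟨Nat.le_of_ble_eq_true a1, by rw [← hw, ← hgl']; exact Nat.le_of_ble_eq_true a2,
          Nat.le_of_ble_eq_true a3, fun k hk => Nat.eq_of_beq_eq_true (a4 k hk)⟩
  let R : ℕ → Equiv.Perm (Fin T.n) → Prop := fun m w =>
    ∀ r : Fin T.n, T.half ≤ r.val → (w r).val = byteAt (E.ent m).key (r.val - T.half)
  have hn : T.n = 2 * T.half := rfl
  have step : ∀ m < E.len, ∀ w, R m w → ∀ (j : Fin o) (t : ℕ),
      (∀ k < T.half, byteAt (E.gens.getD j 0) (byteAt (E.ent m).key k) = byteAt (E.ent t).key k) →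
      R t (D.twist.wJ (D.orbits h) j * w) := by
    intro m _ w hR j t ht r hr
    rw [Equiv.Perm.mul_apply, ← hG j (w r), hR r hr, ht _ (by have := r.2; omega)]
  have hex : ∀ d m, m < E.len → (E.ent m).dep ≤ d → ∃ w ∈ D.twist.W1, R m w := by
    intro d
    induction d with
    | zero =>
      intro m hm hd
      rcases (hfact m hm).2.2.2.2.2 with ⟨-, h2⟩ | ⟨-, -, h3, -⟩
      · exact ⟨1, one_mem _, fun r hr => by
          rw [h2 _ (by have := r.2; omega)]; show r.val = _; omega⟩
      · omega
    | succ d ih =>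
      intro m hm hd
      rcases (hfact m hm).2.2.2.2.2 with ⟨h1, -⟩ | ⟨hp, hg, h3, h4⟩
      · exact ih m hm (by omega)
      · obtain ⟨w, hw1, hR⟩ := ih _ hp (by omega)
        exact ⟨_, mul_mem (D.twist.wJ_mem (D.orbits h) ⟨_, hg⟩) hw1, step _ hp w hR ⟨_, hg⟩ m h4⟩
  choose f hf hfR using fun m : Fin E.len => hex (E.ent m).dep m m.2 le_rfl
  have hinj : ∀ a b : Fin E.len, f a = f b → a = b := by
    intro a b hab
    have hk : (E.ent a).key = (E.ent b).key := by
      refine byte_ext T.half _ _ (hfact a a.2).2.2.1 (hfact b b.2).2.2.1 fun i hi => ?_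
      have h1 := hfR a ⟨T.half + i, by omega⟩ (Nat.le_add_right _ _)
      have h2 := hfR b ⟨T.half + i, by omega⟩ (Nat.le_add_right _ _)
      rw [hab] at h1
      simpa using h1.symm.trans h2
    have hmono : ∀ d c, c + d + 1 < E.len → (E.ent c).key < (E.ent (c + d + 1)).key := by
      intro d
      induction d with
      | zero => intro c hc; exact (hfact c (by omega)).2.2.2.1 hc
      | succ d ih =>
        intro c hc
        exact (ih c (by omega)).trans ((hfact (c + d + 1) (by omega)).2.2.2.1 (by omega))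
    rcases lt_trichotomy a.val b.val with hlt | heq | hlt
    · have := hmono (b.val - a.val - 1) a.val (by omega)
      rw [show a.val + (b.val - a.val - 1) + 1 = b.val by omega] at this
      omega
    · exact Fin.ext heq
    · have := hmono (a.val - b.val - 1) b.val (by omega)
      rw [show b.val + (a.val - b.val - 1) + 1 = a.val by omega] at this
      omega
  have hRu : ∀ m w, w ∈ D.twist.W1 → R m.val w → w = f m := fun m w hw1 hR =>
    D.pos_det hw1.1 (hf m).1 fun r hr => Fin.ext ((hR r hr).trans (hfR m r hr).symm)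
  -- left closure gives every element
  have hleft : ∀ w ∈ D.twist.W1, ∀ m : Fin E.len, ∃ m', w * f m = f m' := by
    refine D.twist.W1_induction (D.orbits h) (fun m => ⟨m, one_mul _⟩) ?_
    intro w _ j _ ih m
    obtain ⟨h1, h2⟩ := (hfact m m.2).2.2.2.2.1 j j.2
    have e := hRu ⟨_, h1⟩ _ (mul_mem (D.twist.wJ_mem (D.orbits h) j) (hf m))
      (step m m.2 _ (hfR m) j _ h2)
    obtain ⟨m', hm'⟩ := ih ⟨_, h1⟩
    exact ⟨m', by rw [mul_assoc, e, hm']⟩
  have hone : (1 : Equiv.Perm (Fin T.n)) = f ⟨m0, hm0⟩ := by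
    refine hRu ⟨m0, hm0⟩ 1 (one_mem _) fun r hr => ?_
    rcases (hfact m0 hm0).2.2.2.2.2 with ⟨-, h2⟩ | ⟨-, -, h3, -⟩
    · show r.val = _
      rw [h2 _ (by have := r.2; omega)]; omega
    · have := Nat.eq_of_beq_eq_true hdep0; omega
  refine ⟨fun m => ⟨f m, hf m⟩, ⟨fun a b hab => hinj a b (congrArg Subtype.val hab), fun w => ?_⟩,
    fun m => ?_⟩
  · obtain ⟨m', hm'⟩ := hleft w w.2 ⟨m0, hm0⟩
    exact ⟨m', Subtype.ext (by rw [← hone, mul_one] at hm'; exact hm'.symm)⟩
  · rw [← (hfact m m.2).2.1, cntNeg_eq, invN]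
    refine Finset.card_bij (fun r _ => r.val - T.half) (fun r hr => ?_) (fun a ha b hb e => ?_)
      (fun i hi => ?_)
    · simp only [Finset.mem_filter, Finset.mem_univ, true_and] at hr
      rw [Finset.mem_filter, Finset.mem_range, ← hfR m r hr.1]
      exact ⟨by have := r.2; omega, hr.2⟩
    · simp only [Finset.mem_filter, Finset.mem_univ, true_and] at ha hb
      exact Fin.ext (by omega)
    · rw [Finset.mem_filter, Finset.mem_range] at hi
      refine ⟨⟨T.half + i, by omega⟩, ?_, Nat.add_sub_cancel_left _ _⟩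
      simp only [Finset.mem_filter, Finset.mem_univ, true_and]
      exact ⟨Nat.le_add_right _ _, by rw [hfR m _ (Nat.le_add_right _ _)]; simpa using hi.2⟩

include h in
/-- The sum of the powers over the twisted Weyl group. -/
theorem sum_W1 (hw : words.length = o) (hE : T.chkElts words E = true) [Fintype ↥D.twist.W1] (x : ℕ) :
    ((∑ w : ↥D.twist.W1, x ^ (T.invN (w : Equiv.Perm (Fin T.n)) / E.e) : ℕ) : ℤ) =
      pEval E.hist (x : ℤ) := by
  have he : 0 < E.e := by
    simp only [chkElts, Bool.and_eq_true] at hE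
    exact Nat.le_of_ble_eq_true hE.1.1.2
  obtain ⟨f, hf, hd⟩ := D.exists_list h hw hE
  have h1 : ∑ w : ↥D.twist.W1, x ^ (T.invN (w : Equiv.Perm (Fin T.n)) / E.e) =
      ∑ m : Fin E.len, x ^ (E.ent m).deg := by
    rw [← hf.sum_comp fun w : ↥D.twist.W1 => x ^ (T.invN (w : Equiv.Perm (Fin T.n)) / E.e)]
    exact Finset.sum_congr rfl fun m _ => by rw [hd m, Nat.mul_div_cancel_left _ he]
  rw [h1, Fin.sum_univ_eq_sum_range (fun m => x ^ (E.ent m).deg), Elts.hist, pEval_hist, List.map_map,
    ← List.sum_toFinset _ List.nodup_range, List.toFinset_range, Nat.cast_sum]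
  exact Finset.sum_congr rfl fun m _ => by simp

include h in
theorem card_W1 (hw : words.length = o) (hE : T.chkElts words E = true) :
    Nat.card ↥D.twist.W1 = E.len := by
  obtain ⟨f, hf, -⟩ := D.exists_list h hw hE
  rw [← Nat.card_eq_of_bijective f hf, Nat.card_eq_fintype_card, Fintype.card_fin]

end CfsgLib.Chevalley.Tbl.TwistData
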