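import Cfsg.Agent.Lib.Chevalley.Twist.F4Words
import Cfsg.Agent.Lib.Chevalley.Twist.DiagNorm
import Cfsg.Agent.Lib.Chevalley.Twist.PairW
import Cfsg.Agent.Lib.Chevalley.Twist.Weyl1
import Cfsg.Agent.Lib.Chevalley.Twist.Torus2

/-!
The groups of type ²F₄.
-/

set_option autoImplicit false
set_option maxRecDepth 20000
set_option Elab.async false

namespace CfsgLib.Chevalley.Twist.F4

open Tbl
open scoped commutatorElement

local notation "T4" => Data.F4.tbl

variable {K : Type*} [Field K] [Finite K] {m : ℕ} (hK : Nat.card K = 2 ^ (2 * m + 1))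
include hK

omit hK in
/-- The generated group. -/
noncomputable def grp (K : Type*) [Field K] (m : ℕ) : Subgroup (GL (T4).I K) :=
  (T4).datum.genSubgroup K (Cfsg.Lie.f4Words K (2 ^ m))

omit hK in
/-- The generators. -/
noncomputable def gens (K : Type*) [Field K] (m : ℕ) : Set (GL (T4).I K) :=
  {x | (∃ t, x = pair m 33 24 t) ∨ (∃ t, x = pair m 14 23 t) ∨
    (∃ t u, x = quad m 27 25 28 30 t u) ∨ ∃ t u, x = quad m 20 22 19 17 t u}

theorem grp_eq : grp K m = Subgroup.closure (gens K m) := by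
  have hval : ∀ w : List (ℕ × K), (∀ p ∈ w, p.1 < (T4).n) → ∀ g : GL (T4).I K,
      (g : Matrix _ _ K) = (T4).datum.wordMat K w → g = (T4).gprod w :=
    fun w hw g hg => Units.ext (hg.trans (gprod_wordMat Data.F4.valid hw))
  have l2 : ∀ a b, a < (T4).n → b < (T4).n → ∀ t, ∀ p ∈ Cfsg.Lie.f4PairWord (K := K) (2 ^ m) a b t,
      p.1 < (T4).n := by
    intro a b ha hb t p hp
    simp only [Cfsg.Lie.f4PairWord, List.mem_cons, List.not_mem_nil, or_false] at hp
    rcases hp with rfl | rfl <;> assumption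
  have l4 : ∀ a b c d, Quad a b c d → ∀ t u, ∀ p ∈ Cfsg.Lie.b2ClassWord (K := K) (2 ^ m) a b c d t u,
      p.1 < (T4).n := by
    intro a b c d Q t u p hp
    obtain ⟨ha, hb, hc, hd⟩ := Q.lt
    simp only [Cfsg.Lie.b2ClassWord, List.mem_cons, List.not_mem_nil, or_false] at hp
    rcases hp with rfl | rfl | rfl | rfl <;> assumption
  obtain ⟨p1, p2, -, -, -⟩ := pairFacts (33, 24) (by simp)
  obtain ⟨n1, n2, -, -, -⟩ := pairFacts (14, 23) (by simp)
  apply le_antisymm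
  · refine (Subgroup.closure_le _).mpr ?_
    rintro g ⟨w, (⟨t, rfl | rfl⟩ | ⟨t, u, rfl | rfl⟩), hg⟩
    · exact Subgroup.subset_closure (Or.inl ⟨t,
        (hval _ (l2 _ _ p1 p2 t) g hg).trans (pair_word hK (by simp [Cfsg.Lie.f4p1, Cfsg.Lie.f4p4]) t)⟩)
    · exact Subgroup.subset_closure (Or.inr (Or.inl ⟨t,
        (hval _ (l2 _ _ n1 n2 t) g hg).trans (pair_word hK (by simp [Cfsg.Lie.f4m1, Cfsg.Lie.f4m4]) t)⟩))
    · exact Subgroup.subset_closure (Or.inr (Or.inr (Or.inl ⟨t, u,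
        (hval _ (l4 _ _ _ _ quadPos t u) g hg).trans (word_eq hK quadPos t u)⟩)))
    · exact Subgroup.subset_closure (Or.inr (Or.inr (Or.inr ⟨t, u,
        (hval _ (l4 _ _ _ _ quadNeg t u) g hg).trans (word_eq hK quadNeg t u)⟩)))
  · rw [Subgroup.closure_le]
    rintro g (⟨t, rfl⟩ | ⟨t, rfl⟩ | ⟨t, u, rfl⟩ | ⟨t, u, rfl⟩)
    · rw [← pair_word hK (by simp) t]
      exact word_mem_genSubgroup Data.F4.valid (Or.inl ⟨t, Or.inl rfl⟩) (l2 _ _ p1 p2 t)
    · rw [← pair_word hK (by simp) t]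
      exact word_mem_genSubgroup Data.F4.valid (Or.inl ⟨t, Or.inr rfl⟩) (l2 _ _ n1 n2 t)
    · rw [← word_eq hK quadPos]
      exact word_mem_genSubgroup Data.F4.valid (Or.inr ⟨t, u, Or.inl rfl⟩) (l4 _ _ _ _ quadPos t u)
    · rw [← word_eq hK quadNeg]
      exact word_mem_genSubgroup Data.F4.valid (Or.inr ⟨t, u, Or.inr rfl⟩) (l4 _ _ _ _ quadNeg t u)

theorem gens_mem {x : GL (T4).I K} (hx : x ∈ gens K m) : x ∈ grp K m :=
  grp_eq hK ▸ Subgroup.subset_closure hx

theorem gens_fix {x : GL (T4).I K} (hx : x ∈ gens K m) : x ∈ (S hK).fix := by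
  rcases hx with ⟨t, rfl⟩ | ⟨t, rfl⟩ | ⟨t, u, rfl⟩ | ⟨t, u, rfl⟩
  · exact pair_fix hK (by simp) t
  · exact pair_fix hK (by simp) t
  · exact quad_fix hK quadPos t u
  · exact quad_fix hK quadNeg t u

theorem le_fix : grp K m ≤ (S hK).fix := by
  rw [grp_eq hK, Subgroup.closure_le]
  exact fun x hx => gens_fix hK hx

theorem neg_pair_ne_one : pair (K := K) m 14 23 1 ≠ 1 := by
  rw [← pair_word hK (by simp)]
  simp only [Cfsg.Lie.f4PairWord, gprod, List.map_cons, List.map_nil, List.prod_cons, List.prod_nil,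
    mul_one, one_pow]
  rw [show (14 : ℕ) = (T4).neg ((T4).simple (⟨0, by decide⟩ : Fin (T4).rank).val) by decide +kernel]
  exact neg_simple_mul_ne_one Data.F4.valid Data.F4.chkComm one_ne_zero
    (xU_mem_rootGen (by decide +kernel) (by decide +kernel) _)

theorem neg_quad_ne_one : quad (K := K) m 20 22 19 17 1 0 ≠ 1 := by
  rw [← word_eq hK quadNeg]
  simp only [Cfsg.Lie.b2ClassWord, gprod, List.map_cons, List.map_nil, List.prod_cons, List.prod_nil,
    mul_one, one_pow]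
  rw [show (20 : ℕ) = (T4).neg ((T4).simple (⟨1, by decide⟩ : Fin (T4).rank).val) by decide +kernel]
  exact neg_simple_mul_ne_one Data.F4.valid Data.F4.chkComm one_ne_zero
    (mul_mem (xU_mem_rootGen (by decide +kernel) (by decide +kernel) _)
      (mul_mem (xU_mem_rootGen (by decide +kernel) (by decide +kernel) _)
        (xU_mem_rootGen (by decide +kernel) (by decide +kernel) _)))

theorem neg_pair_VJ (t : K) : pair m 14 23 t ∈ (T4).rootGen K (fun r => ∃ h : r < (T4).n, r < (T4).half ∧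
    (T4).half ≤ ((S hK).wJ (O hK) (0 : Fin 2) ⟨r, h⟩).val) := by
  have key : ∀ r ∈ [14, 23], r < (T4).n ∧ (T4).neg r ∈ [24, 33] := by decide +kernel
  refine gprod_mem fun p hp => ?_
  have hp' : p.1 ∈ [14, 23] := by
    simp only [List.mem_cons, List.not_mem_nil, or_false] at hp
    rcases hp with rfl | rfl <;> simp
  exact ⟨(key _ hp').1, (data hK).mem_VJ chk_orbits (0 : Fin 2) negList0 (key _ hp').1 (key _ hp').2⟩

theorem neg_quad_VJ (t u : K) : quad m 20 22 19 17 t u ∈ (T4).rootGen K (fun r => ∃ h : r < (T4).n,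
    r < (T4).half ∧ (T4).half ≤ ((S hK).wJ (O hK) (1 : Fin 2) ⟨r, h⟩).val) := by
  have key : ∀ r ∈ [20, 22, 19, 17], r < (T4).n ∧ (T4).neg r ∈ [25, 27, 28, 30] := by decide +kernel
  refine gprod_mem fun p hp => ?_
  have hp' : p.1 ∈ [20, 22, 19, 17] := by
    simp only [List.mem_cons, List.not_mem_nil, or_false] at hp
    rcases hp with rfl | rfl | rfl | rfl <;> simp
  exact ⟨(key _ hp').1, (data hK).mem_VJ chk_orbits (1 : Fin 2) negList1 (key _ hp').1 (key _ hp').2⟩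

/-- The group as a group of fixed points containing the orbit parts. -/
noncomputable def gen : (S hK).Gen (O hK) where
  Γ := grp K m
  le := le_fix hK
  UJ := fun (j : Fin 2) x hf hU => match j with
    | 0 => by
      obtain ⟨t, rfl⟩ := exists_pair hK (Subgroup.mem_inf.mpr ⟨hf, hU⟩)
      exact gens_mem hK (Or.inl ⟨t, rfl⟩)
    | 1 => by
      obtain ⟨t, u, rfl⟩ := exists_quad hK (Subgroup.mem_inf.mpr ⟨hf, hU⟩)
      exact gens_mem hK (Or.inr (Or.inr (Or.inl ⟨t, u, rfl⟩)))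
  VJ := fun (j : Fin 2) => match j with
    | 0 => ⟨_, gens_mem hK (Or.inr (Or.inl ⟨1, rfl⟩)), neg_pair_ne_one hK, neg_pair_VJ hK 1⟩
    | 1 => ⟨_, gens_mem hK (Or.inr (Or.inr (Or.inr ⟨1, 0, rfl⟩))), neg_quad_ne_one hK, neg_quad_VJ hK 1 0⟩

theorem hV : (S hK).VHyp (O hK) := fun (j : Fin 2) => match j with
  | 0 => ⟨_, pair_fix hK (by simp) 1, neg_pair_ne_one hK, neg_pair_VJ hK 1⟩
  | 1 => ⟨_, quad_fix hK quadNeg 1 0, neg_quad_ne_one hK, neg_quad_VJ hK 1 0⟩

theorem gens_signed {x : GL (T4).I K} (hx : x ∈ gens K m) :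
    x ∈ (T4).rootGen K (fun r => (T4).half ≤ r) ∨ x ∈ (T4).rootGen K (fun r => r < (T4).half) := by
  rcases hx with ⟨t, rfl⟩ | ⟨t, rfl⟩ | ⟨t, u, rfl⟩ | ⟨t, u, rfl⟩
  · refine Or.inl (gprod_mem fun p hp => ?_)
    simp only [List.mem_cons, List.not_mem_nil, or_false] at hp
    rcases hp with rfl | rfl <;> exact ⟨by dsimp only; decide +kernel, by dsimp only; decide +kernel⟩
  · refine Or.inr (gprod_mem fun p hp => ?_)
    simp only [List.mem_cons, List.not_mem_nil, or_false] at hp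
    rcases hp with rfl | rfl <;> exact ⟨by dsimp only; decide +kernel, by dsimp only; decide +kernel⟩
  · refine Or.inl (gprod_mem fun p hp => ?_)
    simp only [List.mem_cons, List.not_mem_nil, or_false] at hp
    rcases hp with rfl | rfl | rfl | rfl <;> exact ⟨by dsimp only; decide +kernel, by dsimp only; decide +kernel⟩
  · refine Or.inr (gprod_mem fun p hp => ?_)
    simp only [List.mem_cons, List.not_mem_nil, or_false] at hp
    rcases hp with rfl | rfl | rfl | rfl <;> exact ⟨by dsimp only; decide +kernel, by dsimp only; decide +kernel⟩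

theorem unitsMap_theta (c : Kˣ) : Units.map (theta hK).toRingHom.toMonoidHom c = c ^ 2 ^ m :=
  unitsMap_pow (theta_apply hK) c

theorem units_theta (c : Kˣ) : (c ^ 2 ^ m) ^ (2 * 2 ^ m) = c :=
  Units.ext (by simp only [Units.val_pow_eq_pow_val]; exact pow_theta hK _)

theorem units_theta' (c : Kˣ) : (c ^ (2 * 2 ^ m)) ^ 2 ^ m = c :=
  Units.ext (by simp only [Units.val_pow_eq_pow_val]; exact pow_theta' hK _)

theorem tau_val (f : Fin (T4).rank → Kˣ) (i : Fin (T4).rank) :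
    (data hK).tau f ((data hK).permS i) = (f i ^ 2 ^ m) ^ Data.F4.graph.lam ((T4).simple i.val) := by
  apply Units.ext
  rw [TwistData.tau_apply, Units.val_pow_eq_pow_val, Units.val_pow_eq_pow_val]
  show theta hK _ ^ _ = _
  rw [theta_apply]
  rfl

theorem mem_tauFix {f : Fin (T4).rank → Kˣ} :
    f ∈ (data hK).tauFix ↔ f (0 : Fin 4) = f (3 : Fin 4) ^ 2 ^ m ∧ f (1 : Fin 4) = f (2 : Fin 4) ^ 2 ^ m := by
  have e3 : (data hK).tau f (3 : Fin 4) = f (0 : Fin 4) ^ (2 * 2 ^ m) :=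
    (tau_val hK f (0 : Fin 4)).trans (by
      rw [show Data.F4.graph.lam ((T4).simple (0 : Fin 4).val) = 2 by decide +kernel, ← pow_mul, mul_comm])
  have e2 : (data hK).tau f (2 : Fin 4) = f (1 : Fin 4) ^ (2 * 2 ^ m) :=
    (tau_val hK f (1 : Fin 4)).trans (by
      rw [show Data.F4.graph.lam ((T4).simple (1 : Fin 4).val) = 2 by decide +kernel, ← pow_mul, mul_comm])
  have e1 : (data hK).tau f (1 : Fin 4) = f (2 : Fin 4) ^ 2 ^ m :=
    (tau_val hK f (2 : Fin 4)).trans (by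
      rw [show Data.F4.graph.lam ((T4).simple (2 : Fin 4).val) = 1 by decide +kernel, pow_one])
  have e0 : (data hK).tau f (0 : Fin 4) = f (3 : Fin 4) ^ 2 ^ m :=
    (tau_val hK f (3 : Fin 4)).trans (by
      rw [show Data.F4.graph.lam ((T4).simple (3 : Fin 4).val) = 1 by decide +kernel, pow_one])
  refine ⟨fun h => ?_, fun ⟨h0, h1⟩ => ?_⟩
  · have h' : (data hK).tau f = f := h
    rw [h'] at e0 e1
    exact ⟨e0, e1⟩
  · show (data hK).tau f = f
    exact funext fun (i : Fin 4) => match i with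
      | 0 => e0.trans h0.symm
      | 1 => e1.trans h1.symm
      | 2 => e2.trans ((congrArg (· ^ (2 * 2 ^ m)) h1).trans (units_theta hK _))
      | 3 => e3.trans ((congrArg (· ^ (2 * 2 ^ m)) h0).trans (units_theta hK _))

theorem diag_fix : (T4).datum.diagonalSubgroup K ⊓ (S hK).fix = (data hK).tauFix.map (torusHom T4 K) :=
  (data hK).map_eq_tauFix fun z hz => (injective_iff_map_eq_one _).mp
    (torusHom_injective_of_smith Data.F4.valid Data.F4.chkSmith (by decide)) z hz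

omit hK [Finite K] in
/-- The parameters supported on the pair, and on the class of type B₂. -/
noncomputable def supp (m : ℕ) (c d : Kˣ) : Fin (T4).rank → Kˣ := (![c ^ 2 ^ m, d ^ 2 ^ m, d, c] : Fin 4 → Kˣ)

theorem supp_mem (c d : Kˣ) : supp m c d ∈ (data hK).tauFix := (mem_tauFix hK).mpr ⟨rfl, rfl⟩

omit hK [Finite K] in
theorem supp_eq_one (i : Fin 4) (c : Kˣ) :
    (i = 1 ∨ i = 2 → supp m c 1 i = 1) ∧ (i = 0 ∨ i = 3 → supp m 1 c i = 1) := by
  constructor <;> rintro (rfl | rfl) <;> simp [supp]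

theorem sq_mem (f : Fin (T4).rank → Kˣ) (hf : f ∈ (data hK).tauFix) (j : Fin 2)
    (hsupp : ∀ i : Fin 4, i.val ∉ Data.F4.orbWords.getD j.val [] → f i = 1) :
    torusHom T4 K (f * f) ∈ grp K m := by
  have hT : (T4).Valid := Data.F4.valid
  have hkey : ∀ j : Fin 2, ∀ i : Fin 4, i.val ∈ Data.F4.orbWords.getD j.val [] → ∀ r < (T4).n,
      (T4).ca i.val ((T4).actWord (Data.F4.orbWords.getD j.val []) r) = -(T4).ca i.val r := by
    decide +kernel
  have hmem : torusHom T4 K f ∈ (T4).datum.diagonalSubgroup K ⊓ (S hK).fix :=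
    diag_fix hK ▸ Subgroup.mem_map_of_mem _ hf
  rw [map_mul]
  refine (gen hK).sq_mem (X := gens K m) (grp_eq hK) (fun x hx => gens_signed hK hx)
    (χ := fun s => ∏ i, f i ^ (T4).ca i s) (isChar_prod hT f) hmem.1 hmem.2
    ((S hK).wJ_mem (O hK) j) fun r => ?_
  rw [← Finset.prod_inv_distrib]
  refine Finset.prod_congr rfl fun i _ => ?_
  by_cases hi : i.val ∈ Data.F4.orbWords.getD j.val []
  · rw [(data hK).orbits_wJ chk_orbits j r, hkey j i hi r.val r.2, _root_.zpow_neg]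
  · rw [hsupp i hi, one_zpow, one_zpow, inv_one]

theorem sqrt_units (c : Kˣ) : c ^ 2 ^ (2 * m) * c ^ 2 ^ (2 * m) = c := by
  rw [← pow_add, ← two_mul, ← pow_succ']
  exact Units.ext (by rw [Units.val_pow_eq_pow_val]; exact pow_card_eq hK _)

theorem grp_eq_fix : grp K m = (S hK).fix := by
  refine (gen hK).eq_fix fun h hh => ?_
  obtain ⟨f, hf, rfl⟩ := (diag_fix hK).le (Subgroup.mem_inf.mpr
    ⟨(Subgroup.mem_inf.mp hh).2, (Subgroup.mem_inf.mp hh).1⟩)
  obtain ⟨h0, h1⟩ := (mem_tauFix hK).mp hf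
  set c := f (3 : Fin 4) ^ 2 ^ (2 * m)
  set d := f (2 : Fin 4) ^ 2 ^ (2 * m)
  have e : f = supp m c 1 * supp m c 1 * (supp m 1 d * supp m 1 d) := by
    have key : ∀ i : Fin 4, f i = ((![c ^ 2 ^ m, 1 ^ 2 ^ m, 1, c] : Fin 4 → Kˣ) * ![c ^ 2 ^ m, 1 ^ 2 ^ m, 1, c] *
        (![1 ^ 2 ^ m, d ^ 2 ^ m, d, 1] * ![1 ^ 2 ^ m, d ^ 2 ^ m, d, 1])) i := by
      intro i
      fin_cases i <;> simp [h0, h1, ← mul_pow, c, d, sqrt_units hK]
    exact funext key
  rw [e, map_mul]
  have k0 : ∀ i : Fin 4, i.val ∉ Data.F4.orbWords.getD (0 : Fin 2).val [] → i = 1 ∨ i = 2 := by decide +kernel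
  have k1 : ∀ i : Fin 4, i.val ∉ Data.F4.orbWords.getD (1 : Fin 2).val [] → i = 0 ∨ i = 3 := by decide +kernel
  exact mul_mem
    (sq_mem hK _ (supp_mem hK c 1) 0 fun i hi => (supp_eq_one i c).1 (k0 i hi))
    (sq_mem hK _ (supp_mem hK 1 d) 1 fun i hi => (supp_eq_one i d).2 (k1 i hi))

theorem card_diag : Nat.card ↥((T4).datum.diagonalSubgroup K ⊓ (S hK).fix) = (2 ^ (2 * m + 1) - 1) ^ 2 := by
  have h := (data hK).card_map_tauFix
  rw [← diag_fix hK] at h
  have htriv : (torusHom T4 K).ker ⊓ (data hK).tauFix = ⊥ := by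
    rw [(MonoidHom.ker_eq_bot_iff _).mpr (torusHom_injective_of_smith Data.F4.valid Data.F4.chkSmith
      (by decide)), bot_inf_eq]
  rw [htriv, Subgroup.card_bot, one_mul] at h
  let e : ↥(data hK).tauFix ≃ Kˣ × Kˣ :=
    { toFun := fun f => (f.1 (3 : Fin 4), f.1 (2 : Fin 4))
      invFun := fun p => ⟨supp m p.1 p.2, supp_mem hK p.1 p.2⟩
      left_inv := fun f => by
        obtain ⟨h0, h1⟩ := (mem_tauFix hK).mp f.2
        refine Subtype.ext ?_
        exact funext fun (i : Fin 4) => match i with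
          | 0 => h0.symm
          | 1 => h1.symm
          | 2 => rfl
          | 3 => rfl
      right_inv := fun p => rfl }
  rw [h, Nat.card_congr e, Nat.card_prod, Nat.card_units, hK, pow_two]

theorem dU_mul_gprod {χ : ℕ → Kˣ} (hχ : (T4).IsChar χ) (l : List (ℕ × K)) (hl : ∀ p ∈ l, p.1 < (T4).n) :
    (T4).dU χ * (T4).gprod l * ((T4).dU χ)⁻¹ = (T4).gprod (l.map fun p => (p.1, (χ p.1 : K) * p.2)) := by
  rw [dU_gprod Data.F4.valid hχ hl, mul_inv_cancel_right]

omit hK [Field K] [Finite K] in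
theorem pos_lt : (24 < (T4).n ∧ 33 < (T4).n) ∧ 25 < (T4).n ∧ 27 < (T4).n ∧ 28 < (T4).n ∧ 30 < (T4).n := by
  decide +kernel

theorem hc (h : GL (T4).I K) (hh : h ∈ (T4).datum.diagonalSubgroup K) (_ : h ∈ (S hK).fix)
    (hcomm : ∀ u ∈ (S hK).fix, u ∈ (T4).rootGen K (fun r => (T4).half ≤ r) → h * u = u * h) : h = 1 := by
  have hT : (T4).Valid := Data.F4.valid
  obtain ⟨χ, hχ, rfl⟩ := diag_exists_char hT hh
  obtain ⟨⟨a, b⟩, c, d, e, g⟩ := pos_lt
  have l1 : ∀ p ∈ [(24, (1 : K)), (33, (1 : K) ^ 2 ^ m)], p.1 < (T4).n ∧ (T4).half ≤ p.1 := by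
    intro p hp
    simp only [List.mem_cons, List.not_mem_nil, or_false] at hp
    rcases hp with rfl | rfl <;> exact ⟨by assumption, by dsimp only; decide +kernel⟩
  have l2 : ∀ p ∈ [(25, (1 : K)), (27, (1 : K) ^ 2 ^ m), (28, (0 : K)),
      (30, (1 : K) ^ (2 * 2 ^ m + 1) + (0 : K) ^ (2 * 2 ^ m))], p.1 < (T4).n ∧ (T4).half ≤ p.1 := by
    intro p hp
    simp only [List.mem_cons, List.not_mem_nil, or_false] at hp
    rcases hp with rfl | rfl | rfl | rfl <;> exact ⟨by assumption, by dsimp only; decide +kernel⟩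
  have e1 := hcomm _ (pair_fix hK (a := 33) (b := 24) (by simp) 1) (gprod_mem l1)
  have e2 := hcomm _ (quad_fix hK quadPos 1 0) (gprod_mem l2)
  rw [← mul_inv_eq_iff_eq_mul, pair, dU_mul_gprod hK hχ _ fun p hp => (l1 p hp).1] at e1
  rw [← mul_inv_eq_iff_eq_mul, quad, dU_mul_gprod hK hχ _ fun p hp => (l2 p hp).1] at e2
  have h0 : (2 * 2 ^ m) ≠ 0 := by positivity
  have k1 := gprod_inj hT Data.F4.chkComm (L := [24, 33]) (by decide) (by decide +kernel)
    (fun r => (χ r : K)) (fun _ => 1) (by simpa [gprod] using e1)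
  have k2 := gprod_inj hT Data.F4.chkComm (L := [25, 27, 28, 30]) (by decide) (by decide +kernel)
    (fun r => if r = 28 then 0 else (χ r : K)) (fun r => if r = 28 then 0 else 1)
    (by simpa [gprod, h0] using e2)
  refine dU_eq_one_of_simple hT hχ fun i hi => Units.ext ?_
  have hs : ∀ i < (T4).rank, (T4).simple i ∈ [24, 33] ∨ (T4).simple i = 25 ∨ (T4).simple i = 27 := by
    decide +kernel
  rcases hs i hi with h' | h' | h'
  · exact k1 _ h'
  · rw [h']; simpa using k2 25 (by simp)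
  · rw [h']; simpa using k2 27 (by simp)

theorem invN_wJ (j : Fin 2) {L : List ℕ} (hL : (T4).negList (Data.F4.orbWords.getD j.val []) = L)
    (hnd : L.Nodup) : (T4).invN ((S hK).wJ (O hK) j) = L.length := by
  rw [invN, ← List.toFinset_card_of_nodup hnd]
  refine Finset.card_bij (fun r _ => r.val) (fun r hr => ?_) (fun a _ b _ h => Fin.ext h) (fun r hr => ?_)
  · rw [Finset.mem_filter] at hr
    rw [List.mem_toFinset]
    exact ((data hK).negSet_iff chk_orbits j hL r.val).mp ⟨r.2, hr.2⟩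
  · rw [List.mem_toFinset] at hr
    obtain ⟨h1, h2⟩ := ((data hK).negSet_iff chk_orbits j hL r).mpr hr
    exact ⟨⟨r, h1⟩, Finset.mem_filter.mpr ⟨Finset.mem_univ _, h2⟩, rfl⟩

theorem pos_negSet {x : GL (T4).I K} (j : Fin 2) {L : List ℕ}
    (hL : (T4).negList (Data.F4.orbWords.getD j.val []) = L) {l : List (ℕ × K)} (hl : ∀ p ∈ l, p.1 ∈ L)
    (hx : x = (T4).gprod l) (hf : x ∈ (S hK).fix) : x ∈ (S hK).Uw ((S hK).wJ (O hK) j) :=
  Subgroup.mem_inf.mpr ⟨hf, hx ▸ (data hK).word_mem_negSet chk_orbits j hL hl⟩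

theorem pair_mem_Uw (t : K) : pair m 33 24 t ∈ (S hK).Uw ((S hK).wJ (O hK) (0 : Fin 2)) := by
  refine pos_negSet hK 0 negList0 (fun p hp => ?_) rfl (pair_fix hK (by simp) t)
  simp only [List.mem_cons, List.not_mem_nil, or_false] at hp
  rcases hp with rfl | rfl <;> simp

theorem quad_mem_Uw (t u : K) : quad m 27 25 28 30 t u ∈ (S hK).Uw ((S hK).wJ (O hK) (1 : Fin 2)) := by
  refine pos_negSet hK 1 negList1 (fun p hp => ?_) rfl (quad_fix hK quadPos t u)
  simp only [List.mem_cons, List.not_mem_nil, or_false] at hp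
  rcases hp with rfl | rfl | rfl | rfl <;> simp

theorem card_Uw (w : Equiv.Perm (Fin (T4).n)) (hw : w ∈ (S hK).W1) :
    2 ∣ (T4).invN w ∧ Nat.card ((S hK).Uw w) = (2 ^ (2 * m + 1)) ^ ((T4).invN w / 2) := by
  refine Tbl.Twist.card_Uw_div (hV hK) two_pos (fun (j : Fin 2) => ?_) w hw
  have hT : (T4).Valid := Data.F4.valid
  match j with
  | 0 =>
    refine ⟨1, (invN_wJ hK 0 negList0 (by decide)).symm, ?_⟩
    rw [pow_one, ← hK]
    refine (Nat.card_eq_of_bijective
      (fun t => (⟨_, pair_mem_Uw hK t⟩ : ↥((S hK).Uw ((S hK).wJ (O hK) (0 : Fin 2))))) ⟨fun t t' h => ?_,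
        fun ⟨x, hx⟩ => ?_⟩).symm
    · have := gprod_inj hT Data.F4.chkComm (L := [24, 33]) (by decide) (by decide +kernel)
        (fun r => if r = 24 then t else t ^ 2 ^ m) (fun r => if r = 24 then t' else t' ^ 2 ^ m)
        (by simpa [pair, gprod] using congrArg Subtype.val h) 24 (by simp)
      simpa using this
    · obtain ⟨t, rfl⟩ := exists_pair hK hx
      exact ⟨t, rfl⟩
  | 1 =>
    refine ⟨2, (invN_wJ hK 1 negList1 (by decide)).symm, ?_⟩
    rw [pow_two, ← hK, ← Nat.card_prod]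
    refine (Nat.card_eq_of_bijective
      (fun p : K × K => (⟨_, quad_mem_Uw hK p.1 p.2⟩ : ↥((S hK).Uw ((S hK).wJ (O hK) (1 : Fin 2)))))
      ⟨fun p p' h => ?_, fun ⟨x, hx⟩ => ?_⟩).symm
    · have := gprod_inj hT Data.F4.chkComm (L := [25, 27, 28, 30]) (by decide) (by decide +kernel)
        (fun r => if r = 25 then p.1 else if r = 27 then p.1 ^ 2 ^ m else if r = 28 then p.2 else
          p.1 ^ (2 * 2 ^ m + 1) + p.2 ^ (2 * 2 ^ m))
        (fun r => if r = 25 then p'.1 else if r = 27 then p'.1 ^ 2 ^ m else if r = 28 then p'.2 else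
          p'.1 ^ (2 * 2 ^ m + 1) + p'.2 ^ (2 * 2 ^ m))
        (by simpa [quad, gprod] using congrArg Subtype.val h)
      exact Prod.ext (by simpa using this 25 (by simp)) (by simpa using this 28 (by simp))
    · obtain ⟨t, u, rfl⟩ := exists_quad hK hx
      exact ⟨(t, u), rfl⟩

theorem card_Upos : Nat.card ↥((T4).datum.posUnipotent K ⊓ (S hK).fix) = (2 ^ (2 * m + 1)) ^ 12 := by
  obtain ⟨w, hw, hneg⟩ := Tbl.Twist.Gen.exists_longest (gen hK)
  have e : (T4).datum.posUnipotent K ⊓ (S hK).fix = (S hK).Uw w := by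
    rw [posUnipotent_rootGen Data.F4.valid, inf_comm, Tbl.Twist.Uw]
    congr 1
    exact le_antisymm (rootGen_mono fun r hr hp => ⟨hr, hp, hneg _ hp⟩)
      (rootGen_mono fun r _ ⟨_, h, _⟩ => h)
  rw [e, (card_Uw hK w hw).2]
  congr 1
  have hn : (T4).invN w = ((List.finRange (T4).n).filter fun r => decide ((T4).half ≤ r.val)).length := by
    rw [invN, ← List.toFinset_card_of_nodup ((List.nodup_finRange _).filter _)]
    congr 1
    ext r
    simp only [Finset.mem_filter, Finset.mem_univ, true_and, List.mem_toFinset, List.mem_filter,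
      List.mem_finRange, decide_eq_true_eq]
    exact ⟨fun h => h.1, fun h => ⟨h, hneg _ h⟩⟩
  rw [hn]
  decide +kernel

theorem card_grp : (Nat.card ↥(grp K m) : ℤ) =
    ((2 : ℤ) ^ (2 * m + 1)) ^ 12 * ((2 : ℤ) ^ (2 * m + 1) - 1) ^ 2 *
      pEval [1, 1, 1, 2, 1, 1, 2, 1, 1, 2, 1, 1, 1] ((2 : ℤ) ^ (2 * m + 1)) := by
  classical
  have := Fintype.ofFinite ↥(S hK).W1
  rw [show Nat.card ↥(grp K m) = Nat.card ↥(S hK).fix by rw [grp_eq_fix hK], Tbl.Twist.card_fix (hV hK),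
    card_Upos hK, card_diag hK,
    Finset.sum_congr rfl fun (w : ↥(S hK).W1) _ => (card_Uw hK w.1 w.2).2]
  have hs := (data hK).sum_W1 chk_orbits (words := Data.F4.orbWords) rfl Data.F4.chk_elts (2 ^ (2 * m + 1))
  rw [show Data.F4.elts.e = 2 from rfl,
    show Data.F4.elts.hist = [1, 1, 1, 2, 1, 1, 2, 1, 1, 2, 1, 1, 1] by decide +kernel] at hs
  have h1 : (1 : ℕ) ≤ 2 ^ (2 * m + 1) := Nat.one_le_two_pow
  push_cast [h1] at hs ⊢
  rw [← hs]
  congr 1
  exact Finset.sum_congr (by ext; simp) fun _ _ => rfl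

theorem card_eq : Nat.card ↥(grp K m) = (2 ^ (2 * m + 1)) ^ 12 * (2 ^ (2 * m + 1) - 1) *
    ((2 ^ (2 * m + 1)) ^ 3 + 1) * ((2 ^ (2 * m + 1)) ^ 4 - 1) * ((2 ^ (2 * m + 1)) ^ 6 + 1) := by
  apply Nat.cast_injective (R := ℤ)
  have h1 : (1 : ℕ) ≤ 2 ^ (2 * m + 1) := Nat.one_le_two_pow
  have h4 : (1 : ℕ) ≤ (2 ^ (2 * m + 1)) ^ 4 := Nat.one_le_pow _ _ Nat.one_le_two_pow
  rw [card_grp hK]
  push_cast [h1, h4]
  simp only [pEval]
  ring

theorem ca_vals : ∀ p ∈ ([(24, 2, 0), (33, 0, 2), (25, -1, 0), (27, 0, -1), (28, -1, -1), (30, -1, -2)] :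
    List (ℕ × ℤ × ℤ)), (T4).ca (3 : Fin 4).val p.1 = p.2.1 ∧ (T4).ca (0 : Fin 4).val p.1 = p.2.2 := by
  decide +kernel

theorem chi_val (c : Kˣ) {r : ℕ} {a b : ℤ}
    (h : (r, a, b) ∈ ([(24, 2, 0), (33, 0, 2), (25, -1, 0), (27, 0, -1), (28, -1, -1), (30, -1, -2)] :
      List (ℕ × ℤ × ℤ))) :
    ∏ i : Fin (T4).rank, supp m c 1 i ^ (T4).ca i r = c ^ a * (c ^ 2 ^ m) ^ b := by
  obtain ⟨ha, hb⟩ := ca_vals hK _ h
  show ∏ i : Fin 4, supp m c 1 i ^ (T4).ca i.val r = _
  rw [Fin.prod_univ_four, ha, hb]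
  simp [supp, mul_comm]

theorem conj_pair (c : Kˣ) (t : K) :
    torusHom T4 K (supp m c 1) * pair m 33 24 t * (torusHom T4 K (supp m c 1))⁻¹ =
      pair m 33 24 ((c : K) ^ 2 * t) := by
  obtain ⟨⟨a, b⟩, -, -, -, -⟩ := pos_lt
  show (T4).dU (fun s => ∏ i, supp m c 1 i ^ (T4).ca i s) * _ * ((T4).dU _)⁻¹ = _
  rw [pair, pair, dU_mul_gprod hK (isChar_prod Data.F4.valid _) _ (by
    intro p hp
    simp only [List.mem_cons, List.not_mem_nil, or_false] at hp
    rcases hp with rfl | rfl <;> assumption)]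
  simp only [List.map_cons, List.map_nil, chi_val hK c (r := 24) (a := 2) (b := 0) (by simp),
    chi_val hK c (r := 33) (a := 0) (b := 2) (by simp)]
  norm_num [mul_pow, ← pow_mul, mul_comm]

theorem conj_quad (c : Kˣ) (t u : K) :
    torusHom T4 K (supp m c 1) * quad m 27 25 28 30 t u * (torusHom T4 K (supp m c 1))⁻¹ =
      quad m 27 25 28 30 ((c : K)⁻¹ * t) (((c : K) ^ (2 ^ m + 1))⁻¹ * u) := by
  obtain ⟨-, a, b, d, e⟩ := pos_lt
  show (T4).dU (fun s => ∏ i, supp m c 1 i ^ (T4).ca i s) * _ * ((T4).dU _)⁻¹ = _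
  rw [quad, quad, dU_mul_gprod hK (isChar_prod Data.F4.valid _) _ (by
    intro p hp
    simp only [List.mem_cons, List.not_mem_nil, or_false] at hp
    rcases hp with rfl | rfl | rfl | rfl <;> assumption)]
  simp only [List.map_cons, List.map_nil, chi_val hK c (r := 25) (a := -1) (b := 0) (by simp),
    chi_val hK c (r := 27) (a := 0) (b := -1) (by simp), chi_val hK c (r := 28) (a := -1) (b := -1) (by simp),
    chi_val hK c (r := 30) (a := -1) (b := -2) (by simp)]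
  have hc : (c : K) ^ (2 ^ m * (2 * 2 ^ m)) = c := by rw [pow_mul]; exact pow_theta hK _
  have e30 : (((c : K) ^ (2 ^ m + 1))⁻¹) ^ (2 * 2 ^ m) = ((c : K) ^ (2 * 2 ^ m + 1))⁻¹ := by
    rw [inv_pow, ← pow_mul, add_mul, one_mul, pow_add, hc, pow_succ']
  simp only [zpow_neg, zpow_ofNat, pow_zero, pow_one, inv_one, mul_one, one_mul, Units.val_mul,
    Units.val_inv_eq_inv_val, Units.val_pow_eq_pow_val, mul_pow, inv_pow, e30]
  refine congrArg (T4).gprod ?_
  simp only [List.cons.injEq, Prod.mk.injEq, true_and, and_true]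
  refine ⟨?_, ?_⟩
  · rw [← mul_inv, pow_succ']
  · rw [← mul_inv, ← pow_mul, ← pow_succ', mul_comm (2 ^ m) 2, mul_add]

theorem comm_mem {x y : GL (T4).I K} (hx : x ∈ grp K m) (hy : y ∈ grp K m) :
    x * y * x⁻¹ * y⁻¹ ∈ ⁅grp K m, grp K m⁆ := by
  rw [← commutatorElement_def]
  exact Subgroup.commutator_mem_commutator hx hy

omit [Field K] [Finite K] hK in
theorem exp_lt {m : ℕ} (hm : 1 ≤ m) : 2 ^ m + 1 < 2 ^ (2 * m + 1) - 1 := by
  have h1 : 2 ≤ 2 ^ m := le_self_pow₀ (by norm_num) (by omega)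
  rw [show 2 ^ (2 * m + 1) = 2 * (2 ^ m * 2 ^ m) by ring]
  have := Nat.mul_le_mul_right (2 ^ m) h1
  omega

theorem exists_gen_unit (hm : 1 ≤ m) :
    ∃ c : Kˣ, (c : K) ^ 2 ≠ 1 ∧ (c : K) ≠ 1 ∧ (c : K) ^ (2 ^ m + 1) ≠ 1 := by
  obtain ⟨c, hc⟩ := IsCyclic.exists_ofOrder_eq_natCard (α := Kˣ)
  rw [Nat.card_units, hK] at hc
  have hlt := exp_lt hm
  have key : ∀ k, 0 < k → k ≤ 2 ^ m + 1 → (c : K) ^ k ≠ 1 := fun k hk hk' h => by
    have := orderOf_dvd_of_pow_eq_one (show c ^ k = 1 from Units.ext (by simpa using h))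
    rw [hc] at this
    have := Nat.le_of_dvd hk this
    omega
  have h1 : 2 ≤ 2 ^ m + 1 := by have : 1 ≤ 2 ^ m := Nat.one_le_two_pow; omega
  exact ⟨c, key 2 two_pos h1, fun h => key 1 one_pos (by omega) (by rw [pow_one, h]), key _ (by omega) le_rfl⟩

omit hK [Finite K] in
theorem split_eq (a t : K) (h : a + 1 ≠ 0) : a * (t * (a + 1)⁻¹) + t * (a + 1)⁻¹ = t := by
  rw [show a * (t * (a + 1)⁻¹) + t * (a + 1)⁻¹ = t * ((a + 1) * (a + 1)⁻¹) by ring, mul_inv_cancel₀ h, mul_one]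

theorem perfect (hm : 1 ≤ m) : commutator ↥(grp K m) = ⊤ := by
  obtain ⟨c, hc2, hc1, hce⟩ := exists_gen_unit hK hm
  have hh : torusHom T4 K (supp m c 1) ∈ grp K m := by
    rw [grp_eq_fix hK]
    exact ((diag_fix hK).ge (Subgroup.mem_map_of_mem _ (supp_mem hK c 1))).2
  have hp : ∀ t, pair m 33 24 t ∈ ⁅grp K m, grp K m⁆ := by
    intro t
    have hne : (c : K) ^ 2 + 1 ≠ 0 := fun h => hc2 (by linear_combination h - two_eq_zero hK)
    have := comm_mem hK hh (gens_mem hK (Or.inl ⟨t * ((c : K) ^ 2 + 1)⁻¹, rfl⟩))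
    rw [conj_pair hK, pair_inv hK (by simp), pair_mul hK (by simp)] at this
    rwa [split_eq _ _ hne] at this
  have hq0 : ∀ u, quad m 27 25 28 30 0 u ∈ ⁅grp K m, grp K m⁆ := by
    intro u
    set z := ((c : K) ^ (2 ^ m + 1))⁻¹ with hz
    have hne : z + 1 ≠ 0 := fun h => hce (by
      have : z = 1 := by linear_combination h - two_eq_zero hK
      rw [hz, inv_eq_one] at this
      exact this)
    have := comm_mem hK hh (gens_mem hK (Or.inr (Or.inr (Or.inl ⟨0, u * (z + 1)⁻¹, rfl⟩))))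
    rw [conj_quad hK, quad_inv hK quadPos, quad_mul hK quadPos, ← hz, mul_zero, add_zero,
      zero_pow (Nat.succ_ne_zero _), add_zero, zero_pow (pow_ne_zero m two_ne_zero), zero_mul, add_zero,
      split_eq _ _ hne] at this
    exact this
  have hq : ∀ t u, quad m 27 25 28 30 t u ∈ ⁅grp K m, grp K m⁆ := by
    intro t u
    have hne : (c : K)⁻¹ + 1 ≠ 0 := fun h => hc1 (by
      have : (c : K)⁻¹ = 1 := by linear_combination h - two_eq_zero hK
      rwa [inv_eq_one] at this)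
    have := comm_mem hK hh (gens_mem hK (Or.inr (Or.inr (Or.inl ⟨t * ((c : K)⁻¹ + 1)⁻¹, 0, rfl⟩))))
    rw [conj_quad hK, quad_inv hK quadPos, quad_mul hK quadPos,
      split_eq _ _ hne] at this
    set u0 := ((c : K) ^ (2 ^ m + 1))⁻¹ * 0 + (0 + (t * ((c : K)⁻¹ + 1)⁻¹) ^ (2 ^ m + 1)) +
      ((c : K)⁻¹ * (t * ((c : K)⁻¹ + 1)⁻¹)) ^ 2 ^ m * (t * ((c : K)⁻¹ + 1)⁻¹)
    have h2 := mul_mem this (hq0 (u + u0))
    rw [quad_mul hK quadPos, add_zero, mul_zero, add_zero,
      show u0 + (u + u0) = u by linear_combination u0 * two_eq_zero hK] at h2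
    exact h2
  have hle : grp K m ≤ ⁅grp K m, grp K m⁆ := by
    have hposU : ∀ (j : Fin 2) (x : GL (T4).I K), x ∈ (S hK).Uw ((S hK).wJ (O hK) j) →
        x ∈ ⁅grp K m, grp K m⁆ := fun j x hx => match j with
      | 0 => by obtain ⟨t, rfl⟩ := exists_pair hK hx; exact hp t
      | 1 => by obtain ⟨t, u, rfl⟩ := exists_quad hK hx; exact hq t u
    have hnegV : ∀ (j : Fin 2) (x : GL (T4).I K), x ∈ grp K m →
        x ∈ (T4).rootGen K (fun r => ∃ h : r < (T4).n, r < (T4).half ∧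
          (T4).half ≤ ((S hK).wJ (O hK) j ⟨r, h⟩).val) → x ∈ ⁅grp K m, grp K m⁆ := by
      intro j x hx hxV
      obtain ⟨n, hnG, hnN, hm⟩ := (gen hK).exists_nJ j
      have hnG' : n ∈ grp K m := hnG
      have h1 : n * x * n⁻¹ ∈ (S hK).Uw ((S hK).wJ (O hK) j) := by
        refine Subgroup.mem_inf.mpr ⟨mul_mem (mul_mem (le_fix hK hnG') (le_fix hK hx))
          (inv_mem (le_fix hK hnG')), ?_⟩
        refine conj_mem_rootGen Data.F4.valid hm (fun r ⟨_, h1, h2⟩ => ?_) hxV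
        refine ⟨Fin.isLt _, h2, ?_⟩
        simp only [Fin.eta]
        exact lt_of_eq_of_lt (congrArg Fin.val ((S hK).wJ_wJ (O hK) j r)) h1
      have h2 := hposU j _ h1
      have h3 : ∀ a b, a ∈ grp K m → b ∈ ⁅grp K m, grp K m⁆ → a * b * a⁻¹ ∈ ⁅grp K m, grp K m⁆ :=
        fun a b ha hb => by
          have h4 := Subgroup.commutator_le_self (grp K m) hb
          rw [show a * b * a⁻¹ = (a * b * a⁻¹ * b⁻¹) * b by group]
          exact mul_mem (comm_mem hK ha h4) hb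
      have h5 := h3 n⁻¹ _ (inv_mem hnG') h2
      rwa [show n⁻¹ * (n * x * n⁻¹) * n⁻¹⁻¹ = x by group] at h5
    conv_lhs => rw [grp_eq hK]
    rw [Subgroup.closure_le]
    rintro x (⟨t, rfl⟩ | ⟨t, rfl⟩ | ⟨t, u, rfl⟩ | ⟨t, u, rfl⟩)
    · exact hp t
    · exact hnegV 0 _ (gens_mem hK (Or.inr (Or.inl ⟨t, rfl⟩))) (neg_pair_VJ hK t)
    · exact hq t u
    · exact hnegV 1 _ (gens_mem hK (Or.inr (Or.inr (Or.inr ⟨t, u, rfl⟩)))) (neg_quad_VJ hK t u)
  apply Subgroup.map_injective (grp K m).subtype_injective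
  rw [Subgroup.map_subtype_commutator, ← MonoidHom.range_eq_map, Subgroup.range_subtype]
  exact le_antisymm (Subgroup.commutator_le_self _) hle

theorem nontrivial_fix : Nontrivial ↥(S hK).fix :=
  ⟨⟨⟨_, pair_fix hK (by simp) (1 : K)⟩, 1, fun e => neg_pair_ne_one hK (congrArg Subtype.val e)⟩⟩

theorem simple (hm : 1 ≤ m) : IsSimpleGroup ↥(grp K m) ∧ ¬ IsMulCommutative ↥(grp K m) := by
  have hperf := perfect hK hm
  have hne := nontrivial_fix hK
  refine ⟨?_, fun hcm => ?_⟩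
  · rw [grp_eq_fix hK] at hperf ⊢
    refine Tbl.Twist.isSimpleGroup_fix (hV hK) (fun J ha hb => ?_) (hc hK) hne hperf
    obtain ⟨a, ha⟩ := ha
    obtain ⟨b, hb⟩ := hb
    refine ⟨a, b, ha, hb, fun hcomm => ?_⟩
    have hab : a ≠ b := fun e => by rw [e, hb] at ha; exact Bool.false_ne_true ha
    have key : ∀ a b : Fin 2, a ≠ b → ∃ r : Fin (T4).n,
        (T4).actWord (Data.F4.orbWords.getD a []) ((T4).actWord (Data.F4.orbWords.getD b []) r) ≠
          (T4).actWord (Data.F4.orbWords.getD b []) ((T4).actWord (Data.F4.orbWords.getD a []) r) := by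
      decide +kernel
    obtain ⟨r, hr⟩ := key a b hab
    apply hr
    have := congrArg (fun p : Equiv.Perm (Fin (T4).n) => (p r).val) hcomm.eq
    simp only [Equiv.Perm.mul_apply] at this
    have ew : ∀ (k : Fin (O hK).o) (s : Fin (T4).n),
        ((S hK).wJ (O hK) k s).val = (T4).actWord (Data.F4.orbWords.getD k []) s :=
      fun k s => (data hK).orbits_wJ chk_orbits k s
    rwa [ew, ew, ew, ew] at this
  · have hnt : Nontrivial ↥(grp K m) := by rw [grp_eq_fix hK]; exact hne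
    have h2 : commutator ↥(grp K m) = ⊥ := by
      rw [commutator_def, Subgroup.commutator_eq_bot_iff_le_centralizer]
      intro x _ y _
      exact hcm.is_comm.comm y x
    rw [hperf] at h2
    exact top_ne_bot h2

theorem weylHom :
    ∃ φ : ↥((T4).datum.monomialSubgroup K ⊓ (S hK).fix) →* DihedralGroup 8, Function.Surjective φ ∧
      φ.ker = ((T4).datum.diagonalSubgroup K ⊓ (S hK).fix).subgroupOf
        ((T4).datum.monomialSubgroup K ⊓ (S hK).fix) := by
  let M : CoxeterMatrix (Fin 2) := CoxeterMatrix.I 6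
  have hord : ∀ i j : Fin 2, orderOf ((S hK).wJ (O hK) i * (S hK).wJ (O hK) j) = M i j := by
    intro i j
    have key : ∀ i j : Fin 2, (T4).chkOrd (Data.F4.orbWords.getD i [] ++ Data.F4.orbWords.getD j [])
        (CoxeterMatrix.I 6 i j) = true := by decide +kernel
    have hw : ∀ k : Fin 2, ((O hK).word k).map Fin.val = Data.F4.orbWords.getD k.val [] := by
      intro k
      show List.map Fin.val (List.map _ _) = _
      rw [List.map_map]
      simp [Function.comp_def]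
    have h := (congrArg₂ (fun a b => (T4).chkOrd (a ++ b) _) (hw i) (hw j)).trans (key i j)
    rw [← List.map_append] at h
    rw [← orderOf_pw Data.F4.valid _ _ h, pw_append]
    rfl
  obtain ⟨f, hf⟩ := Tbl.Twist.exists_coxeter (hV hK) (Equiv.refl (Fin 2)) M hord
  let g : Fin 2 → DihedralGroup 8 := fun i => DihedralGroup.sr (i.val : ZMod 8)
  have hg : CoxeterMatrix.IsLiftable M g := by
    unfold CoxeterMatrix.IsLiftable
    decide +kernel
  let ψ : M.Group →* DihedralGroup 8 := M.toCoxeterSystem.lift ⟨g, hg⟩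
  have hψ : ∀ i, ψ (M.simple i) = g i := fun i => M.toCoxeterSystem.lift_apply_simple hg i
  have hsurj : Function.Surjective ψ := by
    rw [← MonoidHom.range_eq_top, eq_top_iff]
    have h0 : (DihedralGroup.sr 0 : DihedralGroup 8) ∈ ψ.range := ⟨_, hψ 0⟩
    have h1 : (DihedralGroup.sr 1 : DihedralGroup 8) ∈ ψ.range := ⟨_, hψ 1⟩
    have hr : ∀ k : ZMod 8, DihedralGroup.r k ∈ ψ.range := by
      intro k
      have := pow_mem (mul_mem h0 h1) k.val
      rwa [DihedralGroup.sr_mul_sr, sub_zero, DihedralGroup.r_one_pow, ZMod.natCast_rightInverse] at this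
    rintro (k | k) -
    · exact hr k
    · have := mul_mem h0 (hr k)
      rwa [DihedralGroup.sr_mul_r, zero_add] at this
  have hcard : Nat.card M.Group = Nat.card (DihedralGroup 8) := by
    rw [← Nat.card_congr f.toEquiv, DihedralGroup.nat_card,
      (data hK).card_W1 chk_orbits (words := Data.F4.orbWords) rfl Data.F4.chk_elts]
    rfl
  have hfin : Finite M.Group := Nat.finite_of_card_ne_zero (by rw [hcard, DihedralGroup.nat_card]; norm_num)
  have hbij := (Nat.bijective_iff_surjective_and_card ψ).mpr ⟨hsurj, hcard⟩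
  refine ⟨(ψ.comp f.toMonoidHom).comp (S hK).wHom1,
    (hsurj.comp f.surjective).comp (Tbl.Twist.wHom1_surjective (hV hK)), ?_⟩
  rw [← (S hK).wHom1_ker]
  ext x
  simp only [MonoidHom.mem_ker, MonoidHom.coe_comp, Function.comp_apply]
  exact ⟨fun h => f.injective ((hbij.1 (h.trans (map_one ψ).symm)).trans (map_one f).symm),
    fun h => by simp [h]⟩

/-- Properties of the fixed points are properties of the group of the table. -/
theorem transfer (P : ∀ D : Cfsg.Lie.ChevalleyDatum, Subgroup (GL D.Idx K) → Prop)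
    (h : P (T4).datum (S hK).fix) : P Cfsg.Lie.chevF4 (Cfsg.Lie.twistedF4 K (2 ^ m)) := by
  rw [← grp_eq_fix hK, grp] at h
  show P Cfsg.Lie.chevF4 (Cfsg.Lie.chevF4.genSubgroup K (Cfsg.Lie.f4Words K (2 ^ m)))
  rw [← Data.F4.datum_eq]
  exact h

end CfsgLib.Chevalley.Twist.F4
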