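import Cfsg.Agent.Lib.Chevalley.Twist.G2Words
import Cfsg.Agent.Lib.Chevalley.Twist.DiagNorm
import Cfsg.Agent.Lib.Chevalley.Twist.PairW
import Cfsg.Agent.Lib.Chevalley.Twist.Weyl1
import Cfsg.Agent.Lib.Chevalley.Twist.Torus2

/-!
The groups of type ²G₂.
-/

set_option autoImplicit false
set_option maxRecDepth 20000
set_option Elab.async false

namespace CfsgLib.Chevalley.Twist.G2

open Tbl
open scoped commutatorElement

local notation "T2" => Data.G2.tbl

/-- A word for the diagonal element of the parameters `-1`. -/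
def hWord : List (ℕ × ZMod 3) := [(9, 1), (11, 1), (2, -1), (0, -1), (7, 1), (6, 1), (8, 2), (9, 2), (10, 1),
  (11, 1), (4, 1), (5, 1), (3, -2), (2, 2), (1, -1), (0, 1)]

/-- Its entries. -/
def hDiag : (T2).I → ZMod 3 := Sum.elim (fun _ => 1) fun s =>
  if ((T2).ca 0 s.val + (T2).ca 1 s.val) % 2 = 0 then 1 else -1

theorem chk_hWord : (T2).chkDiag hWord hDiag = true := by decide +kernel

variable {K : Type*} [Field K] [Finite K] {m : ℕ} (hK : Nat.card K = 3 ^ (2 * m + 1))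
include hK

omit hK in
/-- The generated group. -/
noncomputable def grp (K : Type*) [Field K] (m : ℕ) : Subgroup (GL (T2).I K) :=
  (T2).datum.genSubgroup K (Cfsg.Lie.g2Words K (3 ^ m))

omit hK in
/-- The negative generators. -/
noncomputable def rev (m : ℕ) (t u v : K) : GL (T2).I K :=
  (T2).gprod (negW (Cfsg.Lie.reeWordU (3 ^ m) t u v))

omit hK in
/-- The generators. -/
noncomputable def gens (K : Type*) [Field K] (m : ℕ) : Set (GL (T2).I K) :=
  {x | (∃ t u v, x = ree m t u v) ∨ ∃ t u v, x = rev m t u v}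

theorem grp_eq : grp K m = Subgroup.closure (gens K m) := by
  have hV : ∀ t u v : K, Cfsg.Lie.reeWordV (3 ^ m) t u v = negW (Cfsg.Lie.reeWordU (3 ^ m) t u v) :=
    fun t u v => negW_eq (word_lt _ t u v)
  apply le_antisymm
  · refine (Subgroup.closure_le _).mpr ?_
    rintro g ⟨w, ⟨t, u, v, rfl | rfl⟩, hg⟩
    · exact Subgroup.subset_closure (Or.inl ⟨t, u, v,
        ((Units.ext (hg.trans (gprod_wordMat Data.G2.valid (word_lt _ t u v)))).trans (word_eq hK t u v))⟩)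
    · rw [hV] at hg
      exact Subgroup.subset_closure (Or.inr ⟨t, u, v,
        Units.ext (hg.trans (gprod_wordMat Data.G2.valid (negW_lt (word_lt _ t u v))))⟩)
  · rw [Subgroup.closure_le]
    rintro g (⟨t, u, v, rfl⟩ | ⟨t, u, v, rfl⟩)
    · rw [← word_eq hK]
      exact word_mem_genSubgroup Data.G2.valid ⟨t, u, v, Or.inl rfl⟩ (word_lt _ t u v)
    · exact word_mem_genSubgroup Data.G2.valid ⟨t, u, v, Or.inr (hV t u v).symm⟩ (negW_lt (word_lt _ t u v))

theorem gens_mem {x : GL (T2).I K} (hx : x ∈ gens K m) : x ∈ grp K m :=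
  grp_eq hK ▸ Subgroup.subset_closure hx

theorem le_fix : grp K m ≤ (S hK).fix := by
  rw [grp_eq hK, Subgroup.closure_le]
  rintro x (⟨t, u, v, rfl⟩ | ⟨t, u, v, rfl⟩)
  · exact ree_fix hK t u v
  · exact neg_fix hK t u v

theorem rev_signed (t u v : K) : ∀ p ∈ negW (Cfsg.Lie.reeWordU (3 ^ m) t u v),
    p.1 < (T2).n ∧ (T2).neg p.1 ∈ [6, 7, 8, 9, 10, 11] ∧ p.1 < (T2).half := by
  have key : ∀ r ∈ [Cfsg.Lie.g2a, Cfsg.Lie.g2b, Cfsg.Lie.g2ab, Cfsg.Lie.g2aab, Cfsg.Lie.g2aaab,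
      Cfsg.Lie.g2aaabb], negMap.ρ r < (T2).n ∧ (T2).neg (negMap.ρ r) ∈ [6, 7, 8, 9, 10, 11] ∧
      negMap.ρ r < (T2).half := by decide +kernel
  intro p hp
  obtain ⟨q, hq, rfl⟩ := List.mem_map.mp hp
  refine key q.1 ?_
  simp only [Cfsg.Lie.reeWordU, List.mem_cons, List.not_mem_nil, or_false] at hq
  rcases hq with rfl | rfl | rfl | rfl | rfl | rfl <;> simp

theorem rev_VJ (t u v : K) : rev m t u v ∈ (T2).rootGen K (fun r => ∃ h : r < (T2).n, r < (T2).half ∧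
    (T2).half ≤ ((S hK).wJ (O hK) (0 : Fin 1) ⟨r, h⟩).val) :=
  gprod_mem fun p hp => ⟨(rev_signed hK t u v p hp).1,
    (data hK).mem_VJ chk_orbits (0 : Fin 1) negList0 (rev_signed hK t u v p hp).1 (rev_signed hK t u v p hp).2.1⟩

theorem rev_ne_one : rev (K := K) m 1 0 0 ≠ 1 := by
  rw [rev]
  simp only [Cfsg.Lie.reeWordU, negW, gprod, List.map_cons, List.map_nil, List.prod_cons, List.prod_nil,
    mul_one, one_pow]
  rw [show negMap.ρ Cfsg.Lie.g2a = (T2).neg ((T2).simple (⟨0, by decide⟩ : Fin (T2).rank).val) by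
    decide +kernel]
  refine neg_simple_mul_ne_one Data.G2.valid Data.G2.chkComm (neg_ne_zero.mpr one_ne_zero) ?_
  refine mul_mem (xU_mem_rootGen ?_ ?_ _) (mul_mem (xU_mem_rootGen ?_ ?_ _)
    (mul_mem (xU_mem_rootGen ?_ ?_ _) (mul_mem (xU_mem_rootGen ?_ ?_ _) (xU_mem_rootGen ?_ ?_ _)))) <;>
  decide +kernel

theorem exists_parts {x : GL (T2).I K} (j : Fin 1) (hx : x ∈ (S hK).Uw ((S hK).wJ (O hK) j)) :
    ∃ t u v, x = ree m t u v := by
  obtain rfl : j = 0 := Subsingleton.elim _ _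
  exact exists_ree hK hx

/-- The group as a group of fixed points containing the orbit parts. -/
noncomputable def gen : (S hK).Gen (O hK) where
  Γ := grp K m
  le := le_fix hK
  UJ := fun (j : Fin 1) x hf hU => by
    obtain ⟨t, u, v, rfl⟩ := exists_parts hK j (Subgroup.mem_inf.mpr ⟨hf, hU⟩)
    exact gens_mem hK (Or.inl ⟨t, u, v, rfl⟩)
  VJ := fun (j : Fin 1) => match j with
    | 0 => ⟨_, gens_mem hK (Or.inr ⟨1, 0, 0, rfl⟩), rev_ne_one hK, rev_VJ hK 1 0 0⟩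

theorem hV : (S hK).VHyp (O hK) := fun (j : Fin 1) => match j with
  | 0 => ⟨_, neg_fix hK 1 0 0, rev_ne_one hK, rev_VJ hK 1 0 0⟩

theorem ree_pos (t u v : K) : ∀ p ∈ Cfsg.Lie.reeWordU (3 ^ m) t u v, p.1 ∈ [6, 7, 8, 9, 10, 11] := by
  intro p hp
  simp only [Cfsg.Lie.reeWordU, List.mem_cons, List.not_mem_nil, or_false] at hp
  rcases hp with rfl | rfl | rfl | rfl | rfl | rfl <;>
    simp [Cfsg.Lie.g2a, Cfsg.Lie.g2b, Cfsg.Lie.g2ab, Cfsg.Lie.g2aab, Cfsg.Lie.g2aaab, Cfsg.Lie.g2aaabb]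

theorem gens_signed {x : GL (T2).I K} (hx : x ∈ gens K m) :
    x ∈ (T2).rootGen K (fun r => (T2).half ≤ r) ∨ x ∈ (T2).rootGen K (fun r => r < (T2).half) := by
  have key : ∀ r ∈ [6, 7, 8, 9, 10, 11], r < (T2).n ∧ (T2).half ≤ r := by decide +kernel
  rcases hx with ⟨t, u, v, rfl⟩ | ⟨t, u, v, rfl⟩
  · rw [← word_eq hK]
    exact Or.inl (gprod_mem fun p hp => key _ (ree_pos hK t u v p hp))
  · exact Or.inr (gprod_mem fun p hp => ⟨(rev_signed hK t u v p hp).1, (rev_signed hK t u v p hp).2.2⟩)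

theorem ree_mem_Uw (t u v : K) : ree m t u v ∈ (S hK).Uw ((S hK).wJ (O hK) (0 : Fin 1)) :=
  Subgroup.mem_inf.mpr ⟨ree_fix hK t u v, word_eq hK t u v ▸
    (data hK).word_mem_negSet chk_orbits (0 : Fin 1) negList0 (ree_pos hK t u v)⟩

theorem units_theta (c : Kˣ) : (c ^ 3 ^ m) ^ (3 * 3 ^ m) = c :=
  Units.ext (by simp only [Units.val_pow_eq_pow_val]; exact pow_theta hK _)

theorem tau_val (f : Fin (T2).rank → Kˣ) (i : Fin (T2).rank) :
    (data hK).tau f ((data hK).permS i) = (f i ^ 3 ^ m) ^ Data.G2.graph.lam ((T2).simple i.val) := by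
  apply Units.ext
  rw [TwistData.tau_apply, Units.val_pow_eq_pow_val, Units.val_pow_eq_pow_val]
  show theta hK _ ^ _ = _
  rw [theta_apply]
  rfl

theorem mem_tauFix {f : Fin (T2).rank → Kˣ} :
    f ∈ (data hK).tauFix ↔ f (0 : Fin 2) = f (1 : Fin 2) ^ 3 ^ m := by
  have e1 : (data hK).tau f (1 : Fin 2) = f (0 : Fin 2) ^ (3 * 3 ^ m) :=
    (tau_val hK f (0 : Fin 2)).trans (by
      rw [show Data.G2.graph.lam ((T2).simple (0 : Fin 2).val) = 3 by decide +kernel, ← pow_mul, mul_comm])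
  have e0 : (data hK).tau f (0 : Fin 2) = f (1 : Fin 2) ^ 3 ^ m :=
    (tau_val hK f (1 : Fin 2)).trans (by
      rw [show Data.G2.graph.lam ((T2).simple (1 : Fin 2).val) = 1 by decide +kernel, pow_one])
  refine ⟨fun h => ?_, fun h0 => ?_⟩
  · have h' : (data hK).tau f = f := h
    rw [h'] at e0
    exact e0
  · show (data hK).tau f = f
    exact funext fun (i : Fin 2) => match i with
      | 0 => e0.trans h0.symm
      | 1 => e1.trans ((congrArg (· ^ (3 * 3 ^ m)) h0).trans (units_theta hK _))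

theorem diag_fix : (T2).datum.diagonalSubgroup K ⊓ (S hK).fix = (data hK).tauFix.map (torusHom T2 K) :=
  (data hK).map_eq_tauFix fun z hz => (injective_iff_map_eq_one _).mp
    (torusHom_injective_of_smith Data.G2.valid Data.G2.chkSmith (by decide)) z hz

omit hK [Finite K] in
/-- The fixed parameters. -/
noncomputable def par (m : ℕ) (c : Kˣ) : Fin (T2).rank → Kˣ := (![c ^ 3 ^ m, c] : Fin 2 → Kˣ)

theorem par_mem (c : Kˣ) : par m c ∈ (data hK).tauFix := (mem_tauFix hK).mpr rfl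

theorem par_mul (c d : Kˣ) : par m (c * d) = par m c * par m d := by
  have : ∀ i : Fin 2, (![(c * d) ^ 3 ^ m, c * d] : Fin 2 → Kˣ) i = (![c ^ 3 ^ m, c] * ![d ^ 3 ^ m, d]) i := by
    intro i; fin_cases i <;> simp [mul_pow]
  exact funext this

theorem sq_mem (c : Kˣ) : torusHom T2 K (par m (c * c)) ∈ grp K m := by
  have hT : (T2).Valid := Data.G2.valid
  have hkey : ∀ i : Fin 2, ∀ r < (T2).n,
      (T2).ca i.val ((T2).actWord (Data.G2.orbWords.getD (0 : Fin 1).val []) r) = -(T2).ca i.val r := by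
    decide +kernel
  have hmem : torusHom T2 K (par m c) ∈ (T2).datum.diagonalSubgroup K ⊓ (S hK).fix :=
    diag_fix hK ▸ Subgroup.mem_map_of_mem _ (par_mem hK c)
  rw [par_mul hK, map_mul]
  refine (gen hK).sq_mem (X := gens K m) (grp_eq hK) (fun x hx => gens_signed hK hx)
    (χ := fun s => ∏ i, par m c i ^ (T2).ca i s) (isChar_prod hT _) hmem.1 hmem.2
    ((S hK).wJ_mem (O hK) (0 : Fin 1)) fun r => ?_
  rw [← Finset.prod_inv_distrib]
  refine Finset.prod_congr rfl fun i _ => ?_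
  rw [(data hK).orbits_wJ chk_orbits (0 : Fin 1) r, hkey i r.val r.2, _root_.zpow_neg]

theorem neg_one_mem : torusHom T2 K (par m (-1)) ∈ grp K m := by
  have hT : (T2).Valid := Data.G2.valid
  have := charThree hK
  let φ : ZMod 3 →+* K := ZMod.castHom (dvd_refl 3) K
  have hodd : Odd (3 ^ m) := Odd.pow (by decide)
  have e := gprod_eq_dU (T := T2) hT φ (l := hWord) (by decide +kernel) chk_hWord
    (χ := fun s => ∏ i : Fin (T2).rank, par m (-1 : Kˣ) i ^ (T2).ca i s) ?_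
  · rw [show torusHom T2 K (par m (-1)) = (T2).dU fun s => ∏ i : Fin (T2).rank, par m (-1 : Kˣ) i ^ (T2).ca i s
      from rfl, ← e]
    have h3 := three_eq_zero hK
    have hsplit : (T2).gprod (hWord.map fun p => (p.1, φ p.2)) =
        ree m 0 0 1 * rev m 0 0 1 * ree m 1 1 1 * rev m (-1) 1 (-1) := by
      rw [← word_eq hK, ← word_eq hK]
      simp only [rev, negW, hWord, Cfsg.Lie.reeWordU, gprod, List.map_cons, List.map_nil, List.prod_cons,
        List.prod_nil, mul_one, map_one, map_neg, map_ofNat]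
      have he : (3 : ℕ) ^ m ≠ 0 := by positivity
      have he1 : 2 * 3 ^ m + 1 ≠ 0 := by positivity
      have hr : negMap.ρ Cfsg.Lie.g2a = 4 ∧ negMap.ρ Cfsg.Lie.g2b = 5 ∧ negMap.ρ Cfsg.Lie.g2ab = 3 ∧
          negMap.ρ Cfsg.Lie.g2aab = 2 ∧ negMap.ρ Cfsg.Lie.g2aaab = 1 ∧ negMap.ρ Cfsg.Lie.g2aaabb = 0 := by
        decide +kernel
      obtain ⟨r4, r5, r3, r2, r1, r0⟩ := hr
      have hz : ∀ r < (T2).n, (T2).xU K r 0 = 1 := fun r hr => xU_zero hT hr
      have hn : ∀ r ≤ 11, r < (T2).n := by decide +kernel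
      rw [r4, r5, r3, r2, r1, r0]
      simp only [Cfsg.Lie.g2a, Cfsg.Lie.g2b, Cfsg.Lie.g2ab, Cfsg.Lie.g2aab, Cfsg.Lie.g2aaab,
        Cfsg.Lie.g2aaabb, zero_pow he, zero_pow he1, zero_pow (Nat.succ_ne_zero _), one_pow, hodd.neg_one_pow,
        hodd.add_one.neg_one_pow, ((even_two_mul (3 ^ m)).add_one).neg_one_pow, zero_add, add_zero, neg_zero,
        neg_neg, hz _ (hn 0 (by omega)), hz _ (hn 1 (by omega)), hz _ (hn 3 (by omega)), hz _ (hn 4 (by omega)),
        hz _ (hn 5 (by omega)), hz _ (hn 6 (by omega)), hz _ (hn 7 (by omega)), hz _ (hn 8 (by omega)),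
        hz _ (hn 10 (by omega)), one_mul, mul_one, mul_assoc]
      norm_num [one_add_one_eq_two]
    rw [hsplit]
    exact mul_mem (mul_mem (mul_mem (gens_mem hK (Or.inl ⟨_, _, _, rfl⟩)) (gens_mem hK (Or.inr ⟨_, _, _, rfl⟩)))
      (gens_mem hK (Or.inl ⟨_, _, _, rfl⟩))) (gens_mem hK (Or.inr ⟨_, _, _, rfl⟩))
  · rintro (i | s)
    · simp [hDiag, scale]
    · show φ (hDiag (Sum.inr s)) = ((∏ i : Fin 2, par m (-1 : Kˣ) i ^ (T2).ca i.val s.val : Kˣ) : K)
      rw [Fin.prod_univ_two]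
      simp only [par, Matrix.cons_val_zero, Matrix.cons_val_one, hDiag, Sum.elim_inr, hodd.neg_one_pow,
        Fin.val_zero, Fin.val_one, ← zpow_add]
      rcases Int.even_or_odd ((T2).ca 0 s.val + (T2).ca 1 s.val) with h | h
      · rw [if_pos (Int.even_iff.mp h), h.neg_one_zpow, map_one, Units.val_one]
      · rw [if_neg (by rw [Int.odd_iff.mp h]; decide), h.neg_one_zpow, map_neg, map_one, Units.val_neg,
          Units.val_one]

omit hK [Field K] [Finite K] in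
theorem half_card (m : ℕ) : ∃ k, 3 ^ (2 * m + 1) - 1 = 2 * (2 * k + 1) := by
  induction m with
  | zero => exact ⟨0, rfl⟩
  | succ m ih =>
    obtain ⟨k, hk⟩ := ih
    refine ⟨9 * k + 6, ?_⟩
    have h1 : 1 ≤ 3 ^ (2 * m + 1) := Nat.one_le_pow _ _ (by norm_num)
    rw [show 2 * (m + 1) + 1 = (2 * m + 1) + 2 by ring, pow_add]
    omega

theorem grp_eq_fix : grp K m = (S hK).fix := by
  refine (gen hK).eq_fix fun h hh => ?_
  obtain ⟨f, hf, rfl⟩ := (diag_fix hK).le (Subgroup.mem_inf.mpr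
    ⟨(Subgroup.mem_inf.mp hh).2, (Subgroup.mem_inf.mp hh).1⟩)
  have e : f = par m (f (1 : Fin 2)) := by
    have : ∀ i : Fin 2, f i = (![f (1 : Fin 2) ^ 3 ^ m, f (1 : Fin 2)] : Fin 2 → Kˣ) i := by
      intro i
      fin_cases i
      · exact (mem_tauFix hK).mp hf
      · rfl
    exact funext this
  rw [e]
  set c := f (1 : Fin 2)
  obtain ⟨k, hk⟩ := half_card m
  have hc : c ^ (2 * (2 * k + 1)) = 1 := by
    rw [← hk, ← hK, ← Nat.card_units]
    exact pow_card_eq_one'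
  have hsq : (c ^ (2 * k + 1) : Kˣ) = 1 ∨ (c ^ (2 * k + 1) : Kˣ) = -1 := by
    rw [mul_comm, pow_mul] at hc
    rcases sq_eq_one_iff.mp (show ((c ^ (2 * k + 1) : Kˣ) : K) ^ 2 = 1 by
      rw [← Units.val_pow_eq_pow_val, hc, Units.val_one]) with h | h
    · exact Or.inl (Units.ext h)
    · exact Or.inr (Units.ext (by rw [h, Units.val_neg, Units.val_one]))
  rcases hsq with h | h
  · have : c = c ^ (k + 1) * c ^ (k + 1) := by
      rw [← pow_add, show k + 1 + (k + 1) = (2 * k + 1) + 1 by ring, pow_succ, h, one_mul]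
    rw [this]
    exact sq_mem hK _
  · have : c = -1 * (c ^ (k + 1) * c ^ (k + 1)) := by
      rw [← pow_add, show k + 1 + (k + 1) = (2 * k + 1) + 1 by ring, pow_succ, h, ← mul_assoc, neg_one_mul,
        neg_neg, one_mul]
    rw [this, par_mul hK, map_mul]
    exact mul_mem (neg_one_mem hK) (sq_mem hK _)

theorem card_diag : Nat.card ↥((T2).datum.diagonalSubgroup K ⊓ (S hK).fix) = 3 ^ (2 * m + 1) - 1 := by
  have h := (data hK).card_map_tauFix
  rw [← diag_fix hK] at h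
  have htriv : (torusHom T2 K).ker ⊓ (data hK).tauFix = ⊥ := by
    rw [(MonoidHom.ker_eq_bot_iff _).mpr (torusHom_injective_of_smith Data.G2.valid Data.G2.chkSmith
      (by decide)), bot_inf_eq]
  rw [htriv, Subgroup.card_bot, one_mul] at h
  let e : ↥(data hK).tauFix ≃ Kˣ :=
    { toFun := fun f => f.1 (1 : Fin 2)
      invFun := fun c => ⟨par m c, par_mem hK c⟩
      left_inv := fun f => Subtype.ext (funext fun (i : Fin 2) => match i with
        | 0 => ((mem_tauFix hK).mp f.2).symm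
        | 1 => rfl)
      right_inv := fun c => rfl }
  rw [h, Nat.card_congr e, Nat.card_units, hK]

theorem ree_split (t u v : K) : (T2).gprod ([6, 7, 8, 9, 10, 11].map fun r => (r, if r = 6 then t else
    if r = 7 then t ^ 3 ^ m else if r = 8 then u ^ 3 ^ m else if r = 9 then v ^ 3 ^ m
    else if r = 10 then u + t ^ (3 * 3 ^ m + 1) else v + t ^ (3 * 3 ^ m + 2))) = ree m t u v := by
  simp [gprod, ree, hi, mul_assoc]

theorem ree_inj {t u v t' u' v' : K} (h : ree m t u v = ree m t' u' v') : t = t' ∧ u = u' ∧ v = v' := by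
  rw [← ree_split hK, ← ree_split hK] at h
  have key := gprod_inj Data.G2.valid Data.G2.chkComm (L := [6, 7, 8, 9, 10, 11]) (by decide)
    (by decide +kernel) _ _ h
  have k6 := key 6 (by simp)
  have k10 := key 10 (by simp)
  have k11 := key 11 (by simp)
  simp at k6 k10 k11
  rw [k6] at k10 k11
  exact ⟨k6, add_right_cancel k10, add_right_cancel k11⟩

theorem card_Uw (w : Equiv.Perm (Fin (T2).n)) (hw : w ∈ (S hK).W1) :
    2 ∣ (T2).invN w ∧ Nat.card ((S hK).Uw w) = (3 ^ (2 * m + 1)) ^ ((T2).invN w / 2) := by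
  refine Tbl.Twist.card_Uw_div (hV hK) two_pos (fun (j : Fin 1) => ?_) w hw
  obtain rfl : j = 0 := Subsingleton.elim _ _
  refine ⟨3, ?_, ?_⟩
  · rw [invN]
    refine Eq.trans (show 2 * 3 = ([6, 7, 8, 9, 10, 11] : List ℕ).toFinset.card by decide) ?_
    symm
    refine Finset.card_bij (fun r _ => r.val) (fun r hr => ?_) (fun a _ b _ h => Fin.ext h) (fun r hr => ?_)
    · rw [Finset.mem_filter] at hr
      rw [List.mem_toFinset]
      exact ((data hK).negSet_iff chk_orbits (0 : Fin 1) negList0 r.val).mp ⟨r.2, hr.2⟩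
    · rw [List.mem_toFinset] at hr
      obtain ⟨h1, h2⟩ := ((data hK).negSet_iff chk_orbits (0 : Fin 1) negList0 r).mpr hr
      exact ⟨⟨r, h1⟩, Finset.mem_filter.mpr ⟨Finset.mem_univ _, h2⟩, rfl⟩
  · rw [← hK, show Nat.card K ^ 3 = Nat.card (K × K × K) by rw [Nat.card_prod, Nat.card_prod]; ring]
    refine (Nat.card_eq_of_bijective (fun p : K × K × K => (⟨_, ree_mem_Uw hK p.1 p.2.1 p.2.2⟩ :
      ↥((S hK).Uw ((S hK).wJ (O hK) (0 : Fin 1))))) ⟨fun p p' h => ?_, fun ⟨x, hx⟩ => ?_⟩).symm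
    · obtain ⟨a, b, c⟩ := ree_inj hK (congrArg Subtype.val h)
      exact Prod.ext a (Prod.ext b c)
    · obtain ⟨t, u, v, rfl⟩ := exists_ree hK hx
      exact ⟨(t, u, v), rfl⟩

theorem pos_eq_Uw :
    (T2).datum.posUnipotent K ⊓ (S hK).fix = (S hK).Uw ((S hK).wJ (O hK) (0 : Fin 1)) := by
  rw [posUnipotent_rootGen Data.G2.valid, inf_comm, Tbl.Twist.Uw]
  congr 1
  refine le_antisymm (rootGen_mono fun r hr hp => ?_) (rootGen_mono fun r _ ⟨_, h, _⟩ => h)
  refine ((data hK).negSet_iff chk_orbits (0 : Fin 1) negList0 r).mpr ?_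
  have : ∀ r < (T2).n, (T2).half ≤ r → r ∈ [6, 7, 8, 9, 10, 11] := by decide +kernel
  exact this r hr hp

theorem card_Upos : Nat.card ↥((T2).datum.posUnipotent K ⊓ (S hK).fix) = (3 ^ (2 * m + 1)) ^ 3 := by
  rw [pos_eq_Uw hK, (card_Uw hK _ ((S hK).wJ_mem (O hK) (0 : Fin 1))).2]
  congr 1
  have : (T2).invN ((S hK).wJ (O hK) (0 : Fin 1)) = 6 := by
    rw [invN, show (6 : ℕ) = ([6, 7, 8, 9, 10, 11] : List ℕ).toFinset.card by decide]
    refine Finset.card_bij (fun r _ => r.val) (fun r hr => ?_) (fun a _ b _ h => Fin.ext h) (fun r hr => ?_)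
    · rw [Finset.mem_filter] at hr
      rw [List.mem_toFinset]
      exact ((data hK).negSet_iff chk_orbits (0 : Fin 1) negList0 r.val).mp ⟨r.2, hr.2⟩
    · rw [List.mem_toFinset] at hr
      obtain ⟨h1, h2⟩ := ((data hK).negSet_iff chk_orbits (0 : Fin 1) negList0 r).mpr hr
      exact ⟨⟨r, h1⟩, Finset.mem_filter.mpr ⟨Finset.mem_univ _, h2⟩, rfl⟩
  rw [this]

theorem card_eq : Nat.card ↥(grp K m) =
    (3 ^ (2 * m + 1)) ^ 3 * (3 ^ (2 * m + 1) - 1) * ((3 ^ (2 * m + 1)) ^ 3 + 1) := by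
  classical
  have := Fintype.ofFinite ↥(S hK).W1
  rw [show Nat.card ↥(grp K m) = Nat.card ↥(S hK).fix by rw [grp_eq_fix hK], Tbl.Twist.card_fix (hV hK),
    card_Upos hK, card_diag hK,
    Finset.sum_congr rfl fun (w : ↥(S hK).W1) _ => (card_Uw hK w.1 w.2).2]
  have hs := (data hK).sum_W1 chk_orbits (words := Data.G2.orbWords) rfl Data.G2.chk_elts (3 ^ (2 * m + 1))
  rw [show Data.G2.elts.e = 2 from rfl, show Data.G2.elts.hist = [1, 0, 0, 1] by decide +kernel] at hs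
  simp only [pEval] at hs
  refine congrArg₂ (· * ·) rfl ?_
  apply Nat.cast_injective (R := ℤ)
  refine Eq.trans ?_ (hs.trans (by push_cast; ring))
  congr 1
  exact Finset.sum_congr (by ext; simp) fun _ _ => rfl

theorem hc (h : GL (T2).I K) (hh : h ∈ (T2).datum.diagonalSubgroup K) (_ : h ∈ (S hK).fix)
    (hcomm : ∀ u ∈ (S hK).fix, u ∈ (T2).rootGen K (fun r => (T2).half ≤ r) → h * u = u * h) : h = 1 := by
  have hT : (T2).Valid := Data.G2.valid
  obtain ⟨χ, hχ, rfl⟩ := diag_exists_char hT hh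
  have hpos : ∀ r ∈ [6, 7, 8, 9, 10, 11], r < (T2).n ∧ (T2).half ≤ r := by decide +kernel
  have hmem : ree m 1 0 0 ∈ (T2).rootGen K (fun r => (T2).half ≤ r) := by
    rw [← word_eq hK]
    exact gprod_mem fun p hp => hpos _ (ree_pos hK _ _ _ p hp)
  have e1 := hcomm _ (ree_fix hK 1 0 0) hmem
  rw [← ree_split hK, dU_gprod hT hχ (fun p hp => by
    obtain ⟨r, hr, rfl⟩ := List.mem_map.mp hp
    exact (hpos r hr).1)] at e1
  have e2 := mul_right_cancel e1
  rw [List.map_map] at e2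
  have key := gprod_inj hT Data.G2.chkComm (L := [6, 7, 8, 9, 10, 11]) (by decide) (by decide +kernel) _ _ e2
  have k6 := key 6 (by simp)
  have k7 := key 7 (by simp)
  simp at k6 k7
  refine dU_eq_one_of_simple hT hχ fun i hi => Units.ext ?_
  have hs : ∀ i < (T2).rank, (T2).simple i = 7 ∨ (T2).simple i = 6 := by decide +kernel
  rcases hs i hi with h' | h' <;> rw [h', Units.val_one]
  · simpa using k7
  · simpa using k6

theorem comm_mem {x y : GL (T2).I K} (hx : x ∈ grp K m) (hy : y ∈ grp K m) :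
    x * y * x⁻¹ * y⁻¹ ∈ ⁅grp K m, grp K m⁆ := by
  rw [← commutatorElement_def]
  exact Subgroup.commutator_mem_commutator hx hy

theorem conj_ree (c : Kˣ) (t u v : K) :
    torusHom T2 K (par m c) * ree m t u v * (torusHom T2 K (par m c))⁻¹ =
      ree m ((c : K) ^ 2 * ((c : K) ^ (3 * 3 ^ m))⁻¹ * t) ((c : K) ^ (3 * 3 ^ m) * (c : K)⁻¹ * u) (c * v) := by
  have hpos : ∀ r ∈ [6, 7, 8, 9, 10, 11], r < (T2).n := by decide +kernel
  show (T2).dU (fun s => ∏ i, par m c i ^ (T2).ca i s) * _ * ((T2).dU _)⁻¹ = _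
  rw [← ree_split hK, dU_gprod Data.G2.valid (isChar_prod Data.G2.valid _) (fun p hp => by
    obtain ⟨r, hr, rfl⟩ := List.mem_map.mp hp
    exact hpos r hr), mul_inv_cancel_right, ← ree_split hK, List.map_map]
  have hchi : ∀ (r : ℕ) (a b : ℤ), (T2).ca 0 r = a → (T2).ca 1 r = b →
      ((∏ i : Fin (T2).rank, par m c i ^ (T2).ca i r : Kˣ) : K) = ((c : K) ^ 3 ^ m) ^ a * (c : K) ^ b := by
    intro r a b ha hb
    show ((∏ i : Fin 2, par m c i ^ (T2).ca i.val r : Kˣ) : K) = _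
    rw [Fin.prod_univ_two, Fin.val_zero, Fin.val_one, ha, hb]
    simp [par, Units.val_zpow_eq_zpow_val]
  have x6 := hchi 6 (-3) 2 (by decide +kernel) (by decide +kernel)
  have x7 := hchi 7 2 (-1) (by decide +kernel) (by decide +kernel)
  have x8 := hchi 8 (-1) 1 (by decide +kernel) (by decide +kernel)
  have x9 := hchi 9 1 0 (by decide +kernel) (by decide +kernel)
  have x10 := hchi 10 3 (-1) (by decide +kernel) (by decide +kernel)
  have x11 := hchi 11 0 1 (by decide +kernel) (by decide +kernel)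
  refine congrArg (T2).gprod (List.map_congr_left fun r hr => ?_)
  have hc : (c : K) ≠ 0 := c.ne_zero
  have hC : (c : K) ^ 3 ^ m ≠ 0 := pow_ne_zero _ hc
  have h3e : (c : K) ^ (3 * 3 ^ m) = ((c : K) ^ 3 ^ m) ^ 3 := by rw [← pow_mul, mul_comm]
  have hA : ((c : K) ^ 2 * ((c : K) ^ (3 * 3 ^ m))⁻¹) ^ 3 ^ m = ((c : K) ^ 3 ^ m) ^ 2 * (c : K)⁻¹ := by
    rw [mul_pow, inv_pow, pow_theta' hK, ← pow_mul, ← pow_mul, mul_comm 2]
  have hB : ((c : K) ^ (3 * 3 ^ m) * (c : K)⁻¹) ^ 3 ^ m = (c : K) * ((c : K) ^ 3 ^ m)⁻¹ := by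
    rw [mul_pow, inv_pow, pow_theta' hK]
  have hA3 : ((c : K) ^ 2 * ((c : K) ^ (3 * 3 ^ m))⁻¹) ^ (3 * 3 ^ m) =
      (((c : K) ^ 3 ^ m) ^ 2 * (c : K)⁻¹) ^ 3 := by
    rw [mul_comm 3 (3 ^ m), pow_mul, mul_comm (3 ^ m) 3, hA]
  simp only [List.mem_cons, List.not_mem_nil, or_false] at hr
  rcases hr with rfl | rfl | rfl | rfl | rfl | rfl <;> refine Prod.ext rfl ?_ <;>
    simp only [Function.comp_apply, x6, x7, x8, x9, x10, x11] <;>
    simp only [if_true, if_false, reduceIte, Nat.reduceEqDiff, zpow_neg, zpow_ofNat, pow_zero, pow_one,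
      one_mul, mul_one]
  · rw [h3e]; ring
  · rw [mul_pow, hA]
  · rw [mul_pow, hB]; ring
  · rw [mul_pow]
  · rw [mul_pow, pow_succ (_ * _) (3 * 3 ^ m), hA3, h3e]; field_simp
  · rw [mul_pow, pow_add (_ * _) (3 * 3 ^ m), hA3, h3e]; field_simp

theorem move6 (t : K) {R : GL (T2).I K} (hR : R ∈ (T2).rootGen K (fun r => 7 ≤ r)) :
    ((T2).xU K 6 t)⁻¹ * R * (T2).xU K 6 t ∈ (T2).rootGen K (fun r => 7 ≤ r) := by
  suffices (T2).rootGen K (fun r => 7 ≤ r) ≤
      ((T2).rootGen K (fun r => 7 ≤ r)).comap (MulAut.conj ((T2).xU K 6 t)⁻¹).toMonoidHom by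
    have h : MulAut.conj ((T2).xU K 6 t)⁻¹ R ∈ (T2).rootGen K (fun r => 7 ≤ r) := this hR
    simpa [MulAut.conj_apply] using h
  refine rootGen_le fun r hr h7 u => ?_
  show ((T2).xU K 6 t)⁻¹ * (T2).xU K r u * ((T2).xU K 6 t)⁻¹⁻¹ ∈ (T2).rootGen K (fun r => 7 ≤ r)
  have key : ∀ r < (T2).n, 7 ≤ r → r ≠ 6 ∧ r ≠ (T2).neg 6 ∧ ∀ c ∈ (T2).commT 6 r, c.1 < (T2).n ∧ 7 ≤ c.1 := by
    decide +kernel
  obtain ⟨hne, hneg, hcs⟩ := key r hr h7
  rw [inv_inv, mul_assoc, comm_xU Data.G2.valid Data.G2.chkComm (show 6 < (T2).n from lt_n.1) hr hne hneg,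
    ← mul_assoc, inv_mul_cancel_left]
  refine mul_mem (xU_mem_rootGen hr h7 _) (list_prod_mem fun x hx => ?_)
  obtain ⟨c, hc, rfl⟩ := List.mem_map.mp hx
  exact xU_mem_rootGen (hcs c hc).1 (hcs c hc).2 _

theorem ree_mul_fst (t u v t' u' v' t'' u'' v'' : K)
    (h : ree m t u v * ree m t' u' v' = ree m t'' u'' v'') : t'' = t + t' := by
  have hT : (T2).Valid := Data.G2.valid
  obtain ⟨h6, h7, h8, h9, h10, h11⟩ := lt_n
  have hrest : ∀ t u v : K, (T2).xU K 7 (t ^ 3 ^ m) * hi (u ^ 3 ^ m) (v ^ 3 ^ m) (u + t ^ (3 * 3 ^ m + 1))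
      (v + t ^ (3 * 3 ^ m + 2)) ∈ (T2).rootGen K (fun r => 7 ≤ r) := fun t u v =>
    mul_mem (xU_mem_rootGen h7 le_rfl _) (mul_mem
      (mul_mem (xU_mem_rootGen h8 (by omega) _) (xU_mem_rootGen h9 (by omega) _))
      (mul_mem (xU_mem_rootGen h10 (by omega) _) (xU_mem_rootGen h11 (by omega) _)))
  simp only [ree, mul_assoc] at h
  set R := (T2).xU K 7 (t ^ 3 ^ m) * hi (u ^ 3 ^ m) (v ^ 3 ^ m) (u + t ^ (3 * 3 ^ m + 1))
      (v + t ^ (3 * 3 ^ m + 2))
  set R' := (T2).xU K 7 (t' ^ 3 ^ m) * hi (u' ^ 3 ^ m) (v' ^ 3 ^ m) (u' + t' ^ (3 * 3 ^ m + 1))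
      (v' + t' ^ (3 * 3 ^ m + 2))
  have e : (T2).xU K 6 t * (R * ((T2).xU K 6 t' * R')) =
      (T2).xU K 6 (t + t') * ((((T2).xU K 6 t')⁻¹ * R * (T2).xU K 6 t') * R') := by
    rw [← xU_add hT h6]; group
  have e2 := e.symm.trans (Eq.trans (by simp only [R, R', mul_assoc]) h)
  exact (xU_mul_inj hT Data.G2.chkComm (show (T2).half ≤ 6 from le_rfl) h6 (mul_mem (move6 hK t' (hrest t u v))
    (hrest t' u' v')) (hrest t'' u'' v'') e2).1.symm

theorem ree0_mul (u v u' v' : K) : ree m 0 u v * ree m 0 u' v' = ree m 0 (u + u') (v + v') := by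
  have h1 : 3 * 3 ^ m + 1 ≠ 0 := by positivity
  have h2 : 3 * 3 ^ m + 2 ≠ 0 := by positivity
  have h0 : (3 : ℕ) ^ m ≠ 0 := by positivity
  simp only [ree, zero_pow h1, zero_pow h2, zero_pow h0, add_zero, xU_zero Data.G2.valid lt_n.1,
    xU_zero Data.G2.valid lt_n.2.1, one_mul, hi_mul hK, add_pow3 hK]

theorem ree0_one : ree m (0 : K) 0 0 = 1 := by
  have h := ree0_mul hK (0 : K) 0 0 0
  rw [add_zero] at h
  exact mul_eq_left.mp h

theorem ree_factor (t u v : K) : ree m t u v = ree m t 0 0 * ree m 0 u v := by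
  have h1 : 3 * 3 ^ m + 1 ≠ 0 := by positivity
  have h2 : 3 * 3 ^ m + 2 ≠ 0 := by positivity
  have h0 : (3 : ℕ) ^ m ≠ 0 := by positivity
  simp only [ree, zero_pow h1, zero_pow h2, zero_pow h0, add_zero, zero_add, xU_zero Data.G2.valid lt_n.1,
    xU_zero Data.G2.valid lt_n.2.1, one_mul, mul_assoc, hi_mul hK]
  congr 3 <;> ring

theorem exists_gen_unit (hm : 1 ≤ m) : ∃ c : Kˣ, (c : K) ≠ 1 ∧ (c : K) ^ (3 * 3 ^ m) ≠ c ∧
    (c : K) ^ 2 ≠ (c : K) ^ (3 * 3 ^ m) := by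
  obtain ⟨c, hc⟩ := IsCyclic.exists_ofOrder_eq_natCard (α := Kˣ)
  rw [Nat.card_units, hK] at hc
  have h3 : 3 ≤ 3 ^ m := le_self_pow₀ (by norm_num) (by omega)
  have hlt : 3 * 3 ^ m < 3 ^ (2 * m + 1) - 1 := by
    rw [show 3 ^ (2 * m + 1) = 3 * (3 ^ m * 3 ^ m) by ring]
    have := Nat.mul_le_mul_right (3 ^ m) h3
    omega
  have key : ∀ a b, a < b → b ≤ 3 * 3 ^ m → (c : K) ^ a ≠ (c : K) ^ b := by
    intro a b hab hb h
    have := pow_injOn_Iio_orderOf (x := c) (show a ∈ Set.Iio (orderOf c) by rw [Set.mem_Iio, hc]; omega)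
      (show b ∈ Set.Iio (orderOf c) by rw [Set.mem_Iio, hc]; omega) (Units.ext (by simpa using h))
    omega
  refine ⟨c, ?_, ?_, key 2 _ (by omega) le_rfl⟩
  · have := key 0 1 (by omega) (by omega); simpa using this.symm
  · have := key 1 (3 * 3 ^ m) (by omega) le_rfl; simpa using this.symm

theorem perfect (hm : 1 ≤ m) : commutator ↥(grp K m) = ⊤ := by
  obtain ⟨c, hc1, hcu, hct⟩ := exists_gen_unit hK hm
  have hh : torusHom T2 K (par m c) ∈ grp K m := by
    rw [grp_eq_fix hK]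
    exact ((diag_fix hK).ge (Subgroup.mem_map_of_mem _ (par_mem hK c))).2
  set a := (c : K) ^ 2 * ((c : K) ^ (3 * 3 ^ m))⁻¹ with ha
  set b := (c : K) ^ (3 * 3 ^ m) * (c : K)⁻¹ with hb
  have hc0 : (c : K) ≠ 0 := c.ne_zero
  have ha1 : a - 1 ≠ 0 := sub_ne_zero.mpr fun h => hct (by
    rw [ha, mul_inv_eq_one₀ (pow_ne_zero _ hc0)] at h; exact h)
  have hb1 : b - 1 ≠ 0 := sub_ne_zero.mpr fun h => hcu (by
    rw [hb, mul_inv_eq_one₀ hc0] at h; exact h)
  have hv1 : (c : K) - 1 ≠ 0 := sub_ne_zero.mpr hc1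
  have h0 : ∀ u v, ree m 0 u v ∈ ⁅grp K m, grp K m⁆ := by
    intro u v
    have := comm_mem hK hh (gens_mem hK (Or.inl ⟨0, u * (b - 1)⁻¹, v * ((c : K) - 1)⁻¹, rfl⟩))
    rw [conj_ree hK, mul_zero] at this
    have hinv : (ree m 0 (u * (b - 1)⁻¹) (v * ((c : K) - 1)⁻¹))⁻¹ =
        ree m 0 (-(u * (b - 1)⁻¹)) (-(v * ((c : K) - 1)⁻¹)) := by
      refine inv_eq_of_mul_eq_one_right ?_
      rw [ree0_mul hK, add_neg_cancel, add_neg_cancel, ree0_one hK]
    rw [hinv, ree0_mul hK, ← hb] at this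
    rwa [show b * (u * (b - 1)⁻¹) + -(u * (b - 1)⁻¹) = u by field_simp; ring,
      show (c : K) * (v * ((c : K) - 1)⁻¹) + -(v * ((c : K) - 1)⁻¹) = v by field_simp; ring] at this
  have hp : ∀ t u v, ree m t u v ∈ ⁅grp K m, grp K m⁆ := by
    intro t u v
    set s := t * (a - 1)⁻¹
    have hmem := comm_mem hK hh (gens_mem hK (Or.inl ⟨s, 0, 0, rfl⟩))
    rw [conj_ree hK, ← ha, mul_zero, mul_zero] at hmem
    obtain ⟨t', u', v', e⟩ := exists_ree hK (x := ree m (a * s) 0 0 * (ree m s 0 0)⁻¹)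
      (mul_mem (ree_mem_Uw hK _ _ _) (inv_mem (ree_mem_Uw hK _ _ _)))
    have ht : t' = t := by
      have h1 := ree_mul_fst hK t' u' v' s 0 0 (a * s) 0 0 (by rw [← e, inv_mul_cancel_right])
      have h2 : t' = (a - 1) * s := by linear_combination -h1
      rw [h2]
      simp only [s]
      field_simp
    rw [e, ht, ree_factor hK] at hmem
    have h2 := mul_mem (mul_mem hmem (inv_mem (h0 u' v'))) (h0 u v)
    rw [mul_inv_cancel_right, ← ree_factor hK] at h2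
    exact h2
  have hle : grp K m ≤ ⁅grp K m, grp K m⁆ := by
    have hnegV : ∀ t u v : K, rev m t u v ∈ ⁅grp K m, grp K m⁆ := by
      intro t u v
      set x := rev m t u v
      have hx : x ∈ grp K m := gens_mem hK (Or.inr ⟨t, u, v, rfl⟩)
      obtain ⟨n, hnG, hnN, hm'⟩ := (gen hK).exists_nJ (0 : Fin 1)
      have hnG' : n ∈ grp K m := hnG
      have h1 : n * x * n⁻¹ ∈ (S hK).Uw ((S hK).wJ (O hK) (0 : Fin 1)) := by
        refine Subgroup.mem_inf.mpr ⟨mul_mem (mul_mem (le_fix hK hnG') (le_fix hK hx))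
          (inv_mem (le_fix hK hnG')), ?_⟩
        refine conj_mem_rootGen Data.G2.valid hm' (fun r ⟨_, h1, h2⟩ => ?_) (rev_VJ hK t u v)
        refine ⟨Fin.isLt _, h2, ?_⟩
        simp only [Fin.eta]
        exact lt_of_eq_of_lt (congrArg Fin.val ((S hK).wJ_wJ (O hK) (0 : Fin 1) r)) h1
      obtain ⟨t', u', v', e⟩ := exists_ree hK h1
      have h4 : n * x * n⁻¹ ∈ ⁅grp K m, grp K m⁆ := e ▸ hp t' u' v'
      have h5 : ∀ a b, a ∈ grp K m → b ∈ ⁅grp K m, grp K m⁆ → a * b * a⁻¹ ∈ ⁅grp K m, grp K m⁆ :=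
        fun a b ha hb => by
          have h4 := Subgroup.commutator_le_self (grp K m) hb
          rw [show a * b * a⁻¹ = (a * b * a⁻¹ * b⁻¹) * b by group]
          exact mul_mem (comm_mem hK ha h4) hb
      have h6 := h5 n⁻¹ _ (inv_mem hnG') h4
      rwa [show n⁻¹ * (n * x * n⁻¹) * n⁻¹⁻¹ = x by group] at h6
    conv_lhs => rw [grp_eq hK]
    rw [Subgroup.closure_le]
    rintro x (⟨t, u, v, rfl⟩ | ⟨t, u, v, rfl⟩)
    · exact hp t u v
    · exact hnegV t u v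
  apply Subgroup.map_injective (grp K m).subtype_injective
  rw [Subgroup.map_subtype_commutator, ← MonoidHom.range_eq_map, Subgroup.range_subtype]
  exact le_antisymm (Subgroup.commutator_le_self _) hle

theorem simple (hm : 1 ≤ m) : IsSimpleGroup ↥(grp K m) ∧ ¬ IsMulCommutative ↥(grp K m) := by
  have hperf := perfect hK hm
  have hne : Nontrivial ↥(S hK).fix :=
    ⟨⟨⟨_, neg_fix hK (1 : K) 0 0⟩, 1, fun e => rev_ne_one hK (congrArg Subtype.val e)⟩⟩
  refine ⟨?_, fun hcm => ?_⟩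
  · rw [grp_eq_fix hK] at hperf ⊢
    refine Tbl.Twist.isSimpleGroup_fix (hV hK) (fun J ha hb => ?_) (hc hK) hne hperf
    obtain ⟨a, ha⟩ := ha
    obtain ⟨b, hb⟩ := hb
    have : ∀ a b : Fin 1, a = b := fun a b => Subsingleton.elim a b
    rw [this a b, hb] at ha
    exact absurd ha Bool.false_ne_true
  · have hnt : Nontrivial ↥(grp K m) := by rw [grp_eq_fix hK]; exact hne
    have h2 : commutator ↥(grp K m) = ⊥ := by
      rw [commutator_def, Subgroup.commutator_eq_bot_iff_le_centralizer]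
      intro x _ y _
      exact hcm.is_comm.comm y x
    rw [hperf] at h2
    exact top_ne_bot h2

theorem weylHom :
    ∃ φ : ↥((T2).datum.monomialSubgroup K ⊓ (S hK).fix) →* Multiplicative (ZMod 2), Function.Surjective φ ∧
      φ.ker = ((T2).datum.diagonalSubgroup K ⊓ (S hK).fix).subgroupOf
        ((T2).datum.monomialSubgroup K ⊓ (S hK).fix) := by
  have hc : Nat.card ↥(S hK).W1 = 2 := by
    rw [(data hK).card_W1 chk_orbits (words := Data.G2.orbWords) rfl Data.G2.chk_elts]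
    rfl
  have : Fact (Nat.Prime 2) := ⟨Nat.prime_two⟩
  let f : ↥(S hK).W1 ≃* Multiplicative (ZMod 2) := mulEquivOfPrimeCardEq (p := 2) hc (by simp)
  refine ⟨f.toMonoidHom.comp (S hK).wHom1, f.surjective.comp (Tbl.Twist.wHom1_surjective (hV hK)), ?_⟩
  rw [← (S hK).wHom1_ker]
  ext x
  simp [MonoidHom.mem_ker]

/-- Properties of the fixed points are properties of the group of the table. -/
theorem transfer (P : ∀ D : Cfsg.Lie.ChevalleyDatum, Subgroup (GL D.Idx K) → Prop)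
    (h : P (T2).datum (S hK).fix) : P Cfsg.Lie.chevG2 (Cfsg.Lie.twistedG2 K (3 ^ m)) := by
  rw [← grp_eq_fix hK, grp] at h
  show P Cfsg.Lie.chevG2 (Cfsg.Lie.chevG2.genSubgroup K (Cfsg.Lie.g2Words K (3 ^ m)))
  rw [← Data.G2.datum_eq]
  exact h

end CfsgLib.Chevalley.Twist.G2
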