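import Mathlib

/-!
Generalities on cyclic subgroups with trivial intersections.
-/

set_option autoImplicit false

namespace CfsgLib.Chevalley.Twist.ToriGen

variable {G : Type*} [Group G] [Finite G]

/-- A subgroup with the full `p`-part contains a Sylow subgroup. -/
theorem exists_sylow_le {p : ℕ} [Fact p.Prime] (A : Subgroup G)
    (hA : (Nat.card ↥A).factorization p = (Nat.card G).factorization p) : ∃ P : Sylow p G, (P : Subgroup G) ≤ A := by
  obtain ⟨Q⟩ : Nonempty (Sylow p ↥A) := inferInstance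
  have hc : Nat.card ↥((Q : Subgroup ↥A).map A.subtype) = p ^ (Nat.card G).factorization p := by
    rw [Subgroup.card_map_of_injective A.subtype_injective, Q.card_eq_multiplicity, hA]
  exact ⟨Sylow.ofCard _ hc, Subgroup.map_subtype_le _⟩

theorem conj_into {p : ℕ} [Fact p.Prime] (A : Subgroup G)
    (hA : (Nat.card ↥A).factorization p = (Nat.card G).factorization p) {y : G} {k : ℕ}
    (hy : orderOf y = p ^ k) : ∃ g : G, g * y * g⁻¹ ∈ A := by
  obtain ⟨P, hP⟩ := exists_sylow_le A hA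
  have hy' : IsPGroup p ↥(Subgroup.zpowers y) := IsPGroup.of_card (by rw [Nat.card_zpowers, hy])
  obtain ⟨Q, hQ⟩ := hy'.exists_le_sylow
  obtain ⟨g, hg⟩ := MulAction.exists_smul_eq G Q P
  refine ⟨g, hP ?_⟩
  rw [← hg]
  exact ⟨y, hQ (Subgroup.mem_zpowers y), rfl⟩

theorem sylow_cyclic {p : ℕ} [Fact p.Prime] (A : Subgroup G) [IsCyclic ↥A]
    (hA : (Nat.card ↥A).factorization p = (Nat.card G).factorization p) (P : Sylow p G) :
    IsCyclic ↥(P : Subgroup G) := by
  obtain ⟨Q, hQ⟩ := exists_sylow_le A hA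
  obtain ⟨g, hg⟩ := MulAction.exists_smul_eq G P Q
  have h1 : IsCyclic ↥(Q : Subgroup G) :=
    isCyclic_of_injective (Subgroup.inclusion hQ) (Subgroup.inclusion_injective hQ)
  subst hg
  exact isCyclic_of_surjective (Sylow.equiv (g • P) P).toMonoidHom (Sylow.equiv (g • P) P).surjective

theorem mem_of_pow {A B : Subgroup G} [IsCyclic ↥A] (hBA : B ≤ A) {x : G} (hx : x ∈ A)
    (h : x ^ Nat.card ↥B = 1) : x ∈ B := by
  classical
  have : Fintype ↥A := Fintype.ofFinite _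
  set n := Nat.card ↥B
  let s : Finset ↥A := Finset.univ.filter fun a => a ^ n = 1
  let t : Finset ↥A := Finset.univ.filter fun a => a.1 ∈ B
  have hts : t ⊆ s := fun a ha => by
    rw [Finset.mem_filter] at ha ⊢
    refine ⟨Finset.mem_univ _, Subtype.ext ?_⟩
    rw [Subgroup.coe_pow, OneMemClass.coe_one]
    exact congrArg Subtype.val (pow_card_eq_one' (x := (⟨a.1, ha.2⟩ : ↥B)))
  have ht : t.card = n := by
    show t.card = Nat.card ↥B
    rw [← Nat.card_congr (Subgroup.subgroupOfEquivOfLe hBA).toEquiv, Nat.card_eq_fintype_card]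
    exact (Fintype.card_of_subtype t (by simp [t, Subgroup.mem_subgroupOf])).symm
  have he : t = s := Finset.eq_of_subset_of_card_le hts (by
    rw [ht]
    refine le_trans (le_of_eq ?_) (IsCyclic.card_pow_eq_one_le (α := ↥A) Nat.card_pos)
    congr 1)
  have : (⟨x, hx⟩ : ↥A) ∈ t := he ▸ Finset.mem_filter.mpr ⟨Finset.mem_univ _, Subtype.ext h⟩
  exact (Finset.mem_filter.mp this).2

theorem mem_normalizer_of_conj {B : Subgroup G} {g : G} (h : ∀ b ∈ B, g * b * g⁻¹ ∈ B) :
    g ∈ Subgroup.normalizer (B : Set G) := by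
  rw [Subgroup.mem_normalizer_iff]
  refine fun x => ⟨h x, fun hx => ?_⟩
  have e : B.map (MulAut.conj g).toMonoidHom = B :=
    Subgroup.eq_of_le_of_card_ge (by rintro _ ⟨b, hb, rfl⟩; exact h b hb)
      (by rw [Subgroup.card_map_of_injective (MulEquiv.injective _)])
  obtain ⟨b, hb, hbe⟩ := e.symm.le hx
  have : b = x := by simpa using hbe
  exact this ▸ hb

theorem normalizer_mono {A B : Subgroup G} [IsCyclic ↥A] (hBA : B ≤ A) :
    Subgroup.normalizer (A : Set G) ≤ Subgroup.normalizer (B : Set G) := fun g hg => by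
  refine mem_normalizer_of_conj fun b hb => ?_
  refine mem_of_pow hBA ((Subgroup.mem_normalizer_iff.mp hg b).mp (hBA hb)) ?_
  rw [conj_pow, show b ^ Nat.card ↥B = 1 from congrArg Subtype.val (pow_card_eq_one' (x := (⟨b, hb⟩ : ↥B))),
    mul_one, mul_inv_cancel]

/-- A subgroup whose elements `d` have `A` as centraliser, normalisers. -/
theorem normalizer_ti {A A₀ : Subgroup G} [IsCyclic ↥A] (hle : A₀ ≤ A) (hne : A₀ ≠ ⊥)
    (hP : ∀ a ∈ A, a ≠ 1 → ∀ g : G, g * a * g⁻¹ ∈ A → g ∈ Subgroup.normalizer (A : Set G)) :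
    Subgroup.normalizer (A₀ : Set G) = Subgroup.normalizer (A : Set G) := by
  refine le_antisymm (fun g hg => ?_) (normalizer_mono hle)
  obtain ⟨a, ha, ha1⟩ := (Subgroup.bot_or_exists_ne_one A₀).resolve_left hne
  exact hP a (hle ha) ha1 g (hle ((Subgroup.mem_normalizer_iff.mp hg a).mp ha))

omit [Finite G] in
/-- The conjugates of a set. -/
def conjUnion (D : Set G) : Set G := {x | ∃ g : G, ∃ d ∈ D, g * d * g⁻¹ = x}

omit [Finite G] in
/-- The number of elements in the conjugates. -/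
theorem ti_count (N : Subgroup G) (D : Set G) (hN : ∀ n ∈ N, ∀ d ∈ D, n * d * n⁻¹ ∈ D)
    (hT : ∀ g : G, ∀ d ∈ D, g * d * g⁻¹ ∈ D → g ∈ N) :
    Nat.card ↥(conjUnion D) * Nat.card ↥N = Nat.card G * Nat.card ↥D := by
  classical
  have hex : ∀ x : ↥(conjUnion D), ∃ g : G, g⁻¹ * x.1 * g ∈ D := by
    rintro ⟨x, g, d, hd, rfl⟩
    exact ⟨g, by simpa [mul_assoc] using hd⟩
  choose r hr using hex
  let f : G × ↥D → ↥(conjUnion D) := fun p => ⟨p.1 * p.2.1 * p.1⁻¹, p.1, p.2.1, p.2.2, rfl⟩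
  have hmem : ∀ p : G × ↥D, (r (f p))⁻¹ * p.1 ∈ N := by
    intro p
    refine hT _ p.2.1 p.2.2 ?_
    have h := hr (f p)
    simpa [f, mul_assoc] using h
  rw [← Nat.card_prod, ← Nat.card_prod]
  refine (Nat.card_congr
    { toFun := fun p => (f p, ⟨(r (f p))⁻¹ * p.1, hmem p⟩)
      invFun := fun q => (r q.1 * q.2.1, ⟨q.2.1⁻¹ * ((r q.1)⁻¹ * q.1.1 * r q.1) * q.2.1, by
        have := hN _ (inv_mem q.2.2) _ (hr q.1)
        rwa [inv_inv] at this⟩)
      left_inv := fun p => ?_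
      right_inv := fun q => ?_ }).symm
  · refine Prod.ext (mul_inv_cancel_left _ _) (Subtype.ext ?_)
    show ((r (f p))⁻¹ * p.1)⁻¹ * ((r (f p))⁻¹ * (p.1 * p.2.1 * p.1⁻¹) * r (f p)) *
      ((r (f p))⁻¹ * p.1) = p.2.1
    group
  · have e : f (r q.1 * q.2.1, ⟨q.2.1⁻¹ * ((r q.1)⁻¹ * q.1.1 * r q.1) * q.2.1, by
        have := hN _ (inv_mem q.2.2) _ (hr q.1)
        rwa [inv_inv] at this⟩) = q.1 := Subtype.ext (by
      show r q.1 * q.2.1 * (q.2.1⁻¹ * ((r q.1)⁻¹ * q.1.1 * r q.1) * q.2.1) * (r q.1 * q.2.1)⁻¹ = q.1.1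
      group)
    refine Prod.ext e (Subtype.ext ?_)
    dsimp only
    rw [e, inv_mul_cancel_left]

theorem ti_self {A : Subgroup G} (hc : ∀ a ∈ A, a ≠ 1 → Subgroup.centralizer {a} = A) {a g : G}
    (ha : a ∈ A) (ha1 : a ≠ 1) (hg : g * a * g⁻¹ ∈ A) : g ∈ Subgroup.normalizer (A : Set G) := by
  refine mem_normalizer_of_conj fun b hb => ?_
  have hne : g * a * g⁻¹ ≠ 1 := by simpa using ha1
  rw [← hc _ hg hne, Subgroup.mem_centralizer_iff]
  rintro y rfl
  have h := Subgroup.mem_centralizer_iff.mp ((hc a ha ha1).symm ▸ hb : b ∈ Subgroup.centralizer {a}) a rfl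
  calc g * a * g⁻¹ * (g * b * g⁻¹) = g * (a * b) * g⁻¹ := by group
    _ = g * (b * a) * g⁻¹ := by rw [h]
    _ = _ := by group

/-- A central Sylow subgroup in its normaliser: the index is a normal subgroup. -/
theorem exists_compl {p : ℕ} [Fact p.Prime] (P : Sylow p G)
    (hP : Subgroup.normalizer ((P : Subgroup G) : Set G) ≤ Subgroup.centralizer ((P : Subgroup G) : Set G)) :
    ∃ R : Subgroup G, R.Normal ∧ ¬ p ∣ Nat.card ↥R ∧ ∀ g : G, ¬ p ∣ orderOf g → g ∈ R := by
  refine ⟨(MonoidHom.transferSylow P hP).ker, MonoidHom.normal_ker _,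
    MonoidHom.not_dvd_card_ker_transferSylow P hP, fun g hg => ?_⟩
  rw [MonoidHom.mem_ker]
  obtain ⟨k, hk⟩ := (IsPGroup.iff_orderOf.mp P.isPGroup') (MonoidHom.transferSylow P hP g)
  have hd := orderOf_map_dvd (MonoidHom.transferSylow P hP) g
  rw [hk] at hd
  cases k with
  | zero => exact orderOf_eq_one_iff.mp (hk.trans (pow_zero p))
  | succ k => exact absurd ((dvd_pow_self p (by omega)).trans hd) hg

end CfsgLib.Chevalley.Twist.ToriGen
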