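import Cfsg.Agent.Lib.Chevalley.Bruhat

/-!
Root elements of different roots differ; the parts of `U` sent to `V` by a monomial element.
-/

set_option autoImplicit false

namespace CfsgLib.Chevalley.Tbl

variable {T : Tbl} {F : Type*} [Field F] (hT : T.Valid)
include hT

theorem mem_pos_of_mem_rootGen {P : ℕ → Prop} (hP : ∀ r < T.n, P r → T.half ≤ r) {x : GL T.I F}
    (hx : x ∈ T.rootGen F P) : x ∈ T.datum.posUnipotent F := by
  rw [posUnipotent_rootGen hT]; exact rootGen_mono hP hx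

theorem pos_inf_neg : T.datum.posUnipotent F ⊓ T.datum.negUnipotent F = ⊥ := by
  rw [eq_bot_iff, ← borel_inf_neg (T := T) (F := F) hT]
  exact inf_le_inf_right _ le_sup_left

theorem eq_one_of_pos_neg {x : GL T.I F} (h : x ∈ T.rootGen F (fun r => T.half ≤ r))
    (h' : x ∈ T.rootGen F (fun r => r < T.half)) : x = 1 := by
  rw [← posUnipotent_rootGen hT] at h
  rw [← negUnipotent_rootGen hT] at h'
  exact Subgroup.mem_bot.mp (pos_inf_neg (T := T) (F := F) hT ▸ ⟨h, h'⟩)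

variable (hC : T.chkComm = true)
include hC

theorem xU_pos_eq {a b : ℕ} (ha : T.half ≤ a) (hab : a < b) (han : a < T.n) (hbn : b < T.n) {t u : F}
    (h : T.xU F a t = T.xU F b u) : t = 0 := by
  refine xU_mem_ge_succ hT ha han ?_
  rw [h]
  exact xU_mem_rootGen (P := fun s => a + 1 ≤ s) hbn hab u

theorem xU_root_eq {a b : Fin T.n} {t u : F} (ht : t ≠ 0) (h : T.xU F a t = T.xU F b u) : a = b := by
  have hpos : ∀ (a b : Fin T.n) (t u : F), T.half ≤ a.val → t ≠ 0 → T.xU F a t = T.xU F b u → a = b := by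
    intro a b t u ha ht h
    by_cases hu : u = 0
    · rw [hu, xU_zero hT b.2, ← xU_zero hT a.2] at h
      exact absurd (xU_inj hT a.2 h) ht
    rcases Nat.lt_or_ge b.val T.half with hb | hb
    · have := eq_one_of_pos_neg hT (xU_mem_rootGen (P := fun r => T.half ≤ r) a.2 ha t)
        (h ▸ xU_mem_rootGen (P := fun r => r < T.half) b.2 hb u)
      rw [← xU_zero hT a.2] at this
      exact absurd (xU_inj hT a.2 this) ht
    rcases lt_trichotomy a.val b.val with hlt | heq | hlt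
    · exact absurd (xU_pos_eq hT hC ha hlt a.2 b.2 h) ht
    · exact Fin.ext heq
    · exact absurd (xU_pos_eq hT hC hb hlt b.2 a.2 h.symm) hu
  rcases Nat.lt_or_ge a.val T.half with ha | ha
  · obtain ⟨n, hn, w, hm, hw⟩ := exists_longest (F := F) hT
    obtain ⟨c, hc⟩ := hm.conj a
    obtain ⟨d, hd⟩ := hm.conj b
    have hwa : T.half ≤ (w a).val := by
      have h1 := hw (T.negF a) (le_negF ha)
      rw [hm.negEq] at h1
      by_contra h2
      exact absurd h1 (not_lt.mpr (le_negF (not_le.mp h2)))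
    refine w.injective (hpos _ _ ((c : F) * t) ((d : F) * u) hwa (mul_ne_zero c.ne_zero ht) ?_)
    have e : n * T.xU F a t * n⁻¹ = n * T.xU F b u * n⁻¹ := by rw [h]
    rwa [(hc t).1, (hd u).1, mul_inv_cancel_right, mul_inv_cancel_right] at e
  · exact hpos a b t u ha ht h

/-- The part of `U` sent into `V`. -/
theorem mem_negSet_iff {g x : GL T.I F} {w : Equiv.Perm (Fin T.n)} (hm : T.Mono g w) :
    x ∈ T.rootGen F (T.negSet w) ↔
      x ∈ T.rootGen F (fun r => T.half ≤ r) ∧ g * x * g⁻¹ ∈ T.rootGen F (fun r => r < T.half) := by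
  refine ⟨fun h => ⟨rootGen_mono (fun r _ ⟨_, h, _⟩ => h) h,
    conj_mem_rootGen hT hm (fun s ⟨_, _, h⟩ => h) h⟩, fun ⟨h1, h2⟩ => ?_⟩
  obtain ⟨p, hp, q, hq, rfl⟩ := exists_factor hT hC (T.posSet w) (T.negSet w) (fun r hr hrp => by
    rcases Nat.lt_or_ge (w ⟨r, hr⟩).val T.half with h | h
    · exact Or.inr ⟨hr, hrp, h⟩
    · exact Or.inl ⟨hr, hrp, h⟩) T.half T.half (Nat.two_mul _).symm le_rfl _ h1
  have hp' := conj_mem_rootGen hT hm (Q := fun r => T.half ≤ r) (fun s ⟨_, _, h⟩ => h) hp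
  have hq' := conj_mem_rootGen hT hm (Q := fun r => r < T.half) (fun s ⟨_, _, h⟩ => h) hq
  have hpV : g * p * g⁻¹ ∈ T.rootGen F (fun r => r < T.half) := by
    have := mul_mem h2 (inv_mem hq')
    simpa [mul_assoc] using this
  have h0 := eq_one_of_pos_neg hT hp' hpV
  rw [conj_eq_one_iff] at h0
  rwa [h0, one_mul]

theorem mem_posSet_iff {g x : GL T.I F} {w : Equiv.Perm (Fin T.n)} (hm : T.Mono g w) :
    x ∈ T.rootGen F (T.posSet w) ↔
      x ∈ T.rootGen F (fun r => T.half ≤ r) ∧ g * x * g⁻¹ ∈ T.rootGen F (fun r => T.half ≤ r) := by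
  refine ⟨fun h => ⟨rootGen_mono (fun r _ ⟨_, h, _⟩ => h) h,
    conj_mem_rootGen hT hm (fun s ⟨_, _, h⟩ => h) h⟩, fun ⟨h1, h2⟩ => ?_⟩
  obtain ⟨p, hp, q, hq, rfl⟩ := exists_factor hT hC (T.posSet w) (T.negSet w) (fun r hr hrp => by
    rcases Nat.lt_or_ge (w ⟨r, hr⟩).val T.half with h | h
    · exact Or.inr ⟨hr, hrp, h⟩
    · exact Or.inl ⟨hr, hrp, h⟩) T.half T.half (Nat.two_mul _).symm le_rfl _ h1
  have hp' := conj_mem_rootGen hT hm (Q := fun r => T.half ≤ r) (fun s ⟨_, _, h⟩ => h) hp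
  have hq' := conj_mem_rootGen hT hm (Q := fun r => r < T.half) (fun s ⟨_, _, h⟩ => h) hq
  have hqU : g * q * g⁻¹ ∈ T.rootGen F (fun r => T.half ≤ r) := by
    have := mul_mem (inv_mem hp') h2
    simpa [mul_assoc] using this
  have h0 := eq_one_of_pos_neg hT hqU hq'
  rw [conj_eq_one_iff] at h0
  rwa [h0, mul_one]

/-- Every element of `U` factors along an element of `W`. -/
theorem exists_pos_factor (w : Equiv.Perm (Fin T.n)) {x : GL T.I F}
    (hx : x ∈ T.rootGen F (fun r => T.half ≤ r)) :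
    ∃ p ∈ T.rootGen F (T.posSet w), ∃ q ∈ T.rootGen F (T.negSet w), x = p * q :=
  exists_factor hT hC (T.posSet w) (T.negSet w) (fun r hr hrp => by
    rcases Nat.lt_or_ge (w ⟨r, hr⟩).val T.half with h | h
    · exact Or.inr ⟨hr, hrp, h⟩
    · exact Or.inl ⟨hr, hrp, h⟩) T.half T.half (Nat.two_mul _).symm le_rfl _ hx

theorem factor_unique {g : GL T.I F} {w : Equiv.Perm (Fin T.n)} (hm : T.Mono g w)
    {p p' q q' : GL T.I F} (hp : p ∈ T.rootGen F (T.posSet w)) (hp' : p' ∈ T.rootGen F (T.posSet w))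
    (hq : q ∈ T.rootGen F (T.negSet w)) (hq' : q' ∈ T.rootGen F (T.negSet w)) (h : p * q = p' * q') :
    p = p' ∧ q = q' := by
  have e : p'⁻¹ * p = q' * q⁻¹ := by
    rw [inv_mul_eq_iff_eq_mul, ← mul_assoc, ← h, mul_inv_cancel_right]
  have h1 := conj_mem_rootGen hT hm (Q := fun r => T.half ≤ r) (fun s ⟨_, _, h⟩ => h)
    (mul_mem (inv_mem hp') hp)
  have h2 := conj_mem_rootGen hT hm (Q := fun r => r < T.half) (fun s ⟨_, _, h⟩ => h)
    (mul_mem hq' (inv_mem hq))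
  rw [← e] at h2
  have h0 := eq_one_of_pos_neg hT h1 h2
  rw [conj_eq_one_iff, inv_mul_eq_one] at h0
  subst h0
  exact ⟨rfl, mul_left_cancel h⟩

/-- Uniqueness in `B = U ⋊ H`. -/
theorem borel_unique {u u' h h' : GL T.I F} (hu : u ∈ T.rootGen F (fun r => T.half ≤ r))
    (hu' : u' ∈ T.rootGen F (fun r => T.half ≤ r)) (hh : h ∈ T.datum.diagonalSubgroup F)
    (hh' : h' ∈ T.datum.diagonalSubgroup F) (e : u * h = u' * h') : u = u' ∧ h = h' := by
  have e2 : u'⁻¹ * u = h' * h⁻¹ := by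
    rw [inv_mul_eq_iff_eq_mul, ← mul_assoc, ← e, mul_inv_cancel_right]
  have h0 : u'⁻¹ * u = 1 := by
    rw [← Subgroup.mem_bot, ← pos_inf_diag (T := T) (F := F) hT]
    refine Subgroup.mem_inf.mpr ⟨?_, ?_⟩
    · rw [posUnipotent_rootGen hT]; exact mul_mem (inv_mem hu') hu
    · rw [e2]; exact mul_mem hh' (inv_mem hh)
  rw [inv_mul_eq_one] at h0
  subst h0
  exact ⟨rfl, mul_left_cancel e⟩

end CfsgLib.Chevalley.Tbl
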