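import Cfsg.Agent.Lib.Chevalley.Twist.Cells

/-!
The BN-pair on the fixed points, and the trivial core of its `B`.
-/

set_option autoImplicit false

namespace CfsgLib.Chevalley.Tbl.Twist

variable {T : Tbl} {F : Type*} [Field F] (S : Twist T F) (O : Orbits T S.valid S.ρ)

/-- Each `V_J` has a nontrivial fixed element. -/
def VHyp : Prop :=
  ∀ j, ∃ v ∈ S.fix, v ≠ 1 ∧
    v ∈ T.rootGen F (fun r => ∃ h : r < T.n, r < T.half ∧ T.half ≤ (S.wJ O j ⟨r, h⟩).val)

/-- The fixed points themselves. -/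
noncomputable def fullGen (hV : S.VHyp O) : S.Gen O where
  Γ := S.fix
  le := le_rfl
  UJ := fun _ _ hx _ => hx
  VJ := hV

theorem wJ_injective : Function.Injective (S.wJ O) := by
  intro j j' h
  obtain ⟨i, hi⟩ := O.onto j
  have h1 : (S.wJ O j (T.simpF S.valid i)).val < T.half := O.neg j i hi
  rw [h] at h1
  by_contra hne
  have := O.supp j' _ (half_le_simpF S.valid i) h1 i (by rw [hi]; exact hne)
  rw [co_simpF S.valid i i.2, if_pos rfl] at this
  exact one_ne_zero this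

theorem perm_mem_W1 {n : GL T.I F} {w : Equiv.Perm (Fin T.n)}
    (hn : n ∈ T.datum.monomialSubgroup F) (hf : n ∈ S.fix) (hm : T.Mono n w) : w ∈ S.W1 := by
  obtain ⟨w', hw', hm'⟩ := exists_mono S.valid hn
  obtain rfl := hm.unique hm'
  have := S.sg_mono hn hm
  rw [hf.2] at this
  exact S.mem_W1_iff.mpr ⟨hw', (hm.unique this).symm⟩

variable {S O}

theorem borel_fix {b : GL T.I F} (hb : b ∈ T.datum.borelSubgroup F) (hf : b ∈ S.fix) :
    ∃ a ∈ S.fix, a ∈ T.rootGen F (fun r => T.half ≤ r) ∧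
      ∃ h ∈ S.fix, h ∈ T.datum.diagonalSubgroup F ∧ b = a * h := by
  have hT := S.valid
  obtain ⟨a, ha, h, hh, rfl⟩ := (mem_borel_iff hT).mp hb
  rw [posUnipotent_rootGen hT] at ha
  have haG := S.rootGen_le_group _ ha
  have hhG := diag_le_group hT hh
  have e := hf.2
  rw [S.sg_mul haG hhG] at e
  obtain ⟨h1, h2⟩ := borel_unique hT S.comm (S.sg_pos ha) ha (S.sg_diag hh) hh e
  exact ⟨a, ⟨haG, h1⟩, ha, h, ⟨hhG, h2⟩, hh, rfl⟩

theorem pos_fix_factor {w : Equiv.Perm (Fin T.n)} (hw : w ∈ S.W1) {g a : GL T.I F}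
    (hg : T.Mono g w) (ha : a ∈ T.rootGen F (fun r => T.half ≤ r)) (hf : a ∈ S.fix) :
    ∃ p ∈ S.fix, p ∈ T.rootGen F (T.posSet w) ∧
      ∃ q ∈ S.fix, q ∈ T.rootGen F (T.negSet w) ∧ a = p * q := by
  have hT := S.valid
  obtain ⟨p, hp, q, hq, rfl⟩ := exists_pos_factor hT S.comm w ha
  have hpG := S.rootGen_le_group _ hp
  have hqG := S.rootGen_le_group _ hq
  have e := hf.2
  rw [S.sg_mul hpG hqG] at e
  have hwρ := (S.mem_W1_iff.mp hw).2
  have hq' := S.sg_negSet hq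
  rw [hwρ] at hq'
  obtain ⟨h1, h2⟩ := factor_unique hT S.comm hg (S.sg_posSet hwρ hp) hp hq' hq e
  exact ⟨p, ⟨hpG, h1⟩, hp, q, ⟨hqG, h2⟩, hq, rfl⟩

variable (hV : S.VHyp O)
include hV

theorem exists_rep (j : Fin O.o) :
    ∃ n ∈ S.fix, n ∈ T.datum.monomialSubgroup F ∧ T.Mono n (S.wJ O j) :=
  (S.fullGen O hV).exists_nJ j

/-- The representative of the longest element of an orbit. -/
noncomputable def rep (j : Fin O.o) : GL T.I F := (exists_rep hV j).choose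

theorem rep_fix (j : Fin O.o) : rep hV j ∈ S.fix := (exists_rep hV j).choose_spec.1

theorem rep_N (j : Fin O.o) : rep hV j ∈ T.datum.monomialSubgroup F :=
  (exists_rep hV j).choose_spec.2.1

theorem rep_mono (j : Fin O.o) : T.Mono (rep hV j) (S.wJ O j) :=
  (exists_rep hV j).choose_spec.2.2

theorem rep_sq (j : Fin O.o) : rep hV j * rep hV j ∈ T.datum.diagonalSubgroup F := by
  refine mem_diag_of_mono_one S.valid (mul_mem (rep_N hV j) (rep_N hV j)) ?_
  have := (rep_mono hV j).mul (rep_mono hV j)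
  rwa [show S.wJ O j * S.wJ O j = 1 from O.inv j] at this

theorem exists_pos_elt (j : Fin O.o) :
    ∃ q ∈ S.fix, q ≠ 1 ∧ q ∈ T.rootGen F (T.negSet (S.wJ O j)) := by
  obtain ⟨v, hvf, hv1, hv⟩ := hV j
  refine ⟨rep hV j * v * (rep hV j)⁻¹, mul_mem (mul_mem (rep_fix hV j) hvf) (inv_mem (rep_fix hV j)),
    fun h => hv1 (conj_eq_one_iff.mp h), ?_⟩
  refine conj_mem_rootGen S.valid (rep_mono hV j) (fun r ⟨_, h1, h2⟩ => ?_) hv
  refine ⟨(S.wJ O j r).2, h2, ?_⟩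
  rw [show (⟨(S.wJ O j r).val, (S.wJ O j r).2⟩ : Fin T.n) = S.wJ O j r from rfl, S.wJ_wJ]
  exact h1

/-- The axiom `s B n ⊆ B s n B ∪ B n B`. -/
theorem pair_axiom (j : Fin O.o) {n b : GL T.I F} (hn : n ∈ T.datum.monomialSubgroup F)
    (hnf : n ∈ S.fix) (hb : b ∈ T.datum.borelSubgroup F) (hbf : b ∈ S.fix) :
    ∃ a ∈ T.datum.borelSubgroup F, a ∈ S.fix ∧ ∃ c ∈ T.datum.borelSubgroup F, c ∈ S.fix ∧
      (rep hV j * b * n = a * (rep hV j * n) * c ∨ rep hV j * b * n = a * n * c) := by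
  have hT := S.valid
  set s := rep hV j with hs
  have hsf := rep_fix hV j
  have hsm := rep_mono hV j
  rw [← hs] at hsf hsm
  obtain ⟨a, haf, ha, h, hhf, hh, rfl⟩ := borel_fix hb hbf
  obtain ⟨p, hpf, hp, q, hqf, hq, rfl⟩ := pos_fix_factor (S.wJ_mem O j) hsm ha haf
  obtain ⟨w, hw, hm⟩ := exists_mono hT hn
  have hw1 := S.perm_mem_W1 hn hnf hm
  have hpU : s * p * s⁻¹ ∈ T.rootGen F (fun r => T.half ≤ r) :=
    conj_mem_rootGen hT hsm (fun r ⟨_, _, h⟩ => h) hp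
  have hUB : ∀ {x : GL T.I F}, x ∈ T.rootGen F (fun r => T.half ≤ r) → x ∈ T.datum.borelSubgroup F :=
    fun {x} hx => Subgroup.mem_sup_left ((posUnipotent_rootGen (F := F) hT).symm ▸ hx)
  have hpB : s * p * s⁻¹ ∈ T.datum.borelSubgroup F := hUB hpU
  have hpF : s * p * s⁻¹ ∈ S.fix := mul_mem (mul_mem hsf hpf) (inv_mem hsf)
  have hdB : n⁻¹ * h * n ∈ T.datum.borelSubgroup F := Subgroup.mem_sup_right (by
    have := conj_diag hT (inv_mem hn) hh
    rwa [inv_inv] at this)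
  have hdF : n⁻¹ * h * n ∈ S.fix := mul_mem (mul_mem (inv_mem hnf) hhf) hnf
  by_cases hall : ∀ i, O.orb i = j → T.half ≤ (w⁻¹ (T.simpF hT i)).val
  · have hqn : n⁻¹ * q * n ∈ T.rootGen F (fun r => T.half ≤ r) := by
      rw [show n⁻¹ * q * n = n⁻¹ * q * n⁻¹⁻¹ by rw [inv_inv]]
      refine conj_mem_rootGen hT hm.inv (fun r ⟨_, hr1, hr2⟩ => ?_) hq
      refine half_le_of_co_nonneg hT (w⁻¹ r).2 fun c hc => ?_
      rw [WP_linear hT (inv_mem hw) r hc]
      refine Finset.sum_nonneg fun k _ => ?_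
      by_cases hk : O.orb k = j
      · exact mul_nonneg (co_nonneg' hT hr1 k.2) (co_nonneg' hT (hall k hk) hc)
      · rw [O.supp j r hr1 hr2 k hk, zero_mul]
    refine ⟨_, hpB, hpF, _, mul_mem (hUB hqn) hdB,
      mul_mem (mul_mem (mul_mem (inv_mem hnf) hqf) hnf) hdF, Or.inl ?_⟩
    group
  · push Not at hall
    obtain ⟨i, hi, hneg⟩ := hall
    have hw1' : w⁻¹ ∈ S.W1 := inv_mem hw1
    by_cases hq1 : q = 1
    · subst hq1
      exact ⟨_, hpB, hpF, _, hdB, hdF, Or.inl (by group)⟩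
    have hv : s * q * s⁻¹ ∈ T.rootGen F
        (fun r => ∃ h : r < T.n, r < T.half ∧ T.half ≤ (S.wJ O j ⟨r, h⟩).val) := by
      refine conj_mem_rootGen hT hsm (fun r ⟨_, h1, h2⟩ => ?_) hq
      refine ⟨(S.wJ O j r).2, h2, ?_⟩
      rw [show (⟨(S.wJ O j r).val, (S.wJ O j r).2⟩ : Fin T.n) = S.wJ O j r from rfl, S.wJ_wJ]
      exact h1
    obtain ⟨q1, hq1f, hq1', m, hmf, hmN, hmm, u1, hu1f, hu1, e⟩ :=
      vJ_canonical j (mul_mem (mul_mem hsf hqf) (inv_mem hsf)) (fun h => hq1 (conj_eq_one_iff.mp h)) hv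
    have hd' : s⁻¹ * m ∈ T.datum.diagonalSubgroup F := by
      refine mem_diag_of_mono_one hT (mul_mem (inv_mem (rep_N hV j)) hmN) ?_
      have := hsm.inv.mul hmm
      rwa [inv_mul_cancel] at this
    have hd'f : s⁻¹ * m ∈ S.fix := mul_mem (inv_mem hsf) hmf
    set d := (s * (s⁻¹ * m) * s⁻¹) * (s * s) with hd
    have hdd : d ∈ T.datum.diagonalSubgroup F :=
      mul_mem (conj_diag hT (rep_N hV j) hd') (rep_sq hV j)
    have hdf : d ∈ S.fix := mul_mem (mul_mem (mul_mem hsf hd'f) (inv_mem hsf)) (mul_mem hsf hsf)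
    have hu2 : (s * n)⁻¹ * u1 * (s * n) ∈ T.rootGen F (fun r => T.half ≤ r) := by
      rw [show (s * n)⁻¹ * u1 * (s * n) = (s * n)⁻¹ * u1 * (s * n)⁻¹⁻¹ by rw [inv_inv]]
      refine conj_mem_rootGen hT (hsm.mul hm).inv (fun r ⟨_, h1, h2⟩ => ?_) hu1
      rw [mul_inv_rev, Equiv.Perm.mul_apply, S.wJ_inv]
      have h3 := S.negSet_of_neg O hw1' hi hneg (r := T.negF (S.wJ O j r)) (le_negF h2) (by
        rw [WP_negF hT (S.wJ_mem O j).1, S.wJ_wJ]
        exact negF_lt h1)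
      rw [WP_negF hT hw1'.1] at h3
      by_contra hlt
      exact absurd h3 (not_lt.mpr (le_negF (not_le.mp hlt)))
    have hq1B : q1 ∈ T.datum.borelSubgroup F := hUB (rootGen_mono (fun r _ ⟨_, h, _⟩ => h) hq1')
    refine ⟨_, mul_mem (mul_mem hpB hq1B) (Subgroup.mem_sup_right hdd),
      mul_mem (mul_mem hpF hq1f) hdf, _, mul_mem (hUB hu2) hdB,
      mul_mem (mul_mem (mul_mem (inv_mem (mul_mem hsf hnf)) hu1f) (mul_mem hsf hnf)) hdF, Or.inr ?_⟩
    calc s * (p * q * h) * n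
        = (s * p * s⁻¹) * (s * q * s⁻¹) * (s * n) * (n⁻¹ * h * n) := by group
      _ = _ := by rw [e, hd]; group

theorem exists_rep_W1 : ∀ w ∈ S.W1, ∃ n ∈ Subgroup.closure (Set.range (rep hV)),
    T.Mono n w := by
  refine S.W1_induction O ⟨1, one_mem _, Mono.one⟩ ?_
  rintro w - j - ⟨n, hn, hm⟩
  exact ⟨n * rep hV j, mul_mem hn (Subgroup.subset_closure ⟨j, rfl⟩), hm.mul (rep_mono hV j)⟩

theorem closure_rep_le :
    Subgroup.closure (Set.range (rep hV)) ≤ T.datum.monomialSubgroup F ⊓ S.fix :=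
  (Subgroup.closure_le _).mpr (by rintro _ ⟨j, rfl⟩; exact ⟨rep_N hV j, rep_fix hV j⟩)

/-- A fixed monomial element is a product of representatives and a fixed diagonal element. -/
theorem monomial_fix_eq : T.datum.monomialSubgroup F ⊓ S.fix =
    Subgroup.closure (Set.range (rep hV)) ⊔ (T.datum.diagonalSubgroup F ⊓ S.fix) := by
  have hT := S.valid
  refine le_antisymm ?_ (sup_le (closure_rep_le hV) fun x hx => ⟨diag_le_N hT hx.1, hx.2⟩)
  rintro n ⟨hn, hf⟩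
  obtain ⟨w, -, hm⟩ := exists_mono hT hn
  obtain ⟨m, hm1, hmm⟩ := exists_rep_W1 hV w (S.perm_mem_W1 hn hf hm)
  obtain ⟨hmN, hmf⟩ := closure_rep_le hV hm1
  have hd : m⁻¹ * n ∈ T.datum.diagonalSubgroup F := by
    refine mem_diag_of_mono_one hT (mul_mem (inv_mem hmN) hn) ?_
    have := hmm.inv.mul hm
    rwa [inv_mul_cancel] at this
  rw [show n = m * (m⁻¹ * n) from (mul_inv_cancel_left _ _).symm]
  exact mul_mem (Subgroup.mem_sup_left hm1)
    (Subgroup.mem_sup_right (Subgroup.mem_inf.mpr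
      ⟨hd, mul_mem (inv_mem (show m ∈ S.fix from hmf)) hf⟩))

omit hV in
theorem borel_inf_monomial_fix :
    (T.datum.borelSubgroup F ⊓ S.fix) ⊓ (T.datum.monomialSubgroup F ⊓ S.fix) =
      T.datum.diagonalSubgroup F ⊓ S.fix := by
  rw [← inf_inf_distrib_right, borel_inf_monomial S.valid]

/-- The BN-pair on the fixed points. -/
noncomputable def pair : Cfsg.BNPair ↥S.fix where
  B := (T.datum.borelSubgroup F ⊓ S.fix).subgroupOf S.fix
  N := (T.datum.monomialSubgroup F ⊓ S.fix).subgroupOf S.fix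
  S := Set.range fun j => (⟨rep hV j, rep_fix hV j⟩ : ↥S.fix)
  sup_eq_top := by
    refine eq_top_iff.mpr fun g _ => ?_
    obtain ⟨a, ha, haf, n, hn, hnf, w, hw, hm, u, hu, huf, e⟩ := S.fix_canonical g.2
    have hB : ∀ {x : GL T.I F} (hxf : x ∈ S.fix), x ∈ T.rootGen F (fun r => T.half ≤ r) →
        (⟨x, hxf⟩ : ↥S.fix) ∈ (T.datum.borelSubgroup F ⊓ S.fix).subgroupOf S.fix := fun {x} hxf hx =>
      Subgroup.mem_subgroupOf.mpr
        ⟨Subgroup.mem_sup_left ((posUnipotent_rootGen (F := F) S.valid).symm ▸ hx), hxf⟩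
    rw [show g = ⟨a, haf⟩ * ⟨n, hnf⟩ * ⟨u, huf⟩ from Subtype.ext e]
    exact mul_mem (mul_mem (Subgroup.mem_sup_left (hB haf ha))
      (Subgroup.mem_sup_right (Subgroup.mem_subgroupOf.mpr ⟨hn, hnf⟩)))
      (Subgroup.mem_sup_left (hB huf (rootGen_mono (fun r _ ⟨_, h, _⟩ => h) hu)))
  conj_mem n hn t ht := by
    simp only [Subgroup.mem_inf, Subgroup.mem_subgroupOf] at hn ht ⊢
    have hH : (t : GL T.I F) ∈ T.datum.diagonalSubgroup F :=
      borel_inf_monomial (T := T) (F := F) S.valid ▸ ⟨ht.1.1, ht.2.1⟩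
    exact ⟨Subgroup.mem_sup_right (conj_diag S.valid hn.1 hH), Subtype.prop _⟩
  subset := by
    rintro _ ⟨j, rfl⟩
    exact Subgroup.mem_subgroupOf.mpr ⟨rep_N hV j, rep_fix hV j⟩
  sq_mem := by
    rintro _ ⟨j, rfl⟩
    exact Subgroup.mem_subgroupOf.mpr
      ⟨Subgroup.mem_sup_right (rep_sq hV j), mul_mem (rep_fix hV j) (rep_fix hV j)⟩
  inj := by
    rintro _ ⟨j, rfl⟩ _ ⟨j', rfl⟩ h
    simp only [Subgroup.mem_subgroupOf, Subgroup.mem_inf, Subgroup.coe_mul, Subgroup.coe_inv] at h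
    have hH : (rep hV j)⁻¹ * rep hV j' ∈ T.datum.diagonalSubgroup F :=
      borel_inf_monomial (T := T) (F := F) S.valid ▸
        Subgroup.mem_inf.mpr ⟨h.1, mul_mem (inv_mem (rep_N hV j)) (rep_N hV j')⟩
    have h2 := ((rep_mono hV j).inv.mul (rep_mono hV j')).unique (mono_diag S.valid hH)
    rw [inv_mul_eq_one] at h2
    obtain rfl := S.wJ_injective O h2
    rfl
  closure_sup := by
    have e : (Set.range fun j => (⟨rep hV j, rep_fix hV j⟩ : ↥S.fix)) =
        S.fix.subtype ⁻¹' Set.range (rep hV) := by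
      ext x
      constructor
      · rintro ⟨j, rfl⟩; exact ⟨j, rfl⟩
      · rintro ⟨j, hj⟩; exact ⟨j, Subtype.ext hj⟩
    apply Subgroup.map_injective (f := S.fix.subtype) S.fix.subtype_injective
    rw [Subgroup.map_sup, MonoidHom.map_closure, e, Set.image_preimage_eq_of_subset (by
      rintro _ ⟨j, rfl⟩; exact ⟨⟨_, rep_fix hV j⟩, rfl⟩), show (T.datum.borelSubgroup F ⊓ S.fix).subgroupOf S.fix ⊓
        (T.datum.monomialSubgroup F ⊓ S.fix).subgroupOf S.fix =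
        ((T.datum.borelSubgroup F ⊓ S.fix) ⊓ (T.datum.monomialSubgroup F ⊓ S.fix)).subgroupOf S.fix from
        (Subgroup.comap_inf _ _ _).symm,
      Subgroup.subgroupOf_map_subtype, Subgroup.subgroupOf_map_subtype]
    rw [borel_inf_monomial_fix, inf_assoc, inf_idem, inf_assoc, inf_idem, monomial_fix_eq hV]
  mul_mem_union := by
    rintro _ ⟨j, rfl⟩ n hn b hb
    rw [Subgroup.mem_subgroupOf] at hn hb
    obtain ⟨a, ha, haf, c, hc, hcf, e⟩ := pair_axiom hV j hn.1 hn.2 hb.1 hb.2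
    simp only [Set.mem_union, DoubleCoset.mem_doubleCoset]
    rcases e with e | e
    · exact Or.inl ⟨⟨a, haf⟩, ⟨ha, haf⟩, ⟨c, hcf⟩, ⟨hc, hcf⟩, Subtype.ext e⟩
    · exact Or.inr ⟨⟨a, haf⟩, ⟨ha, haf⟩, ⟨c, hcf⟩, ⟨hc, hcf⟩, Subtype.ext e⟩
  conj_ne := by
    rintro _ ⟨j, rfl⟩ h
    obtain ⟨q, hqf, hq1, hq⟩ := exists_pos_elt hV j
    have hqB : q ∈ T.datum.borelSubgroup F := Subgroup.mem_sup_left
      ((posUnipotent_rootGen (F := F) S.valid).symm ▸ rootGen_mono (fun r _ ⟨_, h, _⟩ => h) hq)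
    have hmem := (Set.ext_iff.mp h _).mp ⟨⟨q, hqf⟩, ⟨hqB, hqf⟩, rfl⟩
    rw [SetLike.mem_coe, Subgroup.mem_subgroupOf] at hmem
    have hmem' : rep hV j * q * rep hV j ∈ T.datum.borelSubgroup F := hmem.1
    have h1 : rep hV j * q * (rep hV j)⁻¹ ∈ T.datum.borelSubgroup F := by
      have := mul_mem hmem' (inv_mem (Subgroup.mem_sup_right (S := T.datum.posUnipotent F) (rep_sq hV j)))
      rwa [show rep hV j * q * rep hV j * (rep hV j * rep hV j)⁻¹ = rep hV j * q * (rep hV j)⁻¹ by group]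
        at this
    have h2 : rep hV j * q * (rep hV j)⁻¹ ∈ T.datum.negUnipotent F := by
      rw [negUnipotent_rootGen S.valid]
      exact conj_mem_rootGen S.valid (rep_mono hV j) (fun r ⟨_, _, h⟩ => h) hq
    have h3 : rep hV j * q * (rep hV j)⁻¹ ∈ (⊥ : Subgroup (GL T.I F)) :=
      borel_inf_neg (T := T) (F := F) S.valid ▸ ⟨h1, h2⟩
    exact hq1 (conj_eq_one_iff.mp (Subgroup.mem_bot.mp h3))

theorem pair_B : (pair hV).B = (T.datum.borelSubgroup F ⊓ S.fix).subgroupOf S.fix := rfl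

theorem pair_N : (pair hV).N = (T.datum.monomialSubgroup F ⊓ S.fix).subgroupOf S.fix := rfl

/-- The core of `B` is trivial when no fixed diagonal element centralises the fixed part of `U`. -/
theorem core_eq_bot (hc : ∀ h ∈ T.datum.diagonalSubgroup F, h ∈ S.fix →
      (∀ u ∈ S.fix, u ∈ T.rootGen F (fun r => T.half ≤ r) → h * u = u * h) → h = 1) :
    ((T.datum.borelSubgroup F ⊓ S.fix).subgroupOf S.fix).normalCore = ⊥ := by
  have hT := S.valid
  rw [eq_bot_iff]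
  intro g hg
  set K := ((T.datum.borelSubgroup F ⊓ S.fix).subgroupOf S.fix).normalCore
  have hKB : ∀ x ∈ K, (x : GL T.I F) ∈ T.datum.borelSubgroup F := fun x hx =>
    (Subgroup.mem_subgroupOf.mp (Subgroup.normalCore_le _ hx)).1
  obtain ⟨w, hw, hneg⟩ := Gen.exists_longest (S.fullGen O hV)
  obtain ⟨n, hnf, hn, hm⟩ := ((S.fullGen O hV).main w hw).1
  have hKH : ∀ x ∈ K, (x : GL T.I F) ∈ T.datum.diagonalSubgroup F := by
    intro x hx
    rw [← borel_inf_negDiag (T := T) (F := F) hT]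
    refine ⟨hKB x hx, ?_⟩
    have hb := hKB _ ((inferInstance : K.Normal).conj_mem x hx (⟨n, hnf⟩ : ↥S.fix)⁻¹)
    simp only [inv_inv, Subgroup.coe_mul, Subgroup.coe_inv] at hb
    obtain ⟨u, hu, h, hh, e⟩ := (mem_borel_iff hT).mp hb
    rw [posUnipotent_rootGen hT] at hu
    rw [show (x : GL T.I F) = (n * u * n⁻¹) * (n * h * n⁻¹) by
      calc (x : GL T.I F) = n * (n⁻¹ * x * n) * n⁻¹ := by group
        _ = n * (u * h) * n⁻¹ := by rw [← e]
        _ = _ := by group]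
    refine mul_mem (Subgroup.mem_sup_left ?_) (Subgroup.mem_sup_right (conj_diag hT hn hh))
    rw [negUnipotent_rootGen hT]
    exact conj_mem_rootGen hT hm (fun r hr => hneg r hr) hu
  rw [Subgroup.mem_bot]
  refine Subtype.ext (hc _ (hKH g hg) g.2 fun u huf hu => ?_)
  let u' : ↥S.fix := ⟨u, huf⟩
  have hk : g * (u' * g⁻¹ * u'⁻¹) ∈ K :=
    mul_mem hg ((inferInstance : K.Normal).conj_mem _ (inv_mem hg) u')
  have hH := hKH _ hk
  simp only [Subgroup.coe_mul, Subgroup.coe_inv, u'] at hH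
  have hgd := hKH g hg
  have hUn : (g : GL T.I F) * u * (g : GL T.I F)⁻¹ ∈ T.rootGen F (fun r => T.half ≤ r) :=
    conj_mem_rootGen hT (mono_diag hT hgd) (fun r hr => by simpa using hr) hu
  have h1 : (g : GL T.I F) * (u * (g : GL T.I F)⁻¹ * u⁻¹) ∈ (⊥ : Subgroup (GL T.I F)) := by
    rw [← pos_inf_diag (T := T) (F := F) hT]
    refine ⟨?_, hH⟩
    rw [SetLike.mem_coe, posUnipotent_rootGen hT]
    have := mul_mem hUn (inv_mem hu)
    simpa [mul_assoc] using this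
  rw [Subgroup.mem_bot] at h1
  have := congrArg (fun z => z * u * (g : GL T.I F)) h1
  simpa [mul_assoc] using this

end CfsgLib.Chevalley.Tbl.Twist
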