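import Cfsg.Agent.Lib.Chevalley.Twist.OrbitProd
import Cfsg.Agent.Lib.Chevalley.Twist.Pair
import Cfsg.Prelude.Def_ChevWords
import Mathlib.FieldTheory.Finite.Basic

/-!
Tools for the instances: power automorphisms, the orbit subgroups as lists, generators as words.
-/

set_option autoImplicit false

namespace CfsgLib.Chevalley.Tbl

/-- The power maps `t ↦ t ^ q` for divisors `q` of the order of a finite field among its prime powers. -/
theorem exists_powAut {K : Type*} [Field K] [Finite K] {q d : ℕ} (hq : IsPrimePow q)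
    (_hd : 0 < d) (hK : Nat.card K = q ^ d) : ∃ f : K ≃+* K, ∀ t, f t = t ^ q := by
  obtain ⟨p, k, hp, hk, rfl⟩ := hq
  have hp' : p.Prime := hp.nat_prime
  have : Fact p.Prime := ⟨hp'⟩
  have : CharP K p := by
    have := Fintype.ofFinite K
    obtain ⟨n, hr, hc⟩ := FiniteField.card K (ringChar K)
    have h1 : ringChar K = p := by
      have h2 : ringChar K ∣ (p ^ k) ^ d := by
        rw [← hK, Nat.card_eq_fintype_card, hc]
        exact dvd_pow_self _ n.ne_zero
      rw [← pow_mul] at h2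
      exact (Nat.prime_dvd_prime_iff_eq hr hp').mp (hr.dvd_of_dvd_pow h2)
    exact h1 ▸ ringChar.charP K
  have : ExpChar K p := ExpChar.prime hp'
  refine ⟨RingEquiv.ofBijective (iterateFrobenius K p k)
    (Finite.injective_iff_bijective.mp (iterateFrobenius K p k).injective), fun t => ?_⟩
  show iterateFrobenius K p k t = _
  rw [iterateFrobenius_def]

/-- The positive roots made negative by the word of an orbit, as a list. -/
def negList (T : Tbl) (w : List ℕ) : List ℕ :=
  (List.range' T.half T.half).filter fun r => Nat.blt (T.actWord w r) T.half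

variable {T : Tbl} {F : Type*} [Field F]

namespace TwistData

variable (D : TwistData T F) {o : ℕ} {orb : List ℕ} {words : List (List ℕ)}
  (h : T.chkOrbits D.M o orb words = true) (j : Fin o)

theorem negSet_iff {L : List ℕ} (hL : T.negList (words.getD j []) = L) (r : ℕ) :
    T.negSet (D.twist.wJ (D.orbits h) j) r ↔ r ∈ L := by
  subst hL
  simp only [negList, List.mem_filter, List.mem_range'_1]
  refine ⟨fun ⟨hr, h1, h2⟩ => ?_, fun ⟨⟨h1, h2⟩, h3⟩ => ?_⟩
  · have hn : T.n = 2 * T.half := rfl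
    rw [D.orbits_wJ] at h2
    exact ⟨⟨h1, by omega⟩, Nat.ble_eq.mpr h2⟩
  · have hr : r < T.n := by have hn : T.n = 2 * T.half := rfl; omega
    refine ⟨hr, h1, ?_⟩
    rw [D.orbits_wJ]
    exact Nat.le_of_ble_eq_true h3

/-- The roots of `V_J`. -/
theorem mem_VJ {L : List ℕ} (hL : T.negList (words.getD j []) = L) {r : ℕ} (hr : r < T.n)
    (hmem : T.neg r ∈ L) :
    ∃ h' : r < T.n, r < T.half ∧ T.half ≤ (D.twist.wJ (D.orbits h) j ⟨r, h'⟩).val := by
  obtain ⟨hn, h1, h2⟩ := (D.negSet_iff h j hL _).mpr hmem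
  refine ⟨hr, ?_, ?_⟩
  · by_contra hlt
    have h3 := negF_lt (T := T) (s := ⟨r, hr⟩) (not_lt.mp hlt)
    exact absurd h1 (not_le.mpr h3)
  · rw [show (⟨T.neg r, hn⟩ : Fin T.n) = T.negF ⟨r, hr⟩ from rfl,
      WP_negF D.ok.valid ((D.twist.wJ_mem (D.orbits h) j).1)] at h2
    by_contra hlt
    exact absurd h2 (not_lt.mpr (le_negF (not_le.mp hlt)))

theorem exists_word {L : List ℕ} (hL : T.negList (words.getD j []) = L) {x : GL T.I F}
    (hx : x ∈ T.rootGen F (T.negSet (D.twist.wJ (D.orbits h) j))) :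
    ∃ f : ℕ → F, x = T.gprod (L.map fun r => (r, f r)) := by
  classical
  have hT := D.ok.valid
  obtain ⟨f, hf⟩ := exists_gprod hT D.ok.comm (P := T.negSet (D.twist.wJ (D.orbits h) j))
    (closed_negSet hT (D.twist.wJ_mem (D.orbits h) j).1) T.half T.half (Nat.two_mul _).symm le_rfl x
    (rootGen_mono (fun r _ hr => ⟨hr, hr.2.1⟩) hx)
  refine ⟨f, hf.trans (congrArg _ (congrArg _ ?_))⟩
  subst hL
  rw [negList]
  refine List.filter_congr fun r hr => ?_
  rw [Bool.eq_iff_iff, decide_eq_true_iff, D.negSet_iff h j rfl, negList, List.mem_filter]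
  simp [hr]

theorem word_mem_negSet {L : List ℕ} (hL : T.negList (words.getD j []) = L) {l : List (ℕ × F)}
    (hl : ∀ p ∈ l, p.1 ∈ L) : T.gprod l ∈ T.rootGen F (T.negSet (D.twist.wJ (D.orbits h) j)) :=
  gprod_mem fun p hp => by
    have := (D.negSet_iff h j hL _).mpr (hl p hp)
    exact ⟨this.1, this⟩

end TwistData

/-- Commuting root elements of a set permuted by the twist: the image of a product. -/
theorem Twist.sg_gprod_perm (S : Twist T F) {L : List ℕ} (hLn : ∀ r ∈ L, r < T.n) (ρ' : ℕ → ℕ)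
    (hρ : ∀ r : Fin T.n, r.val ∈ L → (S.ρ r).val = ρ' r) (hperm : (L.map ρ').Perm L)
    (hcomm : ∀ a ∈ L, ∀ b ∈ L, ∀ s t : F, Commute (T.xU F a s) (T.xU F b t)) (f g : ℕ → F)
    (hg : ∀ r : Fin T.n, r.val ∈ L → g (ρ' r) = S.par r (f r)) :
    S.sg (T.gprod (L.map fun r => (r, f r))) = T.gprod (L.map fun r => (r, g r)) := by
  rw [sg_gprod S (by
      intro p hp
      obtain ⟨r, hr, rfl⟩ := List.mem_map.mp hp
      exact hLn r hr) (fun p => (ρ' p.1, g (ρ' p.1))) (by
      intro p hp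
      obtain ⟨r, hr, rfl⟩ := List.mem_map.mp hp
      show S.sg (T.xU F r (f r)) = _
      rw [S.sg_xU ⟨r, hLn r hr⟩, hρ ⟨r, hLn r hr⟩ hr, hg ⟨r, hLn r hr⟩ hr])]
  rw [gprod, gprod]
  refine List.Perm.prod_eq' ?_ ?_
  · have h1 := (hperm.map fun r => (r, g r)).map fun p : ℕ × F => T.xU F p.1 p.2
    rw [List.map_map] at h1 ⊢
    simpa only [List.map_map, Function.comp_def] using h1
  · refine List.pairwise_of_forall_mem_list fun a ha b hb => ?_
    simp only [List.mem_map] at ha hb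
    obtain ⟨_, ⟨_, ⟨r, hr, rfl⟩, rfl⟩, rfl⟩ := ha
    obtain ⟨_, ⟨_, ⟨r', hr', rfl⟩, rfl⟩, rfl⟩ := hb
    exact hcomm _ (hperm.mem_iff.mp (List.mem_map.mpr ⟨r, hr, rfl⟩)) _
      (hperm.mem_iff.mp (List.mem_map.mpr ⟨r', hr', rfl⟩)) _ _

/-- A subgroup generated by words lies in the fixed points when every word is fixed. -/
theorem genSubgroup_le_fix (S : Twist T F) {W : Set (List (ℕ × F))}
    (h : ∀ w ∈ W, (∀ p ∈ w, p.1 < T.n) ∧ T.gprod w ∈ S.fix) :
    T.datum.genSubgroup F W ≤ S.fix := by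
  refine (Subgroup.closure_le _).mpr ?_
  rintro g ⟨w, hw, hg⟩
  rw [show g = T.gprod w from Units.ext (hg.trans (gprod_wordMat S.valid (h w hw).1))]
  exact (h w hw).2

theorem word_mem_genSubgroup (hT : T.Valid) {W : Set (List (ℕ × F))} {w : List (ℕ × F)} (hw : w ∈ W)
    (hlt : ∀ p ∈ w, p.1 < T.n) : T.gprod w ∈ T.datum.genSubgroup F W :=
  Subgroup.subset_closure ⟨w, hw, (gprod_wordMat hT hlt).symm⟩

end CfsgLib.Chevalley.Tbl
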