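import Cfsg.Agent.Lib.Chevalley.Twist.Make
import Cfsg.Agent.Lib.Chevalley.Torus

/-!
The twist on the torus.
-/

set_option autoImplicit false

namespace CfsgLib.Chevalley.Tbl

variable {T : Tbl} {F : Type*} [Field F]

theorem torusHom_single (hT : T.Valid) (i : Fin T.rank) (c : Fˣ) :
    torusHom T F (Pi.mulSingle i c) = T.dU (T.hCh (T.simple i) c) := by
  refine dU_congr fun s _ => ?_
  rw [Finset.prod_eq_single i]
  · rw [Pi.mulSingle_eq_same, hCh, pair_simple hT i.2]
  · intro k _ hk
    rw [Pi.mulSingle_eq_of_ne hk, one_zpow]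
  · simp

theorem torusHom_mem (hT : T.Valid) (f : Fin T.rank → Fˣ) :
    torusHom T F f ∈ T.datum.diagonalSubgroup F := by
  rw [← torusHom_range hT]; exact ⟨f, rfl⟩

namespace TwistData

variable (D : TwistData T F)

/-- The twist on the parameters of the torus. -/
noncomputable def tau : (Fin T.rank → Fˣ) →* (Fin T.rank → Fˣ) where
  toFun f j := Units.map D.f.toRingHom.toMonoidHom (f (D.permS⁻¹ j)) ^
    D.M.lam (T.simple (D.permS⁻¹ j).val)
  map_one' := by funext j; simp
  map_mul' f g := by funext j; simp [mul_pow]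

theorem tau_apply (f : Fin T.rank → Fˣ) (i : Fin T.rank) :
    ((D.tau f (D.permS i) : Fˣ) : F) = D.f (f i : F) ^ D.M.lam (T.simple i.val) := by
  show ((Units.map D.f.toRingHom.toMonoidHom (f (D.permS⁻¹ (D.permS i))) ^
    D.M.lam (T.simple (D.permS⁻¹ (D.permS i)).val) : Fˣ) : F) = _
  rw [show D.permS⁻¹ (D.permS i) = i from D.permS.symm_apply_apply i, Units.val_pow_eq_pow_val]
  rfl

theorem sg_hU (r : Fin T.n) (c : Fˣ) :
    D.twist.sg (T.dU (T.hCh r.val c)) =
      T.dU (T.hCh (D.M.ρ r.val) (Units.map D.f.toRingHom.toMonoidHom c ^ D.M.lam r.val)) := by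
  have hT : T.Valid := D.ok.valid
  have hv : D.M.ρ r.val < T.n := (D.perm r).2
  rw [← hU_eq hT r.2 c, hU, D.twist.sg_mul (nU_mem_group hT r.2 _) (nU_mem_group hT r.2 _),
    D.twist.sg_nU, D.twist.sg_nU]
  show T.nU F (D.M.ρ r.val) (D.M.par r.val (D.f (c : F))) *
    T.nU F (D.M.ρ r.val) (D.M.par r.val (D.f (-1))) = _
  set A := Units.map D.f.toRingHom.toMonoidHom c ^ D.M.lam r.val with hA
  have hee := eps_sq (F := F) D.hp D.hM r.2
  let e : Fˣ := ⟨(D.M.ε r.val : F), (D.M.ε r.val : F), hee, hee⟩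
  have h1 : D.M.par r.val (D.f (-1)) = ((-e : Fˣ) : F) := by
    rw [map_neg, map_one, RootMap.par, pow_lam_neg D.hp D.hM r.2, one_pow, Units.val_neg, mul_neg, mul_one]
  have h2 : D.M.par r.val (D.f (c : F)) = ((e * A : Fˣ) : F) := by
    rw [RootMap.par, Units.val_mul, hA, Units.val_pow_eq_pow_val]; rfl
  rw [h1, h2, nU_t hT hv, nU_t hT hv, ← mul_assoc, mul_assoc (T.dU (T.hCh (D.M.ρ r.val) (e * A))),
    nU_dU_hCh hT hv, ← mul_assoc, dU_mul, hCh_mul, mul_assoc, nU_sq hT hv, dU_mul, hCh_mul]
  congr 2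
  apply Units.ext
  simp only [Units.val_mul, Units.val_neg, Units.val_inv_eq_inv_val, Units.val_one]
  have he0 : (e : F) ≠ 0 := e.ne_zero
  field_simp

theorem sg_torus (f : Fin T.rank → Fˣ) :
    D.twist.sg (torusHom T F f) = torusHom T F (D.tau f) := by
  classical
  have hT : T.Valid := D.ok.valid
  have hle : T.datum.diagonalSubgroup F ≤ T.datum.group F := diag_le_group hT
  let Ψ : (Fin T.rank → Fˣ) →* GL T.I F :=
    { toFun := fun f => D.twist.sg (torusHom T F f)
      map_one' := by rw [map_one, D.twist.sg_one]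
      map_mul' := fun a b => by
        rw [map_mul, D.twist.sg_mul (hle (torusHom_mem hT a)) (hle (torusHom_mem hT b))] }
  suffices Ψ = (torusHom T F).comp D.tau from DFunLike.congr_fun this f
  have hstep : ∀ i c, Ψ (Pi.mulSingle i c) = (torusHom T F).comp D.tau (Pi.mulSingle i c) := fun i c => ?_
  · refine MonoidHom.ext fun g => ?_
    have hS : ∀ S : Finset (Fin T.rank), Ψ (fun j => if j ∈ S then g j else 1) =
        (torusHom T F).comp D.tau (fun j => if j ∈ S then g j else 1) := by
      intro S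
      induction S using Finset.induction_on with
      | empty =>
        rw [show (fun j => if j ∈ (∅ : Finset (Fin T.rank)) then g j else 1) = (1 : Fin T.rank → Fˣ) from
          funext fun j => by simp, map_one, map_one]
      | insert i S hi ih =>
        rw [show (fun j => if j ∈ insert i S then g j else 1) =
            Pi.mulSingle i (g i) * (fun j => if j ∈ S then g j else 1) from funext fun j => by
          by_cases e : j = i
          · subst e; simp [hi]
          · simp [e], map_mul, map_mul, hstep, ih]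
    simpa using hS Finset.univ
  show D.twist.sg (torusHom T F (Pi.mulSingle i c)) = torusHom T F (D.tau (Pi.mulSingle i c))
  have e : D.tau (Pi.mulSingle i c) =
      Pi.mulSingle (D.permS i) (Units.map D.f.toRingHom.toMonoidHom c ^ D.M.lam (T.simple i.val)) := by
    funext j
    obtain ⟨k, rfl⟩ := D.permS.surjective j
    show Units.map D.f.toRingHom.toMonoidHom ((Pi.mulSingle i c : Fin T.rank → Fˣ) (D.permS⁻¹ (D.permS k))) ^
      D.M.lam (T.simple (D.permS⁻¹ (D.permS k)).val) = _
    rw [show D.permS⁻¹ (D.permS k) = k from D.permS.symm_apply_apply k]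
    rcases eq_or_ne k i with rfl | hk
    · rw [Pi.mulSingle_eq_same, Pi.mulSingle_eq_same]
    · rw [Pi.mulSingle_eq_of_ne hk, Pi.mulSingle_eq_of_ne (fun h => hk (D.permS.injective h)),
        map_one, one_pow]
  rw [e, torusHom_single hT, torusHom_single hT, D.sg_hU ⟨T.simple i.val, simple_lt hT i.2⟩ c]
  congr 2
  exact (D.twist_facts i.2).2.1

theorem mem_diag_fix_iff {g : GL T.I F} :
    g ∈ T.datum.diagonalSubgroup F ⊓ D.twist.fix ↔
      ∃ f, g = torusHom T F f ∧ torusHom T F (D.tau f) = torusHom T F f := by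
  have hT : T.Valid := D.ok.valid
  constructor
  · rintro ⟨hd, hf⟩
    rw [SetLike.mem_coe, ← torusHom_range hT] at hd
    obtain ⟨f, rfl⟩ := hd
    exact ⟨f, rfl, by rw [← D.sg_torus]; exact hf.2⟩
  · rintro ⟨f, rfl, hf⟩
    exact ⟨torusHom_mem hT f, diag_le_group hT (torusHom_mem hT f), by rw [D.sg_torus, hf]⟩

/-- The parameters fixed by the twist. -/
noncomputable def tauFix : Subgroup (Fin T.rank → Fˣ) := MonoidHom.eqLocus D.tau (MonoidHom.id _)

theorem map_tauFix_le : D.tauFix.map (torusHom T F) ≤ T.datum.diagonalSubgroup F ⊓ D.twist.fix := by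
  rintro _ ⟨f, hf, rfl⟩
  exact D.mem_diag_fix_iff.mpr ⟨f, rfl, congrArg _ hf⟩

theorem map_eq_tauFix (hker : ∀ z, torusHom T F z = 1 → z = 1) :
    T.datum.diagonalSubgroup F ⊓ D.twist.fix = D.tauFix.map (torusHom T F) := by
  refine le_antisymm (fun g hg => ?_) D.map_tauFix_le
  obtain ⟨f, rfl, hf⟩ := D.mem_diag_fix_iff.mp hg
  refine ⟨f, (div_eq_one.mp (hker (D.tau f / f) ?_) : D.tau f = f), rfl⟩
  rw [map_div, hf, div_self']

theorem card_map_tauFix :
    Nat.card ↥((torusHom T F).ker ⊓ D.tauFix) * Nat.card ↥(D.tauFix.map (torusHom T F)) =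
      Nat.card D.tauFix := by
  have h := Subgroup.card_mul_index ((torusHom T F).comp D.tauFix.subtype).ker
  rw [Subgroup.index_ker, MonoidHom.range_comp, Subgroup.range_subtype] at h
  rw [← h]
  congr 1
  exact Nat.card_congr
    { toFun := fun x => ⟨⟨x.1, x.2.2⟩, x.2.1⟩
      invFun := fun x => ⟨x.1.1, x.2, x.1.2⟩
      left_inv := fun _ => rfl
      right_inv := fun _ => rfl }

end TwistData

end CfsgLib.Chevalley.Tbl
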