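import Cfsg.Agent.Lib.Chevalley.Twist.AbCheck
import Cfsg.Agent.Lib.Chevalley.Twist.Inst
import Cfsg.Agent.Lib.Chevalley.Twist.Torus1

/-!
Orbits of commuting roots: fixed elements, and their diagonal elements as products of words.
-/

set_option autoImplicit false

namespace CfsgLib.Chevalley.Tbl

variable {T : Tbl} {F : Type*} [Field F]

/-- The word `x_{r_0}(t) x_{r_1}(φ t) …` along a cycle. -/
def cycWord (φ : F → F) (L : List ℕ) (t : F) : List (ℕ × F) :=
  (List.range L.length).map fun e => (L.getD e 0, φ^[e] t)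

theorem list_prod_mul_of_commute {G ι : Type*} [Monoid G] : ∀ (l : List ι), l.Nodup → ∀ a b : ι → G,
    (∀ i ∈ l, ∀ j ∈ l, i ≠ j → Commute (b i) (a j)) →
      (l.map a).prod * (l.map b).prod = (l.map fun i => a i * b i).prod := by
  intro l
  induction l with
  | nil => intro _ a b _; simp
  | cons i l ih =>
    intro hnd a b hc
    obtain ⟨hi, hnd'⟩ := List.nodup_cons.mp hnd
    have h1 : Commute (b i) (l.map a).prod := Commute.list_prod_right _ _ fun x hx => by
      obtain ⟨j, hj, rfl⟩ := List.mem_map.mp hx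
      exact hc i List.mem_cons_self j (List.mem_cons_of_mem _ hj) fun e => hi (e ▸ hj)
    simp only [List.map_cons, List.prod_cons]
    rw [← ih hnd' a b fun x hx y hy => hc x (List.mem_cons_of_mem _ hx) y (List.mem_cons_of_mem _ hy)]
    calc a i * (l.map a).prod * (b i * (l.map b).prod)
        = a i * ((l.map a).prod * b i) * (l.map b).prod := by simp only [mul_assoc]
      _ = a i * b i * ((l.map a).prod * (l.map b).prod) := by rw [h1.eq.symm]; simp only [mul_assoc]

namespace TwistData

variable (D : TwistData T F)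

theorem chkAb_facts {L : List ℕ} (h : T.chkAb D.M L = true) :
    0 < L.length ∧ ∀ e < L.length, L.getD e 0 < T.n ∧
      D.M.ρ (L.getD e 0) = L.getD ((e + 1) % L.length) 0 ∧
      (∀ t : F, D.M.par (L.getD e 0) t = t) ∧
      ∀ e' < L.length, e ≠ e' → L.getD e 0 ≠ L.getD e' 0 ∧ L.getD e' 0 ≠ T.neg (L.getD e 0) ∧
        T.commT (L.getD e 0) (L.getD e' 0) = [] ∧ T.commT (L.getD e 0) (T.neg (L.getD e' 0)) = [] ∧
        T.commT (T.neg (L.getD e 0)) (T.neg (L.getD e' 0)) = [] := by
  simp only [chkAb, Bool.and_eq_true, allLt_iff] at h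
  obtain ⟨h0, h1⟩ := h
  refine ⟨Nat.le_of_ble_eq_true h0, fun e he => ?_⟩
  obtain ⟨⟨⟨⟨a, b⟩, c⟩, d⟩, f⟩ := h1 e he
  refine ⟨Nat.le_of_ble_eq_true a, Nat.eq_of_beq_eq_true b, fun t => ?_, fun e' he' hne => ?_⟩
  · rw [RootMap.par, decide_eq_true_eq.mp c, Nat.eq_of_beq_eq_true d, Int.cast_one, one_mul, pow_one]
  · have := f e' he'
    simp only [Bool.or_eq_true, Bool.and_eq_true, Bool.not_eq_true', List.isEmpty_iff] at this
    rcases this with h2 | ⟨⟨⟨⟨h2, h3⟩, h4⟩, h5⟩, h6⟩
    · exact absurd (Nat.eq_of_beq_eq_true h2) hne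
    · exact ⟨fun e2 => by rw [e2, Nat.beq_refl] at h2; simp at h2,
        fun e2 => by rw [e2, Nat.beq_refl] at h3; simp at h3, h4, h5, h6⟩

variable {L : List ℕ} (hL : T.chkAb D.M L = true)
include hL

theorem cycWord_lt (t : F) : ∀ p ∈ cycWord D.f L t, p.1 < T.n := by
  intro p hp
  obtain ⟨e, he, rfl⟩ := List.mem_map.mp hp
  exact ((D.chkAb_facts hL).2 e (List.mem_range.mp he)).1

theorem ab_commute {e e' : ℕ} (he : e < L.length) (he' : e' < L.length) (s t : F) :
    Commute (T.xU F (L.getD e 0) s) (T.xU F (L.getD e' 0) t) := by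
  obtain ⟨-, h⟩ := D.chkAb_facts hL
  by_cases hee : e = e'
  · subst hee
    show _ * _ = _ * _
    rw [xU_add D.ok.valid (h e he).1, xU_add D.ok.valid (h e he).1, add_comm]
  · obtain ⟨-, h2, h3, -, -⟩ := (h e he).2.2.2 e' he' hee
    exact commute_xU D.ok.valid D.ok.comm (h e he).1 (h e' he').1 h2 (by rw [h3]; simp) s t

theorem ab_commute_neg {e e' : ℕ} (he : e < L.length) (he' : e' < L.length) (hne : e ≠ e') (s t : F) :
    Commute (T.xU F (L.getD e 0) s) (T.xU F (T.neg (L.getD e' 0)) t) := by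
  obtain ⟨-, h⟩ := D.chkAb_facts hL
  obtain ⟨h1, -, -, h4, -⟩ := (h e he).2.2.2 e' he' hne
  exact commute_xU D.ok.valid D.ok.comm (h e he).1 (neg_lt' (h e' he').1) (fun e2 => h1 (by
      have := congrArg T.neg e2
      rwa [neg_neg' (h e' he').1, neg_neg' (h e he).1, eq_comm] at this))
    (by rw [h4]; simp) s t

omit hL in
theorem iterate_facts {e : ℕ} (he : e < L.length) (t : F) (hk : (⇑D.f)^[L.length] t = t) :
    (⇑D.f)^[(e + 1) % L.length] t = D.f ((⇑D.f)^[e] t) := by
  rw [← Function.iterate_succ_apply' (⇑D.f)]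
  rcases Nat.lt_or_ge (e + 1) L.length with h | h
  · rw [Nat.mod_eq_of_lt h]
  · rw [show e + 1 = L.length by omega, Nat.mod_self]
    show t = _
    rw [show Nat.succ e = L.length by omega, hk]

/-- A cycle word with a fitting parameter is fixed. -/
theorem cycWord_fix {t : F} (hk : (⇑D.f)^[L.length] t = t) :
    T.gprod (cycWord D.f L t) ∈ D.twist.fix := by
  obtain ⟨h0, h⟩ := D.chkAb_facts hL
  refine ⟨gprod_mem_group D.ok.valid (D.cycWord_lt hL t), ?_⟩
  rw [sg_gprod D.twist (D.cycWord_lt hL t) (fun p => (D.M.ρ p.1, D.M.par p.1 (D.f p.2)))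
    (fun p hp => D.sg_x (D.cycWord_lt hL t p hp) p.2)]
  have e1 : (cycWord D.f L t).map (fun p => (D.M.ρ p.1, D.M.par p.1 (D.f p.2))) =
      ((List.range L.length).map fun e => (e + 1) % L.length).map
        fun e => (L.getD e 0, (⇑D.f)^[e] t) := by
    rw [cycWord, List.map_map, List.map_map]
    refine List.map_congr_left fun e he => ?_
    have he' := List.mem_range.mp he
    simp only [Function.comp_apply]
    rw [(h e he').2.1, (h e he').2.2.1, D.iterate_facts he' t hk]
  rw [e1, gprod, gprod, cycWord]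
  refine List.Perm.prod_eq' ((List.Perm.map _ (List.Perm.map _ ?_))) ?_
  · refine List.perm_of_nodup_nodup_toFinset_eq ?_ List.nodup_range ?_
    · refine List.Nodup.map_on (fun a ha b hb hab => ?_) List.nodup_range
      simp only [List.mem_range] at ha hb
      rcases Nat.lt_or_ge (a + 1) L.length with h1 | h1 <;>
        rcases Nat.lt_or_ge (b + 1) L.length with h2 | h2
      · rw [Nat.mod_eq_of_lt h1, Nat.mod_eq_of_lt h2] at hab; omega
      · rw [Nat.mod_eq_of_lt h1, show b + 1 = L.length by omega, Nat.mod_self] at hab; omega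
      · rw [Nat.mod_eq_of_lt h2, show a + 1 = L.length by omega, Nat.mod_self] at hab; omega
      · omega
    · ext a
      simp only [List.mem_toFinset, List.mem_map, List.mem_range]
      refine ⟨fun ⟨e, _, he⟩ => he ▸ Nat.mod_lt _ h0, fun ha => ?_⟩
      rcases Nat.eq_zero_or_pos a with rfl | hpos
      · exact ⟨L.length - 1, by omega, by rw [show L.length - 1 + 1 = L.length by omega, Nat.mod_self]⟩
      · exact ⟨a - 1, by omega, by rw [show a - 1 + 1 = a by omega, Nat.mod_eq_of_lt ha]⟩
  · refine List.pairwise_of_forall_mem_list fun a ha b hb => ?_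
    simp only [List.mem_map, List.mem_range] at ha hb
    obtain ⟨_, ⟨e, ⟨i, hi, rfl⟩, rfl⟩, rfl⟩ := ha
    obtain ⟨_, ⟨e', ⟨i', hi', rfl⟩, rfl⟩, rfl⟩ := hb
    exact D.ab_commute hL (Nat.mod_lt _ h0) (Nat.mod_lt _ h0) _ _

/-- The fixed part of the root group of a cycle is the set of its words. -/
theorem exists_cycWord {o : ℕ} {orb : List ℕ} {words : List (List ℕ)}
    (h : T.chkOrbits D.M o orb words = true) (j : Fin o) (hperm : (T.negList (words.getD j [])).Perm L)
    {x : GL T.I F} (hx : x ∈ D.twist.Uw (D.twist.wJ (D.orbits h) j)) :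
    ∃ t, (⇑D.f)^[L.length] t = t ∧ x = T.gprod (cycWord D.f L t) := by
  classical
  obtain ⟨h0, hfa⟩ := D.chkAb_facts hL
  obtain ⟨hxf, hxU⟩ := Subgroup.mem_inf.mp hx
  obtain ⟨f, rfl⟩ := D.exists_word h j rfl hxU
  set N := T.negList (words.getD j []) with hN
  have hNb : ∀ r ∈ N, T.half ≤ r ∧ r < T.n := fun r hr => by
    obtain ⟨hr', h1, -⟩ := (D.negSet_iff h j rfl r).mpr hr
    exact ⟨h1, hr'⟩
  have hgetD : ∀ r ∈ L, ∃ e < L.length, L.getD e 0 = r := fun r hr => by
    obtain ⟨e, he, rfl⟩ := List.mem_iff_getElem.mp hr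
    exact ⟨e, he, List.getD_eq_getElem _ _ he⟩
  have hmemL : ∀ e < L.length, L.getD e 0 ∈ L := fun e he => by
    rw [List.getD_eq_getElem _ _ he]; exact List.getElem_mem he
  have hρL : ∀ r ∈ N, D.M.ρ r ∈ N := fun r hr => by
    obtain ⟨e, he, rfl⟩ := hgetD r (hperm.mem_iff.mp hr)
    rw [(hfa e he).2.1]
    exact hperm.mem_iff.mpr (hmemL _ (Nat.mod_lt _ h0))
  have hNs : N.Pairwise (· < ·) := List.Pairwise.filter _ List.pairwise_lt_range'
  have hρperm : (N.map D.M.ρ).Perm N := by
    have hnd : (N.map D.M.ρ).Nodup := List.Nodup.map_on (fun a ha b hb e =>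
      (chkMap_facts D.hM (hNb a ha).2).2.2.2.2.2.2 b (hNb b hb).2 e)
      (hNs.imp fun h => ne_of_lt h)
    refine (List.subperm_of_subset hnd ?_).perm_of_length_le (by simp)
    intro a ha
    obtain ⟨r, hr, rfl⟩ := List.mem_map.mp ha
    exact hρL r hr
  have hcomm : ∀ a ∈ N, ∀ b ∈ N, ∀ s t : F, Commute (T.xU F a s) (T.xU F b t) := fun a ha b hb s t => by
    obtain ⟨e, he, rfl⟩ := hgetD a (hperm.mem_iff.mp ha)
    obtain ⟨e', he', rfl⟩ := hgetD b (hperm.mem_iff.mp hb)
    exact D.ab_commute hL he he' s t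
  let g : ℕ → F := fun s => if hs : ∃ r ∈ N, D.M.ρ r = s then D.M.par hs.choose (D.f (f hs.choose)) else 0
  have hg : ∀ r : Fin T.n, r.val ∈ N → g (D.M.ρ r) = D.twist.par r (f r) := by
    intro r hr
    have hs : ∃ r' ∈ N, D.M.ρ r' = D.M.ρ r := ⟨r, hr, rfl⟩
    simp only [g, dif_pos hs]
    obtain ⟨h1, h2⟩ := hs.choose_spec
    rw [(chkMap_facts D.hM (hNb _ h1).2).2.2.2.2.2.2 r.val r.2 h2]
    rfl
  have e := hxf.2
  rw [D.twist.sg_gprod_perm (fun r hr => (hNb r hr).2) D.M.ρ (fun r _ => rfl) hρperm hcomm f g hg] at e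
  have hfg := gprod_inj D.ok.valid D.ok.comm hNs hNb g f e
  have hstep : ∀ e < L.length, f (L.getD ((e + 1) % L.length) 0) = D.f (f (L.getD e 0)) := by
    intro e he
    have hm := hperm.mem_iff.mpr (hmemL e he)
    rw [← (hfa e he).2.1, ← hfg _ (hρL _ hm), hg ⟨_, (hfa e he).1⟩ hm]
    exact (hfa e he).2.2.1 _
  have hall : ∀ e < L.length, f (L.getD e 0) = (⇑D.f)^[e] (f (L.getD 0 0)) := by
    intro e
    induction e with
    | zero => intro _; rfl
    | succ e ih =>
      intro he
      have := hstep e (by omega)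
      rw [Nat.mod_eq_of_lt he] at this
      rw [this, ih (by omega), Function.iterate_succ_apply']
  refine ⟨f (L.getD 0 0), ?_, ?_⟩
  · have := hstep (L.length - 1) (by omega)
    rw [show L.length - 1 + 1 = L.length by omega, Nat.mod_self, hall (L.length - 1) (by omega)] at this
    conv_rhs => rw [this]
    rw [← Function.iterate_succ_apply' (⇑D.f), show Nat.succ (L.length - 1) = L.length by omega]
  · rw [gprod, gprod, cycWord]
    have e2 : (List.range L.length).map (fun e => (L.getD e 0, (⇑D.f)^[e] (f (L.getD 0 0)))) =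
        L.map fun r => (r, f r) := by
      apply List.ext_getElem (by simp)
      intro i h1 h2
      simp only [List.length_map, List.length_range] at h1
      simp only [List.getElem_map, List.getElem_range, List.getD_eq_getElem _ _ h1]
      have := hall i h1
      rw [List.getD_eq_getElem _ _ h1] at this
      rw [← this]
    rw [e2]
    refine List.Perm.prod_eq' ((hperm.map _).map _) ?_
    refine List.pairwise_of_forall_mem_list fun a ha b hb => ?_
    simp only [List.mem_map] at ha hb
    obtain ⟨_, ⟨r, hr, rfl⟩, rfl⟩ := ha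
    obtain ⟨_, ⟨r', hr', rfl⟩, rfl⟩ := hb
    exact hcomm r hr r' hr' _ _

/-- The order of the fixed part of the root group of a cycle. -/
theorem card_Uw_cyc {o : ℕ} {orb : List ℕ} {words : List (List ℕ)}
    (h : T.chkOrbits D.M o orb words = true) (j : Fin o) (hperm : (T.negList (words.getD j [])).Perm L) :
    Nat.card (D.twist.Uw (D.twist.wJ (D.orbits h) j)) = Nat.card {t : F // (⇑D.f)^[L.length] t = t} := by
  obtain ⟨h0, hfa⟩ := D.chkAb_facts hL
  have hmem : ∀ t : F, (⇑D.f)^[L.length] t = t →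
      T.gprod (cycWord D.f L t) ∈ D.twist.Uw (D.twist.wJ (D.orbits h) j) := fun t ht =>
    Subgroup.mem_inf.mpr ⟨D.cycWord_fix hL ht, D.word_mem_negSet h j rfl fun p hp => by
      obtain ⟨e, he, rfl⟩ := List.mem_map.mp hp
      exact hperm.mem_iff.mpr (by
        rw [List.getD_eq_getElem _ _ (List.mem_range.mp he)]; exact List.getElem_mem _)⟩
  refine (Nat.card_eq_of_bijective
    (fun t : {t : F // (⇑D.f)^[L.length] t = t} =>
      (⟨_, hmem t.1 t.2⟩ : ↥(D.twist.Uw (D.twist.wJ (D.orbits h) j)))) ⟨?_, ?_⟩).symm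
  · rintro ⟨t, ht⟩ ⟨t', ht'⟩ e
    apply Subtype.ext
    have e' : T.gprod (cycWord D.f L t) = T.gprod (cycWord D.f L t') := congrArg Subtype.val e
    set r0 := L.getD 0 0
    have hN : r0 ∈ T.negList (words.getD j []) := hperm.mem_iff.mpr (by
      simp only [r0]
      rw [List.getD_eq_getElem _ _ h0]; exact List.getElem_mem _)
    -- compare along the sorted list
    have conv : ∀ s : F, T.gprod (cycWord D.f L s) = T.gprod ((T.negList (words.getD j [])).map
        fun r => (r, (⇑D.f)^[L.idxOf r] s)) := by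
      intro s
      rw [gprod, gprod, cycWord]
      have e3 : (List.range L.length).map (fun e => (L.getD e 0, (⇑D.f)^[e] s)) =
          L.map fun r => (r, (⇑D.f)^[L.idxOf r] s) := by
        have hnd : L.Nodup := hperm.nodup_iff.mp
          ((List.Pairwise.filter _ List.pairwise_lt_range').imp fun h => ne_of_lt h)
        apply List.ext_getElem (by simp)
        intro i h1 h2
        simp only [List.length_map, List.length_range] at h1
        simp only [List.getElem_map, List.getElem_range, List.getD_eq_getElem _ _ h1,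
          hnd.idxOf_getElem i h1]
      rw [e3]
      refine List.Perm.prod_eq' ((hperm.symm.map _).map _) ?_
      refine List.pairwise_of_forall_mem_list fun a ha b hb => ?_
      simp only [List.mem_map] at ha hb
      obtain ⟨_, ⟨r, hr, rfl⟩, rfl⟩ := ha
      obtain ⟨_, ⟨r', hr', rfl⟩, rfl⟩ := hb
      obtain ⟨i, hi, rfl⟩ := List.mem_iff_getElem.mp hr
      obtain ⟨i', hi', rfl⟩ := List.mem_iff_getElem.mp hr'
      have := D.ab_commute hL hi hi' ((⇑D.f)^[L.idxOf L[i]] s) ((⇑D.f)^[L.idxOf L[i']] s)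
      rwa [List.getD_eq_getElem _ _ hi, List.getD_eq_getElem _ _ hi'] at this
    rw [conv t, conv t'] at e'
    have hb : ∀ r ∈ T.negList (words.getD j []), T.half ≤ r ∧ r < T.n := fun r hr => by
      obtain ⟨hr', h1, -⟩ := (D.negSet_iff h j rfl r).mpr hr
      exact ⟨h1, hr'⟩
    have := gprod_inj D.ok.valid D.ok.comm (List.Pairwise.filter _ List.pairwise_lt_range') hb
      _ _ e' r0 hN
    have h00 : L.idxOf r0 = 0 := by
      cases L with
      | nil => simp at h0
      | cons a l => simp [r0]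
    simpa [h00] using this
  · rintro ⟨x, hx⟩
    obtain ⟨t, ht, rfl⟩ := D.exists_cycWord hL h j hperm hx
    exact ⟨⟨t, ht⟩, rfl⟩

/-- A product of words along the positive and negative cycle is a product of `n`'s. -/
theorem cyc_nU (t : F) :
    T.gprod (cycWord D.f L t) * T.gprod (cycWord D.f (L.map T.neg) (-t⁻¹)) * T.gprod (cycWord D.f L t) =
      ((List.range L.length).map fun e => T.nU F (L.getD e 0) ((⇑D.f)^[e] t)).prod := by
  obtain ⟨h0, h⟩ := D.chkAb_facts hL
  have hit : ∀ e, (⇑D.f)^[e] (-t⁻¹) = -((⇑D.f)^[e] t)⁻¹ := by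
    intro e
    induction e with
    | zero => rfl
    | succ e ih => rw [Function.iterate_succ_apply', Function.iterate_succ_apply', ih, map_neg, map_inv₀]
  rw [gprod, gprod, cycWord, cycWord, List.length_map, List.map_map, List.map_map,
    list_prod_mul_of_commute _ List.nodup_range _ _ (fun i hi j hj hne => ?_),
    list_prod_mul_of_commute _ List.nodup_range _ _ (fun i hi j hj hne => ?_)]
  · refine congrArg List.prod (List.map_congr_left fun e he => ?_)
    have he' := List.mem_range.mp he
    simp only [Function.comp_apply]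
    rw [List.getD_eq_getElem _ _ (show e < (L.map T.neg).length by simpa using he'), List.getElem_map,
      List.getD_eq_getElem _ _ he', nU, hit]
  · have hi' := List.mem_range.mp hi
    have hj' := List.mem_range.mp hj
    simp only [Function.comp_apply]
    rw [List.getD_eq_getElem _ _ (show j < (L.map T.neg).length by simpa using hj'), List.getElem_map,
      ← List.getD_eq_getElem L 0 hj']
    exact Commute.mul_right (D.ab_commute hL hi' hj' _ _) (D.ab_commute_neg hL hi' hj' hne _ _)
  · have hi' := List.mem_range.mp hi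
    have hj' := List.mem_range.mp hj
    simp only [Function.comp_apply]
    rw [List.getD_eq_getElem _ _ (show i < (L.map T.neg).length by simpa using hi'), List.getElem_map,
      ← List.getD_eq_getElem L 0 hi']
    exact (D.ab_commute_neg hL hj' hi' hne.symm _ _).symm

/-- The diagonal element of a cycle. -/
theorem cyc_hU (c : Fˣ) :
    ((List.range L.length).map fun e => T.dU (T.hCh (L.getD e 0)
        ((⇑(Units.map D.f.toRingHom.toMonoidHom))^[e] c))).prod =
      T.gprod (cycWord D.f L (c : F)) * T.gprod (cycWord D.f (L.map T.neg) (-(c : F)⁻¹)) *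
          T.gprod (cycWord D.f L (c : F)) *
        (T.gprod (cycWord D.f L (-1)) * T.gprod (cycWord D.f (L.map T.neg) (-(-1 : F)⁻¹)) *
          T.gprod (cycWord D.f L (-1))) := by
  obtain ⟨h0, h⟩ := D.chkAb_facts hL
  have hval : ∀ e, (((⇑(Units.map D.f.toRingHom.toMonoidHom))^[e] c : Fˣ) : F) = (⇑D.f)^[e] (c : F) := by
    intro e
    induction e with
    | zero => rfl
    | succ e ih =>
      rw [Function.iterate_succ_apply', Function.iterate_succ_apply', Units.coe_map, ih]
      rfl
  have hm1 : ∀ e, (⇑D.f)^[e] (-1 : F) = -1 :=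
    fun e => Function.iterate_fixed (by rw [map_neg, map_one]) e
  rw [D.cyc_nU hL, D.cyc_nU hL, list_prod_mul_of_commute _ List.nodup_range _ _ (fun i hi j hj hne => ?_)]
  · refine congrArg List.prod (List.map_congr_left fun e he => ?_)
    rw [hm1, ← hval e, ← hU_eq D.ok.valid (h e (List.mem_range.mp he)).1]
    rfl
  · have hi' := List.mem_range.mp hi
    have hj' := List.mem_range.mp hj
    have a1 := fun s u => D.ab_commute hL hi' hj' s u
    have a2 := fun s u => D.ab_commute_neg hL hi' hj' hne s u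
    have a3 := fun s u => (D.ab_commute_neg hL hj' hi' hne.symm s u).symm
    have a4 : ∀ s u, Commute (T.xU F (T.neg (L.getD i 0)) s) (T.xU F (T.neg (L.getD j 0)) u) := by
      intro s u
      obtain ⟨h1, -, -, -, h5⟩ := (h i hi').2.2.2 j hj' hne
      refine commute_xU D.ok.valid D.ok.comm (neg_lt' (h i hi').1) (neg_lt' (h j hj').1) (fun e2 => ?_)
        (by rw [h5]; simp) s u
      rw [neg_neg' (h i hi').1] at e2
      exact ((h i hi').2.2.2 j hj' hne).2.1 (by rw [← e2, neg_neg' (h j hj').1])
    simp only [nU]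
    exact Commute.mul_left
      (Commute.mul_left
        (Commute.mul_right (Commute.mul_right (a1 _ _) (a2 _ _)) (a1 _ _))
        (Commute.mul_right (Commute.mul_right (a3 _ _) (a4 _ _)) (a3 _ _)))
      (Commute.mul_right (Commute.mul_right (a1 _ _) (a2 _ _)) (a1 _ _))

end TwistData

end CfsgLib.Chevalley.Tbl
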