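import Cfsg.Agent.Lib.Chevalley.GraphCheck

/-!
Certificates for orbits of pairwise commuting roots.
-/

set_option autoImplicit false

namespace CfsgLib.Chevalley.Tbl

variable (T : Tbl)

/-- A cycle of the root map, signs and exponents one, pairwise commuting and with the negatives of
the others. -/
def chkAb (M : RootMap) (L : List ℕ) : Bool :=
  let k := L.length
  Nat.blt 0 k && allLt (fun e =>
    let a := L.getD e 0
    Nat.blt a T.n && Nat.beq (M.ρ a) (L.getD ((e + 1) % k) 0) && decide (M.ε a = 1) &&
    Nat.beq (M.lam a) 1 &&
    allLt (fun e' =>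
      let b := L.getD e' 0
      Nat.beq e e' || (!Nat.beq a b && !Nat.beq b (T.neg a) &&
        (T.commT a b).isEmpty && (T.commT a (T.neg b)).isEmpty &&
        (T.commT (T.neg a) (T.neg b)).isEmpty)) k) k

end CfsgLib.Chevalley.Tbl
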