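import Cfsg.Agent.Lib.Chevalley.Twist.AbInstCheck
import Cfsg.Agent.Lib.Chevalley.Twist.Ab
import Cfsg.Agent.Lib.Chevalley.Twist.PairW
import Cfsg.Agent.Lib.Chevalley.Twist.Weyl1

/-!
The groups generated by the cycle words of commuting orbits.
-/

set_option autoImplicit false

namespace CfsgLib.Chevalley.Tbl

open scoped commutatorElement

/-- A twist with commuting orbits, and a set of generating words. -/
structure AbSetup (T : Tbl) (F : Type*) [Field F] where
  D : TwistData T F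
  o : ℕ
  orb : List ℕ
  words : List (List ℕ)
  Ss : List (List ℕ)
  hO : T.chkOrbits D.M o orb words = true
  hA : T.chkAbInst D.M o words Ss = true
  W : Set (List (ℕ × F))
  hW : ∀ w ∈ W, ∃ j < o, ∃ t, (⇑D.f)^[(Ss.getD j []).length] t = t ∧
    (w = cycWord D.f (T.simples (Ss.getD j [])) t ∨ w = cycWord D.f ((T.simples (Ss.getD j [])).map T.neg) t)
  hpos : ∀ j < o, ∀ t, (⇑D.f)^[(Ss.getD j []).length] t = t →
    cycWord D.f (T.simples (Ss.getD j [])) t ∈ W
  hneg : ∀ j < o, ∀ t, (⇑D.f)^[(Ss.getD j []).length] t = t →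
    cycWord D.f ((T.simples (Ss.getD j [])).map T.neg) t ∈ W

namespace AbSetup

variable {T : Tbl} {F : Type*} [Field F] (A : AbSetup T F)

/-- The twist. -/
noncomputable abbrev S : Twist T F := A.D.twist

/-- The orbits. -/
noncomputable abbrev O : Orbits T A.S.valid A.S.ρ := A.D.orbits A.hO

/-- The fundamental roots of an orbit, in cyclic order. -/
def L (j : ℕ) : List ℕ := T.simples (A.Ss.getD j [])

/-- The parameters of an orbit. -/
def Fit (j : ℕ) (t : F) : Prop := (⇑A.D.f)^[(A.Ss.getD j []).length] t = t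

/-- The group. -/
noncomputable abbrev G : Subgroup (GL T.I F) := T.datum.genSubgroup F A.W

theorem length_L (j : ℕ) : (A.L j).length = (A.Ss.getD j []).length := List.length_map _

theorem facts {j : ℕ} (hj : j < A.o) :
    T.chkAb A.D.M (A.L j) = true ∧ T.chkAb A.D.M ((A.L j).map T.neg) = true ∧
      (∀ i ∈ A.Ss.getD j [], i < T.rank) ∧ (T.negList (A.words.getD j [])).Perm (A.L j) := by
  have h := A.hA
  simp only [chkAbInst, Bool.and_eq_true, allLt_iff, List.all_eq_true] at h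
  obtain ⟨⟨⟨a, b⟩, c⟩, d⟩ := h.1 j hj
  exact ⟨a, b, fun i hi => Nat.le_of_ble_eq_true (c i hi), List.isPerm_iff.mp d⟩

theorem cover {i : ℕ} (hi : i < T.rank) : ∃ j < A.o, i ∈ A.Ss.getD j [] := by
  have h := A.hA
  simp only [chkAbInst, Bool.and_eq_true, allLt_iff, List.any_eq_true, List.mem_range] at h
  obtain ⟨j, hj, k, hk, e⟩ := h.2 i hi
  exact ⟨j, hj, Nat.eq_of_beq_eq_true e ▸ hk⟩

theorem fit_neg {j : ℕ} {t : F} (h : A.Fit j t) : A.Fit j (-t) := by
  have : ∀ e, (⇑A.D.f)^[e] (-t) = -(⇑A.D.f)^[e] t := by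
    intro e
    induction e with
    | zero => rfl
    | succ e ih => rw [Function.iterate_succ_apply', Function.iterate_succ_apply', ih, map_neg]
  unfold Fit
  rw [this, h]

theorem fit_inv {j : ℕ} {t : F} (h : A.Fit j t) : A.Fit j t⁻¹ := by
  have : ∀ e, (⇑A.D.f)^[e] t⁻¹ = ((⇑A.D.f)^[e] t)⁻¹ := by
    intro e
    induction e with
    | zero => rfl
    | succ e ih => rw [Function.iterate_succ_apply', Function.iterate_succ_apply', ih, map_inv₀]
  unfold Fit
  rw [this, h]

theorem fit_one (j : ℕ) : A.Fit j 1 := Function.iterate_fixed (map_one A.D.f) _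

theorem pos_mem {j : ℕ} (hj : j < A.o) {t : F} (ht : A.Fit j t) :
    T.gprod (cycWord A.D.f (A.L j) t) ∈ A.G :=
  word_mem_genSubgroup A.D.ok.valid (A.hpos j hj t ht) (A.D.cycWord_lt (A.facts hj).1 t)

theorem neg_mem {j : ℕ} (hj : j < A.o) {t : F} (ht : A.Fit j t) :
    T.gprod (cycWord A.D.f ((A.L j).map T.neg) t) ∈ A.G :=
  word_mem_genSubgroup A.D.ok.valid (A.hneg j hj t ht) (A.D.cycWord_lt (A.facts hj).2.1 t)

theorem pos_fix {j : ℕ} (hj : j < A.o) {t : F} (ht : A.Fit j t) :
    T.gprod (cycWord A.D.f (A.L j) t) ∈ A.S.fix :=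
  A.D.cycWord_fix (A.facts hj).1 (by rw [A.length_L]; exact ht)

theorem neg_fix {j : ℕ} (hj : j < A.o) {t : F} (ht : A.Fit j t) :
    T.gprod (cycWord A.D.f ((A.L j).map T.neg) t) ∈ A.S.fix :=
  A.D.cycWord_fix (A.facts hj).2.1 (by rw [List.length_map, A.length_L]; exact ht)

theorem le_fix : A.G ≤ A.S.fix := by
  refine genSubgroup_le_fix A.S fun w hw => ?_
  obtain ⟨j, hj, t, ht, rfl | rfl⟩ := A.hW w hw
  · exact ⟨A.D.cycWord_lt (A.facts hj).1 t, A.pos_fix hj ht⟩
  · exact ⟨A.D.cycWord_lt (A.facts hj).2.1 t, A.neg_fix hj ht⟩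

theorem neg_word_VJ (j : Fin A.o) (t : F) :
    T.gprod (cycWord A.D.f ((A.L j).map T.neg) t) ∈ T.rootGen F
      (fun r => ∃ h : r < T.n, r < T.half ∧ T.half ≤ (A.S.wJ A.O j ⟨r, h⟩).val) := by
  obtain ⟨hab, hab', -, hperm⟩ := A.facts j.2
  refine gprod_mem fun p hp => ?_
  obtain ⟨e, he, rfl⟩ := List.mem_map.mp hp
  have he' : e < (A.L j).length := by simpa using List.mem_range.mp he
  have hlt := ((A.D.chkAb_facts hab).2 e he').1
  show ((A.L j).map T.neg).getD e 0 < T.n ∧ _
  rw [List.getD_eq_getElem _ _ (by simpa using he'), List.getElem_map, ← List.getD_eq_getElem (A.L j) 0 he']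
  refine ⟨neg_lt' hlt, A.D.mem_VJ A.hO j rfl (neg_lt' hlt) ?_⟩
  rw [neg_neg' hlt]
  refine hperm.mem_iff.mpr ?_
  rw [List.getD_eq_getElem _ _ he']; exact List.getElem_mem _

theorem neg_word_ne_one {j : ℕ} (hj : j < A.o) {t : F} (ht : t ≠ 0) :
    T.gprod (cycWord A.D.f ((A.L j).map T.neg) t) ≠ 1 := by
  have hT := A.D.ok.valid
  obtain ⟨hab, hab', hi, hperm⟩ := A.facts hj
  obtain ⟨h0, hfa⟩ := A.D.chkAb_facts hab
  cases hs : A.Ss.getD j [] with
  | nil => rw [A.length_L, hs] at h0; simp at h0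
  | cons i s =>
    have hi' : i < T.rank := hi i (by rw [hs]; exact List.mem_cons_self)
    have hlen : (A.L j).length = s.length + 1 := by rw [A.length_L, hs]; rfl
    have hLs : A.L j = T.simple i :: s.map T.simple := by rw [L, simples, hs]; rfl
    rw [cycWord, List.length_map, hlen, List.range_succ_eq_map, List.map_cons, gprod_cons, hLs]
    simp only [List.map_cons, List.getD_cons_zero, Function.iterate_zero, id_eq]
    refine neg_simple_mul_ne_one hT A.D.ok.comm (i := ⟨i, hi'⟩) ht (gprod_mem fun p hp => ?_)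
    simp only [List.map_map, List.mem_map, List.mem_range] at hp
    obtain ⟨e, he, rfl⟩ := hp
    simp only [Function.comp_apply, List.getD_cons_succ]
    have h1 := (hfa (e + 1) (by omega)).1
    have h2 := ((hfa (e + 1) (by omega)).2.2.2 0 (by omega) (by omega)).1
    simp only [hLs, List.getD_cons_succ, List.getD_cons_zero] at h1 h2
    rw [show (s.map (T.neg ∘ T.simple)).getD e 0 = T.neg ((s.map T.simple).getD e 0) by
      rw [List.getD_eq_getElem _ _ (by simpa using he), List.getD_eq_getElem _ _ (by simpa using he),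
        List.getElem_map, List.getElem_map]; rfl]
    have hpos : T.half ≤ (s.map T.simple).getD e 0 := by
      rw [List.getD_eq_getElem _ _ (by simpa using he), List.getElem_map]
      exact isPos_iff.mp (simple_pos hT (hi _ (by rw [hs]; exact List.mem_cons_of_mem _ (List.getElem_mem he))))
    refine ⟨neg_lt' h1, negF_lt (T := T) (s := ⟨_, h1⟩) hpos, fun e2 => h2 ?_⟩
    have := congrArg T.neg e2
    rwa [neg_neg' h1, neg_neg' (simple_lt hT hi')] at this

theorem exists_word (j : Fin A.o) {x : GL T.I F} (hx : x ∈ A.S.Uw (A.S.wJ A.O j)) :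
    ∃ t, A.Fit j t ∧ x = T.gprod (cycWord A.D.f (A.L j) t) := by
  obtain ⟨t, ht, e⟩ := A.D.exists_cycWord (A.facts j.2).1 A.hO j (A.facts j.2).2.2.2 hx
  exact ⟨t, by rwa [A.length_L] at ht, e⟩

/-- The group as a group of fixed points containing the orbit parts. -/
noncomputable def gen : A.S.Gen A.O where
  Γ := A.G
  le := A.le_fix
  UJ j x hf hU := by
    obtain ⟨t, ht, rfl⟩ := A.exists_word j (Subgroup.mem_inf.mpr ⟨hf, hU⟩)
    exact A.pos_mem j.2 ht
  VJ j := ⟨_, A.neg_mem j.2 (A.fit_one j), A.neg_word_ne_one j.2 one_ne_zero, A.neg_word_VJ j 1⟩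

theorem hV : A.S.VHyp A.O := fun j =>
  ⟨_, A.neg_fix j.2 (A.fit_one j), A.neg_word_ne_one j.2 one_ne_zero, A.neg_word_VJ j 1⟩

/-- The parameters of the torus of one orbit. -/
noncomputable def orbTorus (j : ℕ) (c : Fˣ) : Fin T.rank → Fˣ :=
  ((List.range (A.Ss.getD j []).length).map fun e =>
    if h : (A.Ss.getD j []).getD e 0 < T.rank then
      Pi.mulSingle ⟨(A.Ss.getD j []).getD e 0, h⟩ ((⇑(Units.map A.D.f.toRingHom.toMonoidHom))^[e] c)
    else 1).prod

theorem orbTorus_mem {j : ℕ} (hj : j < A.o) {c : Fˣ} (hc : A.Fit j (c : F)) :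
    torusHom T F (A.orbTorus j c) ∈ A.G := by
  obtain ⟨hab, -, hi, -⟩ := A.facts hj
  have key := A.D.cyc_hU hab c
  have h2 : A.Fit j (-1 : F) := A.fit_neg (A.fit_one j)
  rw [orbTorus, map_list_prod, List.map_map]
  have e : (List.range (A.Ss.getD j []).length).map (⇑(torusHom T F) ∘ fun e =>
      if h : (A.Ss.getD j []).getD e 0 < T.rank then
        Pi.mulSingle ⟨(A.Ss.getD j []).getD e 0, h⟩ ((⇑(Units.map A.D.f.toRingHom.toMonoidHom))^[e] c)
      else 1) = (List.range (A.L j).length).map fun e => T.dU (T.hCh ((A.L j).getD e 0)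
        ((⇑(Units.map A.D.f.toRingHom.toMonoidHom))^[e] c)) := by
    rw [A.length_L]
    refine List.map_congr_left fun e he => ?_
    have he' := List.mem_range.mp he
    have hlt := hi _ (List.getElem_mem (h := he'))
    simp only [Function.comp_apply, List.getD_eq_getElem _ _ he', dif_pos hlt,
      torusHom_single A.D.ok.valid, L, simples,
      List.getD_eq_getElem _ _ (show e < ((A.Ss.getD j []).map T.simple).length by simpa using he'),
      List.getElem_map]
  rw [e, key]
  exact mul_mem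
    (mul_mem (mul_mem (A.pos_mem hj hc) (A.neg_mem hj (A.fit_neg (A.fit_inv hc)))) (A.pos_mem hj hc))
    (mul_mem (mul_mem (A.pos_mem hj h2) (A.neg_mem hj (A.fit_neg (A.fit_inv h2)))) (A.pos_mem hj h2))

/-- Equality with the fixed points, from the lifting and generation of the torus. -/
theorem G_eq_fix
    (hlift : T.datum.diagonalSubgroup F ⊓ A.S.fix ≤ A.D.tauFix.map (torusHom T F))
    (hgen : ∀ f ∈ A.D.tauFix, f ∈ Subgroup.closure
      {g | ∃ j < A.o, ∃ c : Fˣ, A.Fit j (c : F) ∧ g = A.orbTorus j c}) :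
    A.G = A.S.fix := by
  refine A.gen.eq_fix fun h hh => ?_
  obtain ⟨f, hf, rfl⟩ := hlift (Subgroup.mem_inf.mpr
    ⟨(Subgroup.mem_inf.mp hh).2, (Subgroup.mem_inf.mp hh).1⟩)
  have : Subgroup.closure {g | ∃ j < A.o, ∃ c : Fˣ, A.Fit j (c : F) ∧ g = A.orbTorus j c} ≤
      A.G.comap (torusHom T F) := by
    rw [Subgroup.closure_le]
    rintro _ ⟨j, hj, c, hc, rfl⟩
    exact A.orbTorus_mem hj hc
  exact this (hgen f hf)

theorem dU_cycWord {χ : ℕ → Fˣ} (hχ : T.IsChar χ) {j : ℕ} (hj : j < A.o) (t : F) :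
    T.dU χ * T.gprod (cycWord A.D.f (A.L j) t) = T.gprod ((List.range (A.L j).length).map fun e =>
      ((A.L j).getD e 0, (χ ((A.L j).getD e 0) : F) * (⇑A.D.f)^[e] t)) * T.dU χ := by
  rw [dU_gprod A.D.ok.valid hχ (A.D.cycWord_lt (A.facts hj).1 t), cycWord, List.map_map]
  rfl

/-- A fixed diagonal element centralising the fixed part of `U` is trivial. -/
theorem hc (h : GL T.I F) (hh : h ∈ T.datum.diagonalSubgroup F) (_ : h ∈ A.S.fix)
    (hcomm : ∀ u ∈ A.S.fix, u ∈ T.rootGen F (fun r => T.half ≤ r) → h * u = u * h) : h = 1 := by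
  have hT := A.D.ok.valid
  obtain ⟨χ, hχ, rfl⟩ := diag_exists_char hT hh
  refine dU_eq_one_of_simple hT hχ fun i hi => ?_
  obtain ⟨j, hj, hij⟩ := A.cover hi
  obtain ⟨hab, -, hlt, hperm⟩ := A.facts hj
  have hu : T.gprod (cycWord A.D.f (A.L j) 1) ∈ T.rootGen F (fun r => T.half ≤ r) :=
    rootGen_mono (fun r _ ⟨_, h, _⟩ => h) (A.D.word_mem_negSet A.hO ⟨j, hj⟩ rfl fun p hp => by
      obtain ⟨e, he, rfl⟩ := List.mem_map.mp hp
      exact hperm.mem_iff.mpr (by
        rw [List.getD_eq_getElem _ _ (List.mem_range.mp he)]; exact List.getElem_mem _))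
  have e := hcomm _ (A.pos_fix hj (A.fit_one j)) hu
  rw [A.dU_cycWord hχ hj] at e
  have e2 := mul_right_cancel e
  have hnd : (A.L j).Nodup := hperm.nodup_iff.mp
    ((List.Pairwise.filter _ List.pairwise_lt_range').imp fun h => ne_of_lt h)
  have conv : ∀ g : ℕ → F, T.gprod ((List.range (A.L j).length).map fun e => ((A.L j).getD e 0, g e)) =
      T.gprod ((T.negList (A.words.getD j [])).map fun r => (r, g ((A.L j).idxOf r))) := by
    intro g
    have e3 : (List.range (A.L j).length).map (fun e => ((A.L j).getD e 0, g e)) =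
        (A.L j).map fun r => (r, g ((A.L j).idxOf r)) := by
      apply List.ext_getElem (by simp)
      intro k h1 h2
      simp only [List.length_map, List.length_range] at h1
      simp only [List.getElem_map, List.getElem_range, List.getD_eq_getElem _ _ h1, hnd.idxOf_getElem k h1]
    rw [e3, gprod, gprod]
    refine List.Perm.prod_eq' ((hperm.symm.map _).map _) ?_
    refine List.pairwise_of_forall_mem_list fun a ha b hb => ?_
    simp only [List.mem_map] at ha hb
    obtain ⟨_, ⟨r, hr, rfl⟩, rfl⟩ := ha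
    obtain ⟨_, ⟨r', hr', rfl⟩, rfl⟩ := hb
    obtain ⟨k, hk, rfl⟩ := List.mem_iff_getElem.mp hr
    obtain ⟨k', hk', rfl⟩ := List.mem_iff_getElem.mp hr'
    have := A.D.ab_commute hab hk hk' (g ((A.L j).idxOf (A.L j)[k])) (g ((A.L j).idxOf (A.L j)[k']))
    rwa [List.getD_eq_getElem _ _ hk, List.getD_eq_getElem _ _ hk'] at this
  have h1 : ∀ e, (⇑A.D.f)^[e] (1 : F) = 1 := fun e => Function.iterate_fixed (map_one A.D.f) e
  rw [cycWord, conv (fun e => (χ ((A.L j).getD e 0) : F) * (⇑A.D.f)^[e] 1), conv fun e => (⇑A.D.f)^[e] 1]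
    at e2
  have hb : ∀ r ∈ T.negList (A.words.getD j []), T.half ≤ r ∧ r < T.n := fun r hr => by
    obtain ⟨hr', h1, -⟩ := (A.D.negSet_iff A.hO ⟨j, hj⟩ rfl r).mpr hr
    exact ⟨h1, hr'⟩
  have hmem : T.simple i ∈ A.L j := List.mem_map.mpr ⟨i, hij, rfl⟩
  have := gprod_inj hT A.D.ok.comm (List.Pairwise.filter _ List.pairwise_lt_range') hb _ _ e2
    (T.simple i) (hperm.mem_iff.mpr hmem)
  simp only [h1, mul_one, List.getD_eq_getElem _ _ (List.idxOf_lt_length_iff.mpr hmem),
    List.getElem_idxOf] at this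
  exact Units.ext (this.trans Units.val_one.symm)

/-- The order of the fixed part of `U`. -/
theorem card_Upos {q : ℕ}
    (hq : ∀ j < A.o, Nat.card {t : F // A.Fit j t} = q ^ (A.Ss.getD j []).length) :
    Nat.card ↥(T.datum.posUnipotent F ⊓ A.S.fix) = q ^ T.half ∧
      ∀ w ∈ A.S.W1, Nat.card (A.S.Uw w) = q ^ T.invN w := by
  have hT := A.D.ok.valid
  have hJ : ∀ j : Fin A.o, ∃ k, 1 * k = T.invN (A.S.wJ A.O j) ∧
      Nat.card (A.S.Uw (A.S.wJ A.O j)) = q ^ k := by
    intro j
    obtain ⟨hab, -, -, hperm⟩ := A.facts j.2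
    refine ⟨(A.Ss.getD j []).length, ?_, ?_⟩
    · rw [one_mul, ← A.length_L, ← hperm.length_eq, invN]
      refine (List.toFinset_card_of_nodup ((List.Pairwise.filter _ List.pairwise_lt_range').imp
        fun h => ne_of_lt h)).symm.trans ?_
      symm
      refine Finset.card_bij (fun r _ => r.val) (fun r hr => ?_) (fun a _ b _ h => Fin.ext h)
        (fun r hr => ?_)
      · rw [Finset.mem_filter] at hr
        rw [List.mem_toFinset]
        exact (A.D.negSet_iff A.hO j rfl r.val).mp ⟨r.2, hr.2⟩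
      · rw [List.mem_toFinset] at hr
        obtain ⟨h1, h2⟩ := (A.D.negSet_iff A.hO j rfl r).mpr hr
        exact ⟨⟨r, h1⟩, Finset.mem_filter.mpr ⟨Finset.mem_univ _, h2⟩, rfl⟩
    · rw [A.D.card_Uw_cyc hab A.hO j hperm, ← hq j j.2, A.length_L]
      rfl
  have hall := Twist.card_Uw_div A.hV one_pos hJ
  refine ⟨?_, fun w hw => by rw [(hall w hw).2, Nat.div_one]⟩
  obtain ⟨w, hw, hneg⟩ := Twist.Gen.exists_longest A.gen
  have e : T.datum.posUnipotent F ⊓ A.S.fix = A.S.Uw w := by
    rw [posUnipotent_rootGen hT, inf_comm, Twist.Uw]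
    congr 1
    exact le_antisymm (rootGen_mono fun r hr hp => ⟨hr, hp, hneg _ hp⟩)
      (rootGen_mono fun r _ ⟨_, h, _⟩ => h)
  rw [e, (hall w hw).2, Nat.div_one]
  congr 1
  rw [invN]
  refine Eq.trans ?_ (Finset.card_range T.half)
  refine Finset.card_bij (fun r _ => r.val - T.half) (fun r hr => ?_) (fun a ha b hb h => ?_) (fun i hi => ?_)
  · have := r.2
    have hn : T.n = 2 * T.half := rfl
    simp only [Finset.mem_filter, Finset.mem_univ, true_and] at hr
    rw [Finset.mem_range]; omega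
  · simp only [Finset.mem_filter, Finset.mem_univ, true_and] at ha hb
    have ha' := ha.1
    have hb' := hb.1
    exact Fin.ext (by omega)
  · rw [Finset.mem_range] at hi
    have hn : T.n = 2 * T.half := rfl
    refine ⟨⟨T.half + i, by omega⟩, ?_, Nat.add_sub_cancel_left _ _⟩
    simp only [Finset.mem_filter, Finset.mem_univ, true_and]
    exact ⟨Nat.le_add_right _ _, hneg _ (Nat.le_add_right _ _)⟩

end AbSetup

end CfsgLib.Chevalley.Tbl
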