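import Cfsg.Agent.Lib.Chevalley.GraphCheck
import Cfsg.Agent.Lib.Chevalley.PerfectCheck

/-!
Certificates for diagram maps and their orbits on the fundamental roots.
-/

set_option autoImplicit false

namespace CfsgLib.Chevalley.Tbl

variable (T : Tbl)

/-- A root map preserves the positive system and permutes the fundamental reflections along `π`. -/
def chkTwist (M : RootMap) (π : List ℕ) : Bool :=
  allLt (fun r => Nat.ble T.half (M.ρ r) == Nat.ble T.half r) T.n &&
  allLt (fun i => Nat.blt (π.getD i 0) T.rank && Nat.beq (M.ρ (T.simple i)) (T.simple (π.getD i 0)) &&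
    allLt (fun k => Nat.beq i k || !Nat.beq (π.getD i 0) (π.getD k 0)) T.rank &&
    allLt (fun r => Nat.beq (M.ρ (T.refl i r)) (T.refl (π.getD i 0) (M.ρ r))) T.n) T.rank

/-- Iterates of a root map. -/
def iterMap (M : RootMap) : ℕ → ℕ → ℕ
  | 0, x => x
  | k + 1, x => M.ρ (iterMap M k x)

/-- Orbit `orb i` of each fundamental root, with a word for the longest element of each orbit. -/
def chkOrbits (M : RootMap) (o : ℕ) (orb : List ℕ) (words : List (List ℕ)) : Bool :=
  allLt (fun i => Nat.blt (orb.getD i 0) o &&
    allLt (fun k => !Nat.beq (orb.getD i 0) (orb.getD k 0) ||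
      (List.range T.rank).any fun e => Nat.beq (iterMap M e (T.simple i)) (T.simple k)) T.rank) T.rank &&
  allLt (fun j =>
    let w := words.getD j []
    (w.all fun i => Nat.blt i T.rank && Nat.beq (orb.getD i 0) j) &&
    ((List.range T.rank).any fun i => Nat.beq (orb.getD i 0) j) &&
    allLt (fun i => !Nat.beq (orb.getD i 0) j || Nat.blt (T.actWord w (T.simple i)) T.half) T.rank &&
    allLt (fun r => Nat.beq (M.ρ (T.actWord w r)) (T.actWord w (M.ρ r)) &&
      Nat.beq (T.actWord w (T.actWord w r)) r &&
      (!(Nat.ble T.half r && Nat.blt (T.actWord w r) T.half) ||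
        allLt (fun i => Nat.beq (orb.getD i 0) j || decide (T.co r i = 0)) T.rank)) T.n) o

end CfsgLib.Chevalley.Tbl
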