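import Cfsg.Agent.Lib.Chevalley.Twist.AbCheck
import Cfsg.Agent.Lib.Chevalley.Twist.Check

/-!
Certificates for twists all of whose orbits consist of commuting fundamental roots.
-/

set_option autoImplicit false

namespace CfsgLib.Chevalley.Tbl

variable (T : Tbl)

/-- The fundamental roots of a list of indices. -/
def simples (s : List ℕ) : List ℕ := s.map T.simple

/-- The positive roots made negative by an orbit word. -/
def negOf (w : List ℕ) : List ℕ :=
  (List.range' T.half T.half).filter fun r => Nat.blt (T.actWord w r) T.half

def chkAbInst (M : RootMap) (o : ℕ) (words Ss : List (List ℕ)) : Bool :=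
  allLt (fun j =>
    let s := Ss.getD j []
    T.chkAb M (T.simples s) && T.chkAb M ((T.simples s).map T.neg) &&
      (s.all fun i => Nat.blt i T.rank) && (T.negOf (words.getD j [])).isPerm (T.simples s)) o &&
  allLt (fun i => (List.range o).any fun j => (Ss.getD j []).any fun k => Nat.beq k i) T.rank

/-- Data for a root `a` fixed by the root map as a commutator: `[x_a, x_b]` is a root element of
`c`, the image of `a` by the orbit word. -/
def chkSingle (M : RootMap) (words : List (List ℕ)) (o a b c : ℕ) (js : List ℕ) : Bool :=
  [a, b, c].all (fun r => Nat.blt r T.n && Nat.beq (M.ρ r) r && decide (M.ε r = 1) && Nat.beq (M.lam r) 1 &&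
    Nat.ble T.half r) &&
  !Nat.beq a b &&
  (match T.commT a b with
   | [(c', z, i, k)] => Nat.beq c' c && decide (z = 1 ∨ z = -1) && Nat.beq i 1 && Nat.beq k 1
   | _ => false) &&
  js.all (fun j => Nat.blt j o) &&
  Nat.beq (js.foldr (fun j y => T.actWord (words.getD j []) y) a) c

end CfsgLib.Chevalley.Tbl
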