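import Cfsg.Agent.Lib.Chevalley.Twist.AbInst

/-!
Perfectness, simplicity and the order of the groups of commuting orbits.
-/

set_option autoImplicit false

namespace CfsgLib.Chevalley.Tbl.AbSetup

open scoped commutatorElement

variable {T : Tbl} {F : Type*} [Field F] (A : AbSetup T F)

theorem iterate_mul (e : ℕ) (s t : F) : (⇑A.D.f)^[e] (s * t) = (⇑A.D.f)^[e] s * (⇑A.D.f)^[e] t := by
  induction e with
  | zero => rfl
  | succ e ih => simp only [Function.iterate_succ_apply', ih, map_mul]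

theorem iterate_add (e : ℕ) (s t : F) : (⇑A.D.f)^[e] (s + t) = (⇑A.D.f)^[e] s + (⇑A.D.f)^[e] t := by
  induction e with
  | zero => rfl
  | succ e ih => simp only [Function.iterate_succ_apply', ih, map_add]

theorem fit_mul {j : ℕ} {s t : F} (hs : A.Fit j s) (ht : A.Fit j t) : A.Fit j (s * t) := by
  unfold Fit at *
  rw [A.iterate_mul, hs, ht]

theorem fit_add {j : ℕ} {s t : F} (hs : A.Fit j s) (ht : A.Fit j t) : A.Fit j (s + t) := by
  unfold Fit at *
  rw [A.iterate_add, hs, ht]

/-- Cycle words add. -/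
theorem word_add {j : ℕ} (hj : j < A.o) (s t : F) :
    T.gprod (cycWord A.D.f (A.L j) s) * T.gprod (cycWord A.D.f (A.L j) t) =
      T.gprod (cycWord A.D.f (A.L j) (s + t)) := by
  obtain ⟨hab, -, -, -⟩ := A.facts hj
  obtain ⟨-, hfa⟩ := A.D.chkAb_facts hab
  rw [gprod, gprod, gprod, cycWord, cycWord, cycWord, List.map_map, List.map_map, List.map_map,
    list_prod_mul_of_commute]
  rotate_left
  · exact List.nodup_range
  · exact fun i hi k hk _ => A.D.ab_commute hab (List.mem_range.mp hi) (List.mem_range.mp hk) _ _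
  refine congrArg List.prod (List.map_congr_left fun e he => ?_)
  simp only [Function.comp_apply]
  rw [xU_add A.D.ok.valid (hfa e (List.mem_range.mp he)).1, A.iterate_add]

/-- The commutators of the group. -/
noncomputable abbrev G' : Subgroup (GL T.I F) := ⁅A.G, A.G⁆

theorem comm_mem {x y : GL T.I F} (hx : x ∈ A.G) (hy : y ∈ A.G) : x * y * x⁻¹ * y⁻¹ ∈ A.G' := by
  rw [← commutatorElement_def]
  exact Subgroup.commutator_mem_commutator hx hy

theorem conj_mem {x y : GL T.I F} (hx : x ∈ A.G) (hy : y ∈ A.G') : x * y * x⁻¹ ∈ A.G' := by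
  have h1 : y ∈ A.G := Subgroup.commutator_le_self A.G hy
  have : x * y * x⁻¹ = (x * y * x⁻¹ * y⁻¹) * y := by group
  rw [this]
  exact mul_mem (A.comm_mem hx h1) hy

/-- The torus of an orbit moves its words. -/
theorem word_mem_commutator {j : ℕ} (hj : j < A.o)
    (hca : ∀ e < (A.Ss.getD j []).length, ∀ e' < (A.Ss.getD j []).length,
      T.ca ((A.Ss.getD j []).getD e 0) (T.simple ((A.Ss.getD j []).getD e' 0)) = if e = e' then 2 else 0)
    (hex : ∃ c : F, c ≠ 0 ∧ A.Fit j c ∧ c ^ 2 ≠ 1) {t : F} (ht : A.Fit j t) :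
    T.gprod (cycWord A.D.f (A.L j) t) ∈ A.G' := by
  classical
  have hT := A.D.ok.valid
  obtain ⟨c, hc0, hc, hc2⟩ := hex
  obtain ⟨hab, -, hi, -⟩ := A.facts hj
  let cu : Fˣ := Units.mk0 c hc0
  set f := A.orbTorus j cu with hf
  have hval : ∀ e, (((⇑(Units.map A.D.f.toRingHom.toMonoidHom))^[e] cu : Fˣ) : F) = (⇑A.D.f)^[e] c := by
    intro e
    induction e with
    | zero => rfl
    | succ e ih =>
      rw [Function.iterate_succ_apply', Function.iterate_succ_apply', Units.coe_map, ih]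
      rfl
  have hχ : ∀ e' < (A.Ss.getD j []).length,
      ((∏ i : Fin T.rank, f i ^ T.ca i (T.simple ((A.Ss.getD j []).getD e' 0)) : Fˣ) : F) =
        (⇑A.D.f)^[e'] (c ^ 2) := by
    intro e' he'
    set r := T.simple ((A.Ss.getD j []).getD e' 0)
    let φ : (Fin T.rank → Fˣ) →* Fˣ :=
      { toFun := fun g => ∏ i : Fin T.rank, g i ^ T.ca i r
        map_one' := by simp
        map_mul' := fun a b => by simp [mul_zpow, Finset.prod_mul_distrib] }
    show ((φ f : Fˣ) : F) = _
    rw [hf, orbTorus, map_list_prod, List.map_map]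
    have h1 : (List.range (A.Ss.getD j []).length).map (⇑φ ∘ fun e =>
        if h : (A.Ss.getD j []).getD e 0 < T.rank then
          Pi.mulSingle ⟨(A.Ss.getD j []).getD e 0, h⟩ ((⇑(Units.map A.D.f.toRingHom.toMonoidHom))^[e] cu)
        else 1) = (List.range (A.Ss.getD j []).length).map fun e =>
          ((⇑(Units.map A.D.f.toRingHom.toMonoidHom))^[e] cu) ^ (if e = e' then (2 : ℤ) else 0) := by
      refine List.map_congr_left fun e he => ?_
      have he2 := List.mem_range.mp he
      have hlt : (A.Ss.getD j []).getD e 0 < T.rank := hi _ (by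
        rw [List.getD_eq_getElem _ _ he2]; exact List.getElem_mem _)
      simp only [Function.comp_apply, dif_pos hlt]
      show ∏ i : Fin T.rank, _ = _
      rw [Finset.prod_eq_single ⟨_, hlt⟩]
      · rw [Pi.mulSingle_eq_same, hca e he2 e' he']
      · intro k _ hk; rw [Pi.mulSingle_eq_of_ne hk, one_zpow]
      · simp
    rw [h1, ← List.prod_toFinset _ List.nodup_range, List.toFinset_range,
      Finset.prod_eq_single e' (fun b _ hb => by rw [if_neg hb, zpow_zero]) (fun h => absurd (Finset.mem_range.mpr he') h),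
      if_pos rfl, Units.val_zpow_eq_zpow_val, hval, pow_two, A.iterate_mul, zpow_two]
  have hd : ∀ u : F, torusHom T F f * T.gprod (cycWord A.D.f (A.L j) u) * (torusHom T F f)⁻¹ =
      T.gprod (cycWord A.D.f (A.L j) (c ^ 2 * u)) := by
    intro u
    show T.dU (fun s => ∏ i, f i ^ T.ca i s) * _ * _ = _
    rw [A.dU_cycWord (isChar_prod hT f) hj u]
    show _ * T.dU _ * (T.dU _)⁻¹ = _
    rw [mul_inv_cancel_right, cycWord]
    refine congrArg _ (List.map_congr_left fun e he => ?_)
    have he' : e < (A.Ss.getD j []).length := by rw [← A.length_L]; exact List.mem_range.mp he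
    rw [A.iterate_mul, ← hχ e he', L, simples,
      List.getD_eq_getElem _ _ (show e < ((A.Ss.getD j []).map T.simple).length by simpa using he'),
      List.getElem_map, List.getD_eq_getElem _ _ he']
  have hm1 : A.Fit j (c ^ 2 + -1) := A.fit_add (by rw [pow_two]; exact A.fit_mul hc hc) (A.fit_neg (A.fit_one j))
  have hne : c ^ 2 + -1 ≠ 0 := fun h => hc2 (by linear_combination h)
  set u := t * (c ^ 2 + -1)⁻¹ with hu
  have hu' : A.Fit j u := A.fit_mul ht (A.fit_inv hm1)
  have key := A.comm_mem (A.orbTorus_mem hj (c := cu) hc) (A.pos_mem hj hu')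
  rw [hd] at key
  have e2 : (T.gprod (cycWord A.D.f (A.L j) u))⁻¹ = T.gprod (cycWord A.D.f (A.L j) (-u)) := by
    refine inv_eq_of_mul_eq_one_right ?_
    rw [A.word_add hj, add_neg_cancel, cycWord, gprod]
    refine List.prod_eq_one fun x hx => ?_
    simp only [List.map_map, List.mem_map, List.mem_range, Function.comp_apply] at hx
    obtain ⟨e, he, rfl⟩ := hx
    rw [show (⇑A.D.f)^[e] (0 : F) = 0 from Function.iterate_fixed (map_zero A.D.f) e,
      xU_zero hT ((A.D.chkAb_facts hab).2 e he).1]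
  rw [e2, A.word_add hj, show c ^ 2 * u + -u = t by rw [hu]; field_simp] at key
  exact key

/-- A fixed root as a commutator. -/
theorem single_mem_commutator (hGF : A.G = A.S.fix) {a b c : ℕ} {js : List ℕ}
    (hchk : T.chkSingle A.D.M A.words A.o a b c js = true) {t : F} (ht : A.D.f t = t) :
    T.xU F a t ∈ A.G' := by
  have hT := A.D.ok.valid
  simp only [chkSingle, Bool.and_eq_true, List.all_cons, List.all_nil, Bool.and_true,
    decide_eq_true_eq] at hchk
  obtain ⟨⟨⟨⟨hfix, hab'⟩, hcomm⟩, hjs⟩, hact⟩ := hchk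
  have hfx : ∀ r, (((Nat.blt r T.n = true ∧ Nat.beq (A.D.M.ρ r) r = true) ∧ A.D.M.ε r = 1) ∧
      Nat.beq (A.D.M.lam r) 1 = true) ∧ Nat.ble T.half r = true →
      r < T.n ∧ T.half ≤ r ∧ ∀ u : F, A.D.f u = u → T.xU F r u ∈ A.G := by
    rintro r ⟨⟨⟨⟨h1, h2⟩, h3⟩, h4⟩, h5⟩
    have hr := Nat.le_of_ble_eq_true h1
    refine ⟨hr, Nat.le_of_ble_eq_true h5, fun u hu => ?_⟩
    rw [hGF]
    refine ⟨xU_mem_group hT hr u, ?_⟩
    rw [A.D.sg_x hr, Nat.eq_of_beq_eq_true h2, RootMap.par, h3, Nat.eq_of_beq_eq_true h4,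
      Int.cast_one, one_mul, pow_one, hu]
  obtain ⟨ha, hpa, hma⟩ := hfx a hfix.1
  obtain ⟨hb, hpb, hmb⟩ := hfx b hfix.2.1
  obtain ⟨hc, hpc, hmc⟩ := hfx c hfix.2.2
  have hne : b ≠ a := fun e => by rw [e, Nat.beq_refl] at hab'; simp at hab'
  have hneg : b ≠ T.neg a := fun e => by
    have := negF_lt (T := T) (s := ⟨a, ha⟩) hpa
    rw [e] at hpb
    exact absurd hpb (not_le.mpr this)
  -- every root element of `c` with fixed parameter is a commutator
  have hC : ∀ v : F, A.D.f v = v → T.xU F c v ∈ A.G' := by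
    intro v hv
    cases hT' : T.commT a b with
    | nil => rw [hT'] at hcomm; simp at hcomm
    | cons d l =>
      rw [hT'] at hcomm
      obtain ⟨c', z, i, k⟩ := d
      cases l with
      | cons _ _ => simp at hcomm
      | nil =>
        simp only [Bool.and_eq_true, decide_eq_true_eq] at hcomm
        obtain ⟨⟨⟨hc', hz⟩, hi⟩, hk⟩ := hcomm
        obtain rfl := Nat.eq_of_beq_eq_true hc'
        obtain rfl := Nat.eq_of_beq_eq_true hi
        obtain rfl := Nat.eq_of_beq_eq_true hk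
        set s : F := -((z : F) * v) with hs
        have hsF : A.D.f s = s := by rw [hs, map_neg, map_mul, map_intCast, hv]
        have h1 := comm_xU hT A.D.ok.comm ha hb hne hneg s (1 : F)
        simp only [hT', List.map_cons, List.map_nil, List.prod_cons, List.prod_nil, mul_one,
          pow_one] at h1
        have hz2 : (z : F) * -s = v := by
          rw [hs]; rcases hz with rfl | rfl <;> simp
        rw [hz2] at h1
        have h2 : T.xU F c' v = (T.xU F b 1)⁻¹ * (T.xU F a s)⁻¹ * ((T.xU F b 1)⁻¹)⁻¹ * ((T.xU F a s)⁻¹)⁻¹ := by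
          rw [inv_inv, inv_inv, mul_assoc, mul_assoc, h1]; group
        rw [h2]
        exact A.comm_mem (inv_mem (hmb 1 (map_one _))) (inv_mem (hma s hsF))
  -- move `c` to `a`
  have hjs' : ∀ j ∈ js, j < A.o := fun j hj =>
    Nat.le_of_ble_eq_true (List.all_eq_true.mp hjs j hj)
  obtain ⟨w, hw, hwa⟩ : ∃ w ∈ A.S.W1, (w ⟨a, ha⟩).val = c := by
    suffices ∀ js : List ℕ, (∀ j ∈ js, j < A.o) → ∃ w ∈ A.S.W1, (w ⟨a, ha⟩).val =
        js.foldr (fun j y => T.actWord (A.words.getD j []) y) a from by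
      obtain ⟨w, hw, e⟩ := this js hjs'
      exact ⟨w, hw, e.trans (Nat.eq_of_beq_eq_true hact)⟩
    intro js
    induction js with
    | nil => intro _; exact ⟨1, one_mem _, rfl⟩
    | cons j js ih =>
      intro hj
      obtain ⟨w, hw, e⟩ := ih fun k hk => hj k (List.mem_cons_of_mem _ hk)
      refine ⟨_, mul_mem (A.S.wJ_mem A.O ⟨j, hj j List.mem_cons_self⟩) hw, ?_⟩
      rw [Equiv.Perm.mul_apply, List.foldr_cons, ← e]
      exact A.D.orbits_wJ A.hO ⟨j, hj j List.mem_cons_self⟩ _
  obtain ⟨n, hnG, hnN, hm⟩ := (A.gen.main w hw).1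
  obtain ⟨k, hk⟩ := hm.conj ⟨a, ha⟩
  have hk1 : n * T.xU F a t = T.xU F c ((k : F) * t) * n := by
    have := (hk t).1
    rwa [hwa] at this
  have e : T.xU F c ((k : F) * t) = n * T.xU F a t * n⁻¹ := by
    rw [hk1]; group
  have hfixed : T.xU F c ((k : F) * t) ∈ A.S.fix := by
    rw [e]
    exact mul_mem (mul_mem (A.le_fix hnG) (A.le_fix (hma t ht))) (inv_mem (A.le_fix hnG))
  have hkt : A.D.f ((k : F) * t) = (k : F) * t := by
    have h3 := hfixed.2
    obtain ⟨⟨⟨⟨-, h2⟩, h3'⟩, h4⟩, -⟩ := hfix.2.2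
    rw [A.D.sg_x hc, Nat.eq_of_beq_eq_true h2, RootMap.par, h3', Nat.eq_of_beq_eq_true h4,
      Int.cast_one, one_mul, pow_one] at h3
    exact xU_inj hT hc h3
  have hmem := A.conj_mem (inv_mem hnG) (hC _ hkt)
  rw [e, inv_inv] at hmem
  simpa [mul_assoc] using hmem

/-- The group is perfect once the positive words are commutators. -/
theorem commutator_eq_top
    (hpos : ∀ j < A.o, ∀ t, A.Fit j t → T.gprod (cycWord A.D.f (A.L j) t) ∈ A.G') :
    commutator ↥A.G = ⊤ := by
  have hle : A.G ≤ A.G' := by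
    refine (Subgroup.closure_le _).mpr ?_
    rintro g ⟨w, hw, hg⟩
    obtain ⟨j, hj, t, ht, rfl | rfl⟩ := A.hW w hw
    · rw [show g = _ from Units.ext (hg.trans (gprod_wordMat A.D.ok.valid (A.D.cycWord_lt (A.facts hj).1 t)))]
      exact hpos j hj t ht
    · rw [show g = _ from Units.ext (hg.trans (gprod_wordMat A.D.ok.valid (A.D.cycWord_lt (A.facts hj).2.1 t)))]
      obtain ⟨n, hnG, hnN, hm⟩ := A.gen.exists_nJ ⟨j, hj⟩
      have hnG' : n ∈ A.G := hnG
      have h1 : n * T.gprod (cycWord A.D.f ((A.L j).map T.neg) t) * n⁻¹ ∈ A.S.Uw (A.S.wJ A.O ⟨j, hj⟩) := by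
        refine Subgroup.mem_inf.mpr ⟨mul_mem (mul_mem (A.le_fix hnG') (A.neg_fix hj ht))
          (inv_mem (A.le_fix hnG')), ?_⟩
        refine conj_mem_rootGen A.D.ok.valid hm (fun r ⟨_, h1, h2⟩ => ?_) (A.neg_word_VJ ⟨j, hj⟩ t)
        refine ⟨Fin.isLt _, h2, ?_⟩
        rw [Twist.wJ_wJ]
        exact h1
      obtain ⟨s, hs, e⟩ := A.exists_word ⟨j, hj⟩ h1
      have := A.conj_mem (inv_mem hnG') (hpos j hj s hs)
      rw [← e, inv_inv] at this
      have e' : n⁻¹ * (n * T.gprod (cycWord A.D.f ((A.L j).map T.neg) t) * n⁻¹) * n =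
          T.gprod (cycWord A.D.f ((A.L j).map T.neg) t) := by group
      exact e' ▸ this
  apply Subgroup.map_injective A.G.subtype_injective
  rw [Subgroup.map_subtype_commutator, ← MonoidHom.range_eq_map, Subgroup.range_subtype]
  exact le_antisymm (Subgroup.commutator_le_self _) hle

theorem nontrivial (h : 0 < A.o) : Nontrivial ↥A.G :=
  ⟨⟨⟨_, A.neg_mem h (A.fit_one 0)⟩, 1, fun e =>
    A.neg_word_ne_one h one_ne_zero (congrArg Subtype.val e)⟩⟩

/-- Simplicity. -/
theorem simple (hGF : A.G = A.S.fix) (ho : 0 < A.o) (hperf : commutator ↥A.G = ⊤)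
    (hirr : ∀ J : Fin A.o → Bool, (∃ a, J a = true) → (∃ b, J b = false) →
      ∃ a b, J a = true ∧ J b = false ∧ ¬ Commute (A.S.wJ A.O a) (A.S.wJ A.O b)) :
    IsSimpleGroup ↥A.G ∧ ¬ IsMulCommutative ↥A.G := by
  have hne := A.nontrivial ho
  refine ⟨?_, fun hcm => ?_⟩
  · have key : ∀ (H : Subgroup (GL T.I F)), A.G = H →
        (Nontrivial ↥H → commutator ↥H = ⊤ → IsSimpleGroup ↥H) → IsSimpleGroup ↥A.G := by
      rintro H rfl h
      exact h hne hperf
    exact key _ hGF fun h1 h2 => Twist.isSimpleGroup_fix A.hV hirr A.hc h1 h2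
  · have h2 : commutator ↥A.G = ⊥ := by
      rw [commutator_def, Subgroup.commutator_eq_bot_iff_le_centralizer]
      intro x _ y _
      exact hcm.is_comm.comm y x
    rw [hperf] at h2
    exact top_ne_bot h2

/-- Non-commuting longest elements, from their products of generators. -/
theorem not_commute {a b : Fin A.o} (h : ∃ r < T.n,
    T.actWord (A.words.getD a []) (T.actWord (A.words.getD b []) r) ≠
      T.actWord (A.words.getD b []) (T.actWord (A.words.getD a []) r)) :
    ¬ Commute (A.S.wJ A.O a) (A.S.wJ A.O b) := by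
  obtain ⟨r, hr, hne⟩ := h
  intro hc
  apply hne
  have := congrArg (fun p : Equiv.Perm (Fin T.n) => (p ⟨r, hr⟩).val) hc.eq
  simp only [Equiv.Perm.mul_apply] at this
  have ew : ∀ (k : Fin A.o) (s : Fin T.n), (A.S.wJ A.O k s).val = T.actWord (A.words.getD k []) s :=
    fun k s => A.D.orbits_wJ A.hO k s
  rwa [ew, ew, ew, ew] at this

/-- The orders of products of longest elements. -/
theorem orderOf_wJ_mul (a b : Fin A.o) {m : ℕ}
    (h : T.chkOrd ((A.O.word a ++ A.O.word b).map Fin.val) m = true) :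
    orderOf (A.S.wJ A.O a * A.S.wJ A.O b) = m := by
  rw [← orderOf_pw A.D.ok.valid _ m h, pw_append]
  rfl

/-- The order, up to the torus. -/
theorem card_G [Finite F] {q : ℕ} (hGF : A.G = A.S.fix)
    (hq : ∀ j < A.o, Nat.card {t : F // A.Fit j t} = q ^ (A.Ss.getD j []).length)
    (hlen : A.words.length = A.o) {E : Elts} (hE : T.chkElts A.words E = true) (he : E.e = 1) :
    (Nat.card ↥A.G : ℤ) = (q : ℤ) ^ T.half * Nat.card ↥(T.datum.diagonalSubgroup F ⊓ A.S.fix) *
      pEval E.hist (q : ℤ) := by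
  classical
  obtain ⟨hU, hUw⟩ := A.card_Upos hq
  have := Fintype.ofFinite ↥A.S.W1
  rw [show Nat.card ↥A.G = Nat.card ↥A.S.fix by rw [hGF], Twist.card_fix A.hV, hU]
  rw [Finset.sum_congr rfl fun (w : ↥A.S.W1) _ => hUw w.1 w.2]
  have hs := A.D.sum_W1 A.hO hlen hE q
  rw [he] at hs
  simp only [Nat.div_one] at hs
  push_cast at hs ⊢
  rw [← hs]
  congr 1
  exact Finset.sum_congr (by ext; simp) fun _ _ => rfl

end CfsgLib.Chevalley.Tbl.AbSetup
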