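import Cfsg.Agent.Lib.Chevalley.Twist.Core
import Cfsg.Agent.Lib.Chevalley.BN

/-!
Fixed parts of the groups `U_w`, their orders, and the group of all fixed points.
-/

set_option autoImplicit false

namespace CfsgLib.Chevalley.Tbl.Twist

variable {T : Tbl} {F : Type*} [Field F] {S : Twist T F} {O : Orbits T S.valid S.ρ}

/-- The fixed part of `U_w`. -/
noncomputable def Uw (S : Twist T F) (w : Equiv.Perm (Fin T.n)) : Subgroup (GL T.I F) :=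
  S.fix ⊓ T.rootGen F (T.negSet w)

variable (S O)

theorem sg_posSet {w : Equiv.Perm (Fin T.n)} (hw : S.ρ * w * S.ρ⁻¹ = w) {x : GL T.I F}
    (hx : x ∈ T.rootGen F (T.posSet w)) : S.sg x ∈ T.rootGen F (T.posSet w) := by
  refine S.sg_rootGen (fun r ⟨hr, hp, hn⟩ => ⟨(S.ρ r).2, (S.pos r).mpr hp, ?_⟩) hx
  rw [show (⟨(S.ρ r).val, (S.ρ r).2⟩ : Fin T.n) = S.ρ r from rfl]
  rw [mul_inv_eq_iff_eq_mul] at hw
  have e : S.ρ (w r) = w (S.ρ r) := congrArg (fun p : Equiv.Perm (Fin T.n) => p r) hw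
  rw [← e]
  exact (S.pos _).mpr hn

theorem pos_of_add {w : Equiv.Perm (Fin T.n)} (hw : w ∈ S.W1) {j : Fin O.o}
    (hadd : T.invN (w * S.wJ O j) = T.invN w + T.invN (S.wJ O j)) {r : Fin T.n}
    (hr : T.half ≤ r.val) (hrJ : (S.wJ O j r).val < T.half) : T.half ≤ (w r).val := by
  by_cases hall : ∀ i, O.orb i = j → T.half ≤ (w (T.simpF S.valid i)).val
  · refine half_le_of_co_nonneg S.valid (w r).2 fun c hc => ?_
    rw [WP_linear S.valid hw.1 r hc]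
    refine Finset.sum_nonneg fun k _ => ?_
    by_cases hk : O.orb k = j
    · exact mul_nonneg (co_nonneg' S.valid hr k.2) (co_nonneg' S.valid (hall k hk) hc)
    · rw [O.supp j r hr hrJ k hk, zero_mul]
  · push Not at hall
    obtain ⟨i, hi, hn⟩ := hall
    have := S.invN_split O hw hi hn
    have := S.invN_wJ_pos O j
    omega

variable {S O} (G : S.Gen O)

theorem Gen.step {w : Equiv.Perm (Fin T.n)} (hw : w ∈ S.W1) (j : Fin O.o)
    (hadd : T.invN (w * S.wJ O j) = T.invN w + T.invN (S.wJ O j))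
    (hn : ∃ n ∈ G.Γ, n ∈ T.datum.monomialSubgroup F ∧ T.Mono n w) (hU : S.Uw w ≤ G.Γ) :
    (∃ n ∈ G.Γ, n ∈ T.datum.monomialSubgroup F ∧ T.Mono n (w * S.wJ O j)) ∧
      S.Uw (w * S.wJ O j) ≤ G.Γ ∧
      Nat.card (S.Uw (w * S.wJ O j)) = Nat.card (S.Uw w) * Nat.card (S.Uw (S.wJ O j)) := by
  have hT := S.valid
  have hC := S.comm
  obtain ⟨n, hnΓ, hnN, hm⟩ := hn
  obtain ⟨nJ, hJΓ, hJN, hmJ⟩ := G.exists_nJ j
  have hJf := G.le hJΓ
  have hm' : T.Mono (n * nJ) (w * S.wJ O j) := hm.mul hmJ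
  refine ⟨⟨n * nJ, mul_mem hnΓ hJΓ, mul_mem hnN hJN, hm'⟩, ?_⟩
  -- the two embeddings
  have hA : ∀ a ∈ S.Uw w, nJ⁻¹ * a * nJ ∈ S.fix ∧ nJ⁻¹ * a * nJ ∈ T.rootGen F (T.posSet (S.wJ O j)) ∧
      nJ⁻¹ * a * nJ ∈ T.rootGen F (T.negSet (w * S.wJ O j)) := by
    rintro a ⟨haf, haU⟩
    refine ⟨mul_mem (mul_mem (inv_mem hJf) haf) hJf, ?_, ?_⟩
    all_goals
      rw [show nJ⁻¹ * a * nJ = nJ⁻¹ * a * nJ⁻¹⁻¹ by rw [inv_inv]]
      refine conj_mem_rootGen hT hmJ.inv (fun r ⟨_, hp, hneg⟩ => ?_) haU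
      rw [S.wJ_inv]
    all_goals
      have hpos : T.half ≤ (S.wJ O j r).val := by
        by_contra hlt
        exact absurd (S.pos_of_add O hw hadd hp (not_le.mp hlt)) (not_le.mpr hneg)
      refine ⟨(S.wJ O j r).2, hpos, ?_⟩
    · rw [S.wJ_wJ]; exact hp
    · rw [Equiv.Perm.mul_apply, S.wJ_wJ]; exact hneg
  have hB : T.rootGen F (T.negSet (S.wJ O j)) ≤ T.rootGen F (T.negSet (w * S.wJ O j)) := by
    refine rootGen_mono fun r hr ⟨_, hp, hneg⟩ => ⟨hr, hp, ?_⟩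
    rw [Equiv.Perm.mul_apply]
    have h1 : T.half ≤ (T.negF (S.wJ O j ⟨r, hr⟩)).val := le_negF hneg
    have h2 : (S.wJ O j (T.negF (S.wJ O j ⟨r, hr⟩))).val < T.half := by
      rw [WP_negF hT (S.wJ_mem O j).1, S.wJ_wJ]
      exact negF_lt hp
    have h3 := S.pos_of_add O hw hadd h1 h2
    rw [WP_negF hT hw.1] at h3
    by_contra hge
    exact absurd h3 (not_le.mpr (negF_lt (not_lt.mp hge)))
  let f : ↥(S.Uw w) × ↥(S.Uw (S.wJ O j)) → ↥(S.Uw (w * S.wJ O j)) := fun x =>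
    ⟨nJ⁻¹ * (x.1 : GL T.I F) * nJ * (x.2 : GL T.I F),
      Subgroup.mem_inf.mpr ⟨mul_mem (hA _ x.1.2).1 x.2.2.1, mul_mem (hA _ x.1.2).2.2 (hB x.2.2.2)⟩⟩
  have hsurj : ∀ x ∈ S.Uw (w * S.wJ O j), ∃ a ∈ S.Uw w, ∃ b ∈ S.Uw (S.wJ O j),
      x = nJ⁻¹ * a * nJ * b := by
    intro x hx
    obtain ⟨hxf, hxU⟩ := Subgroup.mem_inf.mp hx
    obtain ⟨hxG, hxs⟩ := S.mem_fix_iff.mp hxf
    obtain ⟨hxpos, -⟩ := (mem_negSet_iff hT hC hm').mp hxU
    obtain ⟨p, hp, q, hq, rfl⟩ := exists_pos_factor hT hC (S.wJ O j) hxpos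
    have hpG := S.rootGen_le_group _ hp
    have hqG := S.rootGen_le_group _ hq
    have hwJ := (S.mem_W1_iff.mp (S.wJ_mem O j)).2
    rw [S.sg_mul hpG hqG] at hxs
    have hq' := S.sg_negSet hq
    rw [hwJ] at hq'
    obtain ⟨h1, h2⟩ := factor_unique hT hC hmJ (S.sg_posSet hwJ hp) hp hq' hq hxs
    have hpf : p ∈ S.fix := ⟨hpG, h1⟩
    have hqf : q ∈ S.fix := ⟨hqG, h2⟩
    refine ⟨nJ * p * nJ⁻¹, Subgroup.mem_inf.mpr ⟨mul_mem (mul_mem hJf hpf) (inv_mem hJf), ?_⟩, q,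
      Subgroup.mem_inf.mpr ⟨hqf, hq⟩, by group⟩
    rw [mem_negSet_iff hT hC hm]
    refine ⟨conj_mem_rootGen hT hmJ (fun r ⟨_, _, h⟩ => h) hp, ?_⟩
    have hpU' : p ∈ T.rootGen F (T.negSet (w * S.wJ O j)) := by
      have := mul_mem hxU (inv_mem (hB hq))
      rwa [mul_inv_cancel_right] at this
    have := ((mem_negSet_iff hT hC hm').mp hpU').2
    simpa [mul_assoc] using this
  refine ⟨fun x hx => ?_, ?_⟩
  · obtain ⟨a, ha, b, hb, rfl⟩ := hsurj x hx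
    exact mul_mem (mul_mem (mul_mem (inv_mem hJΓ) (hU ha)) hJΓ) (G.UJ j b hb.1 hb.2)
  · rw [← Nat.card_prod]
    refine (Nat.card_eq_of_bijective f ⟨?_, ?_⟩).symm
    · rintro ⟨a, b⟩ ⟨a', b'⟩ h
      obtain ⟨h1, h2⟩ := factor_unique hT hC hmJ (hA _ a.2).2.1 (hA _ a'.2).2.1 b.2.2 b'.2.2
        (congrArg Subtype.val h)
      exact Prod.ext (Subtype.ext (mul_left_cancel (mul_right_cancel h1))) (Subtype.ext h2)
    · rintro ⟨x, hx⟩
      obtain ⟨a, ha, b, hb, e⟩ := hsurj x hx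
      exact ⟨(⟨a, ha⟩, ⟨b, hb⟩), Subtype.ext e.symm⟩

theorem Uw_one : S.Uw (1 : Equiv.Perm (Fin T.n)) = ⊥ := by
  rw [eq_bot_iff]
  refine inf_le_right.trans (rootGen_le fun r hr ⟨_, hp, hn⟩ t => ?_)
  exact absurd hp (not_le.mpr hn)

/-- Representatives of the twisted Weyl group, and the fixed parts of the `U_w`. -/
theorem Gen.main : ∀ w ∈ S.W1,
    (∃ n ∈ G.Γ, n ∈ T.datum.monomialSubgroup F ∧ T.Mono n w) ∧ S.Uw w ≤ G.Γ := by
  refine S.W1_induction O ⟨⟨1, one_mem _, one_mem _, Mono.one⟩, by rw [Uw_one]; exact bot_le⟩ ?_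
  intro w hw j hadd ⟨h1, h2⟩
  exact ⟨(G.step hw j hadd h1 h2).1, (G.step hw j hadd h1 h2).2.1⟩

include G in
/-- The orders of the fixed parts of the `U_w`. -/
theorem Gen.card_Uw {q e : ℕ} (hJ : ∀ j, Nat.card (S.Uw (S.wJ O j)) ^ e = q ^ T.invN (S.wJ O j)) :
    ∀ w ∈ S.W1, Nat.card (S.Uw w) ^ e = q ^ T.invN w := by
  refine S.W1_induction O ?_ ?_
  · rw [Uw_one, invN_one S.valid]; simp
  · intro w hw j hadd ih
    obtain ⟨h1, h2⟩ := Gen.main G w hw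
    rw [(G.step hw j hadd h1 h2).2.2, mul_pow, ih, hJ, ← pow_add, hadd]

include G in
/-- The longest element. -/
theorem Gen.exists_longest :
    ∃ w ∈ S.W1, ∀ r : Fin T.n, T.half ≤ r.val → (w r).val < T.half := by
  have hT := S.valid
  obtain ⟨n, hn, w, hm, hw⟩ := Tbl.exists_longest (F := F) hT
  obtain ⟨w', hw', hm'⟩ := exists_mono hT hn
  obtain rfl := hm.unique hm'
  have hσ := S.sg_mono hn hm
  obtain ⟨v, hv, hv'⟩ := exists_mono hT (S.sg_N hn)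
  obtain rfl := hσ.unique hv'
  refine ⟨w, S.mem_W1_iff.mpr ⟨hw', WP_ext hT hv hw' fun i c hc => ?_⟩, hw⟩
  have hneg : ∀ r : Fin T.n, T.half ≤ r.val → ((S.ρ * w * S.ρ⁻¹) r).val < T.half := by
    intro r hr
    rw [Equiv.Perm.mul_apply, Equiv.Perm.mul_apply]
    by_contra h
    have h1 := hw (S.ρ⁻¹ r) ((S.pos _).mp (by rw [show S.ρ (S.ρ⁻¹ r) = r from S.ρ.apply_symm_apply r]; exact hr))
    exact absurd ((S.pos _).mp (not_lt.mp h)) (not_le.mpr h1)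
  have h1 : w⁻¹ * (S.ρ * w * S.ρ⁻¹) = 1 := by
    refine eq_one_of_pos hT (mul_mem (inv_mem hw') hv) fun k => ?_
    rw [Equiv.Perm.mul_apply]
    by_contra hlt
    set s := w⁻¹ ((S.ρ * w * S.ρ⁻¹) (T.simpF hT k)) with hs
    have h2 := hw (T.negF s) (le_negF (not_le.mp hlt))
    rw [WP_negF hT hw', hs, show w (w⁻¹ ((S.ρ * w * S.ρ⁻¹) (T.simpF hT k))) = _ from w.apply_symm_apply _] at h2
    exact absurd h2 (not_lt.mpr (le_negF (hneg _ (half_le_simpF hT k))))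
  rw [(inv_mul_eq_one.mp h1).symm]

theorem Gen.pos_fix : S.fix ⊓ T.rootGen F (fun r => T.half ≤ r) ≤ G.Γ := by
  obtain ⟨w, hw, hneg⟩ := G.exists_longest
  refine le_trans (inf_le_inf_left _ ?_) (G.main w hw).2
  exact rootGen_mono fun r hr hp => ⟨hr, hp, hneg _ hp⟩

theorem Gen.neg_fix : S.fix ⊓ T.rootGen F (fun r => r < T.half) ≤ G.Γ := by
  obtain ⟨w, hw, hneg⟩ := G.exists_longest
  obtain ⟨n, hnΓ, hnN, hm⟩ := (G.main w hw).1
  rintro x ⟨hxf, hxV⟩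
  have h1 : n * x * n⁻¹ ∈ T.rootGen F (fun r => T.half ≤ r) :=
    conj_mem_rootGen S.valid hm (fun r hr => by
      have h1 := hneg (T.negF r) (le_negF hr)
      rw [hm.negEq] at h1
      by_contra h2
      exact absurd h1 (not_lt.mpr (le_negF (not_le.mp h2)))) hxV
  have h2 := G.pos_fix (Subgroup.mem_inf.mpr
    ⟨mul_mem (mul_mem (G.le hnΓ) hxf) (inv_mem (G.le hnΓ)), h1⟩)
  have := mul_mem (mul_mem (inv_mem hnΓ) h2) hnΓ
  simpa [mul_assoc] using this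

/-- All fixed points, once the fixed part of `H` is there. -/
theorem Gen.eq_fix (hH : S.fix ⊓ T.datum.diagonalSubgroup F ≤ G.Γ) : G.Γ = S.fix := by
  refine le_antisymm G.le fun g hg => ?_
  obtain ⟨a, ha, haf, n, hn, hnf, w, hw, hm, u, hu, huf, rfl⟩ := S.fix_canonical hg
  obtain ⟨n0, h0Γ, h0N, hm0⟩ := (G.main w hw).1
  refine mul_mem (mul_mem (G.pos_fix ⟨haf, ha⟩) ?_) ((G.main w hw).2 ⟨huf, hu⟩)
  have hd : n0⁻¹ * n ∈ T.datum.diagonalSubgroup F := by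
    refine mem_diag_of_mono_one S.valid (mul_mem (inv_mem h0N) hn) ?_
    have := hm0.inv.mul hm
    rwa [inv_mul_cancel] at this
  have := mul_mem h0Γ (hH (Subgroup.mem_inf.mpr ⟨mul_mem (inv_mem (G.le h0Γ)) hnf, hd⟩))
  rwa [mul_inv_cancel_left] at this

end CfsgLib.Chevalley.Tbl.Twist
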