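import Cfsg.Agent.Lib.Chevalley.Twist.Orbits
import Cfsg.Agent.Lib.Chevalley.Levi

/-!
A group of fixed points containing the fixed parts of the orbit subgroups contains the fixed
part of every `U_w` and representatives of the twisted Weyl group.
-/

set_option autoImplicit false

namespace CfsgLib.Chevalley.Tbl

open Matrix

/-- Matrices not lowering a grading, with inverse the same. -/
def upSub (T : Tbl) (F : Type*) [Field F] (b : T.I → ℤ) : Subgroup (GL T.I F) where
  carrier := {g | (∀ row col, b row < b col → (g : Matrix T.I T.I F) row col = 0) ∧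
    ∀ row col, b row < b col → ((g⁻¹ : GL T.I F) : Matrix T.I T.I F) row col = 0}
  one_mem' := ⟨fun row col h => by rw [Units.val_one]; exact Matrix.one_apply_ne (by rintro rfl; omega),
    fun row col h => by rw [inv_one, Units.val_one]; exact Matrix.one_apply_ne (by rintro rfl; omega)⟩
  mul_mem' := by
    have key : ∀ g g' : GL T.I F, (∀ row col, b row < b col → (g : Matrix T.I T.I F) row col = 0) →
        (∀ row col, b row < b col → (g' : Matrix T.I T.I F) row col = 0) →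
        ∀ row col, b row < b col → ((g * g' : GL T.I F) : Matrix T.I T.I F) row col = 0 := by
      intro g g' h h' row col hlt
      rw [Units.val_mul, Matrix.mul_apply]
      refine Finset.sum_eq_zero fun k _ => ?_
      by_cases hk : b row < b k
      · rw [h row k hk, zero_mul]
      · rw [h' k col (by omega), mul_zero]
    intro g g' h h'
    exact ⟨key g g' h.1 h'.1, by rw [_root_.mul_inv_rev]; exact key _ _ h'.2 h.2⟩
  inv_mem' := fun h => ⟨h.2, by rw [inv_inv]; exact h.1⟩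

/-- Matrices respecting a grading, with inverse the same. -/
def blockSub (T : Tbl) (F : Type*) [Field F] (b : T.I → ℤ) : Subgroup (GL T.I F) where
  carrier := {g | BlockDiag b g ∧ BlockDiag b g⁻¹}
  one_mem' := ⟨fun row col h => by rw [Units.val_one]; exact Matrix.one_apply_ne (by rintro rfl; exact h rfl),
    fun row col h => by rw [inv_one, Units.val_one]; exact Matrix.one_apply_ne (by rintro rfl; exact h rfl)⟩
  mul_mem' := fun h h' => ⟨h.1.mul h'.1, by rw [_root_.mul_inv_rev]; exact h'.2.mul h.2⟩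
  inv_mem' := fun h => ⟨h.2, by rw [inv_inv]; exact h.1⟩

variable {T : Tbl} {F : Type*} [Field F]

theorem eq_one_of_block_uni {b : T.I → ℤ} {g : GL T.I F} (h : g ∈ T.blockSub F b)
    (h' : UniTri b g) : g = 1 := by
  apply Units.ext
  ext row col
  rw [Units.val_one]
  by_cases e : b row = b col
  · exact h' row col e.le
  · rw [h.1 row col e, Matrix.one_apply_ne]
    rintro rfl; exact e rfl

namespace Twist

variable (S : Twist T F) (O : Orbits T S.valid S.ρ)

/-- The coefficient sum outside an orbit. -/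
noncomputable def oDeg (j : Fin O.o) : T.I → ℤ :=
  T.outDeg {k | ∃ h : k < T.rank, O.orb ⟨k, h⟩ = j}

theorem oDeg_eq (j : Fin O.o) (r : Fin T.n) :
    S.oDeg O j (Sum.inr r) = ∑ i : Fin T.rank, if O.orb i = j then 0 else T.co r.val i.val := by
  classical
  simp only [oDeg, outDeg, Sum.elim_inr, Set.indicator_apply]
  refine Finset.sum_congr rfl fun i _ => ?_
  by_cases h : O.orb i = j
  · rw [if_pos h, if_neg]
    intro hc
    exact hc ⟨i.2, h⟩
  · rw [if_neg h, if_pos]
    rintro ⟨_, h'⟩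
    exact h h'

theorem oDeg_neg (j : Fin O.o) (r : Fin T.n) :
    S.oDeg O j (Sum.inr (T.negF r)) = -S.oDeg O j (Sum.inr r) := by
  rw [oDeg_eq, oDeg_eq, ← Finset.sum_neg_distrib]
  refine Finset.sum_congr rfl fun i _ => ?_
  by_cases h : O.orb i = j
  · simp [h]
  · simp only [if_neg h, negF]
    exact co_neg S.valid r.2 i.2

theorem oDeg_nonneg (j : Fin O.o) {r : Fin T.n} (hr : T.half ≤ r.val) :
    0 ≤ S.oDeg O j (Sum.inr r) := by
  rw [oDeg_eq]
  refine Finset.sum_nonneg fun i _ => ?_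
  split
  · exact le_rfl
  · exact co_nonneg' S.valid hr i.2

theorem oDeg_eq_zero_iff (j : Fin O.o) {r : Fin T.n} (hr : T.half ≤ r.val) :
    S.oDeg O j (Sum.inr r) = 0 ↔ (S.wJ O j r).val < T.half := by
  refine ⟨fun h => ?_, fun h => ?_⟩
  · rw [oDeg_eq, Finset.sum_eq_zero_iff_of_nonneg fun i _ => by
      split
      · exact le_rfl
      · exact co_nonneg' S.valid hr i.2] at h
    refine lt_half_of_co_nonpos S.valid (S.wJ O j r).2 fun c hc => ?_
    rw [WP_linear S.valid (S.wJ_mem O j).1 r hc]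
    refine Finset.sum_nonpos fun k _ => ?_
    by_cases hk : O.orb k = j
    · exact mul_nonpos_of_nonneg_of_nonpos (co_nonneg' S.valid hr k.2)
        (co_nonpos' S.valid (O.neg j k hk) hc)
    · have := h k (Finset.mem_univ _)
      rw [if_neg hk] at this
      rw [this, zero_mul]
  · rw [oDeg_eq]
    refine Finset.sum_eq_zero fun i _ => ?_
    split
    · rfl
    · exact O.supp j r hr h i (by assumption)

theorem xU_mem_upSub (j : Fin O.o) (r : Fin T.n) (hr : 0 ≤ S.oDeg O j (Sum.inr r)) (t : F) :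
    T.xU F r t ∈ T.upSub F (S.oDeg O j) := by
  have key : ∀ t : F, ∀ row col, S.oDeg O j row < S.oDeg O j col →
      ((T.xU F r t : GL T.I F) : Matrix T.I T.I F) row col = 0 := by
    intro t row col hlt
    rcases eq_or_lt_of_le hr with h | h
    · exact blockDiag_xU S.valid r.2 h.symm t row col hlt.ne
    · rw [uniTri_outDeg S.valid r.2 h t row col hlt.le]
      exact Matrix.one_apply_ne (by rintro rfl; exact lt_irrefl _ hlt)
  refine ⟨key t, ?_⟩
  rw [xU_inv S.valid r.2]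
  exact key (-t)

theorem xU_mem_blockSub (j : Fin O.o) (r : Fin T.n) (hr : S.oDeg O j (Sum.inr r) = 0) (t : F) :
    T.xU F r t ∈ T.blockSub F (S.oDeg O j) :=
  ⟨blockDiag_xU S.valid r.2 hr t, by rw [xU_inv S.valid r.2]; exact blockDiag_xU S.valid r.2 hr (-t)⟩

theorem neg_part_deg (j : Fin O.o) (r : Fin T.n) (h1 : r.val < T.half)
    (h2 : T.half ≤ (S.wJ O j r).val) : S.oDeg O j (Sum.inr r) = 0 := by
  have h := (S.oDeg_eq_zero_iff O j (r := T.negF r) (le_negF h1)).mpr (by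
    rw [WP_negF S.valid (S.wJ_mem O j).1]; exact negF_lt h2)
  rw [S.oDeg_neg] at h
  omega

theorem diag_mem_blockSub (j : Fin O.o) {h : GL T.I F} (hh : h ∈ T.datum.diagonalSubgroup F) :
    h ∈ T.blockSub F (S.oDeg O j) := by
  obtain ⟨χ, -, rfl⟩ := diag_exists_char S.valid hh
  have key : ∀ ψ : ℕ → Fˣ, BlockDiag (S.oDeg O j) (T.dU ψ : GL T.I F) := fun ψ row col hne => by
    rw [dU_val]; exact Matrix.diagonal_apply_ne _ fun e => hne (by rw [e])
  exact ⟨key χ, by rw [dU_inv]; exact key _⟩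

theorem mem_blockSub_of_mono (j : Fin O.o) {n : GL T.I F} (hn : n ∈ T.datum.monomialSubgroup F)
    (hm : T.Mono n (S.wJ O j)) : n ∈ T.blockSub F (S.oDeg O j) := by
  have hd : (T.nw F (O.word j))⁻¹ * n ∈ T.datum.diagonalSubgroup F := by
    refine mem_diag_of_mono_one S.valid (mul_mem (inv_mem (nw_mem S.valid _)) hn) ?_
    have := (mono_nw (F := F) S.valid (O.word j)).inv.mul hm
    rwa [show (T.pw S.valid (O.word j))⁻¹ * S.wJ O j = 1 from inv_mul_cancel _] at this
  rw [show n = T.nw F (O.word j) * ((T.nw F (O.word j))⁻¹ * n) from (mul_inv_cancel_left _ _).symm]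
  refine mul_mem (list_prod_mem fun x hx => ?_) (S.diag_mem_blockSub O j hd)
  obtain ⟨i, hi, rfl⟩ := List.mem_map.mp hx
  have h0 : S.oDeg O j (Sum.inr (T.simpF S.valid i)) = 0 :=
    (S.oDeg_eq_zero_iff O j (half_le_simpF S.valid i)).mpr (O.neg j i (O.word_mem j i hi))
  have h1 : S.oDeg O j (Sum.inr (T.negF (T.simpF S.valid i))) = 0 := by rw [S.oDeg_neg, h0]; rfl
  exact mul_mem (mul_mem (S.xU_mem_blockSub O j _ h0 _) (S.xU_mem_blockSub O j _ h1 _))
    (S.xU_mem_blockSub O j _ h0 _)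

/-- A group of fixed points containing the fixed parts of the orbit subgroups. -/
structure Gen where
  Γ : Subgroup (GL T.I F)
  le : Γ ≤ S.fix
  UJ : ∀ j, ∀ x ∈ S.fix, x ∈ T.rootGen F (T.negSet (S.wJ O j)) → x ∈ Γ
  VJ : ∀ j, ∃ v ∈ Γ, v ≠ 1 ∧
    v ∈ T.rootGen F (fun r => ∃ h : r < T.n, r < T.half ∧ T.half ≤ (S.wJ O j ⟨r, h⟩).val)

variable {S O} (G : S.Gen O)

/-- A nontrivial fixed element of `V_J` in canonical form. -/
theorem vJ_canonical (j : Fin O.o) {v : GL T.I F} (hvf : v ∈ S.fix) (hv1 : v ≠ 1)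
    (hv : v ∈ T.rootGen F (fun r => ∃ h : r < T.n, r < T.half ∧ T.half ≤ (S.wJ O j ⟨r, h⟩).val)) :
    ∃ q ∈ S.fix, q ∈ T.rootGen F (T.negSet (S.wJ O j)) ∧ ∃ n ∈ S.fix,
      n ∈ T.datum.monomialSubgroup F ∧ T.Mono n (S.wJ O j) ∧
      ∃ u ∈ S.fix, u ∈ T.rootGen F (T.negSet (S.wJ O j)) ∧ v = q * n * u := by
  have hT := S.valid
  obtain ⟨a, ha, haf, n, hn, hnf, x, hx, hm, u, hu, huf, e⟩ := S.fix_canonical hvf
  have hvB : v ∈ T.blockSub F (S.oDeg O j) :=
    (rootGen_le fun r hr ⟨_, h1, h2⟩ t =>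
      S.xU_mem_blockSub O j ⟨r, hr⟩ (S.neg_part_deg O j ⟨r, hr⟩ h1 h2) t :
      T.rootGen F _ ≤ T.blockSub F (S.oDeg O j)) hv
  have hUup : T.rootGen F (fun r => T.half ≤ r) ≤ T.upSub F (S.oDeg O j) :=
    rootGen_le fun r hr h t => S.xU_mem_upSub O j ⟨r, hr⟩ (S.oDeg_nonneg O j h) t
  have hblockUp : ∀ g ∈ T.blockSub F (S.oDeg O j), g ∈ T.upSub F (S.oDeg O j) := fun g hg =>
    ⟨fun row col h => hg.1 row col h.ne, fun row col h => hg.2 row col h.ne⟩
  have hup : n ∈ T.upSub F (S.oDeg O j) := by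
    have : n = a⁻¹ * v * u⁻¹ := by rw [e]; group
    rw [this]
    exact mul_mem (mul_mem (inv_mem (hUup ha)) (hblockUp v hvB))
      (inv_mem (hUup (rootGen_mono (fun r _ ⟨_, h, _⟩ => h) hu)))
  have hle : ∀ s : Fin T.n, S.oDeg O j (Sum.inr s) ≤ S.oDeg O j (Sum.inr (x s)) := by
    intro s
    by_contra hlt
    exact hm.entry_ne s (hup.1 _ _ (not_le.mp hlt))
  have hkeep : x ∈ S.keepSet O j := by
    intro r h1 h2
    have hpos : 0 < S.oDeg O j (Sum.inr r) := by
      rcases (S.oDeg_nonneg O j h1).lt_or_eq with h | h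
      · exact h
      · exact absurd ((S.oDeg_eq_zero_iff O j h1).mp h.symm) (not_lt.mpr h2)
    have hxr := lt_of_lt_of_le hpos (hle r)
    have hxp : T.half ≤ (x r).val := by
      by_contra hneg
      have := S.oDeg_nonneg O j (le_negF (not_le.mp hneg))
      rw [S.oDeg_neg] at this
      omega
    exact ⟨hxp, not_lt.mp fun h => hxr.ne' ((S.oDeg_eq_zero_iff O j hxp).mpr h)⟩
  have hneg : v ∈ T.rootGen F (fun r => r < T.half) := rootGen_mono (fun r _ ⟨_, h, _⟩ => h) hv
  rcases S.keepSet_W1 O hx hkeep with rfl | rfl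
  · exfalso
    apply hv1
    rw [← Subgroup.mem_bot, ← borel_inf_neg (T := T) (F := F) hT]
    refine Subgroup.mem_inf.mpr ⟨?_, ?_⟩
    · have hpB : ∀ {y : GL T.I F}, y ∈ T.rootGen F (fun r => T.half ≤ r) → y ∈ T.datum.borelSubgroup F :=
        fun {y} hy => Subgroup.mem_sup_left ((posUnipotent_rootGen (F := F) hT).symm ▸ hy)
      rw [e]
      exact mul_mem (mul_mem (hpB ha) (Subgroup.mem_sup_right (mem_diag_of_mono_one hT hn hm)))
        (hpB (rootGen_mono (fun r _ ⟨_, h, _⟩ => h) hu))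
    · rw [negUnipotent_rootGen hT]; exact hneg
  obtain ⟨p, hp, q, hq, rfl⟩ := exists_pos_factor hT S.comm (S.wJ O j) ha
  have hblk : ∀ {y : GL T.I F}, y ∈ T.rootGen F (T.negSet (S.wJ O j)) → y ∈ T.blockSub F (S.oDeg O j) :=
    fun {y} hy => (rootGen_le fun r hr ⟨_, h1, h2⟩ t =>
      S.xU_mem_blockSub O j ⟨r, hr⟩ ((S.oDeg_eq_zero_iff O j h1).mpr h2) t :
      T.rootGen F _ ≤ T.blockSub F (S.oDeg O j)) hy
  have hp1 : p = 1 := by
    refine eq_one_of_block_uni (b := S.oDeg O j) ?_ ?_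
    · have : p = v * u⁻¹ * n⁻¹ * q⁻¹ := by rw [e]; group
      rw [this]
      exact mul_mem (mul_mem (mul_mem hvB (inv_mem (hblk hu)))
        (inv_mem (S.mem_blockSub_of_mono O j hn hm))) (inv_mem (hblk hq))
    · have key : T.rootGen F (T.posSet (S.wJ O j)) ≤ T.uniSub F (S.oDeg O j) := by
        refine rootGen_le fun r hr ⟨_, h1, h2⟩ t => ?_
        have hpos : 0 < S.oDeg O j (Sum.inr ⟨r, hr⟩) := by
          rcases (S.oDeg_nonneg O j (r := ⟨r, hr⟩) h1).lt_or_eq with h | h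
          · exact h
          · exact absurd ((S.oDeg_eq_zero_iff O j h1).mp h.symm) (not_lt.mpr h2)
        exact ⟨uniTri_outDeg hT hr hpos t, by rw [xU_inv hT hr]; exact uniTri_outDeg hT hr hpos (-t)⟩
      exact (key hp).1
  subst hp1
  rw [one_mul] at e haf
  exact ⟨q, haf, hq, n, hnf, hn, hm, u, huf, hu, e⟩

theorem Gen.exists_nJ (j : Fin O.o) :
    ∃ n ∈ G.Γ, n ∈ T.datum.monomialSubgroup F ∧ T.Mono n (S.wJ O j) := by
  obtain ⟨v, hvΓ, hv1, hv⟩ := G.VJ j
  obtain ⟨q, haf, hq, n, hnf, hn, hm, u, huf, hu, e⟩ := vJ_canonical j (G.le hvΓ) hv1 hv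
  have hqΓ := G.UJ j q haf hq
  have huΓ := G.UJ j u huf hu
  refine ⟨n, ?_, hn, hm⟩
  have : n = q⁻¹ * v * u⁻¹ := by rw [e]; group
  rw [this]
  exact mul_mem (mul_mem (inv_mem hqΓ) hvΓ) (inv_mem huΓ)

end Twist

end CfsgLib.Chevalley.Tbl
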