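import Cfsg.Agent.Lib.Chevalley.Twist.OrbitProd

/-!
Evaluation of words of root elements, one basis vector at a time, over a computable ring.
-/

set_option autoImplicit false

namespace CfsgLib.Chevalley.Tbl

open Matrix

variable (T : Tbl) {R : Type*} [CommRing R]

/-- A vector as a list. -/
def vecL (v : T.I → R) : List R := List.ofFn fun i : Fin (T.rank + T.n) => v (finSumFinEquiv.symm i)

/-- A list as a vector. -/
def toVec (l : List R) : T.I → R := fun k => l.getD (finSumFinEquiv k).val 0

/-- The images of a vector under a word, the last letter first. -/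
def evalW : List (ℕ × R) → List R → List R
  | [], v => v
  | p :: l, v => T.vecL ((X R p.1 p.2 : Matrix T.I T.I R) *ᵥ T.toVec (evalW l v))

/-- A word evaluates to a diagonal matrix. -/
def chkDiag [DecidableEq R] (l : List (ℕ × R)) (d : T.I → R) : Bool :=
  allLt (fun i => decide (∀ h : i < T.rank + T.n,
    T.evalW l (T.vecL (Pi.single (finSumFinEquiv.symm ⟨i, h⟩) 1)) =
      T.vecL (Pi.single (finSumFinEquiv.symm ⟨i, h⟩) (d (finSumFinEquiv.symm ⟨i, h⟩))))) (T.rank + T.n)

variable {T}

theorem toVec_vecL (v : T.I → R) : T.toVec (T.vecL v) = v := by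
  funext k
  rw [toVec, vecL, List.getD_eq_getElem _ _ (by simp), List.getElem_ofFn, Fin.eta, Equiv.symm_apply_apply]

theorem toVec_evalW (l : List (ℕ × R)) (v : T.I → R) :
    T.toVec (T.evalW l (T.vecL v)) = (l.map fun p => (X R p.1 p.2 : Matrix T.I T.I R)).prod *ᵥ v := by
  induction l with
  | nil => simp [evalW, toVec_vecL]
  | cons p l ih => rw [evalW, toVec_vecL, ih, List.map_cons, List.prod_cons, Matrix.mulVec_mulVec]

theorem prod_X_of_chkDiag [DecidableEq R] {l : List (ℕ × R)} {d : T.I → R} (h : T.chkDiag l d = true) :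
    (l.map fun p => (X R p.1 p.2 : Matrix T.I T.I R)).prod = Matrix.diagonal d := by
  refine Matrix.ext_of_mulVec_single fun k => ?_
  simp only [chkDiag, allLt_iff, decide_eq_true_eq] at h
  have := h (finSumFinEquiv k).val (finSumFinEquiv k).2 (finSumFinEquiv k).2
  rw [Fin.eta, Equiv.symm_apply_apply] at this
  have h2 := congrArg T.toVec this
  rw [toVec_evalW, toVec_vecL] at h2
  rw [h2]
  funext j
  rw [Matrix.mulVec_diagonal]
  rcases eq_or_ne j k with rfl | hjk
  · simp
  · simp [hjk]

/-- A word checked over a computable ring gives a diagonal element over its algebras. -/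
theorem gprod_eq_dU {F : Type*} [Field F] (hT : T.Valid) (φ : R →+* F) [DecidableEq R]
    {l : List (ℕ × R)} (hl : ∀ p ∈ l, p.1 < T.n) {d : T.I → R} (h : T.chkDiag l d = true)
    {χ : ℕ → Fˣ} (hd : ∀ k, φ (d k) = ((T.scale χ k : Fˣ) : F)) :
    T.gprod (l.map fun p => (p.1, φ p.2)) = T.dU χ := by
  apply Units.ext
  rw [dU_val, gprod]
  show Units.coeHom (Matrix T.I T.I F) (List.prod _) = _
  rw [map_list_prod, List.map_map, List.map_map]
  have e : l.map ((⇑(Units.coeHom (Matrix T.I T.I F)) ∘ fun p : ℕ × F => T.xU F p.1 p.2) ∘ fun p => (p.1, φ p.2)) =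
      (l.map fun p => (X R p.1 p.2 : Matrix T.I T.I R)).map φ.mapMatrix := by
    rw [List.map_map]
    refine List.map_congr_left fun p hp => ?_
    simp only [Function.comp_apply, Units.coeHom_apply]
    rw [xU_val hT (hl p hp), map_X]
  refine (congrArg List.prod e).trans ?_
  rw [← map_list_prod, prod_X_of_chkDiag h, RingHom.mapMatrix_apply, Matrix.diagonal_map (map_zero φ)]
  congr 1
  funext k
  exact hd k

end CfsgLib.Chevalley.Tbl
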