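import Cfsg.Agent.Lib.Chevalley.Twist.Inst
import Cfsg.Agent.Lib.Chevalley.Twist.Field
import Cfsg.Agent.Lib.Chevalley.Twist.Torus1
import Cfsg.Agent.Lib.Chevalley.Data.TwistF4
import Cfsg.Agent.Lib.Chevalley.Data.GraphCerts
import Cfsg.Agent.Lib.Chevalley.Data.SmithCerts
import Cfsg.Agent.Lib.Chevalley.Data.StCerts
import Cfsg.Agent.Lib.Chevalley.Data.F4Comm
import Cfsg.Prelude.Def_LieTwisted

/-!
The fixed elements of the root subgroups of the two classes in type F₄, characteristic two.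
-/

set_option autoImplicit false
set_option maxRecDepth 20000
set_option Elab.async false

namespace CfsgLib.Chevalley.Twist.F4

open Tbl

/-- The table. -/
local notation "T4" => Data.F4.tbl

theorem stOk : (T4).StOk :=
  ⟨Data.F4.valid, Data.F4.chkComm, Data.F4.chkSorted, Data.F4.chkSplit⟩

theorem chk_twist : (T4).chkTwist Data.F4.graph [3, 2, 1, 0] = true := by decide +kernel

theorem chk_orbits :
    (T4).chkOrbits Data.F4.graph 2 [0, 1, 1, 0] Data.F4.orbWords = true := by decide +kernel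

theorem negList0 : (T4).negList (Data.F4.orbWords.getD 0 []) = [24, 33] := by decide +kernel

theorem negList1 : (T4).negList (Data.F4.orbWords.getD 1 []) = [25, 27, 28, 30] := by decide +kernel

variable {K : Type*} [Field K] [Finite K] {m : ℕ} (hK : Nat.card K = 2 ^ (2 * m + 1))
include hK

theorem charTwo : CharP K 2 := by
  have := Fintype.ofFinite K
  obtain ⟨n, hr, hc⟩ := FiniteField.card K (ringChar K)
  have h1 : ringChar K = 2 := by
    have h2 : ringChar K ∣ 2 ^ (2 * m + 1) := by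
      rw [← hK, Nat.card_eq_fintype_card, hc]
      exact dvd_pow_self _ n.ne_zero
    exact (Nat.prime_dvd_prime_iff_eq hr Nat.prime_two).mp (hr.dvd_of_dvd_pow h2)
  exact h1 ▸ ringChar.charP K

theorem two_eq_zero : (2 : K) = 0 := by
  have := charTwo hK
  exact_mod_cast CharP.cast_eq_zero K 2

theorem neg_eq_self (t : K) : -t = t := by linear_combination (-t) * two_eq_zero hK

theorem exists_theta : ∃ f : K ≃+* K, ∀ t, f t = t ^ 2 ^ m := by
  have := charTwo hK
  have : Fact (Nat.Prime 2) := ⟨Nat.prime_two⟩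
  have : ExpChar K 2 := ExpChar.prime Nat.prime_two
  refine ⟨RingEquiv.ofBijective (iterateFrobenius K 2 m)
    (Finite.injective_iff_bijective.mp (iterateFrobenius K 2 m).injective), fun t => ?_⟩
  show iterateFrobenius K 2 m t = _
  rw [iterateFrobenius_def]

/-- The map `θ`. -/
noncomputable def theta : K ≃+* K := (exists_theta hK).choose

theorem theta_apply (t : K) : theta hK t = t ^ 2 ^ m := (exists_theta hK).choose_spec t

theorem pow_theta (t : K) : (t ^ 2 ^ m) ^ (2 * 2 ^ m) = t := by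
  rw [← pow_mul, show 2 ^ m * (2 * 2 ^ m) = 2 ^ (2 * m + 1) by ring]
  exact pow_card_eq hK t

theorem pow_theta' (t : K) : (t ^ (2 * 2 ^ m)) ^ 2 ^ m = t := by
  rw [← pow_mul, show 2 * 2 ^ m * 2 ^ m = 2 ^ (2 * m + 1) by ring]
  exact pow_card_eq hK t

theorem add_pow2 (k : ℕ) (s t : K) : (s + t) ^ 2 ^ k = s ^ 2 ^ k + t ^ 2 ^ k := by
  have := charTwo hK
  have : Fact (Nat.Prime 2) := ⟨Nat.prime_two⟩
  exact add_pow_char_pow s t 2 k

theorem add_pow2' (s t : K) : (s + t) ^ (2 * 2 ^ m) = s ^ (2 * 2 ^ m) + t ^ (2 * 2 ^ m) := by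
  rw [show 2 * 2 ^ m = 2 ^ (m + 1) by ring, add_pow2 hK]

/-- The data of the twist. -/
noncomputable def data : TwistData T4 K where
  ok := stOk
  p := 2
  hp := Or.inr ⟨Nat.prime_two, charTwo hK⟩
  M := Data.F4.graph
  N := Data.F4.graph
  hM := Data.F4.chk_graph
  hN := Data.F4.chk_graph
  hinv := Data.F4.chk_graph_inv
  hperf x := ⟨(x ^ 2 ^ m) ^ 2 ^ m, Or.inl (by
    rw [← pow_mul, show 2 ^ m * 2 = 2 * 2 ^ m by ring]; exact pow_theta hK x)⟩
  π := [3, 2, 1, 0]
  hπ := chk_twist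
  f := theta hK

/-- The twist. -/
noncomputable abbrev S : Twist T4 K := (data hK).twist

/-- The orbits. -/
noncomputable abbrev O : Orbits T4 (S hK).valid (S hK).ρ := (data hK).orbits chk_orbits

theorem sg_x {r r' l : ℕ} (h : (Nat.blt r (T4).n && Nat.beq (Data.F4.graph.ρ r) r' &&
    decide (Data.F4.graph.ε r = 1) && Nat.beq (Data.F4.graph.lam r) l) = true) (t : K) :
    (S hK).sg ((T4).xU K r t) = (T4).xU K r' ((t ^ 2 ^ m) ^ l) := by
  simp only [Bool.and_eq_true, decide_eq_true_eq] at h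
  obtain ⟨⟨⟨a, b⟩, c⟩, d⟩ := h
  obtain rfl := Nat.eq_of_beq_eq_true b
  obtain rfl := Nat.eq_of_beq_eq_true d
  rw [(data hK).sg_x (Nat.le_of_ble_eq_true a)]
  show (T4).xU K _ ((Data.F4.graph.ε r : K) * (theta hK t) ^ Data.F4.graph.lam r) = _
  rw [c, Int.cast_one, one_mul, theta_apply hK]
  rfl

theorem commute_of {a b : ℕ} (h : (Nat.blt a (T4).n && Nat.blt b (T4).n && !Nat.beq b ((T4).neg a) &&
    ((T4).commT a b).all fun c => decide (c.2.1 % 2 = 0)) = true) (s t : K) :
    Commute ((T4).xU K a s) ((T4).xU K b t) := by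
  simp only [Bool.and_eq_true, List.all_eq_true, decide_eq_true_eq, Bool.not_eq_true'] at h
  obtain ⟨⟨⟨ha, hb⟩, hne⟩, hz⟩ := h
  refine commute_xU Data.F4.valid Data.F4.chkComm (Nat.le_of_ble_eq_true ha) (Nat.le_of_ble_eq_true hb)
    (fun e => by rw [e, Nat.beq_refl] at hne; simp at hne) (fun c hc => ?_) s t
  have := charTwo hK
  exact (CharP.intCast_eq_zero_iff K 2 c.2.1).mpr (Int.dvd_of_emod_eq_zero (hz c hc))

/-- The data of a class of type B₂. -/
structure Quad (a b c d : ℕ) : Prop where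
  lt : a < (T4).n ∧ b < (T4).n ∧ c < (T4).n ∧ d < (T4).n
  sa : (Nat.blt a (T4).n && Nat.beq (Data.F4.graph.ρ a) b && decide (Data.F4.graph.ε a = 1) &&
    Nat.beq (Data.F4.graph.lam a) 2) = true
  sb : (Nat.blt b (T4).n && Nat.beq (Data.F4.graph.ρ b) a && decide (Data.F4.graph.ε b = 1) &&
    Nat.beq (Data.F4.graph.lam b) 1) = true
  sc : (Nat.blt c (T4).n && Nat.beq (Data.F4.graph.ρ c) d && decide (Data.F4.graph.ε c = 1) &&
    Nat.beq (Data.F4.graph.lam c) 2) = true
  sd : (Nat.blt d (T4).n && Nat.beq (Data.F4.graph.ρ d) c && decide (Data.F4.graph.ε d = 1) &&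
    Nat.beq (Data.F4.graph.lam d) 1) = true
  ne : a ≠ b ∧ a ≠ (T4).neg b
  comm : ∃ z₁ z₂ : ℤ, z₁ % 2 = 1 ∧ z₂ % 2 = 1 ∧ (T4).commT b a = [(c, z₁, 1, 1), (d, z₂, 1, 2)]
  ac : ∀ p ∈ [(a, c), (a, d), (b, c), (b, d), (c, d)], (Nat.blt p.1 (T4).n && Nat.blt p.2 (T4).n &&
    !Nat.beq p.2 ((T4).neg p.1) && ((T4).commT p.1 p.2).all fun c => decide (c.2.1 % 2 = 0)) = true

omit hK [Field K] [Finite K] in
theorem quadPos : Quad 27 25 28 30 :=
  ⟨by decide +kernel, by decide +kernel, by decide +kernel, by decide +kernel, by decide +kernel,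
    by decide +kernel, ⟨1, -1, rfl, rfl, by decide +kernel⟩, by decide +kernel⟩

omit hK [Field K] [Finite K] in
theorem quadNeg : Quad 20 22 19 17 :=
  ⟨by decide +kernel, by decide +kernel, by decide +kernel, by decide +kernel, by decide +kernel,
    by decide +kernel, ⟨-1, -1, rfl, rfl, by decide +kernel⟩, by decide +kernel⟩

omit hK in
/-- The fixed elements of a class of type B₂, with the long root first. -/
noncomputable def quad (m a b c d : ℕ) (t u : K) : GL (T4).I K :=
  (T4).gprod [(b, t), (a, t ^ 2 ^ m), (c, u), (d, t ^ (2 * 2 ^ m + 1) + u ^ (2 * 2 ^ m))]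

section
variable {a b c d : ℕ} (Q : Quad a b c d)
include Q

theorem swap_ab (t u : K) : (T4).xU K a u * (T4).xU K b t =
    (T4).xU K b t * (T4).xU K a u * ((T4).xU K c (t * u) * (T4).xU K d (t * u ^ 2)) := by
  obtain ⟨z₁, z₂, h1, h2, e⟩ := Q.comm
  have := charTwo hK
  have key : ∀ z : ℤ, z % 2 = 1 → (z : K) = 1 := fun z hz => by
    rw [← Int.mul_ediv_add_emod z 2, hz]
    push_cast
    rw [two_eq_zero hK, zero_mul, zero_add]
  rw [comm_xU Data.F4.valid Data.F4.chkComm Q.lt.2.1 Q.lt.1 Q.ne.1 Q.ne.2, e]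
  simp [key z₁ h1, key z₂ h2, neg_eq_self hK]

theorem cc {r s : ℕ} (h : (r, s) ∈ [(a, c), (a, d), (b, c), (b, d), (c, d)]) (x y : K) :
    Commute ((T4).xU K r x) ((T4).xU K s y) := commute_of hK (Q.ac _ h) x y

/-- The word of the class is the fixed element. -/
theorem word_eq (t u : K) :
    (T4).gprod (Cfsg.Lie.b2ClassWord (2 ^ m) a b c d t u) = quad m a b c d t u := by
  simp only [Cfsg.Lie.b2ClassWord, quad, gprod, List.map_cons, List.map_nil, List.prod_cons,
    List.prod_nil, mul_one]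
  rw [← mul_assoc, swap_ab hK Q t (t ^ 2 ^ m)]
  simp only [mul_assoc]
  congr 2
  rw [← mul_assoc ((T4).xU K d _), ← (cc hK Q (r := c) (s := d) (by simp) _ _).eq, mul_assoc,
    ← mul_assoc, xU_add Data.F4.valid Q.lt.2.2.1, xU_add Data.F4.valid Q.lt.2.2.2]
  congr 2
  · rw [← pow_succ']
    linear_combination (t ^ (2 ^ m + 1)) * two_eq_zero hK
  · rw [← pow_mul, ← pow_succ', show 2 ^ m * 2 + 1 = 2 * 2 ^ m + 1 by ring]

/-- The twist carries the fixed element to the word. -/
theorem sg_quad (t u : K) :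
    (S hK).sg (quad m a b c d t u) = quad m a b c d t u := by
  obtain ⟨ha, hb, hc, hd⟩ := Q.lt
  have hT : (T4).Valid := Data.F4.valid
  conv_rhs => rw [← word_eq hK Q]
  simp only [quad, Cfsg.Lie.b2ClassWord, gprod, List.map_cons, List.map_nil, List.prod_cons, List.prod_nil,
    mul_one]
  have g : ∀ r < (T4).n, ∀ x : K, (T4).xU K r x ∈ (T4).datum.group K := fun r hr x => xU_mem_group hT hr x
  rw [(S hK).sg_mul (g b hb _) (mul_mem (g a ha _) (mul_mem (g c hc _) (g d hd _))),
    (S hK).sg_mul (g a ha _) (mul_mem (g c hc _) (g d hd _)), (S hK).sg_mul (g c hc _) (g d hd _),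
    sg_x hK Q.sa, sg_x hK Q.sb, sg_x hK Q.sc, sg_x hK Q.sd]
  congr 2
  · rw [pow_one]
  · rw [← pow_mul (t ^ 2 ^ m), mul_comm (2 ^ m) 2, pow_theta hK]
  rw [← (cc hK Q (r := c) (s := d) (by simp) _ _).eq]
  congr 2
  · rw [pow_one, add_pow2 hK, pow_theta' hK, pow_succ t (2 * 2 ^ m), mul_pow, pow_theta' hK, pow_succ t]
    ring
  · rw [← pow_mul, mul_comm (2 ^ m) 2]

/-- Products of fixed elements. -/
theorem quad_mul (t u t' u' : K) :
    quad m a b c d t u * quad m a b c d t' u' = quad m a b c d (t + t') (u + u' + t ^ 2 ^ m * t') := by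
  obtain ⟨ha, hb, hc, hd⟩ := Q.lt
  have hT : (T4).Valid := Data.F4.valid
  simp only [quad, gprod, List.map_cons, List.map_nil, List.prod_cons, List.prod_nil, mul_one]
  set D := t ^ (2 * 2 ^ m + 1) + u ^ (2 * 2 ^ m)
  set D' := t' ^ (2 * 2 ^ m + 1) + u' ^ (2 * 2 ^ m)
  set A := t ^ 2 ^ m
  set A' := t' ^ 2 ^ m
  have h1 : ∀ x y z w : K, Commute ((T4).xU K c x * (T4).xU K d y) ((T4).xU K b z * (T4).xU K a w) := by
    intro x y z w
    exact Commute.mul_left
      (Commute.mul_right (cc hK Q (r := b) (s := c) (by simp) _ _).symm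
        (cc hK Q (r := a) (s := c) (by simp) _ _).symm)
      (Commute.mul_right (cc hK Q (r := b) (s := d) (by simp) _ _).symm
        (cc hK Q (r := a) (s := d) (by simp) _ _).symm)
  have h2 : ∀ x y w : K, Commute ((T4).xU K c x * (T4).xU K d y) ((T4).xU K a w) := fun x y w =>
    Commute.mul_left (cc hK Q (r := a) (s := c) (by simp) _ _).symm
      (cc hK Q (r := a) (s := d) (by simp) _ _).symm
  have hcd : ∀ x y x' y' : K, ((T4).xU K c x * (T4).xU K d y) * ((T4).xU K c x' * (T4).xU K d y') =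
      (T4).xU K c (x + x') * (T4).xU K d (y + y') := by
    intro x y x' y'
    rw [mul_assoc, ← mul_assoc ((T4).xU K d y), ← (cc hK Q (r := c) (s := d) (by simp) x' y).eq, mul_assoc,
      ← mul_assoc, xU_add hT hc, xU_add hT hd]
  calc (T4).xU K b t * ((T4).xU K a A * ((T4).xU K c u * (T4).xU K d D)) *
        ((T4).xU K b t' * ((T4).xU K a A' * ((T4).xU K c u' * (T4).xU K d D')))
      = (T4).xU K b t * (T4).xU K a A * (((T4).xU K c u * (T4).xU K d D) *
          ((T4).xU K b t' * (T4).xU K a A')) * ((T4).xU K c u' * (T4).xU K d D') := by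
        simp only [mul_assoc]
    _ = (T4).xU K b t * (((T4).xU K a A * (T4).xU K b t') * (T4).xU K a A') *
          (((T4).xU K c u * (T4).xU K d D) * ((T4).xU K c u' * (T4).xU K d D')) := by
        rw [(h1 u D t' A').eq]; simp only [mul_assoc]
    _ = (T4).xU K b t * (T4).xU K b t' * ((T4).xU K a A *
          (((T4).xU K c (t' * A) * (T4).xU K d (t' * A ^ 2)) * (T4).xU K a A')) *
          ((T4).xU K c (u + u') * (T4).xU K d (D + D')) := by
        rw [swap_ab hK Q t' A, hcd]; simp only [mul_assoc]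
    _ = (T4).xU K b t * (T4).xU K b t' * ((T4).xU K a A * (T4).xU K a A') *
          (((T4).xU K c (t' * A) * (T4).xU K d (t' * A ^ 2)) *
          ((T4).xU K c (u + u') * (T4).xU K d (D + D'))) := by
        rw [(h2 _ _ A').eq]; simp only [mul_assoc]
    _ = _ := by
        rw [hcd, xU_add hT hb, xU_add hT ha, mul_assoc]
        congr 2
        · exact congrArg _ (add_pow2 hK m t t').symm
        congr 2
        · rw [mul_comm A t']; ring
        · rw [show (t + t') ^ (2 * 2 ^ m + 1) = (t + t') ^ (2 * 2 ^ m) * (t + t') from pow_succ _ _,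
            add_pow2' hK, add_pow2' hK, add_pow2' hK, mul_pow, show A ^ (2 * 2 ^ m) = t from pow_theta hK t,
            show A ^ 2 = t ^ (2 * 2 ^ m) by rw [← pow_mul, mul_comm]]
          simp only [D, D', pow_succ]
          linear_combination (-(t * t' ^ (2 * 2 ^ m))) * two_eq_zero hK

theorem quad_zero : quad (K := K) m a b c d 0 0 = 1 := by
  obtain ⟨ha, hb, hc, hd⟩ := Q.lt
  simp [quad, gprod, xU_zero Data.F4.valid, ha, hb, hc, hd]

theorem quad_inv (t u : K) :
    (quad m a b c d t u)⁻¹ = quad m a b c d t (u + t ^ (2 ^ m + 1)) := by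
  refine inv_eq_of_mul_eq_one_right ?_
  rw [quad_mul hK Q, ← quad_zero hK Q]
  congr 1
  · linear_combination t * two_eq_zero hK
  · rw [pow_succ]; linear_combination (u + t ^ 2 ^ m * t) * two_eq_zero hK

theorem quad_fix (t u : K) : quad m a b c d t u ∈ (S hK).fix := by
  obtain ⟨ha, hb, hc, hd⟩ := Q.lt
  refine ⟨gprod_mem_group Data.F4.valid fun p hp => ?_, sg_quad hK Q t u⟩
  simp only [List.mem_cons, List.not_mem_nil, or_false] at hp
  rcases hp with rfl | rfl | rfl | rfl <;> assumption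

end

omit hK in
/-- The fixed elements of the class of a pair of orthogonal roots. -/
noncomputable def pair (m a b : ℕ) (t : K) : GL (T4).I K :=
  (T4).gprod [(b, t), (a, t ^ 2 ^ m)]

omit hK [Field K] [Finite K] in
theorem pairFacts : ∀ p ∈ [(33, 24), (14, 23)],
    p.1 < (T4).n ∧ p.2 < (T4).n ∧
    (Nat.blt p.1 (T4).n && Nat.beq (Data.F4.graph.ρ p.1) p.2 && decide (Data.F4.graph.ε p.1 = 1) &&
      Nat.beq (Data.F4.graph.lam p.1) 2) = true ∧
    (Nat.blt p.2 (T4).n && Nat.beq (Data.F4.graph.ρ p.2) p.1 && decide (Data.F4.graph.ε p.2 = 1) &&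
      Nat.beq (Data.F4.graph.lam p.2) 1) = true ∧
    (Nat.blt p.1 (T4).n && Nat.blt p.2 (T4).n && !Nat.beq p.2 ((T4).neg p.1) &&
      ((T4).commT p.1 p.2).all fun c => decide (c.2.1 % 2 = 0)) = true := by
  decide +kernel

section
variable {a b : ℕ} (hab : (a, b) ∈ [(33, 24), (14, 23)])
include hab

theorem pair_word (t : K) : (T4).gprod (Cfsg.Lie.f4PairWord (2 ^ m) a b t) = pair m a b t := by
  simp only [Cfsg.Lie.f4PairWord, pair, gprod, List.map_cons, List.map_nil, List.prod_cons, List.prod_nil,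
    mul_one]
  exact (commute_of hK (pairFacts _ hab).2.2.2.2 _ _).eq

theorem sg_pair (t : K) : (S hK).sg (pair m a b t) = pair m a b t := by
  obtain ⟨ha, hb, sa, sb, -⟩ := pairFacts _ hab
  have hT : (T4).Valid := Data.F4.valid
  simp only [pair, gprod, List.map_cons, List.map_nil, List.prod_cons, List.prod_nil, mul_one]
  rw [(S hK).sg_mul (xU_mem_group hT hb _) (xU_mem_group hT ha _), sg_x hK sa, sg_x hK sb, pow_one,
    ← pow_mul (t ^ 2 ^ m), mul_comm (2 ^ m) 2, pow_theta hK]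
  exact (commute_of hK (pairFacts _ hab).2.2.2.2 _ _).eq

theorem pair_mul (t t' : K) : pair m a b t * pair m a b t' = pair m a b (t + t') := by
  obtain ⟨ha, hb, -, -, hc⟩ := pairFacts _ hab
  have hT : (T4).Valid := Data.F4.valid
  simp only [pair, gprod, List.map_cons, List.map_nil, List.prod_cons, List.prod_nil, mul_one]
  rw [mul_assoc, ← mul_assoc ((T4).xU K a _), (commute_of hK hc _ _).eq, mul_assoc, ← mul_assoc,
    xU_add hT hb, xU_add hT ha, add_pow2 hK]

theorem pair_inv (t : K) : (pair m a b t)⁻¹ = pair m a b t := by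
  obtain ⟨ha, hb, -, -, -⟩ := pairFacts _ hab
  refine inv_eq_of_mul_eq_one_right ?_
  rw [pair_mul hK hab, show t + t = 0 by linear_combination t * two_eq_zero hK]
  simp [pair, gprod, xU_zero Data.F4.valid, ha, hb]

theorem pair_fix (t : K) : pair m a b t ∈ (S hK).fix := by
  obtain ⟨ha, hb, -, -, -⟩ := pairFacts _ hab
  refine ⟨gprod_mem_group Data.F4.valid fun p hp => ?_, sg_pair hK hab t⟩
  simp only [List.mem_cons, List.not_mem_nil, or_false] at hp
  rcases hp with rfl | rfl <;> assumption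

end

/-- The fixed elements of the positive root subgroup of the pair. -/
theorem exists_pair {x : GL (T4).I K} (hx : x ∈ (S hK).Uw ((S hK).wJ (O hK) (0 : Fin 2))) :
    ∃ t, x = pair m 33 24 t := by
  obtain ⟨hxf, hxU⟩ := Subgroup.mem_inf.mp hx
  obtain ⟨f, rfl⟩ := (data hK).exists_word chk_orbits (0 : Fin 2) negList0 hxU
  refine ⟨f 24, ?_⟩
  obtain ⟨ha, hb, sa, sb, hc⟩ := pairFacts (33, 24) (by simp)
  have hT : (T4).Valid := Data.F4.valid
  have e := hxf.2
  simp only [gprod, List.map_cons, List.map_nil, List.prod_cons, List.prod_nil, mul_one] at e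
  rw [(S hK).sg_mul (xU_mem_group hT hb _) (xU_mem_group hT ha _), sg_x hK sb, sg_x hK sa,
    (commute_of hK hc _ _).eq] at e
  have key := gprod_inj hT Data.F4.chkComm (L := [24, 33]) (by decide) (by decide +kernel)
    (fun r => if r = 24 then ((f 33) ^ 2 ^ m) ^ 2 else ((f 24) ^ 2 ^ m) ^ 1) f
    (by simpa [gprod] using e) 33 (by simp)
  simp at key
  simp [pair, gprod, key]

/-- The fixed elements of the positive root subgroup of the class of type B₂. -/
theorem exists_quad {x : GL (T4).I K} (hx : x ∈ (S hK).Uw ((S hK).wJ (O hK) (1 : Fin 2))) :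
    ∃ t u, x = quad m 27 25 28 30 t u := by
  obtain ⟨hxf, hxU⟩ := Subgroup.mem_inf.mp hx
  obtain ⟨f, rfl⟩ := (data hK).exists_word chk_orbits (1 : Fin 2) negList1 hxU
  refine ⟨f 25, f 28, ?_⟩
  obtain ⟨ha, hb, hc, hd⟩ := quadPos.lt
  have hT : (T4).Valid := Data.F4.valid
  have e := hxf.2
  simp only [gprod, List.map_cons, List.map_nil, List.prod_cons, List.prod_nil, mul_one] at e
  rw [(S hK).sg_mul (xU_mem_group hT hb _)
      (mul_mem (xU_mem_group hT ha _) (mul_mem (xU_mem_group hT hc _) (xU_mem_group hT hd _))),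
    (S hK).sg_mul (xU_mem_group hT ha _) (mul_mem (xU_mem_group hT hc _) (xU_mem_group hT hd _)),
    (S hK).sg_mul (xU_mem_group hT hc _) (xU_mem_group hT hd _),
    sg_x hK quadPos.sa, sg_x hK quadPos.sb, sg_x hK quadPos.sc, sg_x hK quadPos.sd,
    ← mul_assoc, swap_ab hK quadPos] at e
  set B := ((f 27) ^ 2 ^ m) ^ 2
  set A := ((f 25) ^ 2 ^ m) ^ 1
  set C := ((f 30) ^ 2 ^ m) ^ 1
  set Dd := ((f 28) ^ 2 ^ m) ^ 2
  have e2 : (T4).xU K 25 B * ((T4).xU K 27 A * ((T4).xU K 28 (B * A + C) * (T4).xU K 30 (B * A ^ 2 + Dd))) =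
      (T4).xU K 25 (f 25) * ((T4).xU K 27 (f 27) * ((T4).xU K 28 (f 28) * (T4).xU K 30 (f 30))) := by
    rw [← e, ← xU_add hT hc, ← xU_add hT hd]
    rw [← (cc hK quadPos (r := 28) (s := 30) (by simp) C Dd).eq]
    simp only [mul_assoc]
    congr 3
    rw [← mul_assoc, (cc hK quadPos (r := 28) (s := 30) (by simp) C (B * A ^ 2)).eq, mul_assoc]
  have key := gprod_inj hT Data.F4.chkComm (L := [25, 27, 28, 30]) (by decide) (by decide +kernel)
    (fun r => if r = 25 then B else if r = 27 then A else if r = 28 then B * A + C else B * A ^ 2 + Dd) f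
    (by simpa [gprod] using e2)
  have k25 := key 25 (by simp)
  have k27 := key 27 (by simp)
  have k30 := key 30 (by simp)
  simp at k25 k27 k30
  have h30 : f 30 = (f 25) ^ (2 * 2 ^ m + 1) + (f 28) ^ (2 * 2 ^ m) := by
    rw [← k30, k25, show A ^ 2 = (f 25) ^ (2 * 2 ^ m) by simp only [A, pow_one, ← pow_mul]; ring,
      show Dd = (f 28) ^ (2 * 2 ^ m) by simp only [Dd, ← pow_mul]; ring, pow_succ]
    ring
  simp only [quad, gprod, List.map_cons, List.map_nil, List.prod_cons, List.prod_nil, mul_one]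
  rw [← h30, show (f 25) ^ 2 ^ m = f 27 from ((pow_one _).symm.trans k27)]

end CfsgLib.Chevalley.Twist.F4
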