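import Cfsg.Agent.Lib.Chevalley.Twist.G2Extra

/-!
²G₂ on the cosets of its Borel subgroup.
-/

set_option autoImplicit false
set_option maxRecDepth 20000
set_option Elab.async false

namespace CfsgLib.Chevalley.Twist.G2

open Tbl

local notation "T2" => Data.G2.tbl

variable {K : Type*} [Field K] [Finite K] {m : ℕ} (hK : Nat.card K = 3 ^ (2 * m + 1))
include hK

theorem pos_neg_wJ (r : Fin (T2).n) (hr : (T2).half ≤ r.val) :
    ((S hK).wJ (O hK) (0 : Fin 1) r).val < (T2).half := by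
  have hmem : ∀ r < (T2).n, (T2).half ≤ r → r ∈ [6, 7, 8, 9, 10, 11] := by decide +kernel
  obtain ⟨_, _, h⟩ := ((data hK).negSet_iff chk_orbits (0 : Fin 1) negList0 r.val).mpr (hmem _ r.2 hr)
  exact h

theorem W1_cases {w : Equiv.Perm (Fin (T2).n)} (hw : w ∈ (S hK).W1) :
    w = 1 ∨ w = (S hK).wJ (O hK) (0 : Fin 1) :=
  (S hK).keepSet_W1 (O hK) hw fun r h1 h2 => absurd (pos_neg_wJ hK r h1) (not_lt.mpr h2)

/-- Conjugation by a representative of the nontrivial Weyl element inverts the sign. -/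
theorem conj_pos_neg {n : GL (T2).I K} (hm : (T2).Mono n ((S hK).wJ (O hK) (0 : Fin 1))) {x : GL (T2).I K}
    (hx : x ∈ (T2).datum.posUnipotent K) : n * x * n⁻¹ ∈ (T2).rootGen K (fun r => r < (T2).half) := by
  rw [posUnipotent_rootGen Data.G2.valid] at hx
  exact conj_mem_rootGen Data.G2.valid hm (fun s hs => pos_neg_wJ hK s hs) hx

omit hK [Finite K] in
theorem diag_conj_pos {h x : GL (T2).I K} (hh : h ∈ (T2).datum.diagonalSubgroup K)
    (hx : x ∈ (T2).datum.posUnipotent K) : h * x * h⁻¹ ∈ (T2).datum.posUnipotent K := by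
  rw [posUnipotent_rootGen Data.G2.valid] at hx ⊢
  exact (Subgroup.mem_normalizer_iff.mp (diag_le_normalizer Data.G2.valid _ hh) x).mp hx

omit hK [Finite K] in
theorem borel_parts {b : GL (T2).I K} (hb : b ∈ (T2).datum.borelSubgroup K) :
    ∃ a ∈ (T2).datum.posUnipotent K, ∃ h ∈ (T2).datum.diagonalSubgroup K, b = a * h :=
  (mem_borel_iff Data.G2.valid).mp hb

theorem canon {g : GL (T2).I K} (hg : g ∈ (S hK).fix) :
    g ∈ (T2).datum.borelSubgroup K ∨ ∃ a ∈ (T2).datum.posUnipotent K ⊓ (S hK).fix,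
      ∃ n ∈ (T2).datum.monomialSubgroup K ⊓ (S hK).fix, (T2).Mono n ((S hK).wJ (O hK) (0 : Fin 1)) ∧
      ∃ u ∈ (T2).datum.posUnipotent K ⊓ (S hK).fix, g = a * n * u := by
  have hT := Data.G2.valid
  obtain ⟨a, ha, haf, n, hn, hnf, w, hw, hm, u, hu, huf, rfl⟩ := (S hK).fix_canonical hg
  have hu' : u ∈ (T2).datum.posUnipotent K := by
    rw [posUnipotent_rootGen hT]
    exact rootGen_mono (fun r _ ⟨_, h, _⟩ => h) hu
  rw [← posUnipotent_rootGen hT] at ha
  rcases W1_cases hK hw with rfl | rfl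
  · exact Or.inl (mul_mem (mul_mem (Subgroup.mem_sup_left ha)
      (Subgroup.mem_sup_right (mem_diag_of_mono_one hT hn hm))) (Subgroup.mem_sup_left hu'))
  · exact Or.inr ⟨a, ⟨ha, haf⟩, n, ⟨hn, hnf⟩, hm, u, ⟨hu', huf⟩, rfl⟩

omit hK [Finite K] in
theorem borel_normalizes {b x : GL (T2).I K} (hb : b ∈ (T2).datum.borelSubgroup K)
    (hx : x ∈ (T2).datum.posUnipotent K) : b * x * b⁻¹ ∈ (T2).datum.posUnipotent K := by
  obtain ⟨a, ha, h, hh, rfl⟩ := borel_parts hb
  rw [show a * h * x * (a * h)⁻¹ = a * (h * x * h⁻¹) * a⁻¹ by group]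
  exact mul_mem (mul_mem ha (diag_conj_pos hh hx)) (inv_mem ha)

/-- Trivial intersection of the positive parts. -/
theorem ti {g x : GL (T2).I K} (hg : g ∈ (S hK).fix) (hx : x ∈ (T2).datum.posUnipotent K) (hx1 : x ≠ 1)
    (hgx : g * x * g⁻¹ ∈ (T2).datum.posUnipotent K) : g ∈ (T2).datum.borelSubgroup K := by
  refine (canon hK hg).resolve_right ?_
  rintro ⟨a, ha, n, -, hm, u, hu, rfl⟩
  apply hx1
  have h1 : u * x * u⁻¹ ∈ (T2).datum.posUnipotent K := mul_mem (mul_mem hu.1 hx) (inv_mem hu.1)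
  have h2 := conj_pos_neg hK hm h1
  have h3 : n * (u * x * u⁻¹) * n⁻¹ ∈ (T2).datum.posUnipotent K := by
    rw [show n * (u * x * u⁻¹) * n⁻¹ = a⁻¹ * (a * n * u * x * (a * n * u)⁻¹) * a by group]
    exact mul_mem (mul_mem (inv_mem ha.1) hgx) ha.1
  rw [posUnipotent_rootGen Data.G2.valid] at h3
  simpa using eq_one_of_pos_neg Data.G2.valid h3 h2

omit hK [Finite K] in
theorem pos_le_borel {x : GL (T2).I K} (hx : x ∈ (T2).datum.posUnipotent K) :
    x ∈ (T2).datum.borelSubgroup K := Subgroup.mem_sup_left hx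

omit hK [Finite K] in
theorem pos_diag_one {x : GL (T2).I K} (hx : x ∈ (T2).datum.posUnipotent K)
    (hd : x ∈ (T2).datum.diagonalSubgroup K) : x = 1 :=
  Subgroup.mem_bot.mp (pos_inf_diag (T := T2) (F := K) Data.G2.valid ▸ ⟨hx, hd⟩)

theorem exists_n0 : ∃ n ∈ (T2).datum.monomialSubgroup K ⊓ (S hK).fix,
    (T2).Mono n ((S hK).wJ (O hK) (0 : Fin 1)) := by
  obtain ⟨n, hn, hN, hm⟩ := (gen hK).exists_nJ (0 : Fin 1)
  exact ⟨n, ⟨hN, le_fix hK hn⟩, hm⟩

theorem n0_not_borel {n : GL (T2).I K} (hm : (T2).Mono n ((S hK).wJ (O hK) (0 : Fin 1))) :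
    n ∉ (T2).datum.borelSubgroup K := by
  intro hn
  have h1 := ree_mem_pos hK (1 : K) 0 0
  have h2 := borel_normalizes hn h1.1
  rw [posUnipotent_rootGen Data.G2.valid] at h2
  have h3 := eq_one_of_pos_neg Data.G2.valid h2 (conj_pos_neg hK hm h1.1)
  simp only [mul_inv_eq_one, mul_eq_left] at h3
  rw [← ree0_one hK] at h3
  exact one_ne_zero (ree_inj hK h3).1

/-- The Borel subgroup meets its conjugate by `n` in the torus. -/
theorem borel_inter {n b : GL (T2).I K} (hn : n ∈ (T2).datum.monomialSubgroup K)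
    (hm : (T2).Mono n ((S hK).wJ (O hK) (0 : Fin 1))) (hb : b ∈ (T2).datum.borelSubgroup K)
    (hb' : n⁻¹ * b * n ∈ (T2).datum.borelSubgroup K) : b ∈ (T2).datum.diagonalSubgroup K := by
  have hT := Data.G2.valid
  obtain ⟨a, ha, h, hh, e⟩ := borel_parts hb'
  rw [← borel_inf_negDiag (F := K) hT]
  refine Subgroup.mem_inf.mpr ⟨hb, ?_⟩
  rw [show b = (n * a * n⁻¹) * (n * h * n⁻¹) by rw [eq_mul_inv_iff_mul_eq.mpr e.symm]; group]
  refine mul_mem (Subgroup.mem_sup_left ?_) (Subgroup.mem_sup_right ?_)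
  · rw [negUnipotent_rootGen hT]; exact conj_pos_neg hK hm ha
  · refine mem_diag_of_mono_one hT (mul_mem (mul_mem hn (diag_le_N hT hh)) (inv_mem hn)) ?_
    have := (hm.mul (mono_diag hT hh)).mul hm.inv
    rwa [mul_one, mul_inv_cancel] at this

theorem mono_diff {n n' : GL (T2).I K} (hn : n ∈ (T2).datum.monomialSubgroup K)
    (hn' : n' ∈ (T2).datum.monomialSubgroup K) (hm : (T2).Mono n ((S hK).wJ (O hK) (0 : Fin 1)))
    (hm' : (T2).Mono n' ((S hK).wJ (O hK) (0 : Fin 1))) :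
    n⁻¹ * n' ∈ (T2).datum.diagonalSubgroup K := by
  refine mem_diag_of_mono_one Data.G2.valid (mul_mem (inv_mem hn) hn') ?_
  have := hm.inv.mul hm'
  rwa [inv_mul_cancel] at this

/-! The action on cosets -/

/-- The cosets of the Borel subgroup. -/
abbrev Pts : Type _ := ↥(S hK).fix ⧸ ((T2).datum.borelSubgroup K ⊓ (S hK).fix).subgroupOf (S hK).fix

theorem mk_eq_iff {a b : ↥(S hK).fix} : (QuotientGroup.mk a : Pts hK) = QuotientGroup.mk b ↔
    (a : GL (T2).I K)⁻¹ * b ∈ (T2).datum.borelSubgroup K := by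
  rw [QuotientGroup.eq, Subgroup.mem_subgroupOf, Subgroup.mem_inf]
  simp only [Subgroup.coe_mul, InvMemClass.coe_inv]
  exact ⟨fun h => h.1, fun h => ⟨h, mul_mem (inv_mem a.2) b.2⟩⟩

theorem fixes_iff {g a : ↥(S hK).fix} : g • (QuotientGroup.mk a : Pts hK) = QuotientGroup.mk a ↔
    (a : GL (T2).I K)⁻¹ * g * a ∈ (T2).datum.borelSubgroup K := by
  rw [show g • (QuotientGroup.mk a : Pts hK) = QuotientGroup.mk (g * a) from rfl, eq_comm, mk_eq_iff hK]
  simp [mul_assoc]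

/-- Stabilisers of three points are small. -/
theorem three_le {n : ↥(S hK).fix} (hN : (n : GL (T2).I K) ∈ (T2).datum.monomialSubgroup K)
    (hm : (T2).Mono (n : GL (T2).I K) ((S hK).wJ (O hK) (0 : Fin 1))) {z : Pts hK}
    (h0 : z ≠ QuotientGroup.mk 1) (h1 : z ≠ QuotientGroup.mk n) {g : ↥(S hK).fix}
    (g0 : g • (QuotientGroup.mk 1 : Pts hK) = QuotientGroup.mk 1)
    (g1 : g • (QuotientGroup.mk n : Pts hK) = QuotientGroup.mk n) (g2 : g • z = z) :
    ∃ c : Kˣ, c * c = 1 ∧ hd hK c = g := by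
  induction z using QuotientGroup.induction_on with | H z =>
  rw [fixes_iff hK] at g0 g1 g2
  simp only [OneMemClass.coe_one, inv_one, one_mul, mul_one] at g0
  have hgd : (g : GL (T2).I K) ∈ (T2).datum.diagonalSubgroup K := borel_inter hK hN hm g0 g1
  obtain ⟨c, hc⟩ := exists_hd hK (Subgroup.mem_inf.mpr ⟨hgd, g.2⟩)
  refine ⟨c, ?_, hc⟩
  rcases canon hK z.2 with hzB | ⟨a, ha, n', hn', hm', u, hu, ez⟩
  · exact absurd ((mk_eq_iff hK).mpr (by simpa using inv_mem hzB)) h0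
  have hd' := mono_diff hK hN hn'.1 hm hm'
  have hz : (z : GL (T2).I K) = a * n * ((n : GL (T2).I K)⁻¹ * n' * u) := by rw [ez]; group
  have hB : (n : GL (T2).I K)⁻¹ * n' * u ∈ (T2).datum.borelSubgroup K :=
    mul_mem (Subgroup.mem_sup_right hd') (pos_le_borel hu.1)
  by_contra hne
  have ha1 : a = 1 := by
    have hcomm : (g : GL (T2).I K) * a * (g : GL (T2).I K)⁻¹ = a := by
      have e1 : (n : GL (T2).I K)⁻¹ * (a⁻¹ * g * a) * n ∈ (T2).datum.borelSubgroup K := by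
        have h := mul_mem (mul_mem hB g2) (inv_mem hB)
        rwa [show (n : GL (T2).I K)⁻¹ * n' * u * ((z : GL (T2).I K)⁻¹ * g * z) *
          ((n : GL (T2).I K)⁻¹ * n' * u)⁻¹ = (n : GL (T2).I K)⁻¹ * (a⁻¹ * g * a) * n by rw [hz]; group] at h
      have e2 := borel_inter hK hN hm
        (mul_mem (mul_mem (inv_mem (pos_le_borel ha.1)) g0) (pos_le_borel ha.1)) e1
      have e3 : a⁻¹ * ((g : GL (T2).I K) * a * (g : GL (T2).I K)⁻¹) = 1 :=
        pos_diag_one (mul_mem (inv_mem ha.1) (diag_conj_pos hgd ha.1)) (by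
          rw [show a⁻¹ * ((g : GL (T2).I K) * a * (g : GL (T2).I K)⁻¹) =
            a⁻¹ * g * a * (g : GL (T2).I K)⁻¹ by group]
          exact mul_mem e2 (inv_mem hgd))
      exact (inv_mul_eq_one.mp e3).symm
    obtain ⟨t, p, q, rfl⟩ := exists_pos hK ha
    exact fpf hK hne (by rwa [hc])
  refine h1 ((mk_eq_iff hK).mpr ?_)
  rw [ha1, one_mul] at hz
  rw [show (z : GL (T2).I K)⁻¹ * n = ((n : GL (T2).I K)⁻¹ * n' * u)⁻¹ by rw [hz]; group]
  exact inv_mem hB

/-- Any two points can be moved to the standard pair. -/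
theorem two_trans {n : ↥(S hK).fix} (hN : (n : GL (T2).I K) ∈ (T2).datum.monomialSubgroup K)
    (hm : (T2).Mono (n : GL (T2).I K) ((S hK).wJ (O hK) (0 : Fin 1))) {x y : Pts hK} (h : x ≠ y) :
    ∃ g : ↥(S hK).fix, g • x = QuotientGroup.mk 1 ∧ g • y = QuotientGroup.mk n := by
  induction x using QuotientGroup.induction_on with | H x =>
  induction y using QuotientGroup.induction_on with | H y =>
  rcases canon hK (mul_mem (inv_mem x.2) y.2) with hB | ⟨a, ha, n', hn', hm', u, hu, e⟩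
  · exact absurd ((mk_eq_iff hK).mpr hB) h
  set a' : ↥(S hK).fix := ⟨a, ha.2⟩
  refine ⟨a'⁻¹ * x⁻¹, ?_, ?_⟩
  · show (QuotientGroup.mk (a'⁻¹ * x⁻¹ * x) : Pts hK) = _
    rw [inv_mul_cancel_right, mk_eq_iff hK]
    simpa [a'] using pos_le_borel ha.1
  · show (QuotientGroup.mk (a'⁻¹ * x⁻¹ * y) : Pts hK) = _
    rw [mk_eq_iff hK]
    have hd' := mono_diff hK hN hn'.1 hm hm'
    have hB : (n : GL (T2).I K)⁻¹ * n' * u ∈ (T2).datum.borelSubgroup K :=
      mul_mem (Subgroup.mem_sup_right hd') (pos_le_borel hu.1)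
    have h2 := inv_mem hB
    rwa [show ((a'⁻¹ * x⁻¹ * y : ↥(S hK).fix) : GL (T2).I K) = n' * u by
        simp only [Subgroup.coe_mul, InvMemClass.coe_inv, a']
        rw [mul_assoc a⁻¹, e]
        group,
      show (n' * u)⁻¹ * (n : GL (T2).I K) = ((n : GL (T2).I K)⁻¹ * n' * u)⁻¹ by group]

theorem three_card {x y z : Pts hK} (hxy : x ≠ y) (hxz : x ≠ z) (hyz : y ≠ z) :
    Nat.card ↥(MulAction.stabilizer ↥(S hK).fix x ⊓ MulAction.stabilizer ↥(S hK).fix y ⊓
      MulAction.stabilizer ↥(S hK).fix z) ≤ 2 := by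
  obtain ⟨n, hn, hm⟩ := exists_n0 hK
  set n' : ↥(S hK).fix := ⟨n, hn.2⟩
  obtain ⟨g, gx, gy⟩ := two_trans hK (n := n') hn.1 hm hxy
  have hz0 : g • z ≠ QuotientGroup.mk 1 := fun e => hxz (smul_left_cancel g (gx.trans e.symm))
  have hz1 : g • z ≠ QuotientGroup.mk n' := fun e => hyz (smul_left_cancel g (gy.trans e.symm))
  set L := MulAction.stabilizer ↥(S hK).fix x ⊓ MulAction.stabilizer ↥(S hK).fix y ⊓
      MulAction.stabilizer ↥(S hK).fix z
  have key : ∀ s : ↥L, ∃ c : Kˣ, c * c = 1 ∧ hd hK c = ((g * s.1 * g⁻¹ : ↥(S hK).fix) : GL (T2).I K) := by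
    intro s
    obtain ⟨⟨hx, hy⟩, hz⟩ := s.2
    refine three_le hK (n := n') hn.1 hm hz0 hz1 ?_ ?_ ?_
    · rw [← gx, smul_smul, inv_mul_cancel_right, mul_smul, show s.1 • x = x from hx]
    · rw [← gy, smul_smul, inv_mul_cancel_right, mul_smul, show s.1 • y = y from hy]
    · rw [smul_smul, inv_mul_cancel_right, mul_smul, show s.1 • z = z from hz]
  choose f hf1 hf2 using key
  classical
  have hinj : Function.Injective fun s : ↥L => (⟨f s, by
      exact hf1 s⟩ : {c : Kˣ | c * c = 1}) := fun s t e => by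
    have e' : f s = f t := congrArg Subtype.val e
    have := (hf2 s).symm.trans ((congrArg (hd hK) e').trans (hf2 t))
    exact Subtype.ext (mul_left_cancel (mul_right_cancel (Subtype.ext this)))
  refine (Nat.card_le_card_of_injective _ hinj).trans ?_
  have hsub : ({c : Kˣ | c * c = 1} : Set Kˣ) ⊆ {1, -1} := by
    intro c hc
    rcases mul_self_eq_one_iff.mp (show (c : K) * c = 1 by rw [← Units.val_mul, hc, Units.val_one]) with h | h
    · exact Or.inl (Units.ext h)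
    · exact Or.inr (Units.ext (by rw [h, Units.val_neg, Units.val_one]))
  rw [Nat.card_coe_set_eq]
  exact (Set.ncard_le_ncard hsub (Set.toFinite _)).trans
    ((Set.ncard_insert_le _ _).trans (by rw [Set.ncard_singleton]))

theorem three_witness : ∃ x y z : Pts hK, x ≠ y ∧ x ≠ z ∧ y ≠ z ∧
    Nat.card ↥(MulAction.stabilizer ↥(S hK).fix x ⊓ MulAction.stabilizer ↥(S hK).fix y ⊓
      MulAction.stabilizer ↥(S hK).fix z) = 2 := by
  obtain ⟨n, hn, hm⟩ := exists_n0 hK
  set n' : ↥(S hK).fix := ⟨n, hn.2⟩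
  have ha := ree_mem_pos hK (0 : K) 1 0
  set a : ↥(S hK).fix := ⟨_, ha.2⟩
  have h01 : (QuotientGroup.mk 1 : Pts hK) ≠ QuotientGroup.mk n' := fun e =>
    n0_not_borel hK hm (by simpa [n'] using (mk_eq_iff hK).mp e)
  have h02 : (QuotientGroup.mk 1 : Pts hK) ≠ QuotientGroup.mk (a * n') := fun e => by
    have := mul_mem (inv_mem (pos_le_borel ha.1)) (by simpa [n', a] using (mk_eq_iff hK).mp e)
    exact n0_not_borel hK hm (by simpa using this)
  have h12 : (QuotientGroup.mk n' : Pts hK) ≠ QuotientGroup.mk (a * n') := fun e => by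
    have h := borel_inter hK hn.1 hm (pos_le_borel ha.1) (by
      have := (mk_eq_iff hK).mp e
      simpa [n', a, mul_assoc] using this)
    have := pos_diag_one ha.1 h
    rw [← ree0_one hK] at this
    exact one_ne_zero (ree_inj hK this).2.1
  refine ⟨_, _, _, h01, h02, h12, le_antisymm (three_card hK h01 h02 h12) ?_⟩
  set L := MulAction.stabilizer ↥(S hK).fix (QuotientGroup.mk 1 : Pts hK) ⊓
    MulAction.stabilizer ↥(S hK).fix (QuotientGroup.mk n' : Pts hK) ⊓
      MulAction.stabilizer ↥(S hK).fix (QuotientGroup.mk (a * n') : Pts hK)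
  have hh := hd_mem hK (-1 : Kˣ)
  have hconj : n⁻¹ * hd hK (-1) * n ∈ (T2).datum.borelSubgroup K := by
    refine Subgroup.mem_sup_right (mem_diag_of_mono_one Data.G2.valid
      (mul_mem (mul_mem (inv_mem hn.1) (diag_le_N Data.G2.valid hh.1)) hn.1) ?_)
    have := (hm.inv.mul (mono_diag Data.G2.valid hh.1)).mul hm
    rwa [mul_one, inv_mul_cancel] at this
  have hmem : (⟨hd hK (-1), hh.2⟩ : ↥(S hK).fix) ∈ L := by
    refine ⟨⟨?_, ?_⟩, ?_⟩ <;> refine MulAction.mem_stabilizer_iff.mpr ((fixes_iff hK).mpr ?_)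
    · have h : hd hK (-1) ∈ (T2).datum.borelSubgroup K := Subgroup.mem_sup_right hh.1
      simpa only [OneMemClass.coe_one, inv_one, one_mul, mul_one] using h
    · exact hconj
    · convert hconj using 1
      have e : (ree m (0 : K) 1 0)⁻¹ * hd hK (-1) * ree m 0 1 0 = hd hK (-1) := by
        rw [mul_assoc, inv_mul_eq_iff_eq_mul]
        exact mul_inv_eq_iff_eq_mul.mp (hd_neg_one_conj hK 1)
      simp only [Subgroup.coe_mul, n', a, _root_.mul_inv_rev]
      rw [show n⁻¹ * (ree m (0 : K) 1 0)⁻¹ * hd hK (-1) * (ree m 0 1 0 * n) =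
        n⁻¹ * ((ree m (0 : K) 1 0)⁻¹ * hd hK (-1) * ree m 0 1 0) * n by group, e]
  have hne : (-1 : Kˣ) ≠ 1 := by
    intro e
    have := congrArg (fun c : Kˣ => (c : K)) e
    simp only [Units.val_neg, Units.val_one] at this
    have h2 : (2 : K) = 0 := by linear_combination -this
    exact one_ne_zero (by linear_combination three_eq_zero hK - h2 : (1 : K) = 0)
  have : Nontrivial ↥L := ⟨⟨⟨_, hmem⟩, 1, fun e => hne (hd_inj hK ((congrArg
    (fun s : ↥L => ((s.1 : ↥(S hK).fix) : GL (T2).I K)) e).trans (map_one (hd hK)).symm))⟩⟩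
  exact Finite.one_lt_card

end CfsgLib.Chevalley.Twist.G2
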