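import Mathlib

/-!
Elements whose order has multiplicative order six over the field, in a seven-dimensional representation.
-/

set_option autoImplicit false

namespace CfsgLib.Chevalley.Twist.SmallRep

open Polynomial Matrix

/-- The hypotheses. -/
structure Ctx (G K : Type*) [Group G] [Field K] [Fintype K] (p : ℕ) where
  /-- The representation. -/
  ρ : G →* Matrix (Fin 7) (Fin 7) K
  inj : Function.Injective ρ
  det : ∀ g, (ρ g).det = 1
  prime : p.Prime
  ord : orderOf ((Fintype.card K : ℕ) : ZMod p) = 6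
  /-- The element. -/
  x : G
  hx : orderOf x = p

variable {G K : Type*} [Group G] [Field K] [Fintype K] {p : ℕ} (D : Ctx G K p)

local notation "L" => AlgebraicClosure K

/-- The representation over the algebraic closure. -/
noncomputable def Ctx.M : G →* Matrix (Fin 7) (Fin 7) L :=
  ((algebraMap K L).mapMatrix.toMonoidHom).comp D.ρ

theorem Ctx.M_inj : Function.Injective D.M :=
  (Matrix.map_injective (algebraMap K L).injective).comp D.inj

theorem Ctx.M_det (g : G) : (D.M g).det = 1 := by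
  show ((algebraMap K L).mapMatrix (D.ρ g)).det = 1
  rw [← RingHom.map_det, D.det, map_one]

theorem Ctx.M_pow_card (g : G) (i j : Fin 7) : (D.M g i j) ^ Fintype.card K = D.M g i j := by
  show algebraMap K L (D.ρ g i j) ^ _ = algebraMap K L (D.ρ g i j)
  rw [← map_pow, FiniteField.pow_card]

theorem exists_frob : ∃ f : L →+* L, ∀ a, f a = a ^ Fintype.card K := by
  obtain ⟨⟨n, hn⟩, hp, hc⟩ := FiniteField.card K (ringChar K)
  have : Fact (ringChar K).Prime := ⟨hp⟩
  have : CharP K (ringChar K) := ringChar.charP K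
  have : CharP L (ringChar K) := charP_of_injective_algebraMap (algebraMap K L).injective _
  refine ⟨iterateFrobenius L (ringChar K) n, fun a => ?_⟩
  rw [iterateFrobenius_def, hc]
  rfl

include D in
theorem Ctx.p_ne_zero : ((p : ℕ) : L) ≠ 0 := by
  obtain ⟨⟨n, hn⟩, hp, hc⟩ := FiniteField.card K (ringChar K)
  have : CharP K (ringChar K) := ringChar.charP K
  have : CharP L (ringChar K) := charP_of_injective_algebraMap (algebraMap K L).injective _
  rw [ne_eq, CharP.cast_eq_zero_iff L (ringChar K)]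
  intro h
  have e : ringChar K = p := (Nat.prime_dvd_prime_iff_eq hp D.prime).mp h
  have h0 : ((Fintype.card K : ℕ) : ZMod p) = 0 := by
    rw [ZMod.natCast_eq_zero_iff, hc, e]
    exact dvd_pow_self p (by simp only [PNat.mk_coe]; omega)
  have := D.ord
  rw [h0, orderOf_eq_zero] at this
  · omega
  · intro hf
    have : Fact p.Prime := ⟨D.prime⟩
    rw [isOfFinOrder_iff_pow_eq_one] at hf
    obtain ⟨k, hk, hk1⟩ := hf
    rw [zero_pow hk.ne'] at hk1
    exact zero_ne_one hk1

omit [Fintype K] in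
theorem scalar_mulVec (a : L) (v : Fin 7 → L) : Matrix.scalar (Fin 7) a *ᵥ v = a • v := by
  funext i
  rw [Matrix.scalar_apply, Matrix.mulVec_diagonal]
  rfl

/-- The eigenvalue and its eigenvector. -/
theorem Ctx.exists_eigen : ∃ (a : L) (v : Fin 7 → L), v ≠ 0 ∧ D.M D.x *ᵥ v = a • v ∧
    a ^ p = 1 ∧ a ≠ 1 := by
  by_contra h
  push Not at h
  set A := D.M D.x with hA
  have hAp : A ^ p = 1 := by
    have hxp := pow_orderOf_eq_one D.x
    rw [D.hx] at hxp
    rw [hA, ← map_pow, hxp, map_one]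
  have hvec : ∀ (a : L) (v : Fin 7 → L), A *ᵥ v = a • v → ∀ k : ℕ, (A ^ k) *ᵥ v = a ^ k • v := by
    intro a v e k
    induction k with
    | zero => simp
    | succ k ih => rw [pow_succ, ← Matrix.mulVec_mulVec, e, Matrix.mulVec_smul, ih, smul_smul, ← pow_succ']
  have hroots : ∀ a ∈ A.charpoly.roots, a = 1 := by
    intro a ha
    rw [mem_roots (Matrix.charpoly_monic A).ne_zero, IsRoot, Matrix.eval_charpoly] at ha
    obtain ⟨v, hv, e⟩ := Matrix.exists_mulVec_eq_zero_iff.mpr ha
    rw [Matrix.sub_mulVec, sub_eq_zero, scalar_mulVec] at e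
    have e' : A *ᵥ v = a • v := e.symm
    refine h a v hv e' ?_
    have h1 := hvec a v e' p
    rw [hAp, Matrix.one_mulVec] at h1
    by_contra hne
    apply hv
    funext i
    have h2 := congrFun h1 i
    simp only [Pi.smul_apply, smul_eq_mul] at h2
    by_contra hvi
    exact hne ((mul_eq_right₀ hvi).mp h2.symm)
  have hcp : A.charpoly = (X - Polynomial.C (1 : L)) ^ 7 := by
    rw [(IsAlgClosed.splits A.charpoly).eq_prod_roots_of_monic (Matrix.charpoly_monic A),
      Multiset.map_congr rfl (g := fun _ => X - Polynomial.C (1 : L)) (fun a ha => by rw [hroots a ha]), Multiset.map_const', Multiset.prod_replicate,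
      IsAlgClosed.card_roots_eq_natDegree, Matrix.charpoly_natDegree_eq_dim]
    rfl
  have hnil : (A - 1) ^ 7 = 0 := by
    have h1 := Matrix.aeval_self_charpoly A
    rwa [hcp, map_pow, map_sub, aeval_X, aeval_C, map_one] at h1
  obtain ⟨Y, hY⟩ : ∃ Y, Commute (A - 1) Y ∧ (∑ i ∈ Finset.range p, A ^ i) = (p : ℕ) • 1 + (A - 1) * Y := by
    refine ⟨∑ i ∈ Finset.range p, ∑ j ∈ Finset.range i, A ^ j, ?_, ?_⟩
    · refine Commute.sum_right _ _ _ fun i _ => Commute.sum_right _ _ _ fun j _ => ?_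
      exact ((Commute.refl A).sub_left (Commute.one_left A)).pow_right j
    · rw [Finset.mul_sum]
      conv_lhs => rw [Finset.sum_congr rfl fun i _ => show A ^ i = 1 + (A - 1) * ∑ j ∈ Finset.range i, A ^ j by
        rw [mul_geom_sum, add_sub_cancel]]
      rw [Finset.sum_add_distrib, Finset.sum_const, Finset.card_range]
  have hu : IsUnit (∑ i ∈ Finset.range p, A ^ i) := by
    rw [hY.2]
    refine IsNilpotent.isUnit_add_left_of_commute (Commute.isNilpotent_mul_right hY.1 ⟨7, hnil⟩) ?_ ?_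
    · rw [nsmul_one]
      rw [show ((p : ℕ) : Matrix (Fin 7) (Fin 7) L) = algebraMap L _ (p : L) from (map_natCast _ _).symm]
      exact (isUnit_iff_ne_zero.mpr D.p_ne_zero).map _
    · exact ((Commute.one_right _).smul_right p)
  have h0 : (A - 1) * ∑ i ∈ Finset.range p, A ^ i = 0 := by rw [mul_geom_sum, hAp, sub_self]
  have h1 : A = 1 := sub_eq_zero.mp (hu.mul_left_eq_zero.mp h0)
  have : D.x = 1 := D.M_inj (by rw [map_one]; exact h1)
  have h2 := D.hx
  rw [this, orderOf_one] at h2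
  exact D.prime.ne_one h2.symm

/-- An eigenvalue of order `p`. -/
noncomputable def Ctx.lam : L := D.exists_eigen.choose

/-- Its eigenvector. -/
noncomputable def Ctx.v0 : Fin 7 → L := D.exists_eigen.choose_spec.choose

theorem Ctx.v0_spec : D.v0 ≠ 0 ∧ D.M D.x *ᵥ D.v0 = D.lam • D.v0 ∧ D.lam ^ p = 1 ∧ D.lam ≠ 1 :=
  D.exists_eigen.choose_spec.choose_spec

theorem Ctx.orderOf_lam : orderOf D.lam = p :=
  haveI : Fact p.Prime := ⟨D.prime⟩
  orderOf_eq_prime D.v0_spec.2.2.1 D.v0_spec.2.2.2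

theorem Ctx.pow_mod (a b : ℕ) : D.lam ^ a = D.lam ^ b ↔ (a : ZMod p) = (b : ZMod p) := by
  have hl : D.lam ≠ 0 := fun h => by
    have := D.v0_spec.2.2.1
    rw [h, zero_pow D.prime.ne_zero] at this
    exact zero_ne_one this
  rw [← Units.val_mk0 hl, ← Units.val_pow_eq_pow_val, ← Units.val_pow_eq_pow_val, Units.val_inj,
    pow_eq_pow_iff_modEq, ZMod.natCast_eq_natCast_iff, ← orderOf_units, Units.val_mk0, D.orderOf_lam]

theorem Ctx.qpow_inj {i j : ℕ} (hi : i < 6) (hj : j < 6)
    (h : D.lam ^ (Fintype.card K) ^ i = D.lam ^ (Fintype.card K) ^ j) : i = j := by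
  rw [D.pow_mod, Nat.cast_pow, Nat.cast_pow] at h
  exact pow_injOn_Iio_orderOf (x := ((Fintype.card K : ℕ) : ZMod p)) (by rw [Set.mem_Iio, D.ord]; exact hi)
    (by rw [Set.mem_Iio, D.ord]; exact hj) h

/-- The conjugates of the eigenvector. -/
noncomputable def Ctx.vv (i : ℕ) : Fin 7 → L := fun j => D.v0 j ^ (Fintype.card K) ^ i

theorem Ctx.M_vv {g : G} {a : L} (h : D.M g *ᵥ D.v0 = a • D.v0) :
    ∀ i, D.M g *ᵥ D.vv i = a ^ (Fintype.card K) ^ i • D.vv i := by
  obtain ⟨f, hf⟩ := exists_frob (K := K)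
  intro i
  induction i with
  | zero =>
    rw [show D.vv 0 = D.v0 from funext fun j => by simp [Ctx.vv], pow_zero, pow_one]
    exact h
  | succ i ih =>
    funext j
    have h2 := congrArg f (congrFun ih j)
    simp only [Matrix.mulVec, dotProduct, Pi.smul_apply, smul_eq_mul, Ctx.vv, map_sum, map_mul] at h2
    simp only [hf, D.M_pow_card, ← pow_mul, ← pow_succ] at h2
    simp only [Matrix.mulVec, dotProduct, Pi.smul_apply, smul_eq_mul, Ctx.vv]
    exact h2

theorem Ctx.vv_ne_zero (i : ℕ) : D.vv i ≠ 0 := by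
  intro h
  apply D.v0_spec.1
  funext j
  have h2 := congrFun h j
  exact eq_zero_of_pow_eq_zero h2

/-- The seven eigenvalues. -/
noncomputable def Ctx.ev (i : Fin 7) : L := if i.val < 6 then D.lam ^ (Fintype.card K) ^ i.val else 1

theorem Ctx.ev_inj : Function.Injective D.ev := by
  have hne : ∀ i, D.lam ^ (Fintype.card K) ^ i ≠ 1 := by
    intro i h
    rw [← pow_zero D.lam, D.pow_mod, Nat.cast_zero, Nat.cast_pow] at h
    have : Fact p.Prime := ⟨D.prime⟩
    have h0 : ((Fintype.card K : ℕ) : ZMod p) = 0 := eq_zero_of_pow_eq_zero h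
    have h6 := pow_orderOf_eq_one ((Fintype.card K : ℕ) : ZMod p)
    rw [D.ord, h0, zero_pow (by omega)] at h6
    exact zero_ne_one h6
  intro i j h
  simp only [Ctx.ev] at h
  split_ifs at h with hi hj hj
  · exact Fin.ext (D.qpow_inj hi hj h)
  · exact absurd h (hne _)
  · exact absurd h.symm (hne _)
  · exact Fin.ext (by omega)

theorem Ctx.roots_eq : (D.M D.x).charpoly.roots = Finset.univ.val.map D.ev := by
  classical
  set A := D.M D.x
  have hne := (Matrix.charpoly_monic A).ne_zero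
  let six : Finset L := (Finset.range 6).image fun i => D.lam ^ (Fintype.card K) ^ i
  have hsub : six.val ≤ A.charpoly.roots := by
    rw [Multiset.le_iff_subset six.nodup]
    intro a ha
    obtain ⟨i, -, rfl⟩ := Finset.mem_image.mp (Finset.mem_val.mp ha)
    rw [mem_roots hne, IsRoot, Matrix.eval_charpoly, ← Matrix.exists_mulVec_eq_zero_iff]
    refine ⟨D.vv i, D.vv_ne_zero i, ?_⟩
    rw [Matrix.sub_mulVec, scalar_mulVec, D.M_vv D.v0_spec.2.1, sub_self]
  obtain ⟨rest, hrest⟩ := Multiset.le_iff_exists_add.mp hsub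
  have hinj : Set.InjOn (fun i => D.lam ^ (Fintype.card K) ^ i) (Finset.range 6 : Set ℕ) :=
    fun i hi j hj h => D.qpow_inj (Finset.mem_range.mp hi) (Finset.mem_range.mp hj) h
  have hcard : six.card = 6 := by rw [Finset.card_image_of_injOn hinj, Finset.card_range]
  have hr1 : Multiset.card rest = 1 := by
    have h := congrArg Multiset.card hrest
    rw [IsAlgClosed.card_roots_eq_natDegree, Matrix.charpoly_natDegree_eq_dim, Multiset.card_add,
      Finset.card_val, hcard, Fintype.card_fin] at h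
    omega
  obtain ⟨c, rfl⟩ := Multiset.card_eq_one.mp hr1
  have hsum : ((∑ i ∈ Finset.range 6, Fintype.card K ^ i : ℕ) : ZMod p) = 0 := by
    have : Fact p.Prime := ⟨D.prime⟩
    rw [Nat.cast_sum]
    simp only [Nat.cast_pow]
    have h6 := geom_sum_mul ((Fintype.card K : ℕ) : ZMod p) 6
    rw [← D.ord, pow_orderOf_eq_one, sub_self, D.ord] at h6
    refine (mul_eq_zero.mp h6).resolve_right fun h => ?_
    have := D.ord
    rw [sub_eq_zero.mp h, orderOf_one] at this
    omega
  have hc : c = 1 := by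
    have h := Matrix.det_eq_prod_roots_charpoly A
    rw [D.M_det, hrest, Multiset.prod_add, Multiset.prod_singleton] at h
    have h2 : six.val.prod = 1 := by
      rw [Finset.prod_val]
      rw [Finset.prod_image hinj]
      simp only [id]
      rw [Finset.prod_pow_eq_pow_sum, ← pow_zero D.lam, D.pow_mod, hsum, Nat.cast_zero]
    rw [h2, one_mul] at h
    exact h.symm
  rw [hrest, hc]
  have hu : (Finset.univ : Finset (Fin 7)).val.map D.ev =
      ((Finset.range 6).val.map fun i => D.lam ^ (Fintype.card K) ^ i) + {1} := by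
    simp [Ctx.ev, Fin.univ_succ, Finset.range, Multiset.range, List.range_succ]
    rfl
  rw [hu, Finset.image_val_of_injOn hinj]

theorem Ctx.exists_one_vec : ∃ v : Fin 7 → L, v ≠ 0 ∧ D.M D.x *ᵥ v = v := by
  have h1 : (1 : L) ∈ (D.M D.x).charpoly.roots := by
    rw [D.roots_eq, Multiset.mem_map]
    exact ⟨6, Finset.mem_univ_val _, by simp [Ctx.ev]⟩
  rw [mem_roots (Matrix.charpoly_monic _).ne_zero, IsRoot, Matrix.eval_charpoly] at h1
  obtain ⟨v, hv, e⟩ := Matrix.exists_mulVec_eq_zero_iff.mpr h1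
  rw [Matrix.sub_mulVec, sub_eq_zero, scalar_mulVec, one_smul] at e
  exact ⟨v, hv, e.symm⟩

/-- The seven eigenvectors. -/
noncomputable def Ctx.basisVec (i : Fin 7) : Fin 7 → L :=
  if i.val < 6 then D.vv i.val else D.exists_one_vec.choose

theorem Ctx.basis_ne (i : Fin 7) : D.basisVec i ≠ 0 := by
  simp only [Ctx.basisVec]
  split_ifs
  exacts [D.vv_ne_zero _, D.exists_one_vec.choose_spec.1]

theorem Ctx.basis_eig (i : Fin 7) : D.M D.x *ᵥ D.basisVec i = D.ev i • D.basisVec i := by
  simp only [Ctx.basisVec, Ctx.ev]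
  split_ifs
  · exact D.M_vv D.v0_spec.2.1 _
  · rw [one_smul]; exact D.exists_one_vec.choose_spec.2

theorem Ctx.basis_indep : LinearIndependent L D.basisVec := by
  refine Module.End.eigenvectors_linearIndependent' (Matrix.mulVecLin (D.M D.x)) D.ev D.ev_inj _ fun i => ?_
  exact ⟨Module.End.mem_eigenspace_iff.mpr (D.basis_eig i), D.basis_ne i⟩

/-- Eigenvectors are multiples of the chosen ones. -/
theorem Ctx.eigen_unique {w : Fin 7 → L} {i : Fin 7} (h : D.M D.x *ᵥ w = D.ev i • w) :
    ∃ a : L, w = a • D.basisVec i := by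
  classical
  let b := basisOfLinearIndependentOfCardEqFinrank D.basis_indep (by simp)
  have hb : ⇑b = D.basisVec := coe_basisOfLinearIndependentOfCardEqFinrank _ _
  refine ⟨b.repr w i, ?_⟩
  have e := b.sum_repr w
  rw [hb] at e
  have h2 : ∑ j, (b.repr w j * (D.ev j - D.ev i)) • D.basisVec j = 0 := by
    have h3 : D.M D.x *ᵥ (∑ j, b.repr w j • D.basisVec j) = D.ev i • ∑ j, b.repr w j • D.basisVec j := by
      rw [e]; exact h
    rw [Matrix.mulVec_sum, Finset.smul_sum, ← sub_eq_zero, ← Finset.sum_sub_distrib] at h3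
    refine Eq.trans (Finset.sum_congr rfl fun j _ => ?_) h3
    rw [Matrix.mulVec_smul, D.basis_eig, smul_smul, smul_smul, ← sub_smul]
    congr 1; ring
  have h4 := Fintype.linearIndependent_iff.mp D.basis_indep _ h2
  conv_lhs => rw [← e]
  refine Finset.sum_eq_single i (fun j _ hj => ?_) (by simp)
  rcases mul_eq_zero.mp (h4 j) with h5 | h5
  · rw [h5, zero_smul]
  · exact absurd (D.ev_inj (sub_eq_zero.mp h5)) hj

theorem Ctx.commutes_eig {g : G} (hg : D.x * g = g * D.x) (i : Fin 7) :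
    ∃ a : L, D.M g *ᵥ D.basisVec i = a • D.basisVec i := by
  refine D.eigen_unique ?_
  rw [Matrix.mulVec_mulVec, ← map_mul, hg, map_mul, ← Matrix.mulVec_mulVec, D.basis_eig, Matrix.mulVec_smul]

theorem Ctx.eig_one {g : G} (hg : D.x * g = g * D.x) (h : D.M g *ᵥ D.v0 = D.v0) : g = 1 := by
  choose a ha using D.commutes_eig hg
  have h1 : ∀ i : Fin 7, i.val < 6 → a i = 1 := by
    intro i hi
    have e := D.M_vv (a := 1) (by rw [one_smul]; exact h) i.val
    rw [one_pow, one_smul] at e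
    have e2 := ha i
    have e3 : D.basisVec i = D.vv i.val := if_pos hi
    rw [e3, e] at e2
    have e4 : (1 - a i) • D.vv i.val = 0 := by rw [sub_smul, one_smul, ← e2, sub_self]
    exact (sub_eq_zero.mp ((smul_eq_zero.mp e4).resolve_right (D.vv_ne_zero _))).symm
  let P : Matrix (Fin 7) (Fin 7) L := Matrix.of fun j i => D.basisVec i j
  have hP : IsUnit P := by
    rw [← Matrix.linearIndependent_cols_iff_isUnit]
    exact D.basis_indep
  have hcomm : D.M g * P = P * Matrix.diagonal a := by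
    ext j i
    rw [Matrix.mul_diagonal]
    exact (congrFun (ha i) j).trans (mul_comm _ _)
  have hd : ∏ i, a i = 1 := by
    have e := congrArg Matrix.det hcomm
    rw [Matrix.det_mul, Matrix.det_mul, D.M_det, one_mul, Matrix.det_diagonal] at e
    exact mul_eq_left₀ ((Matrix.isUnit_iff_isUnit_det _).mp hP).ne_zero |>.mp e.symm
  have hall : ∀ i, a i = 1 := by
    intro i
    by_cases hi : i.val < 6
    · exact h1 i hi
    · have : i = 6 := Fin.ext (by omega)
      subst this
      rwa [Finset.prod_eq_single (6 : Fin 7) (fun j _ hj => h1 j (by omega)) (by simp)] at hd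
  apply D.M_inj
  rw [map_one]
  refine hP.mul_left_injective ?_
  show D.M g * P = 1 * P
  rw [one_mul, hcomm, show Matrix.diagonal a = 1 by rw [← Matrix.diagonal_one]; congr 1; exact funext hall,
    mul_one]

theorem Ctx.cent_cyclic [Finite G] : IsCyclic ↥(Subgroup.centralizer {D.x}) := by
  classical
  obtain ⟨j, hj⟩ : ∃ j, D.v0 j ≠ 0 := Function.ne_iff.mp D.v0_spec.1
  have hcm : ∀ g : ↥(Subgroup.centralizer {D.x}), D.x * g.1 = g.1 * D.x := fun g =>
    Subgroup.mem_centralizer_iff.mp g.2 _ rfl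
  have he : ∀ g : ↥(Subgroup.centralizer {D.x}), ∃ a : L, D.M g.1 *ᵥ D.v0 = a • D.v0 := by
    intro g
    have h0 : D.basisVec 0 = D.v0 := funext fun j => by simp [Ctx.basisVec, Ctx.vv]
    exact h0 ▸ D.commutes_eig (hcm g) 0
  choose a ha using he
  have hu : ∀ {a b : L}, a • D.v0 = b • D.v0 → a = b := by
    intro a b e
    exact mul_right_cancel₀ hj (congrFun e j)
  let f : ↥(Subgroup.centralizer {D.x}) →* L :=
    { toFun := a
      map_one' := hu (by rw [← ha 1, one_smul, OneMemClass.coe_one, map_one, Matrix.one_mulVec])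
      map_mul' := fun g g' => hu (by
        rw [← ha, Subgroup.coe_mul, map_mul, ← Matrix.mulVec_mulVec, ha, Matrix.mulVec_smul, ha, smul_smul,
          mul_comm]) }
  refine isCyclic_of_injective_ringHom f ((injective_iff_map_eq_one f).mpr fun g hg => ?_)
  refine Subtype.ext (D.eig_one (hcm g) ?_)
  have h1 : a g = 1 := hg
  rw [ha, h1, one_smul]

theorem Ctx.conj_pow {g : G} {k : ℕ} (h : g⁻¹ * D.x * g = D.x ^ k) :
    ∃ i < 6, g⁻¹ * D.x * g = D.x ^ (Fintype.card K) ^ i := by
  have hw : D.M D.x *ᵥ (D.M g *ᵥ D.v0) = D.lam ^ k • (D.M g *ᵥ D.v0) := by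
    have hk : ∀ k : ℕ, D.M (D.x ^ k) *ᵥ D.v0 = D.lam ^ k • D.v0 := by
      intro k
      induction k with
      | zero => simp
      | succ k ih =>
        rw [pow_succ, map_mul, ← Matrix.mulVec_mulVec, D.v0_spec.2.1, Matrix.mulVec_smul, ih, smul_smul,
          ← pow_succ']
    rw [Matrix.mulVec_mulVec, ← map_mul, show D.x * g = g * D.x ^ k by rw [← h]; group, map_mul,
      ← Matrix.mulVec_mulVec, hk, Matrix.mulVec_smul]
  have hne : D.M g *ᵥ D.v0 ≠ 0 := fun e => D.v0_spec.1 (by
    have h2 := congrArg (D.M g⁻¹ *ᵥ ·) e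
    simpa [Matrix.mulVec_mulVec, ← map_mul] using h2)
  have hroot : D.lam ^ k ∈ (D.M D.x).charpoly.roots := by
    rw [mem_roots (Matrix.charpoly_monic _).ne_zero, IsRoot, Matrix.eval_charpoly,
      ← Matrix.exists_mulVec_eq_zero_iff]
    refine ⟨_, hne, ?_⟩
    rw [Matrix.sub_mulVec, scalar_mulVec, hw, sub_self]
  rw [D.roots_eq, Multiset.mem_map] at hroot
  obtain ⟨i, -, hi⟩ := hroot
  simp only [Ctx.ev] at hi
  split_ifs at hi with h6
  · refine ⟨i.val, h6, ?_⟩
    rw [h, pow_eq_pow_iff_modEq, D.hx, ← ZMod.natCast_eq_natCast_iff]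
    exact ((D.pow_mod _ _).mp hi).symm
  · exfalso
    rw [← pow_zero D.lam, D.pow_mod] at hi
    have h1 : D.x ^ k = 1 := by
      rw [← orderOf_dvd_iff_pow_eq_one, D.hx, ← ZMod.natCast_eq_zero_iff]
      simpa using hi.symm
    rw [h1] at h
    have : D.x = 1 := by
      rw [show D.x = g * (g⁻¹ * D.x * g) * g⁻¹ by group, h, mul_one, mul_inv_cancel]
    have h2 := D.hx
    rw [this, orderOf_one] at h2
    exact D.prime.ne_one h2.symm

/-- An element commuting with `x` and with an element that conjugates `x`. -/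
theorem Ctx.conj_eig {g y : G} {i : ℕ} (hi : i < 6) (h : g⁻¹ * D.x * g = D.x ^ (Fintype.card K) ^ i)
    (hyx : D.x * y = y * D.x) (hyg : g * y = y * g) :
    ∃ a : L, D.M y *ᵥ D.v0 = a • D.v0 ∧ a ^ (Fintype.card K) ^ i = a := by
  have h0 : D.basisVec 0 = D.v0 := funext fun j => by simp [Ctx.basisVec, Ctx.vv]
  obtain ⟨a, ha⟩ := h0 ▸ D.commutes_eig hyx 0
  refine ⟨a, ha, ?_⟩
  have hk : ∀ k : ℕ, D.M (D.x ^ k) *ᵥ D.v0 = D.lam ^ k • D.v0 := by
    intro k
    induction k with
    | zero => simp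
    | succ k ih =>
      rw [pow_succ, map_mul, ← Matrix.mulVec_mulVec, D.v0_spec.2.1, Matrix.mulVec_smul, ih, smul_smul,
        ← pow_succ']
  have hw : D.M D.x *ᵥ (D.M g *ᵥ D.v0) = D.ev ⟨i, by omega⟩ • (D.M g *ᵥ D.v0) := by
    rw [show D.ev ⟨i, by omega⟩ = D.lam ^ (Fintype.card K) ^ i from if_pos hi, Matrix.mulVec_mulVec,
      ← map_mul, show D.x * g = g * D.x ^ (Fintype.card K) ^ i by rw [← h]; group, map_mul,
      ← Matrix.mulVec_mulVec, hk, Matrix.mulVec_smul]
  obtain ⟨c, hc⟩ := D.eigen_unique hw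
  have hne : D.M g *ᵥ D.v0 ≠ 0 := fun e => D.v0_spec.1 (by
    have h2 := congrArg (D.M g⁻¹ *ᵥ ·) e
    simpa [Matrix.mulVec_mulVec, ← map_mul] using h2)
  have e1 : D.M y *ᵥ (D.M g *ᵥ D.v0) = a • (D.M g *ᵥ D.v0) := by
    rw [Matrix.mulVec_mulVec, ← map_mul, ← hyg, map_mul, ← Matrix.mulVec_mulVec, ha, Matrix.mulVec_smul]
  have e2 : D.M y *ᵥ (D.M g *ᵥ D.v0) = a ^ (Fintype.card K) ^ i • (D.M g *ᵥ D.v0) := by
    rw [hc, Matrix.mulVec_smul, show D.basisVec ⟨i, by omega⟩ = D.vv i from if_pos hi, D.M_vv ha, smul_comm]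
  exact smul_left_injective L hne (e2.symm.trans e1)

end CfsgLib.Chevalley.Twist.SmallRep
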