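import Cfsg.Agent.Lib.Chevalley.Twist.G2Invol
import Cfsg.Agent.Lib.Chevalley.Twist.SmallRep

/-!
The seven-dimensional representation of ²G₂ on the short root vectors.
-/

set_option autoImplicit false
set_option maxRecDepth 20000
set_option Elab.async false

namespace CfsgLib.Chevalley.Twist.G2

open Tbl Matrix

local notation "T2" => Data.G2.tbl

/-- The indices of the seven coordinates. -/
def shortIdx : Fin 7 → (T2).I :=
  fun a => if a = 0 then Sum.inl (if (T2).simple 0 = 7 then (⟨0, by decide⟩ : Fin (T2).rank) else ⟨1, by decide⟩)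
    else Sum.inr ⟨[0, 2, 3, 4, 7, 8, 9].getD a.val 0, by revert a; decide +kernel⟩

theorem shortIdx_inj : Function.Injective shortIdx := by
  intro a b
  revert a b
  decide +kernel

theorem shortIdx_closed : ∀ r : Fin (T2).n, ∀ a : Fin 7, ∀ row : (T2).I,
    (∃ b, row = shortIdx b) ∨ ∀ k : Fin 4, k.val ≠ 0 → (T2).colA r.val k.val (shortIdx a) row % 3 = 0 := by
  decide +kernel

variable {K : Type*} [Field K] [Finite K] {m : ℕ} (hK : Nat.card K = 3 ^ (2 * m + 1))
include hK

omit hK [Finite K] in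
/-- Matrices preserving the span of the seven coordinates, with inverse the same. -/
def shortSub : Subgroup (GL (T2).I K) where
  carrier := {g | (∀ row, (∀ b, row ≠ shortIdx b) → ∀ a, (g : Matrix (T2).I (T2).I K) row (shortIdx a) = 0) ∧
    ∀ row, (∀ b, row ≠ shortIdx b) → ∀ a, ((g⁻¹ : GL (T2).I K) : Matrix (T2).I (T2).I K) row (shortIdx a) = 0}
  one_mem' := ⟨fun row h a => by rw [Units.val_one]; exact Matrix.one_apply_ne (h a),
    fun row h a => by rw [inv_one, Units.val_one]; exact Matrix.one_apply_ne (h a)⟩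
  mul_mem' := by
    have key : ∀ g g' : GL (T2).I K,
        (∀ row, (∀ b, row ≠ shortIdx b) → ∀ a, (g : Matrix (T2).I (T2).I K) row (shortIdx a) = 0) →
        (∀ row, (∀ b, row ≠ shortIdx b) → ∀ a, (g' : Matrix (T2).I (T2).I K) row (shortIdx a) = 0) →
        ∀ row, (∀ b, row ≠ shortIdx b) → ∀ a,
          ((g * g' : GL (T2).I K) : Matrix (T2).I (T2).I K) row (shortIdx a) = 0 := by
      intro g g' h h' row hr a
      rw [Units.val_mul, Matrix.mul_apply]
      refine Finset.sum_eq_zero fun k _ => ?_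
      by_cases hk : ∃ b, k = shortIdx b
      · obtain ⟨b, rfl⟩ := hk
        rw [h row hr b, zero_mul]
      · rw [h' k (not_exists.mp hk) a, mul_zero]
    intro g g' h h'
    exact ⟨key g g' h.1 h'.1, by rw [_root_.mul_inv_rev]; exact key _ _ h'.2 h.2⟩
  inv_mem' := fun h => ⟨h.2, by rw [inv_inv]; exact h.1⟩

theorem xU_short {r : ℕ} (hr : r < (T2).n) (t : K) : (T2).xU K r t ∈ shortSub := by
  have := charThree hK
  have key : ∀ t : K, ∀ row, (∀ b, row ≠ shortIdx b) → ∀ a,
      (((T2).xU K r t : GL (T2).I K) : Matrix (T2).I (T2).I K) row (shortIdx a) = 0 := by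
    intro t row h a
    rw [xU_val Data.G2.valid hr, X_apply, if_neg (h a), zero_add]
    refine Finset.sum_eq_zero fun k hk => ?_
    rw [Finset.mem_Ico] at hk
    have h0 := (shortIdx_closed ⟨r, hr⟩ a row).resolve_left (fun ⟨b, e⟩ => h b e) ⟨k, hk.2⟩
      (Nat.one_le_iff_ne_zero.mp hk.1)
    rw [(CharP.intCast_eq_zero_iff K 3 _).mpr (Int.dvd_of_emod_eq_zero h0), mul_zero]
  exact ⟨key t, by rw [xU_inv Data.G2.valid hr]; exact key (-t)⟩

theorem fix_short {g : GL (T2).I K} (hg : g ∈ (S hK).fix) : g ∈ shortSub := by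
  have h : (T2).datum.group K ≤ shortSub := by
    rw [group_eq Data.G2.valid, Subgroup.closure_le]
    rintro x ⟨r, hr, t, rfl⟩
    exact xU_short hK hr t
  exact h hg.1

/-- The representation. -/
noncomputable def rep : ↥(S hK).fix →* Matrix (Fin 7) (Fin 7) K where
  toFun g := ((g : GL (T2).I K) : Matrix (T2).I (T2).I K).submatrix shortIdx shortIdx
  map_one' := by
    rw [OneMemClass.coe_one, Units.val_one]
    exact Matrix.submatrix_one _ shortIdx_inj
  map_mul' g g' := by
    ext a b
    rw [Subgroup.coe_mul, Units.val_mul, Matrix.submatrix_apply, Matrix.mul_apply, Matrix.mul_apply]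
    refine (Fintype.sum_of_injective shortIdx shortIdx_inj _ _ (fun k hk => ?_) fun c => rfl).symm
    rw [(fix_short hK g'.2).1 k (fun c e => hk ⟨c, e.symm⟩) b, mul_zero]

theorem rep_h0_ne : rep hK (h0 hK) ≠ 1 := by
  intro e
  have h := congrFun (congrFun e 4) 4
  rw [Matrix.one_apply_eq] at h
  have hodd : Odd (3 ^ m) := Odd.pow (by decide)
  have hval : rep hK (h0 hK) 4 4 =
      (((∏ i : Fin (T2).rank, par m (-1 : Kˣ) i ^ (T2).ca i 7 : Kˣ)) : K) := by
    show ((T2).dU (fun s => ∏ i : Fin (T2).rank, par m (-1 : Kˣ) i ^ (T2).ca i s) :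
      GL (T2).I K).val (shortIdx 4) (shortIdx 4) = _
    rw [dU_val, Matrix.diagonal_apply_eq]
    rfl
  rw [hval] at h
  have h7 : ((∏ i : Fin 2, par m (-1 : Kˣ) i ^ (T2).ca i.val 7 : Kˣ) : K) = -1 := by
    rw [Fin.prod_univ_two, show (T2).ca (0 : Fin 2).val 7 = 2 by decide +kernel,
      show (T2).ca (1 : Fin 2).val 7 = -1 by decide +kernel]
    simp [par, hodd.neg_one_pow]
  exact neg_one_ne hK (Units.ext (h7.symm.trans h))

variable (hm : 1 ≤ m)
include hm

theorem fix_simple : IsSimpleGroup ↥(S hK).fix := by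
  have h := (simple hK hm).1
  rwa [grp_eq_fix hK] at h

theorem fix_perfect : commutator ↥(S hK).fix = ⊤ := by
  have h := perfect hK hm
  rwa [grp_eq_fix hK] at h

theorem rep_inj : Function.Injective (rep hK) := by
  have := fix_simple hK hm
  let f := MonoidHom.toHomUnits (rep hK)
  have hf : Function.Injective f := by
    rw [← MonoidHom.ker_eq_bot_iff]
    refine ((MonoidHom.normal_ker f).eq_bot_or_eq_top).resolve_right fun h => rep_h0_ne hK ?_
    have h1 : f (h0 hK) = 1 := MonoidHom.mem_ker.mp (h ▸ Subgroup.mem_top _)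
    exact congrArg Units.val h1
  exact fun a b e => hf (Units.ext e)

theorem rep_det (g : ↥(S hK).fix) : (rep hK g).det = 1 := by
  let f : ↥(S hK).fix →* Kˣ :=
    (MonoidHom.toHomUnits (Matrix.detMonoidHom.comp (rep hK)))
  have h1 : f g = 1 := by
    rw [← MonoidHom.mem_ker]
    exact Abelianization.commutator_subset_ker f (fix_perfect hK hm ▸ Subgroup.mem_top g)
  have h2 : (f g : K) = 1 := by rw [h1, Units.val_one]
  rw [← h2]
  simp only [f, MonoidHom.coe_toHomUnits, MonoidHom.comp_apply, Matrix.coe_detMonoidHom]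

/-- The context of an element of prime order dividing `q² - q + 1`. -/
noncomputable def ctx [Fintype K] {p : ℕ} (hp : p.Prime)
    (hord : orderOf ((Fintype.card K : ℕ) : ZMod p) = 6) (x : ↥(S hK).fix) (hx : orderOf x = p) :
    SmallRep.Ctx ↥(S hK).fix K p where
  ρ := rep hK
  inj := rep_inj hK hm
  det := rep_det hK hm
  prime := hp
  ord := hord
  x := x
  hx := hx

end CfsgLib.Chevalley.Twist.G2
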