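import Cfsg.Agent.Lib.Chevalley.Twist.G2Four
import Cfsg.Agent.Lib.Chevalley.Twist.G2Rep

/-!
Centralisers of semisimple elements of ²G₂: the tori and their trivial intersections.
-/

set_option autoImplicit false
set_option maxRecDepth 20000
set_option Elab.async false

namespace CfsgLib.Chevalley.Twist.G2

open Tbl

open scoped Matrix

local notation "T2" => Data.G2.tbl

variable {K : Type*} [Field K] [Finite K] {m : ℕ} (hK : Nat.card K = 3 ^ (2 * m + 1))
include hK

theorem dvd_stab {g : ↥(S hK).fix} {x : Pts hK} (h : g • x = x) :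
    orderOf g ∣ (3 ^ (2 * m + 1)) ^ 3 * (3 ^ (2 * m + 1) - 1) := by
  rw [← card_stab hK x, ← Subgroup.orderOf_mk g (MulAction.mem_stabilizer_iff.mpr h)]
  exact orderOf_dvd_natCard _

theorem conj_into_Upart {u : ↥(S hK).fix} (hu : orderOf u = 3) :
    ∃ g : ↥(S hK).fix, g * u * g⁻¹ ∈ Upart hK := by
  have : Fact (Nat.Prime 3) := ⟨Nat.prime_three⟩
  refine ToriGen.conj_into _ ?_ (k := 1) (by rw [hu, pow_one])
  obtain ⟨h1, -, h3, -⟩ := q_facts m
  have hn : ¬ 3 ∣ (3 ^ (2 * m + 1) - 1) * ((3 ^ (2 * m + 1)) ^ 3 + 1) := by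
    rw [Nat.prime_three.dvd_mul]
    rintro (h | h)
    · have := Nat.dvd_sub h3 h
      rw [Nat.sub_sub_self (by omega)] at this
      exact absurd this (by norm_num)
    · exact absurd ((Nat.dvd_add_right (dvd_pow h3 (by norm_num))).mp h) (by norm_num)
  rw [card_Upart hK, fix_card_eq hK, mul_assoc,
    Nat.factorization_mul (by positivity) (fun h => hn (by rw [h]; exact dvd_zero 3)), Finsupp.add_apply,
    Nat.factorization_eq_zero_of_not_dvd hn, add_zero]

/-- An element commuting with an element of order three fixes a point. -/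
theorem three_comm {g u : ↥(S hK).fix} (hu : orderOf u = 3) (h : u * g = g * u) :
    ∃ x : Pts hK, g • x = x := by
  obtain ⟨k, hk⟩ := conj_into_Upart hK hu
  refine ⟨k⁻¹ • pInf hK, ?_⟩
  have hu1 : k * u * k⁻¹ ≠ 1 := fun e => by
    rw [conj_eq_one_iff] at e
    rw [e, orderOf_one] at hu
    omega
  have hfix : u • (k⁻¹ • pInf hK) = k⁻¹ • pInf hK := by
    rw [eq_inv_smul_iff, smul_smul, smul_smul]
    exact MulAction.mem_stabilizer_iff.mp ((stab_pInf hK).mpr ⟨_, hk, 1, by rw [map_one, mul_one]⟩)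
  rw [eq_inv_smul_iff]
  refine fix_Upart hK hk hu1 ?_
  rw [smul_smul, inv_mul_cancel_right, mul_smul, smul_smul u, h, mul_smul g u, hfix]

/-- An element commuting with an element of odd prime order dividing `q - 1`. -/
theorem torus_comm {g u : ↥(S hK).fix} {p : ℕ} [Fact p.Prime] (hp2 : p ≠ 2)
    (hp : p ∣ 3 ^ (2 * m + 1) - 1) (hu : orderOf u = p) (h : u * g = g * u) :
    ∃ k : ↥(S hK).fix, k * g * k⁻¹ ∈ (hF hK).range := by
  obtain ⟨k, c, hc⟩ := conj_into_torus hK hp2 hp (k := 1) (by rw [hu, pow_one])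
  refine ⟨k, ?_⟩
  have hc2 : c * c ≠ 1 := fun e => by
    have h1 : u * u = 1 := by
      have e2 : k * u * k⁻¹ * (k * u * k⁻¹) = 1 := by rw [← hc, ← map_mul, e, map_one]
      rw [show u * u = k⁻¹ * (k * u * k⁻¹ * (k * u * k⁻¹)) * k by group, e2]
      group
    have h2 : p ∣ 2 := hu ▸ orderOf_dvd_of_pow_eq_one (by rw [pow_two, h1])
    exact hp2 ((Nat.prime_dvd_prime_iff_eq Fact.out Nat.prime_two).mp h2)
  rw [← cent_torus hK hc2, hc, Subgroup.mem_centralizer_iff]
  rintro y rfl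
  calc k * u * k⁻¹ * (k * g * k⁻¹) = k * (u * g) * k⁻¹ := by group
    _ = k * (g * u) * k⁻¹ := by rw [h]
    _ = _ := by group

theorem conj_into_aTor {p : ℕ} [Fact p.Prime] (hp : p ∣ kq m) {y : ↥(S hK).fix} {k : ℕ}
    (hy : orderOf y = p ^ k) : ∃ g : ↥(S hK).fix, g * y * g⁻¹ ∈ aTor hK := by
  have hpp : p.Prime := Fact.out
  refine ToriGen.conj_into _ ?_ hy
  obtain ⟨hp2, hp3, hm1, hp1⟩ := kq_prime hpp hp
  obtain ⟨h4, -, hpos⟩ := kq_facts m
  have hn : ¬ p ∣ 4 * ((3 ^ (2 * m + 1)) ^ 3 * (3 ^ (2 * m + 1) - 1) * hexN m) := by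
    rw [hpp.dvd_mul, hpp.dvd_mul, hpp.dvd_mul]
    rintro (h | ((h | h) | h))
    · exact hp2 ((Nat.prime_dvd_prime_iff_eq hpp Nat.prime_two).mp (hpp.dvd_of_dvd_pow (show p ∣ 2 ^ 2 from h)))
    · exact hp3 ((Nat.prime_dvd_prime_iff_eq hpp Nat.prime_three).mp (hpp.dvd_of_dvd_pow (hpp.dvd_of_dvd_pow h)))
    · exact hm1 h
    · exact (hexN_prime hpp h).2.2.2 hp1
  rw [card_aTor hK, card_fix' hK,
    show (3 ^ (2 * m + 1)) ^ 3 * (3 ^ (2 * m + 1) - 1) * (3 ^ (2 * m + 1) + 1) * hexN m =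
      kq m * (4 * ((3 ^ (2 * m + 1)) ^ 3 * (3 ^ (2 * m + 1) - 1) * hexN m)) by rw [← h4]; ring,
    Nat.factorization_mul hpos.ne' (fun h => hn (by rw [h]; exact dvd_zero p)), Finsupp.add_apply,
    Nat.factorization_eq_zero_of_not_dvd hn, add_zero]

variable (hm : 1 ≤ m)
include hm

/-- The context of an element of prime order dividing `q² - q + 1`. -/
noncomputable def hctx [Fintype K] {p : ℕ} (hp : p.Prime) (h : p ∣ hexN m) (u : ↥(S hK).fix)
    (hu : orderOf u = p) : SmallRep.Ctx ↥(S hK).fix K p :=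
  ctx hK hm hp (orderOf_hex (Nat.card_eq_fintype_card.symm.trans hK) hp h) u hu

theorem hex_cyclic {p : ℕ} (hp : p.Prime) (h : p ∣ hexN m) {u : ↥(S hK).fix} (hu : orderOf u = p) :
    IsCyclic ↥(Subgroup.centralizer {u}) := by
  have : Fintype K := Fintype.ofFinite K
  exact (hctx hK hm hp h u hu).cent_cyclic

theorem sylow_hex {p : ℕ} [Fact p.Prime] (h : p ∣ hexN m) (P : Sylow p ↥(S hK).fix) :
    IsCyclic ↥(P : Subgroup ↥(S hK).fix) := by
  have hpp : p.Prime := Fact.out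
  have hdvd : p ∣ Nat.card ↥(P : Subgroup ↥(S hK).fix) :=
    P.dvd_card_of_dvd_card (by rw [card_fix' hK]; exact dvd_mul_of_dvd_right h _)
  have : Nontrivial ↥(P : Subgroup ↥(S hK).fix) := Finite.one_lt_card_iff_nontrivial.mp
    (lt_of_lt_of_le hpp.one_lt (Nat.le_of_dvd Nat.card_pos hdvd))
  have hZ := P.isPGroup'.center_nontrivial
  obtain ⟨z, hz⟩ := exists_prime_orderOf_dvd_card' (G := ↥(Subgroup.center ↥(P : Subgroup ↥(S hK).fix))) p
    (by
      obtain ⟨k, hk⟩ := (IsPGroup.iff_card (p := p)).mp (P.isPGroup'.to_subgroup (Subgroup.center _))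
      rw [hk]
      refine dvd_pow_self p fun hk0 => ?_
      rw [hk0, pow_zero] at hk
      exact absurd hk (Finite.one_lt_card (α := ↥(Subgroup.center ↥(P : Subgroup ↥(S hK).fix)))).ne')
  have hzo : orderOf ((z : ↥(P : Subgroup ↥(S hK).fix)) : ↥(S hK).fix) = p := by
    rw [Subgroup.orderOf_coe, Subgroup.orderOf_coe, hz]
  have := hex_cyclic hK hm hpp h hzo
  refine isCyclic_of_injective (Subgroup.inclusion (show (P : Subgroup ↥(S hK).fix) ≤
    Subgroup.centralizer {((z : ↥(P : Subgroup ↥(S hK).fix)) : ↥(S hK).fix)} from fun g hg => ?_))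
    (Subgroup.inclusion_injective _)
  rw [Subgroup.mem_centralizer_iff]
  rintro y rfl
  exact congrArg Subtype.val (Subgroup.mem_center_iff.mp z.2 ⟨g, hg⟩).symm

theorem exists_sylow_cent {p : ℕ} [Fact p.Prime] (h : p ∣ hexN m) {u : ↥(S hK).fix} (hu : orderOf u = p) :
    ∃ Q : Sylow p ↥(S hK).fix, (Q : Subgroup ↥(S hK).fix) ≤ Subgroup.centralizer {u} ∧
      u ∈ (Q : Subgroup ↥(S hK).fix) := by
  have hu' : IsPGroup p ↥(Subgroup.zpowers u) := IsPGroup.of_card (n := 1) (by rw [Nat.card_zpowers, hu, pow_one])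
  obtain ⟨Q, hQ⟩ := hu'.exists_le_sylow
  have := sylow_hex hK hm h Q
  refine ⟨Q, fun g hg => ?_, hQ (Subgroup.mem_zpowers u)⟩
  rw [Subgroup.mem_centralizer_iff]
  rintro y rfl
  obtain ⟨c, hc⟩ := IsCyclic.exists_generator (α := ↥(Q : Subgroup ↥(S hK).fix))
  obtain ⟨i, hi⟩ := hc ⟨y, hQ (Subgroup.mem_zpowers y)⟩
  obtain ⟨j, hj⟩ := hc ⟨g, hg⟩
  have e := (Commute.zpow_zpow_self c i j).eq
  rw [show c ^ i = _ from hi, show c ^ j = _ from hj] at e
  exact congrArg Subtype.val e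

/-- The centraliser in a centraliser of an element of the small torus. -/
theorem hex_not_comm {y u : ↥(S hK).fix} (hy : y ∈ aTor hK) (hy1 : y ≠ 1) {p : ℕ} (hp : p.Prime)
    (h : p ∣ hexN m) (hu : orderOf u = p) (hyu : u * y = y * u)
    (hbad : ∀ q : ℕ, q.Prime → q ∣ Nat.card ↥(Subgroup.centralizer {y}) → q = 2 ∨ q ∣ kq m ∨ q ∣ hexN m)
    (h8 : ¬ 8 ∣ Nat.card ↥(Subgroup.centralizer {y})) : False := by
  classical
  have : Fintype K := Fintype.ofFinite K
  set M := Subgroup.centralizer {y} with hM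
  have hmemM : ∀ {g}, g ∈ M ↔ y * g = g * y := fun {g} => by
    rw [hM, Subgroup.mem_centralizer_iff]; simp
  have hC0 : cTor hK ≤ M := fun g hg => hmemM.mpr (cTor_comm hK (aTor_le hK hy) hg)
  -- each prime of `hexN` gives a normal subgroup
  have hR : ∀ r : ℕ, r.Prime → r ∣ hexN m → ∃ R : Subgroup ↥M, R.Normal ∧ ¬ r ∣ Nat.card ↥R ∧
      ∀ g : ↥M, ¬ r ∣ orderOf g → g ∈ R := by
    intro r hr hrN
    have : Fact r.Prime := ⟨hr⟩
    by_cases hrM : r ∣ Nat.card ↥M
    swap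
    · exact ⟨⊤, inferInstance, by rwa [Subgroup.card_top], fun g _ => Subgroup.mem_top g⟩
    obtain ⟨u', hu'⟩ := exists_prime_orderOf_dvd_card' (G := ↥M) r hrM
    have hu'o : orderOf (u' : ↥(S hK).fix) = r := by rw [Subgroup.orderOf_coe, hu']
    obtain ⟨Q, hQC, huQ⟩ := exists_sylow_cent hK hm hrN hu'o
    let D := hctx hK hm hr hrN (u' : ↥(S hK).fix) hu'o
    have hcyc : IsCyclic ↥(Subgroup.centralizer {(u' : ↥(S hK).fix)}) := D.cent_cyclic
    have habel : ∀ a ∈ Subgroup.centralizer {(u' : ↥(S hK).fix)},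
        ∀ b ∈ Subgroup.centralizer {(u' : ↥(S hK).fix)}, a * b = b * a := by
      intro a ha b hb
      obtain ⟨c, hc⟩ := IsCyclic.exists_generator (α := ↥(Subgroup.centralizer {(u' : ↥(S hK).fix)}))
      obtain ⟨i, hi⟩ := hc ⟨a, ha⟩
      obtain ⟨j, hj⟩ := hc ⟨b, hb⟩
      have e := (Commute.zpow_zpow_self c i j).eq
      rw [show c ^ i = _ from hi, show c ^ j = _ from hj] at e
      exact congrArg Subtype.val e
    have hyC : y ∈ Subgroup.centralizer {(u' : ↥(S hK).fix)} := by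
      rw [Subgroup.mem_centralizer_iff]; rintro b rfl; exact (hmemM.mp u'.2).symm
    have hQM : (Q : Subgroup ↥(S hK).fix) ≤ M := fun g hg => hmemM.mpr (habel _ hyC _ (hQC hg))
    refine ToriGen.exists_compl (Q.subtype hQM) fun g hg => ?_
    -- an element of `M` normalising the Sylow subgroup centralises it
    rw [Subgroup.mem_centralizer_iff]
    intro b hb
    have hb' : (b : ↥(S hK).fix) ∈ (Q : Subgroup ↥(S hK).fix) := hb
    have hgn : (g : ↥(S hK).fix) ∈ Subgroup.normalizer (Subgroup.zpowers (u' : ↥(S hK).fix) : Set ↥(S hK).fix) := by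
      have := sylow_hex hK hm hrN Q
      refine ToriGen.normalizer_mono (Subgroup.zpowers_le.mpr huQ) (ToriGen.mem_normalizer_of_conj fun z hz => ?_)
      exact (Subgroup.mem_normalizer_iff.mp hg ⟨z, hQM hz⟩).mp hz
    obtain ⟨j, hj⟩ := (mem_powers_iff_mem_zpowers.mpr ((Subgroup.mem_normalizer_iff.mp (inv_mem hgn) _).mp
      (Subgroup.mem_zpowers (u' : ↥(S hK).fix))) : _)
    have hj' : (g : ↥(S hK).fix)⁻¹ * u' * g = (u' : ↥(S hK).fix) ^ j := by
      have := hj.symm
      simpa using this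
    obtain ⟨i, hi, hgi⟩ := D.conj_pow (g := (g : ↥(S hK).fix)) hj'
    have hgi' : (g : ↥(S hK).fix)⁻¹ * u' * g = (u' : ↥(S hK).fix) ^ (Fintype.card K) ^ i := hgi
    have hgy : (g : ↥(S hK).fix) * y = y * g := (hmemM.mp g.2).symm
    have huy : (u' : ↥(S hK).fix) * y = y * u' := (hmemM.mp u'.2).symm
    obtain ⟨a, ha, hai⟩ := D.conj_eig hi hgi huy hgy
    -- the eigenvalue of `y`
    have hq1 : a ^ (3 ^ (2 * m + 1) + 1) = 1 := by
      have hyk : y ^ kq m = 1 := by
        have := pow_card_eq_one' (x := (⟨y, hy⟩ : ↥(aTor hK)))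
        rw [card_aTor hK] at this
        exact congrArg Subtype.val this
      have hy4 : y ^ (3 ^ (2 * m + 1) + 1) = 1 := by
        rw [← (kq_facts m).1, mul_comm, pow_mul, hyk, one_pow]
      have hp' : ∀ n : ℕ, D.M (y ^ n) *ᵥ D.v0 = a ^ n • D.v0 := by
        intro n
        induction n with
        | zero => simp
        | succ n ih =>
          rw [pow_succ, map_mul, ← Matrix.mulVec_mulVec, ha, Matrix.mulVec_smul, ih, smul_smul, ← pow_succ']
      have h2 := hp' (3 ^ (2 * m + 1) + 1)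
      rw [hy4, map_one, Matrix.one_mulVec] at h2
      exact (smul_left_injective _ D.v0_spec.1 ((one_smul _ _).trans h2)).symm
    have hne : a ≠ 1 := fun e => hy1 (D.eig_one huy (by rw [ha, e, one_smul]))
    have hq : Fintype.card K = 3 ^ (2 * m + 1) := Nat.card_eq_fintype_card.symm.trans hK
    have hev : Even i := by
      by_contra hodd
      rw [Nat.not_even_iff_odd] at hodd
      obtain ⟨t, rfl⟩ := hodd
      apply hne
      have hinv : ∀ s : ℕ, a ^ (3 ^ (2 * m + 1)) ^ (2 * s) = a := by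
        intro s
        induction s with
        | zero => simp
        | succ s ih =>
          rw [show 2 * (s + 1) = 2 * s + 2 by ring, pow_add, pow_mul, ih, pow_two, pow_mul]
          have e : a ^ (3 ^ (2 * m + 1)) = a⁻¹ := eq_inv_of_mul_eq_one_left (by rw [← pow_succ, hq1])
          rw [e, inv_pow, e, inv_inv]
      rw [hq, pow_succ (3 ^ (2 * m + 1)), pow_mul, hinv] at hai
      have h2 : a ^ 2 = 1 := by
        rw [pow_succ, hai, ← pow_two] at hq1
        exact hq1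
      have hy2 : (a : AlgebraicClosure K) ^ kq m = 1 := by
        have hyk : y ^ kq m = 1 := by
          have := pow_card_eq_one' (x := (⟨y, hy⟩ : ↥(aTor hK)))
          rw [card_aTor hK] at this
          exact congrArg Subtype.val this
        have hp' : ∀ n : ℕ, D.M (y ^ n) *ᵥ D.v0 = a ^ n • D.v0 := by
          intro n
          induction n with
          | zero => simp
          | succ n ih =>
            rw [pow_succ, map_mul, ← Matrix.mulVec_mulVec, ha, Matrix.mulVec_smul, ih, smul_smul, ← pow_succ']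
        have h3 := hp' (kq m)
        rw [hyk, map_one, Matrix.one_mulVec] at h3
        exact (smul_left_injective _ D.v0_spec.1 ((one_smul _ _).trans h3)).symm
      obtain ⟨s, hs⟩ := (kq_facts m).2.1
      rw [hs, pow_succ, pow_mul, h2, one_pow, one_mul] at hy2
      exact hy2
    -- so the cube of `g` centralises, and `3` does not divide the order
    have hiter : ∀ n : ℕ, ((g : ↥(S hK).fix)⁻¹) ^ n * u' * (g : ↥(S hK).fix) ^ n =
        (u' : ↥(S hK).fix) ^ ((Fintype.card K) ^ i) ^ n := by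
      intro n
      induction n with
      | zero => simp
      | succ n ih =>
        rw [pow_succ' ((g : ↥(S hK).fix)⁻¹), pow_succ (g : ↥(S hK).fix),
          show (g : ↥(S hK).fix)⁻¹ * (g : ↥(S hK).fix)⁻¹ ^ n * u' * ((g : ↥(S hK).fix) ^ n * g) =
            (g : ↥(S hK).fix)⁻¹ * ((g : ↥(S hK).fix)⁻¹ ^ n * u' * (g : ↥(S hK).fix) ^ n) * g by group, ih]
        rw [show (g : ↥(S hK).fix)⁻¹ * (u' : ↥(S hK).fix) ^ ((Fintype.card K) ^ i) ^ n * g =
          ((g : ↥(S hK).fix)⁻¹ * u' * g) ^ ((Fintype.card K) ^ i) ^ n by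
            rw [show (g : ↥(S hK).fix)⁻¹ * u' * g = (g : ↥(S hK).fix)⁻¹ * u' * ((g : ↥(S hK).fix)⁻¹)⁻¹ by
              rw [inv_inv], _root_.conj_pow, inv_inv], hgi', ← pow_mul, ← pow_succ']
    have hg3 : (g : ↥(S hK).fix) ^ 3 ∈ Subgroup.centralizer {(u' : ↥(S hK).fix)} := by
      rw [Subgroup.mem_centralizer_iff]
      rintro z rfl
      have h3 := hiter 3
      have h1 : ((Fintype.card K) ^ i) ^ 3 ≡ 1 [MOD r] := by
        rw [← ZMod.natCast_eq_natCast_iff, Nat.cast_one, Nat.cast_pow, Nat.cast_pow, ← pow_mul]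
        obtain ⟨t, rfl⟩ := hev
        rw [show (t + t) * 3 = 6 * t by ring, pow_mul, ← D.ord, pow_orderOf_eq_one, one_pow]
      have h4 : (u' : ↥(S hK).fix) ^ ((Fintype.card K) ^ i) ^ 3 = (u' : ↥(S hK).fix) ^ 1 :=
        pow_eq_pow_iff_modEq.mpr (by rw [hu'o]; exact h1)
      rw [h4, pow_one, inv_pow, mul_assoc, inv_mul_eq_iff_eq_mul] at h3
      exact h3
    have hnot3 : ¬ 3 ∣ orderOf (g : ↥(S hK).fix) := fun h3 => by
      have h3' : 3 ∣ Nat.card ↥M := by
        rw [Subgroup.orderOf_coe] at h3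
        exact h3.trans (orderOf_dvd_natCard g)
      rcases hbad 3 Nat.prime_three h3' with e | e | e
      · omega
      · exact (kq_prime Nat.prime_three e).2.1 rfl
      · exact (hexN_prime Nat.prime_three e).2.1 rfl
    obtain ⟨s, hs⟩ := exists_pow_eq_self_of_coprime
      ((Nat.prime_three.coprime_iff_not_dvd.mpr hnot3) : Nat.Coprime 3 (orderOf (g : ↥(S hK).fix)))
    have hgA : (g : ↥(S hK).fix) ∈ Subgroup.centralizer {(u' : ↥(S hK).fix)} := hs ▸ pow_mem hg3 s
    exact Subtype.ext (habel _ (hQC hb') _ hgA)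
  choose R hRn hRp hRmem using hR
  let Sx : Subgroup ↥M := ⨅ r : {r : ℕ // r.Prime ∧ r ∣ hexN m}, R r.1 r.2.1 r.2.2
  have hSn : Sx.Normal := Subgroup.normal_iInf_normal fun r => hRn r.1 r.2.1 r.2.2
  have hSdvd : ∀ r : ℕ, r.Prime → r ∣ hexN m → ¬ r ∣ Nat.card ↥Sx := fun r hr hrN h' =>
    hRp r hr hrN (h'.trans (Subgroup.card_dvd_of_le (iInf_le (fun r : {r : ℕ // r.Prime ∧ r ∣ hexN m} =>
      R r.1 r.2.1 r.2.2) ⟨r, hr, hrN⟩)))
  have hC0S : ∀ g : ↥M, (g : ↥(S hK).fix) ∈ cTor hK → g ∈ Sx := by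
    intro g hg
    refine Subgroup.mem_iInf.mpr fun r => hRmem r.1 r.2.1 r.2.2 g fun h' => ?_
    have h2 : r.1 ∣ 4 * kq m := by
      rw [← card_cTor hK]
      refine h'.trans ?_
      rw [← Subgroup.orderOf_coe g, ← Subgroup.orderOf_mk _ hg]
      exact orderOf_dvd_natCard _
    obtain ⟨hr2, -, -, hr1⟩ := hexN_prime r.2.1 r.2.2
    rw [(kq_facts m).1] at h2
    exact hr1 h2
  have hSeq : Nat.card ↥Sx ∣ 4 * kq m := by
    have hd : Nat.card ↥Sx ∣ Nat.card ↥(S hK).fix :=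
      (Subgroup.card_subgroup_dvd_card Sx).trans (Subgroup.card_subgroup_dvd_card M)
    rw [card_fix' hK] at hd
    have hne0 : Nat.card ↥Sx ≠ 0 := Nat.card_pos.ne'
    refine (Nat.factorization_le_iff_dvd hne0 (by have := (kq_facts m).2.2; omega)).mp fun r => ?_
    by_cases hr : r.Prime
    swap
    · rw [Nat.factorization_eq_zero_of_not_prime _ hr]; exact Nat.zero_le _
    by_cases hrd : r ∣ Nat.card ↥Sx
    swap
    · rw [Nat.factorization_eq_zero_of_not_dvd hrd]; exact Nat.zero_le _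
    obtain ⟨h4, hodd, hpos⟩ := kq_facts m
    have hrcase := hbad r hr (hrd.trans (Subgroup.card_subgroup_dvd_card Sx))
    rw [Nat.factorization_mul (by norm_num) hpos.ne', Finsupp.add_apply]
    rcases hrcase with rfl | hrk | hrN
    · have h2 : (Nat.card ↥Sx).factorization 2 ≤ 2 := by
        by_contra hlt
        refine h8 (Dvd.dvd.trans ?_ (Subgroup.card_subgroup_dvd_card Sx))
        exact (show (8 : ℕ) = 2 ^ 3 from rfl) ▸ (Nat.prime_two.pow_dvd_iff_le_factorization hne0).mpr (by omega)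
      rw [show (4 : ℕ) = 2 ^ 2 from rfl, Nat.prime_two.factorization_pow, Finsupp.single_eq_same]
      omega
    · obtain ⟨hr2, hr3, hm1, hr1⟩ := kq_prime hr hrk
      have hn : ¬ r ∣ 4 * ((3 ^ (2 * m + 1)) ^ 3 * (3 ^ (2 * m + 1) - 1) * hexN m) := by
        rw [hr.dvd_mul, hr.dvd_mul, hr.dvd_mul]
        rintro (h | ((h | h) | h))
        · exact hr2 ((Nat.prime_dvd_prime_iff_eq hr Nat.prime_two).mp (hr.dvd_of_dvd_pow (show r ∣ 2 ^ 2 from h)))
        · exact hr3 ((Nat.prime_dvd_prime_iff_eq hr Nat.prime_three).mp (hr.dvd_of_dvd_pow (hr.dvd_of_dvd_pow h)))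
        · exact hm1 h
        · exact (hexN_prime hr h).2.2.2 hr1
      rw [show (3 ^ (2 * m + 1)) ^ 3 * (3 ^ (2 * m + 1) - 1) * (3 ^ (2 * m + 1) + 1) * hexN m =
        kq m * (4 * ((3 ^ (2 * m + 1)) ^ 3 * (3 ^ (2 * m + 1) - 1) * hexN m)) by rw [← h4]; ring] at hd
      have := (Nat.factorization_le_iff_dvd hne0 (Nat.mul_ne_zero hpos.ne'
        (fun h => hn (by rw [h]; exact dvd_zero r)))).mpr hd r
      rw [Nat.factorization_mul hpos.ne' (fun h => hn (by rw [h]; exact dvd_zero r)), Finsupp.add_apply,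
        Nat.factorization_eq_zero_of_not_dvd hn] at this
      omega
    · exact absurd hrd (hSdvd r hr hrN)
  have hS0 : (cTor hK).subgroupOf M = Sx := by
    refine Subgroup.eq_of_le_of_card_ge (fun g hg => hC0S g hg) ?_
    rw [Nat.card_congr (Subgroup.subgroupOfEquivOfLe hC0).toEquiv, card_cTor hK]
    exact Nat.le_of_dvd (by have := (kq_facts m).2.2; omega) hSeq
  -- `u` normalises the four-group
  have hun : u ∈ norFour hK := by
    refine ToriGen.mem_normalizer_of_conj fun b hb => ?_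
    have hbM : b ∈ M := hC0 (four_le hK hb)
    have huM : u ∈ M := hmemM.mpr hyu.symm
    have hmem : (⟨u, huM⟩ * ⟨b, hbM⟩ * (⟨u, huM⟩ : ↥M)⁻¹ : ↥M) ∈ (cTor hK).subgroupOf M := by
      rw [hS0]
      exact hSn.conj_mem _ (hS0 ▸ Subgroup.mem_subgroupOf.mpr (four_le hK hb)) _
    have hbb : b * b = 1 := by
      rcases four_cases hK hb with rfl | rfl | rfl | rfl
      · exact one_mul 1
      · exact h0_sq hK
      · rw [wF, gen2, ← map_mul, Prod.mk_mul_mk, one_mul, (klein_rel hK).1]; exact map_one _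
      · have hc := cTor_comm hK (four_le hK (four_mem hK).1) (four_le hK (four_mem hK).2)
        calc h0 hK * wF hK * (h0 hK * wF hK) = h0 hK * (wF hK * h0 hK) * wF hK := by group
          _ = h0 hK * (h0 hK * wF hK) * wF hK := by rw [hc]
          _ = (h0 hK * h0 hK) * (wF hK * wF hK) := by group
          _ = 1 := by
            rw [h0_sq hK, one_mul, wF, gen2, ← map_mul, Prod.mk_mul_mk, one_mul, (klein_rel hK).1]
            exact map_one _
    have hsq : u * b * u⁻¹ * (u * b * u⁻¹) = 1 := by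
      rw [show u * b * u⁻¹ * (u * b * u⁻¹) = u * (b * b) * u⁻¹ by group, hbb, mul_one, mul_inv_cancel]
    have hmem' : u * b * u⁻¹ ∈ cTor hK := Subgroup.mem_subgroupOf.mp hmem
    obtain ⟨⟨z, w⟩, hzw, e⟩ := hmem'
    replace e : psi hK (z, w) = u * b * u⁻¹ := e
    refine ⟨(z, w), Subgroup.mem_prod.mpr ⟨Subgroup.mem_top _, ?_⟩, e⟩
    have hw2 : w ^ 2 = 1 := by
      rw [← e, ← map_mul] at hsq
      rw [pow_two]
      exact congrArg Prod.snd (psi_inj hK (hsq.trans (map_one (psi hK)).symm))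
    refine ToriGen.mem_of_pow (Subgroup.zpowers_le.mpr (wb_mem_zb hK)) (Subgroup.mem_prod.mp hzw).2 ?_
    rw [Nat.card_zpowers, orderOf_eq_prime (p := 2) (by rw [pow_two]; exact (klein_rel hK).1) (vb_ne_wb hK).2.2]
    exact hw2
  have h24 : p ∣ 24 * kq m := by
    rw [← card_norFour hK, ← hu, ← Subgroup.orderOf_mk u hun]
    exact orderOf_dvd_natCard _
  obtain ⟨hp2, hp3, -, hp1⟩ := hexN_prime hp h
  rcases hp.dvd_mul.mp h24 with h' | h'
  · have : p ∣ 2 ^ 3 * 3 := h'
    rcases hp.dvd_mul.mp this with h'' | h''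
    · exact hp2 ((Nat.prime_dvd_prime_iff_eq hp Nat.prime_two).mp (hp.dvd_of_dvd_pow h''))
    · exact hp3 ((Nat.prime_dvd_prime_iff_eq hp Nat.prime_three).mp h'')
  · exact hp1 (kq_prime hp h').2.2.2

theorem cent_aTor {y : ↥(S hK).fix} (hy : y ∈ aTor hK) (hy1 : y ≠ 1) :
    Subgroup.centralizer {y} = cTor hK := by
  set M := Subgroup.centralizer {y}
  obtain ⟨h4, hodd, hpos⟩ := kq_facts m
  have hyo : orderOf y ∣ kq m := by
    rw [← card_aTor hK, ← Subgroup.orderOf_mk y hy]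
    exact orderOf_dvd_natCard _
  have hnofix : ∀ x : Pts hK, y • x ≠ x := fun x e => hy1 (orderOf_eq_one_iff.mp
    (Nat.eq_one_of_dvd_coprimes (kq_coprime_borel m) hyo (dvd_stab hK e)))
  have hC0 : cTor hK ≤ M := fun g hg => by
    rw [Subgroup.mem_centralizer_iff]; rintro b rfl; exact cTor_comm hK (aTor_le hK hy) hg
  have h8 : ¬ 8 ∣ Nat.card ↥M := fun h8 => by
    have : Fact (Nat.Prime 2) := ⟨Nat.prime_two⟩
    obtain ⟨Q, hQ⟩ := ToriGen.exists_sylow_le (p := 2) M (by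
      refine le_antisymm ((Nat.factorization_le_iff_dvd Nat.card_pos.ne' Nat.card_pos.ne').mpr
        (Subgroup.card_subgroup_dvd_card M) 2) ?_
      rw [factor_two hK]
      exact (Nat.prime_two.pow_dvd_iff_le_factorization Nat.card_pos.ne').mp h8)
    obtain ⟨-, hsq, hcent, -⟩ := sylow_facts hK Q
    have hyQ : y ∈ (Q : Subgroup ↥(S hK).fix) := by
      rw [← hcent, Subgroup.mem_centralizer_iff]
      intro b hb
      exact (Subgroup.mem_centralizer_iff.mp (hQ hb) y rfl).symm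
    have h2 : orderOf y ∣ 2 := orderOf_dvd_of_pow_eq_one (by rw [pow_two]; exact hsq y hyQ)
    exact hy1 (orderOf_eq_one_iff.mp (Nat.eq_one_of_dvd_coprimes hodd.coprime_two_right hyo h2))
  have hbad : ∀ q : ℕ, q.Prime → q ∣ Nat.card ↥M → q = 2 ∨ q ∣ kq m ∨ q ∣ hexN m := by
    intro q hq hqM
    have : Fact q.Prime := ⟨hq⟩
    obtain ⟨u, hu⟩ := exists_prime_orderOf_dvd_card' (G := ↥M) q hqM
    have huo : orderOf (u : ↥(S hK).fix) = q := by rw [Subgroup.orderOf_coe, hu]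
    have hcomm : (u : ↥(S hK).fix) * y = y * u := (Subgroup.mem_centralizer_iff.mp u.2 y rfl).symm
    have hqG : q ∣ (3 ^ (2 * m + 1)) ^ 3 * (3 ^ (2 * m + 1) - 1) * (3 ^ (2 * m + 1) + 1) * hexN m := by
      rw [← card_fix' hK]; exact hqM.trans (Subgroup.card_subgroup_dvd_card M)
    rcases prime_cases hq hqG with rfl | rfl | ⟨hq2, hqm⟩ | h | h
    · obtain ⟨x, hx⟩ := three_comm hK huo hcomm
      exact absurd hx (hnofix x)
    · exact Or.inl rfl
    · obtain ⟨k, c, hc⟩ := torus_comm hK hq2 hqm huo hcomm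
      exfalso
      refine hnofix (k⁻¹ • pInf hK) ?_
      rw [eq_inv_smul_iff, smul_smul, smul_smul, ← hc]
      exact MulAction.mem_stabilizer_iff.mp ((stab_pInf hK).mpr ⟨1, one_mem _, c, (one_mul _).symm⟩)
    · exact Or.inr (Or.inl h)
    · exact Or.inr (Or.inr h)
  refine (Subgroup.eq_of_le_of_card_ge hC0 ?_).symm
  rw [card_cTor hK]
  refine Nat.le_of_dvd (by omega) ?_
  have hne0 : Nat.card ↥M ≠ 0 := Nat.card_pos.ne'
  refine (Nat.factorization_le_iff_dvd hne0 (by omega)).mp fun r => ?_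
  by_cases hr : r.Prime
  swap
  · rw [Nat.factorization_eq_zero_of_not_prime _ hr]; exact Nat.zero_le _
  by_cases hrd : r ∣ Nat.card ↥M
  swap
  · rw [Nat.factorization_eq_zero_of_not_dvd hrd]; exact Nat.zero_le _
  rw [Nat.factorization_mul (by norm_num) hpos.ne', Finsupp.add_apply]
  rcases hbad r hr hrd with rfl | hrk | hrN
  · have h2 : (Nat.card ↥M).factorization 2 ≤ 2 := by
      by_contra hlt
      exact h8 ((show (8 : ℕ) = 2 ^ 3 from rfl) ▸ (Nat.prime_two.pow_dvd_iff_le_factorization hne0).mpr (by omega))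
    rw [show (4 : ℕ) = 2 ^ 2 from rfl, Nat.prime_two.factorization_pow, Finsupp.single_eq_same]
    omega
  · have : Fact r.Prime := ⟨hr⟩
    obtain ⟨hr2, hr3, hm1, hr1⟩ := kq_prime hr hrk
    have hn : ¬ r ∣ 4 * ((3 ^ (2 * m + 1)) ^ 3 * (3 ^ (2 * m + 1) - 1) * hexN m) := by
      rw [hr.dvd_mul, hr.dvd_mul, hr.dvd_mul]
      rintro (h | ((h | h) | h))
      · exact hr2 ((Nat.prime_dvd_prime_iff_eq hr Nat.prime_two).mp (hr.dvd_of_dvd_pow (show r ∣ 2 ^ 2 from h)))
      · exact hr3 ((Nat.prime_dvd_prime_iff_eq hr Nat.prime_three).mp (hr.dvd_of_dvd_pow (hr.dvd_of_dvd_pow h)))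
      · exact hm1 h
      · exact (hexN_prime hr h).2.2.2 hr1
    have hd := (Nat.factorization_le_iff_dvd hne0 Nat.card_pos.ne').mpr (Subgroup.card_subgroup_dvd_card M) r
    rw [card_fix' hK, show (3 ^ (2 * m + 1)) ^ 3 * (3 ^ (2 * m + 1) - 1) * (3 ^ (2 * m + 1) + 1) * hexN m =
      kq m * (4 * ((3 ^ (2 * m + 1)) ^ 3 * (3 ^ (2 * m + 1) - 1) * hexN m)) by rw [← h4]; ring,
      Nat.factorization_mul hpos.ne' (fun h => hn (by rw [h]; exact dvd_zero r)), Finsupp.add_apply,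
      Nat.factorization_eq_zero_of_not_dvd hn] at hd
    omega
  · exfalso
    have : Fact r.Prime := ⟨hr⟩
    obtain ⟨u, hu⟩ := exists_prime_orderOf_dvd_card' (G := ↥M) r hrd
    exact hex_not_comm hK hm hy hy1 hr hrN (by rw [Subgroup.orderOf_coe, hu])
      (Subgroup.mem_centralizer_iff.mp u.2 y rfl).symm hbad h8

end CfsgLib.Chevalley.Twist.G2
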