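import Cfsg.Agent.Lib.Chevalley.Twist.G2Cent

/-!
The cyclic tori of ²G₂ with order dividing `q² - q + 1`, and the elements without fixed points.
-/

set_option autoImplicit false
set_option maxRecDepth 20000
set_option Elab.async false

namespace CfsgLib.Chevalley.Twist.G2

open Tbl

local notation "T2" => Data.G2.tbl

theorem hexN_not_rest {m p : ℕ} (hp : p.Prime) (h : p ∣ hexN m) :
    ¬ p ∣ (3 ^ (2 * m + 1)) ^ 3 * (3 ^ (2 * m + 1) - 1) * (3 ^ (2 * m + 1) + 1) := by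
  obtain ⟨-, h3, hm1, hp1⟩ := hexN_prime hp h
  rw [hp.dvd_mul, hp.dvd_mul]
  rintro ((h' | h') | h')
  · exact h3 ((Nat.prime_dvd_prime_iff_eq hp Nat.prime_three).mp (hp.dvd_of_dvd_pow (hp.dvd_of_dvd_pow h')))
  · exact hm1 h'
  · exact hp1 h'

theorem hexN_coprime (m : ℕ) :
    Nat.Coprime (hexN m) ((3 ^ (2 * m + 1)) ^ 3 * (3 ^ (2 * m + 1) - 1) * (3 ^ (2 * m + 1) + 1)) :=
  Nat.coprime_of_dvd fun _ hp h1 h2 => hexN_not_rest hp h1 h2

theorem hexN_coprime_borel (m : ℕ) :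
    Nat.Coprime (hexN m) ((3 ^ (2 * m + 1)) ^ 3 * (3 ^ (2 * m + 1) - 1)) :=
  (hexN_coprime m).coprime_dvd_right (dvd_mul_right _ _)

theorem exists_prime_pow_comm {G : Type*} [Group G] [Finite G] {g : G} {r : ℕ} (h : r ∣ orderOf g) :
    ∃ k : ℕ, orderOf (g ^ k) = r ∧ g ^ k * g = g * g ^ k :=
  ⟨orderOf g / r, orderOf_pow_orderOf_div (orderOf_pos g).ne' h, (Commute.pow_self g _).eq⟩

theorem cyclic_comm {G : Type*} [Group G] {A : Subgroup G} [IsCyclic ↥A] {a b : G} (ha : a ∈ A)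
    (hb : b ∈ A) : a * b = b * a := by
  obtain ⟨c, hc⟩ := IsCyclic.exists_generator (α := ↥A)
  obtain ⟨i, hi⟩ := hc ⟨a, ha⟩
  obtain ⟨j, hj⟩ := hc ⟨b, hb⟩
  have e := (Commute.zpow_zpow_self c i j).eq
  rw [show c ^ i = _ from hi, show c ^ j = _ from hj] at e
  exact congrArg Subtype.val e

theorem mem_cent_one {G : Type*} [Group G] {a g : G} : g ∈ Subgroup.centralizer {a} ↔ a * g = g * a := by
  simp [Subgroup.mem_centralizer_iff]

variable {K : Type*} [Field K] [Finite K] {m : ℕ} (hK : Nat.card K = 3 ^ (2 * m + 1))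
include hK

theorem not_fix {g : ↥(S hK).fix} (hg : g ≠ 1) {n : ℕ} (hn : orderOf g ∣ n)
    (hc : Nat.Coprime n ((3 ^ (2 * m + 1)) ^ 3 * (3 ^ (2 * m + 1) - 1))) (x : Pts hK) : g • x ≠ x :=
  fun e => hg (orderOf_eq_one_iff.mp (Nat.eq_one_of_dvd_coprimes hc hn (dvd_stab hK e)))

/-- An element commuting with an element of order prime to the Borel subgroup and to the centraliser of an
involution has odd order. -/
theorem two_comm {u t : ↥(S hK).fix} (ht : orderOf t = 2) (h : t * u = u * t) :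
    orderOf u ∣ 3 ^ (2 * m + 1) * ((3 ^ (2 * m + 1)) ^ 2 - 1) := by
  have ht2 : t * t = 1 := by rw [← pow_two, ← ht, pow_orderOf_eq_one]
  have ht1 : t ≠ 1 := fun e => by rw [e, orderOf_one] at ht; omega
  obtain ⟨k, hk⟩ := involution_conj hK ht1 ht2
  have hmem : k⁻¹ * u * k ∈ Subgroup.centralizer {h0 hK} := by
    rw [mem_cent_one]
    have e : h0 hK = k⁻¹ * t * k := by rw [← hk]; group
    rw [e]
    calc k⁻¹ * t * k * (k⁻¹ * u * k) = k⁻¹ * (t * u) * k := by group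
      _ = k⁻¹ * (u * t) * k := by rw [h]
      _ = _ := by group
  have e : orderOf (k⁻¹ * u * k) = orderOf u := by
    have := MulEquiv.orderOf_eq (MulAut.conj k⁻¹) u
    simpa using this
  rw [← e, ← Subgroup.orderOf_mk _ hmem, ← card_cen hK]
  exact orderOf_dvd_natCard _

omit hK [Field K] [Finite K] in
theorem sq_sub_one (q : ℕ) : q ^ 2 - 1 = (q - 1) * (q + 1) := by
  cases q with
  | zero => rfl
  | succ j =>
    rw [Nat.add_sub_cancel, show (j + 1) ^ 2 = j * (j + 1 + 1) + 1 by ring, Nat.add_sub_cancel]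

/-- The tori of order dividing `q² - q + 1`. -/
def IsHexTor (A : Subgroup ↥(S hK).fix) : Prop :=
  ∃ p : ℕ, p.Prime ∧ p ∣ hexN m ∧ ∃ u : ↥(S hK).fix, orderOf u = p ∧ A = Subgroup.centralizer {u}

variable (hm : 1 ≤ m)
include hm

theorem IsHexTor.cyclic {A : Subgroup ↥(S hK).fix} (hA : IsHexTor hK A) : IsCyclic ↥A := by
  obtain ⟨p, hp, hN, u, hu, rfl⟩ := hA
  exact hex_cyclic hK hm hp hN hu

theorem IsHexTor.dvd {A : Subgroup ↥(S hK).fix} (hA : IsHexTor hK A) : Nat.card ↥A ∣ hexN m := by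
  obtain ⟨p, hp, hN, u, hu, rfl⟩ := hA
  have hnot := hexN_not_rest hp hN
  have hdG := Subgroup.card_subgroup_dvd_card (Subgroup.centralizer {u})
  rw [card_fix' hK] at hdG
  refine Nat.Coprime.dvd_of_dvd_mul_left ?_ hdG
  refine Nat.coprime_of_dvd fun r hr hrA hrest => ?_
  have : Fact r.Prime := ⟨hr⟩
  obtain ⟨w, hw⟩ := exists_prime_orderOf_dvd_card' (G := ↥(Subgroup.centralizer {u})) r hrA
  have hwo : orderOf (w : ↥(S hK).fix) = r := by rw [Subgroup.orderOf_coe, hw]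
  have hwu : (w : ↥(S hK).fix) * u = u * w := (mem_cent_one.mp w.2).symm
  rcases prime_cases hr (dvd_mul_of_dvd_left hrest (hexN m)) with rfl | rfl | ⟨hr2, hrm⟩ | hrk | hrN
  · obtain ⟨x, hx⟩ := three_comm hK hwo hwu
    exact not_fix hK (fun e => hp.ne_one (by rw [← hu, e, orderOf_one])) (hu ▸ hN) (hexN_coprime_borel m) x hx
  · have h := hu ▸ two_comm hK hwo hwu
    rw [sq_sub_one] at h
    refine hnot (h.trans ?_)
    rw [← mul_assoc]
    exact Nat.mul_dvd_mul_right (Nat.mul_dvd_mul_right (dvd_pow_self _ (by norm_num)) _) _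
  · obtain ⟨k, hk⟩ := torus_comm hK hr2 hrm hwo hwu
    have h := orderOf_dvd_natCard (⟨_, hk⟩ : ↥(hF hK).range)
    rw [Subgroup.orderOf_mk, card_torus hK, show k * u * k⁻¹ = MulAut.conj k u from rfl, MulEquiv.orderOf_eq,
      hu] at h
    exact hnot (dvd_mul_of_dvd_left (dvd_mul_of_dvd_right h _) _)
  · obtain ⟨k, hk⟩ := conj_into_aTor hK hrk (k := 1) (hwo.trans (pow_one r).symm)
    have hk1 : k * (w : ↥(S hK).fix) * k⁻¹ ≠ 1 := fun e => hr.ne_one (by
      rw [← hwo, conj_eq_one_iff.mp e, orderOf_one])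
    have hu' : k * u * k⁻¹ ∈ cTor hK := by
      rw [← cent_aTor hK hm hk hk1, mem_cent_one]
      calc k * w * k⁻¹ * (k * u * k⁻¹) = k * (w * u) * k⁻¹ := by group
        _ = k * (u * w) * k⁻¹ := by rw [hwu]
        _ = _ := by group
    have h := orderOf_dvd_natCard (⟨_, hu'⟩ : ↥(cTor hK))
    rw [Subgroup.orderOf_mk, card_cTor hK, show k * u * k⁻¹ = MulAut.conj k u from rfl, MulEquiv.orderOf_eq,
      hu, (kq_facts m).1] at h
    exact hnot (dvd_mul_of_dvd_right h _)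
  · exact hexN_not_rest hr hrN hrest

theorem IsHexTor.cent {A : Subgroup ↥(S hK).fix} (hA : IsHexTor hK A) {a : ↥(S hK).fix} (ha : a ∈ A)
    (ha1 : a ≠ 1) : Subgroup.centralizer {a} = A := by
  have := hA.cyclic hK hm
  have hd := hA.dvd hK hm
  obtain ⟨p, hp, hN, u, hu, hAu⟩ := hA
  have huA : u ∈ A := by rw [hAu, mem_cent_one]
  have hao : orderOf a ∣ Nat.card ↥A := (Subgroup.orderOf_mk a ha).symm ▸ orderOf_dvd_natCard _
  set r := (orderOf a).minFac
  have hr : r.Prime := Nat.minFac_prime (fun e => ha1 (orderOf_eq_one_iff.mp e))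
  obtain ⟨k, hk, -⟩ := exists_prime_pow_comm (g := a) (Nat.minFac_dvd (orderOf a))
  have hrN : r ∣ hexN m := ((Nat.minFac_dvd _).trans hao).trans hd
  have hwcyc := hex_cyclic hK hm hr hrN hk
  refine le_antisymm (fun g hg => ?_) (fun g hg => mem_cent_one.mpr (cyclic_comm ha hg))
  have hgw : g ∈ Subgroup.centralizer {a ^ k} :=
    mem_cent_one.mpr (Commute.pow_left (mem_cent_one.mp hg) k).eq
  have huw : u ∈ Subgroup.centralizer {a ^ k} := mem_cent_one.mpr (cyclic_comm (pow_mem ha k) huA)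
  rw [hAu, mem_cent_one]
  exact cyclic_comm huw hgw

theorem IsHexTor.full {A : Subgroup ↥(S hK).fix} (hA : IsHexTor hK A) {r : ℕ} [Fact r.Prime]
    (h : r ∣ Nat.card ↥A) : (Nat.card ↥A).factorization r = (Nat.card ↥(S hK).fix).factorization r := by
  obtain ⟨w, hw⟩ := exists_prime_orderOf_dvd_card' (G := ↥A) r h
  have hwo : orderOf (w : ↥(S hK).fix) = r := by rw [Subgroup.orderOf_coe, hw]
  have hr : r.Prime := Fact.out
  have hw1 : (w : ↥(S hK).fix) ≠ 1 := fun e => hr.ne_one (by rw [← hwo, e, orderOf_one])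
  obtain ⟨Q, hQ, -⟩ := exists_sylow_cent hK hm (h.trans (hA.dvd hK hm)) hwo
  rw [hA.cent hK hm w.2 hw1] at hQ
  refine le_antisymm ((Nat.factorization_le_iff_dvd Nat.card_pos.ne' Nat.card_pos.ne').mpr
    (Subgroup.card_subgroup_dvd_card A) r) ?_
  have h1 := Subgroup.card_dvd_of_le hQ
  rw [Q.card_eq_multiplicity] at h1
  exact (hr.pow_dvd_iff_le_factorization Nat.card_pos.ne').mp h1

/-- An element of order divisible by a prime of a torus is conjugate into it. -/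
theorem IsHexTor.conj_into {A : Subgroup ↥(S hK).fix} (hA : IsHexTor hK A) {r : ℕ} [Fact r.Prime]
    (h : r ∣ Nat.card ↥A) {g w : ↥(S hK).fix} (hw : orderOf w = r) (hwg : w * g = g * w) :
    ∃ k : ↥(S hK).fix, k * g * k⁻¹ ∈ A := by
  have hr : r.Prime := Fact.out
  obtain ⟨k, hk⟩ := ToriGen.conj_into A (hA.full hK hm h) (k := 1) (hw.trans (pow_one r).symm)
  refine ⟨k, ?_⟩
  rw [← hA.cent hK hm hk (fun e => hr.ne_one (by rw [← hw, conj_eq_one_iff.mp e, orderOf_one])), mem_cent_one]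
  calc k * w * k⁻¹ * (k * g * k⁻¹) = k * (w * g) * k⁻¹ := by group
    _ = k * (g * w) * k⁻¹ := by rw [hwg]
    _ = _ := by group

/-- The index of a torus in its normaliser divides six. -/
theorem IsHexTor.index {A : Subgroup ↥(S hK).fix} (hA : IsHexTor hK A) :
    ∃ e : ℕ, e ∣ 6 ∧ e * Nat.card ↥(Subgroup.normalizer (A : Set ↥(S hK).fix)) = 6 * Nat.card ↥A := by
  classical
  have : Fintype K := Fintype.ofFinite K
  have hcyc := hA.cyclic hK hm
  obtain ⟨p, hp, hN, u, hu, hAu⟩ := hA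
  have huA : u ∈ A := by rw [hAu, mem_cent_one]
  have hq : Fintype.card K = 3 ^ (2 * m + 1) := Nat.card_eq_fintype_card.symm.trans hK
  have hord := orderOf_hex hq hp hN
  have : Fact p.Prime := ⟨hp⟩
  have hpow : ∀ a b : ℕ, u ^ (Fintype.card K) ^ a = u ^ (Fintype.card K) ^ b ↔ (a : ZMod 6) = b := by
    intro a b
    rw [pow_eq_pow_iff_modEq, hu, ← ZMod.natCast_eq_natCast_iff, Nat.cast_pow, Nat.cast_pow,
      ← pow_mod_orderOf, ← pow_mod_orderOf _ b, hord, ZMod.natCast_eq_natCast_iff']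
    exact ⟨fun h => pow_injOn_Iio_orderOf (x := ((Fintype.card K : ℕ) : ZMod p))
      (by rw [Set.mem_Iio, hord]; exact Nat.mod_lt _ (by norm_num))
      (by rw [Set.mem_Iio, hord]; exact Nat.mod_lt _ (by norm_num)) h, fun h => by rw [h]⟩
  set N := Subgroup.normalizer (A : Set ↥(S hK).fix)
  have hex : ∀ n : ↥N, ∃ i : ℕ, (n : ↥(S hK).fix)⁻¹ * u * n = u ^ (Fintype.card K) ^ i := by
    intro n
    have hmem : (n : ↥(S hK).fix)⁻¹ * u * n ∈ A := by
      have h := (Subgroup.mem_normalizer_iff.mp (inv_mem n.2) u).mp huA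
      rwa [inv_inv] at h
    have h1 : (n : ↥(S hK).fix)⁻¹ * u * n ∈ Subgroup.zpowers u := by
      refine ToriGen.mem_of_pow (Subgroup.zpowers_le.mpr huA) hmem ?_
      rw [Nat.card_zpowers, show (n : ↥(S hK).fix)⁻¹ * u * n = MulAut.conj (n : ↥(S hK).fix)⁻¹ u by simp,
        ← map_pow, pow_orderOf_eq_one, map_one]
    obtain ⟨j, hj⟩ := mem_powers_iff_mem_zpowers.mpr h1
    obtain ⟨i, -, hi⟩ := (hctx hK hm hp hN u hu).conj_pow (g := (n : ↥(S hK).fix)) (k := j) hj.symm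
    exact ⟨i, hi⟩
  choose f hf using hex
  let φ : ↥N →* Multiplicative (ZMod 6) := MonoidHom.mk' (fun n => Multiplicative.ofAdd (f n : ZMod 6))
    fun a b => by
      rw [← ofAdd_add, Multiplicative.ofAdd.apply_eq_iff_eq, ← Nat.cast_add, ← hpow, ← hf (a * b)]
      push_cast
      have e1 : ((a : ↥(S hK).fix) * b)⁻¹ * u * (a * b) =
          (b : ↥(S hK).fix)⁻¹ * ((a : ↥(S hK).fix)⁻¹ * u * a) * b := by group
      have e2 : ∀ (x : ↥(S hK).fix) (k : ℕ), (b : ↥(S hK).fix)⁻¹ * x ^ k * b =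
          ((b : ↥(S hK).fix)⁻¹ * x * b) ^ k := fun x k => by
        have e := map_pow (MulAut.conj (b : ↥(S hK).fix)⁻¹) x k
        simpa only [MulAut.conj_apply, inv_inv] using e
      rw [e1, hf a, e2, hf b, ← pow_mul, ← pow_add, add_comm (f b)]
  have hker : ∀ n : ↥N, n ∈ φ.ker ↔ (n : ↥(S hK).fix) ∈ A := by
    intro n
    rw [MonoidHom.mem_ker]
    rw [show (1 : Multiplicative (ZMod 6)) = Multiplicative.ofAdd ((0 : ℕ) : ZMod 6) by
      rw [Nat.cast_zero, ofAdd_zero]]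
    show Multiplicative.ofAdd (f n : ZMod 6) = _ ↔ _
    rw [Multiplicative.ofAdd.apply_eq_iff_eq, ← hpow, ← hf, pow_zero, pow_one, hAu, mem_cent_one,
      mul_assoc, inv_mul_eq_iff_eq_mul]
  have hkc : Nat.card ↥φ.ker = Nat.card ↥A := by
    have hle : A ≤ N := Subgroup.le_normalizer
    rw [show φ.ker = A.subgroupOf N from Subgroup.ext fun n => (hker n).trans Subgroup.mem_subgroupOf.symm]
    exact Nat.card_congr (Subgroup.subgroupOfEquivOfLe hle).toEquiv
  have hcard : Nat.card ↥N = Nat.card ↥φ.range * Nat.card ↥A := by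
    rw [← hkc, Subgroup.card_eq_card_quotient_mul_card_subgroup φ.ker,
      Nat.card_congr (QuotientGroup.quotientKerEquivRange φ).toEquiv]
  obtain ⟨e, he⟩ : Nat.card ↥φ.range ∣ 6 := by
    have h := Subgroup.card_subgroup_dvd_card φ.range
    rwa [Nat.card_congr Multiplicative.toAdd, Nat.card_zmod] at h
  refine ⟨e, ⟨Nat.card ↥φ.range, he.trans (mul_comm _ _)⟩, ?_⟩
  rw [hcard, ← mul_assoc, mul_comm e, ← he]

theorem IsHexTor.ti {A : Subgroup ↥(S hK).fix} (hA : IsHexTor hK A) {a g : ↥(S hK).fix} (ha : a ∈ A)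
    (ha1 : a ≠ 1) (hg : g * a * g⁻¹ ∈ A) : g ∈ Subgroup.normalizer (A : Set ↥(S hK).fix) :=
  ToriGen.ti_self (fun _ h h1 => hA.cent hK hm h h1) ha ha1 hg

/-- An element without fixed points. -/
theorem fpf_cases {g : ↥(S hK).fix} (hg : ∀ x : Pts hK, g • x ≠ x) :
    (∃ k : ↥(S hK).fix, k * g * k⁻¹ ∈ cTor hK ∧ k * g * k⁻¹ * (k * g * k⁻¹) ≠ 1) ∨
      ∃ A, IsHexTor hK A ∧ g ∈ A ∧ g ≠ 1 := by
  have hg1 : g ≠ 1 := fun e => hg (pInf hK) (by rw [e, one_smul])
  by_cases hodd : ∃ p : ℕ, p.Prime ∧ p ≠ 2 ∧ p ∣ orderOf g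
  · obtain ⟨p, hp, hp2, hpg⟩ := hodd
    have : Fact p.Prime := ⟨hp⟩
    obtain ⟨j, hj, hcomm⟩ := exists_prime_pow_comm hpg
    have hpG : p ∣ (3 ^ (2 * m + 1)) ^ 3 * (3 ^ (2 * m + 1) - 1) * (3 ^ (2 * m + 1) + 1) * hexN m :=
      card_fix' hK ▸ hpg.trans (orderOf_dvd_natCard g)
    rcases prime_cases hp hpG with rfl | rfl | ⟨-, hpm⟩ | hpk | hpN
    · obtain ⟨x, hx⟩ := three_comm hK hj hcomm
      exact absurd hx (hg x)
    · exact absurd rfl hp2
    · obtain ⟨k, c, hc⟩ := torus_comm hK hp2 hpm hj hcomm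
      refine absurd ?_ (hg (k⁻¹ • pInf hK))
      rw [eq_inv_smul_iff, smul_smul, smul_smul, ← hc]
      exact MulAction.mem_stabilizer_iff.mp ((stab_pInf hK).mpr ⟨1, one_mem _, c, (one_mul _).symm⟩)
    · obtain ⟨k, hk⟩ := conj_into_aTor hK hpk (k := 1) (hj.trans (pow_one p).symm)
      left
      refine ⟨k, ?_, fun e => hp2 ?_⟩
      · rw [← cent_aTor hK hm hk (fun e => hp.ne_one (by rw [← hj, conj_eq_one_iff.mp e, orderOf_one])),
          mem_cent_one]
        calc k * g ^ j * k⁻¹ * (k * g * k⁻¹) = k * (g ^ j * g) * k⁻¹ := by group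
          _ = k * (g * g ^ j) * k⁻¹ := by rw [hcomm]
          _ = _ := by group
      · have h2 : orderOf (k * g * k⁻¹) ∣ 2 := orderOf_dvd_of_pow_eq_one (by rw [pow_two, e])
        rw [show k * g * k⁻¹ = MulAut.conj k g from rfl, MulEquiv.orderOf_eq] at h2
        exact (Nat.prime_dvd_prime_iff_eq hp Nat.prime_two).mp (hpg.trans h2)
    · exact Or.inr ⟨_, ⟨p, hp, hpN, g ^ j, hj, rfl⟩, mem_cent_one.mpr hcomm, hg1⟩
  · exfalso
    push Not at hodd
    have : Fact (Nat.Prime 2) := ⟨Nat.prime_two⟩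
    have h2 : IsPGroup 2 ↥(Subgroup.zpowers g) := IsPGroup.of_card (n := (orderOf g).primeFactorsList.length)
      (by
        rw [Nat.card_zpowers]
        exact Nat.eq_prime_pow_of_unique_prime_dvd (orderOf_pos g).ne' fun hd hdg => by
          by_contra hne
          exact hodd _ hd hne hdg)
    obtain ⟨Q, hQ⟩ := h2.exists_le_sylow
    have hgg := (sylow_facts hK Q).2.1 g (hQ (Subgroup.mem_zpowers g))
    obtain ⟨k, hk⟩ := involution_conj hK hg1 hgg
    refine hg (k • pInf hK) ?_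
    have hfix : h0 hK • pInf hK = pInf hK :=
      MulAction.mem_stabilizer_iff.mp ((stab_pInf hK).mpr ⟨1, one_mem _, -1, (one_mul _).symm⟩)
    rw [← hk, smul_smul, inv_mul_cancel_right, mul_smul, hfix]

end CfsgLib.Chevalley.Twist.G2
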