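import Cfsg.Agent.Lib.Chevalley.Twist.G2Count
import Cfsg.Agent.Lib.Chevalley.Twist.G2Hex

/-!
The classes of maximal tori of ²G₂ without fixed points.
-/

set_option autoImplicit false
set_option maxRecDepth 20000
set_option Elab.async false

namespace CfsgLib.Chevalley.Twist.G2

open Tbl

local notation "T2" => Data.G2.tbl

theorem r_sq (m : ℕ) : 3 ^ (m + 1) * 3 ^ (m + 1) = 3 * 3 ^ (2 * m + 1) := by
  rw [← pow_add, ← pow_succ']
  ring_nf

theorem big_facts {m : ℕ} (hm : 1 ≤ m) : 27 ≤ 3 ^ (2 * m + 1) ∧ 26 * 3 ^ (2 * m + 1) + 1 ≤ hexN m ∧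
    1 < kq m := by
  have h : 27 ≤ 3 ^ (2 * m + 1) := by
    calc (27 : ℕ) = 3 ^ 3 := by norm_num
      _ ≤ _ := Nat.pow_le_pow_right (by norm_num) (by omega)
  refine ⟨h, ?_, kq_gt_one hm⟩
  have e := hexN_mul m
  have : 27 * 3 ^ (2 * m + 1) ≤ (3 ^ (2 * m + 1)) ^ 2 := by
    rw [pow_two]; exact Nat.mul_le_mul_right _ h
  omega

variable {K : Type*} [Field K] [Finite K] {m : ℕ} (hK : Nat.card K = 3 ^ (2 * m + 1))
include hK

theorem cTor_pow {d : ↥(S hK).fix} (hd : d ∈ cTor hK) : d ^ (2 * kq m) = 1 := by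
  obtain ⟨⟨z, x⟩, hzx, rfl⟩ := hd
  obtain ⟨j, hj⟩ := (Subgroup.mem_prod.mp hzx).2
  rw [← map_pow, ← map_one (psi hK)]
  refine congrArg _ (Prod.ext ?_ ?_)
  · show z ^ (2 * kq m) = 1
    rw [pow_mul]
    rcases z2_cases z with rfl | rfl
    · simp
    · rw [show (Multiplicative.ofAdd (1 : ZMod 2)) ^ 2 = 1 from Multiplicative.toAdd.injective (by decide),
        one_pow]
  · show x ^ (2 * kq m) = 1
    rw [← (show zb hK ^ j = x from hj), ← orderOf_zb' hK, ← zpow_natCast, ← _root_.zpow_mul, mul_comm,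
      _root_.zpow_mul, zpow_natCast, pow_orderOf_eq_one, one_zpow]

theorem cTor_sq {d : ↥(S hK).fix} (hd : d ∈ cTor hK) : d * d ∈ aTor hK := by
  refine cFour_odd hK (cTor_le hK (mul_mem hd hd)) (Odd.of_dvd_nat (kq_facts m).2.1 ?_)
  refine orderOf_dvd_of_pow_eq_one ?_
  rw [← pow_two, ← pow_mul, cTor_pow hK hd]

theorem four_iff {d : ↥(S hK).fix} (hd : d ∈ cTor hK) : d ∈ four hK ↔ d * d = 1 := by
  obtain ⟨⟨z, x⟩, hzx, rfl⟩ := hd
  constructor
  · rintro ⟨⟨z', x'⟩, hzx', e⟩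
    obtain ⟨rfl, rfl⟩ := Prod.ext_iff.mp (psi_inj hK e)
    obtain ⟨j, hj⟩ := (Subgroup.mem_prod.mp hzx').2
    rw [← map_mul, ← map_one (psi hK)]
    refine congrArg _ (Prod.ext ?_ ?_)
    · show z' * z' = 1
      rcases z2_cases z' with h | h <;> rw [h]
      · exact one_mul 1
      · exact Multiplicative.toAdd.injective (by decide)
    · show x' * x' = 1
      rw [← (show wb ^ j = x' from hj), ← (Commute.refl _).mul_zpow, (klein_rel hK).1, one_zpow]
  · intro h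
    rw [← map_mul, ← map_one (psi hK)] at h
    have hx : x * x = 1 := congrArg Prod.snd (psi_inj hK h)
    refine ⟨(z, x), Subgroup.mem_prod.mpr ⟨Subgroup.mem_top _, ?_⟩, rfl⟩
    refine ToriGen.mem_of_pow (Subgroup.zpowers_le.mpr (wb_mem_zb hK)) (Subgroup.mem_prod.mp hzx).2 ?_
    rw [Nat.card_zpowers, orderOf_eq_prime (p := 2) (by rw [pow_two]; exact (klein_rel hK).1) (vb_ne_wb hK).2.2,
      pow_two, hx]

theorem card_four : Nat.card ↥(four hK) = 4 := by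
  rw [four, Subgroup.card_map_of_injective (psi_inj hK), Nat.card_congr (Subgroup.prodEquiv _ _).toEquiv,
    Nat.card_prod, Nat.card_zpowers, orderOf_eq_prime (p := 2) (by rw [pow_two]; exact (klein_rel hK).1)
      (vb_ne_wb hK).2.2, Subgroup.card_top]
  simp

/-- The elements of the torus of order `q + 1` outside the four-group. -/
def dTor : Set ↥(S hK).fix := (cTor hK : Set ↥(S hK).fix) \ (four hK : Set ↥(S hK).fix)

theorem card_dTor : Nat.card ↥(dTor hK) = 4 * kq m - 4 := by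
  rw [Nat.card_coe_set_eq, dTor, Set.ncard_sdiff (fun x hx => four_le hK hx) (Set.toFinite _),
    ← Nat.card_coe_set_eq, ← Nat.card_coe_set_eq]
  show Nat.card ↥(cTor hK) - Nat.card ↥(four hK) = _
  rw [card_cTor hK, card_four hK]

variable (hm : 1 ≤ m)
include hm

theorem aTor_ti {a g : ↥(S hK).fix} (ha : a ∈ aTor hK) (ha1 : a ≠ 1) (hg : g * a * g⁻¹ ∈ aTor hK) :
    g ∈ norFour hK ∧ ∀ c ∈ cTor hK, g * c * g⁻¹ ∈ cTor hK := by
  have key : ∀ c ∈ cTor hK, g * c * g⁻¹ ∈ cTor hK := by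
    intro c hc
    rw [← cent_aTor hK hm hg (fun e => ha1 (conj_eq_one_iff.mp e)), mem_cent_one]
    calc g * a * g⁻¹ * (g * c * g⁻¹) = g * (a * c) * g⁻¹ := by group
      _ = g * (c * a) * g⁻¹ := by rw [cTor_comm hK (aTor_le hK ha) hc]
      _ = _ := by group
  refine ⟨ToriGen.mem_normalizer_of_conj fun b hb => ?_, key⟩
  rw [four_iff hK (key b (four_le hK hb)),
    show g * b * g⁻¹ * (g * b * g⁻¹) = g * (b * b) * g⁻¹ by group,
    (four_iff hK (four_le hK hb)).mp hb, mul_one, mul_inv_cancel]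

theorem norm_aTor : Subgroup.normalizer (aTor hK : Set ↥(S hK).fix) = norFour hK := by
  refine le_antisymm (fun g hg => ?_) (norFour_eq_aTor hK)
  obtain ⟨a, ha, ha1⟩ : ∃ a ∈ aTor hK, a ≠ 1 := by
    refine ((Subgroup.bot_or_exists_ne_one (aTor hK)).resolve_left fun e => ?_)
    have := card_aTor hK
    rw [e, Subgroup.card_bot] at this
    exact absurd this.symm (kq_gt_one hm).ne'
  exact (aTor_ti hK hm ha ha1 ((Subgroup.mem_normalizer_iff.mp hg a).mp ha)).1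

theorem norFour_cTor {n c : ↥(S hK).fix} (hn : n ∈ norFour hK) (hc : c ∈ cTor hK) :
    n * c * n⁻¹ ∈ cTor hK := by
  obtain ⟨a, ha, ha1⟩ : ∃ a ∈ aTor hK, a ≠ 1 := by
    refine ((Subgroup.bot_or_exists_ne_one (aTor hK)).resolve_left fun e => ?_)
    have := card_aTor hK
    rw [e, Subgroup.card_bot] at this
    exact absurd this.symm (kq_gt_one hm).ne'
  exact (aTor_ti hK hm ha ha1 ((Subgroup.mem_normalizer_iff.mp (norFour_eq_aTor hK hn) a).mp ha)).2 c hc

theorem dTor_count : Nat.card ↥(ToriGen.conjUnion (dTor hK)) * (24 * kq m) =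
    Nat.card ↥(S hK).fix * (4 * kq m - 4) := by
  rw [← card_norFour hK, ← card_dTor hK]
  refine ToriGen.ti_count _ _ (fun n hn d hd => ⟨norFour_cTor hK hm hn hd.1, fun h => hd.2 ?_⟩)
    fun g d hd hgd => ?_
  · have := (Subgroup.mem_normalizer_iff.mp hn d).mpr h
    exact this
  · have hne : d * d ≠ 1 := fun e => hd.2 ((four_iff hK hd.1).mpr e)
    refine (aTor_ti hK hm (cTor_sq hK hd.1) hne ?_).1
    rw [show g * (d * d) * g⁻¹ = g * d * g⁻¹ * (g * d * g⁻¹) by group]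
    exact cTor_sq hK hgd.1

omit hm in
/-- The elements of order dividing `q² - q + 1`. -/
def hexSet : Set ↥(S hK).fix := {g | g ≠ 1 ∧ orderOf g ∣ hexN m}

theorem partition : Nat.card ↥(S hK).fix = 1 + Nat.card {g : ↥(S hK).fix // g ≠ 1 ∧ ∃ x : Pts hK, g • x = x} +
    Nat.card ↥(ToriGen.conjUnion (dTor hK)) + Nat.card ↥(hexSet hK) := by
  classical
  set A1 : Set ↥(S hK).fix := {g | g ≠ 1 ∧ ∃ x : Pts hK, g • x = x}
  set A2 := ToriGen.conjUnion (dTor hK) with hA2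
  have hU : (Set.univ : Set ↥(S hK).fix) = (({1} ∪ A1) ∪ A2) ∪ hexSet hK := by
    refine (Set.eq_univ_of_forall fun g => ?_).symm
    by_cases h1 : g = 1
    · exact Or.inl (Or.inl (Or.inl h1))
    by_cases hx : ∃ x : Pts hK, g • x = x
    · exact Or.inl (Or.inl (Or.inr ⟨h1, hx⟩))
    push Not at hx
    rcases fpf_cases hK hm hx with ⟨k, hk, hk2⟩ | ⟨A, hA, hgA, -⟩
    · refine Or.inl (Or.inr ⟨k⁻¹, k * g * k⁻¹, ⟨hk, fun h => hk2 ((four_iff hK hk).mp h)⟩, ?_⟩)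
      group
    · refine Or.inr ⟨h1, Dvd.dvd.trans ?_ (hA.dvd hK hm)⟩
      rw [← Subgroup.orderOf_mk g hgA]
      exact orderOf_dvd_natCard _
  have hA2p : ∀ g ∈ A2, orderOf g ∣ 4 * kq m ∧ ∀ x : Pts hK, g • x ≠ x := by
    rintro _ ⟨k, d, hd, rfl⟩
    constructor
    · rw [show k * d * k⁻¹ = MulAut.conj k d from rfl, MulEquiv.orderOf_eq, ← card_cTor hK,
        ← Subgroup.orderOf_mk d hd.1]
      exact orderOf_dvd_natCard _
    · intro x hx
      have hd2 : d • (k⁻¹ • x) = k⁻¹ • x := by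
        rw [eq_inv_smul_iff, smul_smul, smul_smul]; exact hx
      have hne : d * d ≠ 1 := fun e => hd.2 ((four_iff hK hd.1).mpr e)
      have hdd : orderOf (d * d) ∣ kq m := by
        rw [← card_aTor hK, ← Subgroup.orderOf_mk _ (cTor_sq hK hd.1)]; exact orderOf_dvd_natCard _
      exact not_fix hK hne hdd (kq_coprime_borel m) (k⁻¹ • x) (by rw [mul_smul, hd2, hd2])
  have d1 : Disjoint ({1} : Set ↥(S hK).fix) A1 := Set.disjoint_singleton_left.mpr fun h => h.1 rfl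
  have d2 : Disjoint ({1} ∪ A1) A2 := by
    rw [Set.disjoint_left]
    rintro g (rfl | ⟨-, x, hx⟩) hg
    · exact (hA2p _ hg).2 (pInf hK) (one_smul _ _)
    · exact (hA2p _ hg).2 x hx
  have d3 : Disjoint (({1} ∪ A1) ∪ A2) (hexSet hK) := by
    rw [Set.disjoint_left]
    rintro g ((rfl | ⟨-, x, hx⟩) | hg) ⟨h1, h2⟩
    · exact h1 rfl
    · exact not_fix hK h1 h2 (hexN_coprime_borel m) x hx
    · refine h1 (orderOf_eq_one_iff.mp (Nat.eq_one_of_dvd_coprimes ?_ h2 (hA2p _ hg).1))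
      rw [(kq_facts m).1]
      exact (hexN_coprime m).coprime_dvd_right (dvd_mul_left _ _)
  rw [← Set.ncard_univ, hU, Set.ncard_union_eq d3, Set.ncard_union_eq d2, Set.ncard_union_eq d1,
    Set.ncard_singleton, Nat.card_coe_set_eq, Nat.card_coe_set_eq]
  rw [show Nat.card {g : ↥(S hK).fix // g ≠ 1 ∧ ∃ x : Pts hK, g • x = x} = A1.ncard from
    Nat.card_coe_set_eq A1]

theorem hex_count : 3 * hexN m * Nat.card ↥(hexSet hK) +
    Nat.card ↥(S hK).fix * (3 ^ (2 * m + 1) + 1) = Nat.card ↥(S hK).fix * hexN m := by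
  have hP := partition hK hm
  have hF := fix_count hK
  have hD := dTor_count hK hm
  have hG := card_fix' hK
  have hN := hexN_mul m
  obtain ⟨h4, -, -⟩ := kq_facts m
  obtain ⟨h1, -, -, hN0⟩ := q_facts m
  have hk1 := kq_gt_one hm
  generalize Nat.card ↥(S hK).fix = G at *
  generalize Nat.card {g : ↥(S hK).fix // g ≠ 1 ∧ ∃ x : Pts hK, g • x = x} = F at *
  generalize Nat.card ↥(ToriGen.conjUnion (dTor hK)) = U at *
  generalize Nat.card ↥(hexSet hK) = H at *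
  generalize 3 ^ (2 * m + 1) = q at *
  generalize hexN m = N at *
  generalize kq m = k at *
  obtain ⟨j, rfl⟩ : ∃ j, q = j + 1 := ⟨q - 1, by omega⟩
  obtain ⟨i, rfl⟩ : ∃ i, k = i + 1 := ⟨k - 1, by omega⟩
  rw [show 4 * (i + 1) - 4 = 4 * i by omega] at hD
  rw [show (j + 1) ^ 2 - (j + 1) = j * (j + 1) by
    rw [Nat.sub_eq_iff_eq_add (Nat.le_self_pow (by norm_num) _)]; ring] at hF
  rw [Nat.add_sub_cancel] at hG
  zify at hP hF hD hG hN h4 hN0 ⊢
  have hi : (4 : ℤ) * i = (j : ℤ) - 2 := by linear_combination h4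
  have key : 6 * ((j : ℤ) + 1 + 1) * (3 * (N : ℤ) * H + G * ((j : ℤ) + 1 + 1) - G * N) = 0 := by
    have hD' : (U : ℤ) * (6 * ((j : ℤ) + 1 + 1)) = G * ((j : ℤ) - 2) := by
      linear_combination hD + (G : ℤ) * hi - 6 * (U : ℤ) * h4
    have hN' : (N : ℤ) = ((j : ℤ) + 1) ^ 2 - ((j : ℤ) + 1) + 1 := by linear_combination hN
    simp only [hG, hN'] at hP hF hD' ⊢
    linear_combination (-18 * (((j : ℤ) + 1) ^ 2 - ((j : ℤ) + 1) + 1) * ((j : ℤ) + 1 + 1)) * hP +
      (-9 * (((j : ℤ) + 1) ^ 2 - ((j : ℤ) + 1) + 1) * ((j : ℤ) + 1 + 1)) * hF +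
      (-3 * (((j : ℤ) + 1) ^ 2 - ((j : ℤ) + 1) + 1)) * hD'
  have hne : (6 : ℤ) * ((j : ℤ) + 1 + 1) ≠ 0 := by positivity
  linear_combination (mul_eq_zero.mp key).resolve_left hne

end CfsgLib.Chevalley.Twist.G2
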