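import Cfsg.Agent.Lib.Chevalley.Twist.G2Structure

/-!
Conjugacy and centralisers of the cyclic subgroups of the tori of ²G₂.
-/

set_option autoImplicit false
set_option maxRecDepth 20000
set_option Elab.async false

namespace CfsgLib.Chevalley.Twist.G2

open Tbl

local notation "T2" => Data.G2.tbl

/-- Cyclic groups of the same order that can be moved into one cyclic group are conjugate. -/
theorem conj_of_into {G : Type*} [Group G] [Finite G] {T A B : Subgroup G} [IsCyclic ↥T] {g k : G}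
    (hg : A.map (MulAut.conj g).toMonoidHom ≤ T) (hk : B.map (MulAut.conj k).toMonoidHom ≤ T)
    (he : Nat.card ↥A = Nat.card ↥B) : ∃ x : G, B = A.map (MulAut.conj x).toMonoidHom := by
  have hA : Nat.card ↥(A.map (MulAut.conj g).toMonoidHom) = Nat.card ↥A :=
    Subgroup.card_map_of_injective (MulEquiv.injective _)
  have hB : Nat.card ↥(B.map (MulAut.conj k).toMonoidHom) = Nat.card ↥B :=
    Subgroup.card_map_of_injective (MulEquiv.injective _)
  have h : A.map (MulAut.conj g).toMonoidHom = B.map (MulAut.conj k).toMonoidHom := by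
    refine Subgroup.eq_of_le_of_card_ge (fun x hx => ToriGen.mem_of_pow hk (hg hx) ?_) (by rw [hA, hB, he])
    rw [hB, ← he, ← hA]
    exact congrArg Subtype.val (pow_card_eq_one' (x := (⟨x, hx⟩ : ↥(A.map (MulAut.conj g).toMonoidHom))))
  refine ⟨k⁻¹ * g, ?_⟩
  ext x
  simp only [Subgroup.mem_map, MulEquiv.coe_toMonoidHom, MulAut.conj_apply]
  constructor
  · intro hx
    have h1 : k * x * k⁻¹ ∈ A.map (MulAut.conj g).toMonoidHom := h ▸ ⟨x, hx, rfl⟩
    obtain ⟨y, hy, e⟩ := h1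
    refine ⟨y, hy, ?_⟩
    simp only [MulEquiv.coe_toMonoidHom, MulAut.conj_apply] at e
    calc k⁻¹ * g * y * (k⁻¹ * g)⁻¹ = k⁻¹ * (g * y * g⁻¹) * k := by group
      _ = k⁻¹ * (k * x * k⁻¹) * k := by rw [e]
      _ = x := by group
  · rintro ⟨y, hy, rfl⟩
    have h1 : g * y * g⁻¹ ∈ B.map (MulAut.conj k).toMonoidHom := h ▸ ⟨y, hy, rfl⟩
    obtain ⟨z, hz, e⟩ := h1
    simp only [MulEquiv.coe_toMonoidHom, MulAut.conj_apply] at e
    have : k⁻¹ * g * y * (k⁻¹ * g)⁻¹ = z := by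
      calc k⁻¹ * g * y * (k⁻¹ * g)⁻¹ = k⁻¹ * (g * y * g⁻¹) * k := by group
        _ = k⁻¹ * (k * z * k⁻¹) * k := by rw [e]
        _ = z := by group
    rw [this]
    exact hz

variable {K : Type*} [Field K] [Finite K] {m : ℕ} (hK : Nat.card K = 3 ^ (2 * m + 1))
include hK

/-- A generator of a cyclic subgroup and a power of prime order. -/
theorem exists_gen {B : Subgroup ↥(S hK).fix} (hB : IsCyclic ↥B) (hne : Nat.card ↥B ≠ 1) :
    ∃ b p, p.Prime ∧ p ∣ Nat.card ↥B ∧ B = Subgroup.zpowers b ∧ orderOf b = Nat.card ↥B ∧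
      ∃ w : ↥(S hK).fix, orderOf w = p ∧ w * b = b * w := by
  obtain ⟨c, hc⟩ := IsCyclic.exists_generator (α := ↥B)
  obtain ⟨p, hp, hpd⟩ := Nat.exists_prime_and_dvd hne
  have ho : orderOf (c : ↥(S hK).fix) = Nat.card ↥B := by
    rw [Subgroup.orderOf_coe, orderOf_eq_card_of_forall_mem_zpowers hc]
  obtain ⟨j, hj, hcomm⟩ := exists_prime_pow_comm (g := (c : ↥(S hK).fix)) (ho ▸ hpd)
  refine ⟨c, p, hp, hpd, le_antisymm (fun x hx => ?_) (Subgroup.zpowers_le.mpr c.2), ho, _, hj, hcomm⟩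
  obtain ⟨i, hi⟩ := hc ⟨x, hx⟩
  exact ⟨i, congrArg Subtype.val hi⟩

theorem map_conj_le {B T : Subgroup ↥(S hK).fix} {b k : ↥(S hK).fix} (hB : B = Subgroup.zpowers b)
    (h : k * b * k⁻¹ ∈ T) : B.map (MulAut.conj k).toMonoidHom ≤ T := by
  subst hB
  rw [MonoidHom.map_zpowers, Subgroup.zpowers_le]
  exact h

theorem into_torus {B : Subgroup ↥(S hK).fix} (hB : IsCyclic ↥B)
    (hd : Nat.card ↥B ∣ (3 ^ (2 * m + 1) - 1) / 2) :
    ∃ g : ↥(S hK).fix, B.map (MulAut.conj g).toMonoidHom ≤ (hF hK).range := by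
  by_cases h1 : Nat.card ↥B = 1
  · exact ⟨1, by rw [Subgroup.eq_bot_of_card_eq B h1, Subgroup.map_bot]; exact bot_le⟩
  obtain ⟨b, p, hp, hpd, hBb, -, w, hw, hwb⟩ := exists_gen hK hB h1
  have : Fact p.Prime := ⟨hp⟩
  obtain ⟨-, h8, -, -⟩ := q_facts m
  have hp2 : p ≠ 2 := by
    rintro rfl
    have := hpd.trans hd
    omega
  have hpm : p ∣ 3 ^ (2 * m + 1) - 1 :=
    (hpd.trans hd).trans (Nat.div_dvd_of_dvd (by omega : 2 ∣ 3 ^ (2 * m + 1) - 1))
  obtain ⟨k, hk⟩ := torus_comm hK hp2 hpm hw hwb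
  exact ⟨k, map_conj_le hK hBb hk⟩

theorem cTor_no_four {x : ↥(S hK).fix} (hx : x ∈ cTor hK) : orderOf x ≠ 4 := by
  intro h
  have h4 : 4 ∣ 2 * kq m := h ▸ orderOf_dvd_of_pow_eq_one (cTor_pow hK hx)
  obtain ⟨-, hodd, -⟩ := kq_facts m
  rw [Nat.odd_iff] at hodd
  omega

variable (hm : 1 ≤ m)
include hm

theorem into_aTor {B : Subgroup ↥(S hK).fix} (hB : IsCyclic ↥B) (hd : Nat.card ↥B ∣ kq m) :
    ∃ g : ↥(S hK).fix, B.map (MulAut.conj g).toMonoidHom ≤ aTor hK := by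
  by_cases h1 : Nat.card ↥B = 1
  · exact ⟨1, by rw [Subgroup.eq_bot_of_card_eq B h1, Subgroup.map_bot]; exact bot_le⟩
  obtain ⟨b, p, hp, hpd, hBb, hbo, w, hw, hwb⟩ := exists_gen hK hB h1
  have : Fact p.Prime := ⟨hp⟩
  obtain ⟨k, hk⟩ := conj_into_aTor hK (hpd.trans hd) (k := 1) (hw.trans (pow_one p).symm)
  refine ⟨k, map_conj_le hK hBb (cFour_odd hK (cTor_le hK ?_) ?_)⟩
  · rw [← cent_aTor hK hm hk (fun e => hp.ne_one (by rw [← hw, conj_eq_one_iff.mp e, orderOf_one])), mem_cent_one]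
    calc k * w * k⁻¹ * (k * b * k⁻¹) = k * (w * b) * k⁻¹ := by group
      _ = k * (b * w) * k⁻¹ := by rw [hwb]
      _ = _ := by group
  · rw [show k * b * k⁻¹ = MulAut.conj k b from rfl, MulEquiv.orderOf_eq, hbo]
    exact Odd.of_dvd_nat (kq_facts m).2.1 hd

theorem into_hex {A B : Subgroup ↥(S hK).fix} (hA : IsHexTor hK A) (hB : IsCyclic ↥B)
    (hd : Nat.card ↥B ∣ Nat.card ↥A) :
    ∃ g : ↥(S hK).fix, B.map (MulAut.conj g).toMonoidHom ≤ A := by
  by_cases h1 : Nat.card ↥B = 1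
  · exact ⟨1, by rw [Subgroup.eq_bot_of_card_eq B h1, Subgroup.map_bot]; exact bot_le⟩
  obtain ⟨b, p, hp, hpd, hBb, -, w, hw, hwb⟩ := exists_gen hK hB h1
  have : Fact p.Prime := ⟨hp⟩
  obtain ⟨k, hk⟩ := hA.conj_into hK hm (hpd.trans hd) hw hwb
  exact ⟨k, map_conj_le hK hBb hk⟩

/-- Cyclic subgroups of the same order inside the tori are conjugate. -/
theorem cyclic_conj (d : ℕ)
    (hd : d ∣ (3 ^ (2 * m + 1) - 1) / 2 ∨ d ∣ (3 ^ (2 * m + 1) + 1) / 4 ∨
      d ∣ 3 ^ (2 * m + 1) - 3 ^ (m + 1) + 1 ∨ d ∣ 3 ^ (2 * m + 1) + 3 ^ (m + 1) + 1)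
    (A B : Subgroup ↥(S hK).fix) (hA : IsCyclic ↥A) (hB : IsCyclic ↥B)
    (hAd : Nat.card ↥A = d) (hBd : Nat.card ↥B = d) :
    ∃ g : ↥(S hK).fix, B = A.map (MulAut.conj g).toMonoidHom := by
  subst hAd
  obtain ⟨A1, B1, hA1, hB1, ha, hb, -⟩ := hex_two hK hm
  rcases hd with h | h | h | h
  · have := hF_cyclic hK
    obtain ⟨g, hg⟩ := into_torus hK hA h
    obtain ⟨k, hk⟩ := into_torus hK hB (hBd.symm ▸ h)
    exact conj_of_into hg hk hBd.symm
  · have : IsCyclic ↥(aTor hK) := Subgroup.isCyclic_zpowers _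
    obtain ⟨g, hg⟩ := into_aTor hK hm hA h
    obtain ⟨k, hk⟩ := into_aTor hK hm hB (hBd.symm ▸ h)
    exact conj_of_into hg hk hBd.symm
  · have := hA1.cyclic hK hm
    obtain ⟨g, hg⟩ := into_hex hK hm hA1 hA (ha.symm ▸ h)
    obtain ⟨k, hk⟩ := into_hex hK hm hA1 hB (hBd.symm ▸ ha.symm ▸ h)
    exact conj_of_into hg hk hBd.symm
  · have := hB1.cyclic hK hm
    obtain ⟨g, hg⟩ := into_hex hK hm hB1 hA (hb.symm ▸ h)
    obtain ⟨k, hk⟩ := into_hex hK hm hB1 hB (hBd.symm ▸ hb.symm ▸ h)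
    exact conj_of_into hg hk hBd.symm

omit hK hm [Field K] [Finite K] in
/-- The centraliser is moved by conjugation. -/
theorem centralizer_map {G : Type*} [Group G] (H : Subgroup G) (e : G ≃* G) :
    Subgroup.centralizer ((H.map e.toMonoidHom : Subgroup G) : Set G) =
      (Subgroup.centralizer (H : Set G)).map e.toMonoidHom := by
  ext y
  rw [Subgroup.mem_centralizer_iff, Subgroup.mem_map]
  constructor
  · intro h
    refine ⟨e.symm y, Subgroup.mem_centralizer_iff.2 fun x hx => e.injective ?_, e.apply_symm_apply y⟩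
    rw [map_mul, map_mul, e.apply_symm_apply]
    exact h (e x) ⟨x, hx, rfl⟩
  · rintro ⟨x, hx, rfl⟩ _ ⟨z, hz, rfl⟩
    simp only [MulEquiv.coe_toMonoidHom, ← map_mul]
    rw [Subgroup.mem_centralizer_iff.1 hx z hz]

omit hK hm [Field K] [Finite K] in
/-- The centraliser shape of a conjugate of a torus. -/
theorem cent_transfer {G : Type*} [Group G] [Finite G] {H T C : Subgroup G} [IsCyclic ↥T] {k : G}
    (hk : H.map (MulAut.conj k).toMonoidHom ≤ T) (hcard : Nat.card ↥T ≤ Nat.card ↥H)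
    (hTC : T ≤ C) (hC : IsMulCommutative ↥C) (hne : Nat.card ↥T ≠ 1)
    (hcent : ∀ a ∈ T, a ≠ 1 → Subgroup.centralizer {a} = C) :
    (Subgroup.centralizer (H : Set G)).map (MulAut.conj k).toMonoidHom = C ∧
      ∀ A : Subgroup G, A ≤ H → A ≠ ⊥ →
        Subgroup.centralizer (A : Set G) = Subgroup.centralizer (H : Set G) := by
  have hcard' : Nat.card ↥(H.map (MulAut.conj k).toMonoidHom) = Nat.card ↥H :=
    Subgroup.card_map_of_injective (MulEquiv.injective _)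
  have hHT : H.map (MulAut.conj k).toMonoidHom = T :=
    Subgroup.eq_of_le_of_card_ge hk (by rw [hcard']; exact hcard)
  have hsub : ∀ A : Subgroup G, A ≤ T → A ≠ ⊥ → Subgroup.centralizer (A : Set G) = C := by
    intro A hA hA1
    obtain ⟨a, ha, ha1⟩ := (Subgroup.bot_or_exists_ne_one A).resolve_left hA1
    refine le_antisymm ?_ fun c hc => Subgroup.mem_centralizer_iff.2 fun b hb => ?_
    · rw [← hcent a (hA ha) ha1]
      exact Subgroup.centralizer_le (Set.singleton_subset_iff.2 ha)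
    · exact congrArg Subtype.val (hC.is_comm.comm ⟨b, hTC (hA hb)⟩ ⟨c, hc⟩)
  have hT : Subgroup.centralizer (T : Set G) = C :=
    hsub T le_rfl fun e => hne (by rw [e, Subgroup.card_bot])
  refine ⟨by rw [← centralizer_map, hHT, hT], fun A hA hA1 => ?_⟩
  refine Subgroup.map_injective (f := (MulAut.conj k).toMonoidHom) (MulEquiv.injective _) ?_
  rw [← centralizer_map, ← centralizer_map, hHT, hT]
  exact hsub _ ((Subgroup.map_mono hA).trans hk) fun e => hA1 ((Subgroup.map_eq_bot_iff_of_injective _ (MulEquiv.injective _)).1 e)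

/-- The centralisers of the cyclic subgroups of orders `(q - 1) / 2` and `(q + 1) / 4`. -/
theorem tori_cent (H : Subgroup ↥(S hK).fix) (hH : IsCyclic ↥H) :
    (Nat.card ↥H = (3 ^ (2 * m + 1) - 1) / 2 →
      IsCyclic ↥(Subgroup.centralizer (H : Set ↥(S hK).fix)) ∧
        Nat.card ↥(Subgroup.centralizer (H : Set ↥(S hK).fix)) = 3 ^ (2 * m + 1) - 1 ∧
        ∀ A : Subgroup ↥(S hK).fix, A ≤ H → A ≠ ⊥ →
          Subgroup.centralizer (A : Set ↥(S hK).fix) = Subgroup.centralizer (H : Set ↥(S hK).fix)) ∧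
    (Nat.card ↥H = (3 ^ (2 * m + 1) + 1) / 4 →
      IsMulCommutative ↥(Subgroup.centralizer (H : Set ↥(S hK).fix)) ∧
        Nat.card ↥(Subgroup.centralizer (H : Set ↥(S hK).fix)) = 3 ^ (2 * m + 1) + 1 ∧
        (∀ x ∈ Subgroup.centralizer (H : Set ↥(S hK).fix), orderOf x ≠ 4) ∧
        ∀ A : Subgroup ↥(S hK).fix, A ≤ H → A ≠ ⊥ →
          Subgroup.centralizer (A : Set ↥(S hK).fix) = Subgroup.centralizer (H : Set ↥(S hK).fix)) := by
  obtain ⟨h27, -, hk1⟩ := big_facts hm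
  constructor
  · intro hc
    have := hF_cyclic hK
    have := sqTor_cyclic hK
    obtain ⟨k, hk⟩ := into_torus hK hH (dvd_of_eq hc)
    have hk' : H.map (MulAut.conj k).toMonoidHom ≤ sqTor hK := fun x hx => by
      refine ToriGen.mem_of_pow (sqTor_le hK) (hk hx) ?_
      rw [card_sqTor hK, ← hc,
        ← Subgroup.card_map_of_injective (K := H) (f := (MulAut.conj k).toMonoidHom) (MulEquiv.injective _)]
      exact congrArg Subtype.val (pow_card_eq_one' (x := (⟨x, hx⟩ : ↥(H.map (MulAut.conj k).toMonoidHom))))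
    obtain ⟨hmap, hsub⟩ := cent_transfer hk' (le_of_eq ((card_sqTor hK).trans hc.symm)) (sqTor_le hK)
      IsCyclic.isMulCommutative (by rw [card_sqTor hK]; omega) (fun a ha ha1 => sqTor_cent hK ha ha1)
    let e := ((Subgroup.centralizer (H : Set ↥(S hK).fix)).equivMapOfInjective (MulAut.conj k).toMonoidHom
      (MulEquiv.injective _)).trans (MulEquiv.subgroupCongr hmap)
    exact ⟨e.isCyclic.2 inferInstance, (Nat.card_congr e.toEquiv).trans (card_torus hK), hsub⟩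
  · intro hc
    have : IsCyclic ↥(aTor hK) := Subgroup.isCyclic_zpowers _
    obtain ⟨k, hk⟩ := into_aTor hK hm hH (dvd_of_eq hc)
    have hcomm : IsMulCommutative ↥(cTor hK) :=
      ⟨⟨fun a b => Subtype.ext (cTor_comm hK a.2 b.2)⟩⟩
    obtain ⟨hmap, hsub⟩ := cent_transfer hk (le_of_eq ((card_aTor hK).trans hc.symm)) (aTor_le hK) hcomm
      (by rw [card_aTor hK]; omega) (fun a ha ha1 => cent_aTor hK hm ha ha1)
    let e := ((Subgroup.centralizer (H : Set ↥(S hK).fix)).equivMapOfInjective (MulAut.conj k).toMonoidHom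
      (MulEquiv.injective _)).trans (MulEquiv.subgroupCongr hmap)
    refine ⟨⟨⟨fun a b => e.injective (by rw [map_mul, map_mul]; exact hcomm.is_comm.comm _ _)⟩⟩, ?_,
      fun x hx h => ?_, hsub⟩
    · rw [Nat.card_congr e.toEquiv, card_cTor hK, (kq_facts m).1]
    · refine cTor_no_four hK (e ⟨x, hx⟩).2 ?_
      rw [Subgroup.orderOf_coe, MulEquiv.orderOf_eq, Subgroup.orderOf_mk, h]

end CfsgLib.Chevalley.Twist.G2
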