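import Cfsg.Agent.Lib.Chevalley.Twist.G2Four

/-!
Counting the elements of ²G₂ that fix a point.
-/

set_option autoImplicit false
set_option maxRecDepth 20000
set_option Elab.async false

namespace CfsgLib.Chevalley.Twist.G2

open Tbl Finset

local notation "T2" => Data.G2.tbl

section Generic

variable {G X : Type*} [Group G] [MulAction G X] [Fintype X] [DecidableEq X]

theorem sum_fix (A : Finset G) (s : ℕ) (hs : ∀ x : X, (A.filter fun g => g • x = x).card = s) :
    ∑ g ∈ A, (univ.filter fun x : X => g • x = x).card = Fintype.card X * s := by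
  simp only [Finset.card_filter] at hs ⊢
  rw [Finset.sum_comm, Finset.sum_congr rfl fun x _ => hs x, Finset.sum_const, Finset.card_univ, smul_eq_mul]

theorem offDiag_fix (g : G) :
    (univ.filter fun x : X => g • x = x).offDiag =
      (univ : Finset X).offDiag.filter fun p => g • p.1 = p.1 ∧ g • p.2 = p.2 := by
  ext ⟨x, y⟩
  simp only [mem_offDiag, mem_filter, mem_univ, true_and]
  tauto

theorem sum_fix_two (A : Finset G) (s : ℕ)
    (hs : ∀ x y : X, x ≠ y → (A.filter fun g => g • x = x ∧ g • y = y).card = s) :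
    ∑ g ∈ A, (univ.filter fun x : X => g • x = x).offDiag.card =
      (Fintype.card X * Fintype.card X - Fintype.card X) * s := by
  simp only [Finset.card_filter] at hs
  simp only [offDiag_fix, Finset.card_filter]
  rw [Finset.sum_comm, Finset.sum_congr rfl fun p hp => hs p.1 p.2 (Finset.mem_offDiag.mp hp).2.2,
    Finset.sum_const, Finset.offDiag_card, Finset.card_univ, smul_eq_mul]

end Generic

variable {K : Type*} [Field K] [Finite K] {m : ℕ} (hK : Nat.card K = 3 ^ (2 * m + 1))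
include hK

theorem pair_stab {x y : Pts hK} (h : x ≠ y) : ∃ k : ↥(S hK).fix,
    ∀ g : ↥(S hK).fix, g • x = x ∧ g • y = y ↔ k * g * k⁻¹ ∈ (hF hK).range := by
  obtain ⟨n, hn, hm⟩ := exists_n0 hK
  set n' : ↥(S hK).fix := ⟨n, hn.2⟩
  obtain ⟨k, kx, ky⟩ := two_trans hK (n := n') hn.1 hm h
  refine ⟨k, fun g => ⟨fun hg => ?_, ?_⟩⟩
  · obtain ⟨c, hc⟩ := fix_pair hK (n := n') hn.1 hm (g := k * g * k⁻¹)
      (by rw [← kx, smul_smul, inv_mul_cancel_right, mul_smul, hg.1])
      (by rw [← ky, smul_smul, inv_mul_cancel_right, mul_smul, hg.2])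
    exact ⟨c, Subtype.ext hc⟩
  · rintro ⟨c, hc⟩
    obtain ⟨h0', h1'⟩ := hd_fix_pair hK (n := n') hn.1 hm c
    change hF hK c • (QuotientGroup.mk 1 : Pts hK) = QuotientGroup.mk 1 at h0'
    change hF hK c • (QuotientGroup.mk n' : Pts hK) = QuotientGroup.mk n' at h1'
    rw [hc, ← kx, smul_smul, inv_mul_cancel_right, mul_smul] at h0'
    rw [hc, ← ky, smul_smul, inv_mul_cancel_right, mul_smul] at h1'
    exact ⟨smul_left_cancel k h0', smul_left_cancel k h1'⟩

theorem hF_neg_one : hF hK (-1) = h0 hK := rfl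

theorem card_pair_stab {x y : Pts hK} (h : x ≠ y) :
    Nat.card {g : ↥(S hK).fix // g • x = x ∧ g • y = y} = 3 ^ (2 * m + 1) - 1 := by
  obtain ⟨k, hk⟩ := pair_stab hK h
  rw [← card_torus hK]
  exact Nat.card_congr ((MulAut.conj k).toEquiv.subtypeEquiv hk)

theorem card_pair_invol {x y : Pts hK} (h : x ≠ y) :
    Nat.card {g : ↥(S hK).fix // (g ≠ 1 ∧ g * g = 1) ∧ g • x = x ∧ g • y = y} = 1 := by
  obtain ⟨k, hk⟩ := pair_stab hK h
  rw [Nat.card_eq_one_iff_unique]
  have key : ∀ g : ↥(S hK).fix, g ≠ 1 → g * g = 1 → g • x = x ∧ g • y = y → g = k⁻¹ * h0 hK * k := by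
    intro g g1 g2 hg
    obtain ⟨c, hc⟩ := (hk g).mp hg
    have hc2 : c * c = 1 := hF_inj hK (by
      rw [map_mul, map_one, hc, show k * g * k⁻¹ * (k * g * k⁻¹) = k * (g * g) * k⁻¹ by group, g2]
      group)
    rcases sq_eq_one hc2 with rfl | rfl
    · exact absurd (by rw [map_one] at hc; exact conj_eq_one_iff.mp hc.symm) g1
    · rw [← hF_neg_one hK, hc]
      group
  refine ⟨⟨fun a b => Subtype.ext ((key _ a.2.1.1 a.2.1.2 a.2.2).trans (key _ b.2.1.1 b.2.1.2 b.2.2).symm)⟩,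
    ⟨⟨k⁻¹ * h0 hK * k, ⟨?_, ?_⟩, ?_⟩⟩⟩
  · intro e
    apply h0_ne hK
    rw [show h0 hK = k * (k⁻¹ * h0 hK * k) * k⁻¹ by group, e]
    group
  · rw [show k⁻¹ * h0 hK * k * (k⁻¹ * h0 hK * k) = k⁻¹ * (h0 hK * h0 hK) * k by group, h0_sq hK]
    group
  · refine (hk _).mpr ⟨-1, ?_⟩
    rw [hF_neg_one hK]
    group

theorem card_invol : Nat.card {g : ↥(S hK).fix // g ≠ 1 ∧ g * g = 1} =
    (3 ^ (2 * m + 1)) ^ 2 * hexN m := by
  have h := card_orbit_mul ⊤ (Subgroup.centralizer {h0 hK}) le_top (h0 hK)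
    {g : ↥(S hK).fix | g ≠ 1 ∧ g * g = 1}
    (fun n _ => ⟨fun e => h0_ne hK (conj_eq_one_iff.mp e), by
      rw [show n * h0 hK * n⁻¹ * (n * h0 hK * n⁻¹) = n * (h0 hK * h0 hK) * n⁻¹ by group, h0_sq hK]; group⟩)
    (fun t ht => by
      obtain ⟨g, hg⟩ := involution_conj hK ht.1 ht.2
      exact ⟨g, Subgroup.mem_top g, hg⟩)
    (fun n _ => by
      rw [Subgroup.mem_centralizer_iff]
      simp only [Set.mem_singleton_iff, forall_eq]
      exact eq_comm)
  rw [Subgroup.card_top, card_cen hK, card_fix' hK] at h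
  obtain ⟨h1, -, -, -⟩ := q_facts m
  set q := 3 ^ (2 * m + 1)
  have h2 : q ^ 2 - 1 = (q - 1) * (q + 1) := by
    obtain ⟨j, hj⟩ : ∃ j, q = j + 1 := ⟨q - 1, by omega⟩
    rw [hj, Nat.add_sub_cancel, show (j + 1) ^ 2 = j * (j + 1 + 1) + 1 by ring, Nat.add_sub_cancel]
  rw [h2] at h
  refine Nat.eq_of_mul_eq_mul_right (m := q * ((q - 1) * (q + 1))) ?_ (Eq.trans h.symm (by ring))
  exact Nat.mul_pos (by omega) (Nat.mul_pos (by omega) (by omega))

/-- The elements other than the identity that fix a point. -/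
theorem fix_count : 2 * Nat.card {g : ↥(S hK).fix // g ≠ 1 ∧ ∃ x : Pts hK, g • x = x} +
      2 * ((3 ^ (2 * m + 1)) ^ 3 + 1) =
    (3 ^ (2 * m + 1)) ^ 4 * ((3 ^ (2 * m + 1)) ^ 3 + 1) +
      (3 ^ (2 * m + 1)) ^ 2 * hexN m * ((3 ^ (2 * m + 1)) ^ 2 - 3 ^ (2 * m + 1)) := by
  classical
  have : Fintype ↥(S hK).fix := Fintype.ofFinite _
  have : Fintype (Pts hK) := Fintype.ofFinite _
  obtain ⟨h3, -, -, -⟩ := q_facts m
  have hX : Fintype.card (Pts hK) = (3 ^ (2 * m + 1)) ^ 3 + 1 := by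
    rw [← Nat.card_eq_fintype_card, card_Pts hK]
  have hG : Fintype.card ↥(S hK).fix =
      (3 ^ (2 * m + 1)) ^ 3 * (3 ^ (2 * m + 1) - 1) * ((3 ^ (2 * m + 1)) ^ 3 + 1) := by
    rw [← Nat.card_eq_fintype_card, fix_card_eq hK]
  have hqN := (q_facts m).2.2.2
  have hst := fun x : Pts hK => card_stab hK x
  have hps := fun (x y : Pts hK) (h : x ≠ y) => card_pair_stab hK h
  have hinv := card_invol hK
  obtain ⟨q, hq⟩ : ∃ q, q = 3 ^ (2 * m + 1) := ⟨_, rfl⟩
  simp only [← hq] at h3 hX hG hqN hst hps hinv ⊢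
  let F : ↥(S hK).fix → Finset (Pts hK) := fun g => univ.filter fun x => g • x = x
  let I : Finset ↥(S hK).fix := univ.filter fun g => g ≠ 1 ∧ g * g = 1
  let R : Finset ↥(S hK).fix := univ.filter fun g => g ≠ 1 ∧ ¬ g * g = 1
  have hJ : I.card = q ^ 2 * hexN m := by
    rw [← hinv, Nat.card_eq_fintype_card, Fintype.card_subtype]
  have hsplit : ∀ f : ↥(S hK).fix → ℕ, ∑ g, f g = f 1 + ∑ g ∈ I, f g + ∑ g ∈ R, f g := by
    intro f
    rw [← Finset.add_sum_erase _ _ (Finset.mem_univ (1 : ↥(S hK).fix)),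
      ← Finset.sum_filter_add_sum_filter_not ((univ : Finset ↥(S hK).fix).erase 1) (fun g => g * g = 1) f,
      ← add_assoc, show ((univ : Finset ↥(S hK).fix).erase 1).filter (fun g => g * g = 1) = I by
        ext g; simp [I],
      show ((univ : Finset ↥(S hK).fix).erase 1).filter (fun g => ¬ g * g = 1) = R by
        ext g; simp [R]]
  -- the two global sums
  have e1 : ∑ g, (F g).card = (q ^ 3 + 1) * (q ^ 3 * (q - 1)) := by
    rw [← hX]
    refine sum_fix univ _ fun x => ?_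
    rw [← hst x, Nat.card_eq_fintype_card]
    exact (Fintype.card_of_subtype _ (by simp [MulAction.mem_stabilizer_iff])).symm
  have e2 : ∑ g, (F g).offDiag.card = ((q ^ 3 + 1) * (q ^ 3 + 1) - (q ^ 3 + 1)) * (q - 1) := by
    rw [← hX]
    refine sum_fix_two univ _ fun x y hxy => ?_
    rw [← hps x y hxy, Nat.card_eq_fintype_card, Fintype.card_subtype]
  have e3 : ∑ g ∈ I, (F g).offDiag.card = ((q ^ 3 + 1) * (q ^ 3 + 1) - (q ^ 3 + 1)) * 1 := by
    rw [← hX]
    refine sum_fix_two I _ fun x y hxy => ?_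
    rw [← card_pair_invol hK hxy, Nat.card_eq_fintype_card, Fintype.card_subtype, Finset.filter_filter]
  -- the fixed points of an involution
  set f0 := (F (h0 hK)).card with hf0
  have hcI : ∀ g ∈ I, (F g).card = f0 := by
    intro g hg
    obtain ⟨k, rfl⟩ := involution_conj hK (Finset.mem_filter.mp hg).2.1 (Finset.mem_filter.mp hg).2.2
    refine (Finset.card_equiv (MulAction.toPerm k) fun x => ?_).symm
    simp only [F, mem_filter, mem_univ, true_and, MulAction.toPerm_apply, mul_smul, inv_smul_smul,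
      smul_left_cancel_iff]
  have hf : f0 = q + 1 := by
    rw [Finset.sum_congr rfl fun g hg => show (F g).offDiag.card = f0 * f0 - f0 by
      rw [Finset.offDiag_card, hcI g hg], Finset.sum_const, smul_eq_mul, hJ, mul_one] at e3
    have hN0 : (q ^ 3 + 1) * (q ^ 3 + 1) - (q ^ 3 + 1) = q ^ 2 * hexN m * ((q + 1) * q) := by
      rw [hqN, show (q + 1) * hexN m * ((q + 1) * hexN m) - (q + 1) * hexN m =
        (q + 1) * hexN m * ((q + 1) * hexN m) - (q + 1) * hexN m * 1 by rw [mul_one], ← Nat.mul_sub,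
        ← hqN, Nat.add_sub_cancel, show q ^ 2 * hexN m * ((q + 1) * q) = q ^ 3 * ((q + 1) * hexN m) by ring,
        ← hqN]
      ring
    rw [hN0] at e3
    have hpos : 0 < q ^ 2 * hexN m := Nat.mul_pos (pow_pos (by omega) _) (by unfold hexN; omega)
    have e4 : f0 * f0 - f0 = (q + 1) * q := Nat.eq_of_mul_eq_mul_left hpos e3
    have e5 : (f0 : ℤ) * f0 - f0 = (q + 1) * q := by
      have := congrArg (fun n : ℕ => (n : ℤ)) e4
      push_cast [Nat.cast_sub (Nat.le_mul_self f0)] at this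
      exact this
    have e6 : ((f0 : ℤ) - (q + 1)) * (f0 + q) = 0 := by linear_combination e5
    rcases mul_eq_zero.mp e6 with h | h <;> omega
  -- elements other than involutions fix at most two points
  have hR : ∀ g ∈ R, 2 * (if ∃ x : Pts hK, g • x = x then 1 else 0) + (F g).offDiag.card = 2 * (F g).card := by
    intro g hg
    have hle : (F g).card ≤ 2 := by
      by_contra hlt
      obtain ⟨x, hx, y, hy, z, hz, hxy, hxz, hyz⟩ := Finset.two_lt_card.mp (not_le.mp hlt)
      simp only [F, mem_filter, mem_univ, true_and] at hx hy hz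
      exact (Finset.mem_filter.mp hg).2.2 (three_fix hK hxy hxz hyz hx hy hz)
    have hiff : (∃ x : Pts hK, g • x = x) ↔ (F g).card ≠ 0 := by
      simp [F, Finset.filter_eq_empty_iff]
    rw [Finset.offDiag_card]
    by_cases h : ∃ x : Pts hK, g • x = x
    · rw [if_pos h]
      have h' := hiff.mp h
      rcases Nat.lt_or_ge (F g).card 2 with h2 | h2
      · rw [show (F g).card = 1 by omega]
      · rw [show (F g).card = 2 by omega]
    · rw [if_neg h, show (F g).card = 0 by simpa using mt hiff.mpr h]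
  have hsum := Finset.sum_congr (rfl : R = R) hR
  rw [Finset.sum_add_distrib, ← Finset.mul_sum, ← Finset.mul_sum] at hsum
  have s1 := hsplit fun g => (F g).card
  have s2 := hsplit fun g => (F g).offDiag.card
  have hF1 : (F 1).card = q ^ 3 + 1 := by simp [F, hX]
  rw [e1, hF1, Finset.sum_congr rfl hcI, Finset.sum_const, smul_eq_mul, hJ, hf] at s1
  rw [e2, e3, Finset.offDiag_card, hF1, mul_one] at s2
  -- the elements that fix a point
  have hF' : Nat.card {g : ↥(S hK).fix // g ≠ 1 ∧ ∃ x : Pts hK, g • x = x} =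
      I.card + ∑ g ∈ R, (if ∃ x : Pts hK, g • x = x then 1 else 0) := by
    have h := hsplit fun g => if g ≠ 1 ∧ ∃ x : Pts hK, g • x = x then 1 else 0
    rw [← Finset.card_filter, if_neg (by simp), zero_add] at h
    rw [Nat.card_eq_fintype_card, Fintype.card_subtype, h, Finset.card_eq_sum_ones I]
    congr 1
    · refine Finset.sum_congr rfl fun g hg => if_pos ⟨(Finset.mem_filter.mp hg).2.1, ?_⟩
      have hc := hcI g hg
      rw [hf] at hc
      obtain ⟨x, hx⟩ := Finset.card_pos.mp (show 0 < (F g).card by omega)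
      exact ⟨x, (Finset.mem_filter.mp hx).2⟩
    · exact Finset.sum_congr rfl fun g hg =>
        if_congr (and_iff_right (Finset.mem_filter.mp hg).2.1) rfl rfl
  rw [hF', hJ]
  obtain ⟨j, hj⟩ : ∃ j, q = j + 1 := ⟨q - 1, by omega⟩
  clear hf0 hcI hf
  subst hj
  have hn : ∀ a : ℕ, (a + 1) * (a + 1) - (a + 1) = a * (a + 1) := fun a => by
    rw [Nat.sub_eq_iff_eq_add (Nat.le_mul_self _)]; ring
  simp only [hn, Nat.add_sub_cancel] at s1 s2 ⊢
  rw [show (j + 1) ^ 2 - (j + 1) = j * (j + 1) by rw [pow_two, hn]]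
  zify at s1 s2 hsum hqN ⊢
  linear_combination hsum + (-2 : ℤ) * s1 + s2 + ((j : ℤ) + 1) ^ 3 * hqN

end CfsgLib.Chevalley.Twist.G2
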