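import Cfsg.Agent.Lib.Chevalley.Twist.InstG2

/-!
Consequences of the structure of ²G₂: the torus, product law, trivial intersections, stabilisers.
-/

set_option autoImplicit false
set_option maxRecDepth 20000
set_option Elab.async false

namespace CfsgLib.Chevalley.Twist.G2

open Tbl

local notation "T2" => Data.G2.tbl

variable {K : Type*} [Field K] [Finite K] {m : ℕ} (hK : Nat.card K = 3 ^ (2 * m + 1))
include hK

/-- The fixed diagonal element of parameter `c`. -/
noncomputable def hd : Kˣ →* GL (T2).I K where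
  toFun c := torusHom T2 K (par m c)
  map_one' := by
    have h := par_mul hK (1 : Kˣ) 1
    rw [one_mul] at h
    rw [mul_eq_left.mp h.symm, map_one]
  map_mul' c d := by rw [par_mul hK, map_mul]

theorem hd_apply (c : Kˣ) : hd hK c = torusHom T2 K (par m c) := rfl

theorem hd_inj : Function.Injective (hd hK) := fun c d h => by
  have := torusHom_injective_of_smith Data.G2.valid Data.G2.chkSmith (by decide) h
  exact congrFun this (1 : Fin 2)

theorem hd_mem (c : Kˣ) : hd hK c ∈ (T2).datum.diagonalSubgroup K ⊓ (S hK).fix :=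
  diag_fix hK ▸ Subgroup.mem_map_of_mem _ (par_mem hK c)

theorem exists_hd {x : GL (T2).I K} (hx : x ∈ (T2).datum.diagonalSubgroup K ⊓ (S hK).fix) :
    ∃ c, hd hK c = x := by
  rw [diag_fix hK] at hx
  obtain ⟨f, hf, rfl⟩ := hx
  refine ⟨f (1 : Fin 2), ?_⟩
  have h2 : ∀ i : Fin 2, par m (f (1 : Fin 2)) i = f i := by
    intro i
    fin_cases i
    · exact ((mem_tauFix hK).mp hf).symm
    · rfl
  rw [hd_apply hK, show par m (f (1 : Fin 2)) = f from funext h2]

theorem diag_eq_range : (T2).datum.diagonalSubgroup K ⊓ (S hK).fix = (hd hK).range :=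
  le_antisymm (fun _ hx => exists_hd hK hx) (by rintro _ ⟨c, rfl⟩; exact hd_mem hK c)

theorem orderOf_hd (c : Kˣ) : orderOf (hd hK c) = orderOf c :=
  orderOf_injective (hd hK) (hd_inj hK) c

theorem conj_hd (c : Kˣ) (t u v : K) : hd hK c * ree m t u v * (hd hK c)⁻¹ =
    ree m ((c : K) ^ 2 * ((c : K) ^ (3 * 3 ^ m))⁻¹ * t) ((c : K) ^ (3 * 3 ^ m) * (c : K)⁻¹ * u) (c * v) :=
  conj_ree hK c t u v

omit hK [Finite K] in
/-- A product in the order of the roots. -/
noncomputable def quad (t s A B C D : K) : GL (T2).I K := (T2).xU K 6 t * (T2).xU K 7 s * hi A B C D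

theorem hi_x6 (A B C D t : K) :
    hi A B C D * (T2).xU K 6 t = (T2).xU K 6 t * hi A B C (D - t * C) := by
  obtain ⟨h6, -, h8, h9, h10, h11⟩ := lt_n
  have e10 : (T2).xU K 10 C * (T2).xU K 6 t =
      (T2).xU K 6 t * ((T2).xU K 10 C * (T2).xU K 11 (-(t * C))) := by
    rw [comm_xU Data.G2.valid Data.G2.chkComm h6 h10 (by decide) (by decide +kernel),
      show (T2).commT 6 10 = [(11, 1, 1, 1)] by decide +kernel]
    simp [mul_assoc]
  calc hi A B C D * (T2).xU K 6 t
      = (T2).xU K 8 A * (T2).xU K 9 B * ((T2).xU K 10 C * ((T2).xU K 11 D * (T2).xU K 6 t)) := by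
        simp only [hi, mul_assoc]
    _ = (T2).xU K 8 A * (T2).xU K 9 B * ((T2).xU K 10 C * (T2).xU K 6 t * (T2).xU K 11 D) := by
        rw [(cc hK (a := 11) (b := 6) (by simp) D t).eq, mul_assoc ((T2).xU K 10 C)]
    _ = (T2).xU K 8 A * ((T2).xU K 9 B * (T2).xU K 6 t) *
          ((T2).xU K 10 C * ((T2).xU K 11 (-(t * C)) * (T2).xU K 11 D)) := by
        rw [e10]; simp only [mul_assoc]
    _ = (T2).xU K 8 A * (T2).xU K 6 t * (T2).xU K 9 B *
          ((T2).xU K 10 C * (T2).xU K 11 (D - t * C)) := by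
        rw [(cc hK (a := 9) (b := 6) (by simp) B t).eq, xU_add Data.G2.valid h11,
          show -(t * C) + D = D - t * C by ring]
        simp only [mul_assoc]
    _ = _ := by
        rw [(cc hK (a := 8) (b := 6) (by simp) A t).eq]
        simp only [hi, mul_assoc]

theorem hi_x7 (A B C D s : K) :
    hi A B C D * (T2).xU K 7 s = (T2).xU K 7 s * hi A (B + 2 * (A * s)) C D := by
  obtain ⟨-, h7, h8, h9, h10, h11⟩ := lt_n
  have h3 := three_eq_zero hK
  have e8 : (T2).xU K 8 A * (T2).xU K 7 s =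
      (T2).xU K 7 s * ((T2).xU K 8 A * (T2).xU K 9 (2 * (A * s))) := by
    rw [comm_xU Data.G2.valid Data.G2.chkComm h7 h8 (by decide) (by decide +kernel),
      show (T2).commT 7 8 = [(9, -2, 1, 1), (10, -3, 2, 1), (11, 3, 1, 2)] by decide +kernel]
    simp only [List.map_cons, List.map_nil, List.prod_cons, List.prod_nil, mul_one]
    push_cast
    rw [h3]
    simp only [neg_zero, zero_mul, xU_zero Data.G2.valid h10, xU_zero Data.G2.valid h11, mul_one, pow_one,
      mul_assoc]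
    ring_nf
  calc hi A B C D * (T2).xU K 7 s
      = (T2).xU K 8 A * (T2).xU K 9 B * ((T2).xU K 10 C * ((T2).xU K 11 D * (T2).xU K 7 s)) := by
        simp only [hi, mul_assoc]
    _ = (T2).xU K 8 A * (T2).xU K 9 B * ((T2).xU K 10 C * (T2).xU K 7 s * (T2).xU K 11 D) := by
        rw [(cc hK (a := 11) (b := 7) (by simp) D s).eq, mul_assoc ((T2).xU K 10 C)]
    _ = (T2).xU K 8 A * ((T2).xU K 9 B * (T2).xU K 7 s) * ((T2).xU K 10 C * (T2).xU K 11 D) := by
        rw [(cc hK (a := 10) (b := 7) (by simp) C s).eq]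
        simp only [mul_assoc]
    _ = (T2).xU K 8 A * (T2).xU K 7 s * (T2).xU K 9 B * ((T2).xU K 10 C * (T2).xU K 11 D) := by
        rw [(cc hK (a := 9) (b := 7) (by simp) B s).eq]
        simp only [mul_assoc]
    _ = (T2).xU K 7 s * ((T2).xU K 8 A * ((T2).xU K 9 (2 * (A * s)) * (T2).xU K 9 B)) *
          ((T2).xU K 10 C * (T2).xU K 11 D) := by
        rw [e8]; simp only [mul_assoc]
    _ = _ := by
        rw [xU_add Data.G2.valid h9, add_comm (2 * (A * s))]
        simp only [hi, mul_assoc]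

theorem quad_mul (t s A B C D t' s' A' B' C' D' : K) :
    quad t s A B C D * quad t' s' A' B' C' D' =
      quad (t + t') (s + s') (A - t' * s + A') (B - t' * s ^ 2 + 2 * ((A - t' * s) * s') + B')
        (C + t' * s ^ 3 + C') (D - t' * C + t' ^ 2 * s ^ 3 + D') := by
  obtain ⟨h6, h7, -, -, -, -⟩ := lt_n
  calc quad t s A B C D * quad t' s' A' B' C' D'
      = (T2).xU K 6 t * (T2).xU K 7 s * (hi A B C D * (T2).xU K 6 t') * (T2).xU K 7 s' *
          hi A' B' C' D' := by simp only [quad, mul_assoc]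
    _ = (T2).xU K 6 t * ((T2).xU K 7 s * (T2).xU K 6 t') * hi A B C (D - t' * C) * (T2).xU K 7 s' *
          hi A' B' C' D' := by rw [hi_x6 hK]; simp only [mul_assoc]
    _ = (T2).xU K 6 t * (T2).xU K 6 t' * (T2).xU K 7 s *
          ((hi (-(t' * s)) (-(t' * s ^ 2)) (t' * s ^ 3) (t' ^ 2 * s ^ 3) * hi A B C (D - t' * C)) *
            (T2).xU K 7 s') * hi A' B' C' D' := by rw [swap67 hK]; simp only [mul_assoc]
    _ = (T2).xU K 6 t * (T2).xU K 6 t' * ((T2).xU K 7 s * (T2).xU K 7 s') *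
          (hi (-(t' * s) + A) (-(t' * s ^ 2) + B + 2 * ((-(t' * s) + A) * s')) (t' * s ^ 3 + C)
            (t' ^ 2 * s ^ 3 + (D - t' * C)) * hi A' B' C' D') := by
        rw [hi_mul hK, hi_x7 hK]; simp only [mul_assoc]
    _ = _ := by
        rw [xU_add Data.G2.valid h6, xU_add Data.G2.valid h7, hi_mul hK, quad]
        congr 2 <;> ring

omit hK [Finite K] in
theorem ree_eq_quad (t u v : K) : ree m t u v = quad t (t ^ 3 ^ m) (u ^ 3 ^ m) (v ^ 3 ^ m)
    (u + t ^ (3 * 3 ^ m + 1)) (v + t ^ (3 * 3 ^ m + 2)) := rfl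

omit hK [Finite K] in
theorem quad_inj {t s A B C D t' s' A' B' C' D' : K}
    (h : quad t s A B C D = quad t' s' A' B' C' D') :
    t = t' ∧ s = s' ∧ A = A' ∧ B = B' ∧ C = C' ∧ D = D' := by
  have split : ∀ t s A B C D : K, (T2).gprod ([6, 7, 8, 9, 10, 11].map fun r => (r, if r = 6 then t else
      if r = 7 then s else if r = 8 then A else if r = 9 then B else if r = 10 then C else D)) =
        quad t s A B C D := fun _ _ _ _ _ _ => by simp [gprod, quad, hi, mul_assoc]
  rw [← split, ← split] at h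
  have key := gprod_inj Data.G2.valid Data.G2.chkComm (L := [6, 7, 8, 9, 10, 11]) (by decide)
    (by decide +kernel) _ _ h
  have k6 := key 6 (by simp)
  have k7 := key 7 (by simp)
  have k8 := key 8 (by simp)
  have k9 := key 9 (by simp)
  have k10 := key 10 (by simp)
  have k11 := key 11 (by simp)
  simp at k6 k7 k8 k9 k10 k11
  exact ⟨k6, k7, k8, k9, k10, k11⟩

theorem ree_cube (t u v : K) : ree m t u v ^ 3 = 1 ↔ t = 0 := by
  have h3 := three_eq_zero hK
  have h0 : (3 : ℕ) ^ m ≠ 0 := by positivity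
  constructor
  · intro h
    have h1 : (1 : GL (T2).I K) = quad 0 0 0 0 0 0 := by
      rw [← ree0_one hK, ree_eq_quad]
      simp [zero_pow h0, Nat.add_eq_zero_iff]
    rw [pow_succ, pow_two, ree_eq_quad, quad_mul hK, quad_mul hK, h1] at h
    obtain ⟨-, -, -, hB, -, -⟩ := quad_inj h
    have key : t * (t ^ 3 ^ m) ^ 2 = 0 := by
      linear_combination -hB + ((v ^ 3 ^ m : K) + 2 * u ^ 3 ^ m * t ^ 3 ^ m - 4 * t * (t ^ 3 ^ m) ^ 2) * h3
    rcases mul_eq_zero.mp key with h | h
    · exact h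
    · exact eq_zero_of_pow_eq_zero (eq_zero_of_pow_eq_zero h)
  · rintro rfl
    rw [pow_succ, pow_two, ree0_mul hK, ree0_mul hK, show u + u + u = 0 by linear_combination u * h3,
      show v + v + v = 0 by linear_combination v * h3, ree0_one hK]

theorem exists_pos {x : GL (T2).I K} (hx : x ∈ (T2).datum.posUnipotent K ⊓ (S hK).fix) :
    ∃ t u v, x = ree m t u v := exists_ree hK (pos_eq_Uw hK ▸ hx)

theorem ree_mem_pos (t u v : K) : ree m t u v ∈ (T2).datum.posUnipotent K ⊓ (S hK).fix :=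
  (pos_eq_Uw hK).symm ▸ ree_mem_Uw hK t u v

/-- Diagonal elements whose square is nontrivial act without fixed points. -/
theorem fpf {c : Kˣ} (hc : c * c ≠ 1) {t u v : K}
    (h : hd hK c * ree m t u v * (hd hK c)⁻¹ = ree m t u v) : ree m t u v = 1 := by
  rw [conj_hd hK] at h
  obtain ⟨ht, hu, hv⟩ := ree_inj hK h
  have hc0 : (c : K) ≠ 0 := c.ne_zero
  have hc2 : (c : K) ^ 2 ≠ 1 := fun e => hc (Units.ext (by simpa [pow_two] using e))
  have hc1 : (c : K) ≠ 1 := fun e => hc2 (by rw [e, one_pow])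
  have hth := pow_theta' hK (c : K)
  have h3e : (c : K) ^ (3 * 3 ^ m) = ((c : K) ^ 3 ^ m) ^ 3 := by rw [← pow_mul, mul_comm]
  have ha : (c : K) ^ 2 * ((c : K) ^ (3 * 3 ^ m))⁻¹ ≠ 1 := fun e => by
    rw [mul_inv_eq_one₀ (pow_ne_zero _ hc0)] at e
    have e1 := congrArg (· ^ 3 ^ m) e
    simp only [hth, ← pow_mul] at e1
    rw [mul_comm, pow_mul] at e1
    have hC : (c : K) ^ 3 ^ m ≠ 0 := pow_ne_zero _ hc0
    have e2 : (c : K) ^ 3 ^ m = c := by
      have : ((c : K) ^ 3 ^ m) * c = c * c := by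
        linear_combination -h3e - e - ((c : K) ^ 3 ^ m) * e1
      exact mul_right_cancel₀ hc0 this
    rw [e2] at e1
    exact hc1 (mul_left_cancel₀ hc0 (by linear_combination e1))
  have hb : (c : K) ^ (3 * 3 ^ m) * (c : K)⁻¹ ≠ 1 := fun e => by
    rw [mul_inv_eq_one₀ hc0] at e
    have e1 : (c : K) = (c : K) ^ 3 ^ m := by conv_lhs => rw [← hth, e]
    rw [h3e, ← e1] at e
    exact hc2 (mul_left_cancel₀ hc0 (by linear_combination e))
  rw [(mul_left_eq_self₀.mp ht).resolve_left ha, (mul_left_eq_self₀.mp hu).resolve_left hb,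
    (mul_left_eq_self₀.mp hv).resolve_left hc1, ree0_one hK]

theorem hd_neg_one_conj (u : K) : hd hK (-1) * ree m 0 u 0 * (hd hK (-1))⁻¹ = ree m 0 u 0 := by
  rw [conj_hd hK]
  have hodd : Odd (3 * 3 ^ m) := (by decide : Odd 3).mul (Odd.pow (by decide))
  simp [hodd.neg_one_pow]

end CfsgLib.Chevalley.Twist.G2
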