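import Cfsg.Agent.Lib.Chevalley.Twist.G2Points

/-!
Arithmetic of the order of ²G₂.
-/

set_option autoImplicit false

namespace CfsgLib.Chevalley.Twist.G2

/-- `(q + 1) / 4`. -/
def kq (m : ℕ) : ℕ := (3 ^ (2 * m + 1) + 1) / 4

theorem kq_facts (m : ℕ) : 4 * kq m = 3 ^ (2 * m + 1) + 1 ∧ Odd (kq m) ∧ 0 < kq m := by
  obtain ⟨h1, h8, -, -⟩ := q_facts m
  unfold kq
  refine ⟨by omega, Nat.odd_iff.mpr (by omega), by omega⟩

theorem kq_gt_one {m : ℕ} (hm : 1 ≤ m) : 1 < kq m := by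
  have h : 3 ^ 3 ≤ 3 ^ (2 * m + 1) := Nat.pow_le_pow_right (by norm_num) (by omega)
  have := (kq_facts m).1
  omega

theorem hexN_mul (m : ℕ) : hexN m + 3 ^ (2 * m + 1) = (3 ^ (2 * m + 1)) ^ 2 + 1 := by
  have h : 3 ^ (2 * m + 1) ≤ (3 ^ (2 * m + 1)) ^ 2 := Nat.le_self_pow (by norm_num) _
  unfold hexN
  omega

/-- A common prime of the factors of the order does not exist. -/
theorem hexN_prime {m p : ℕ} (hp : p.Prime) (h : p ∣ hexN m) :
    p ≠ 2 ∧ p ≠ 3 ∧ ¬ p ∣ 3 ^ (2 * m + 1) - 1 ∧ ¬ p ∣ 3 ^ (2 * m + 1) + 1 := by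
  obtain ⟨h1, h8, h3, -⟩ := q_facts m
  have hN := hexN_mul m
  set q := 3 ^ (2 * m + 1)
  have hp3 : p ≠ 3 := by
    rintro rfl
    have : 3 ∣ q ^ 2 + 1 := hN ▸ dvd_add h h3
    exact absurd ((Nat.dvd_add_right (dvd_pow h3 two_ne_zero)).mp this) (by norm_num)
  have hp2 : p ≠ 2 := by
    rintro rfl
    have hodd : q ^ 2 % 2 = 1 := by rw [Nat.pow_mod, show q % 2 = 1 by omega]
    omega
  refine ⟨hp2, hp3, fun h' => ?_, fun h' => ?_⟩
  · have e : hexN m = (q - 1) * q + 1 := by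
      have : (q - 1) * q + q = q ^ 2 := by
        rw [pow_two, Nat.sub_mul, one_mul, Nat.sub_add_cancel (Nat.le_mul_self q)]
      omega
    exact hp.ne_one (Nat.dvd_one.mp ((Nat.dvd_add_right (dvd_mul_of_dvd_left h' _)).mp (e ▸ h)))
  · have e : hexN m + 2 * (q + 1) = q * (q + 1) + 3 := by
      have : q * (q + 1) = q ^ 2 + q := by ring
      omega
    have h3' : p ∣ q * (q + 1) + 3 := e ▸ dvd_add h (dvd_mul_of_dvd_right h' 2)
    exact hp3 ((Nat.prime_dvd_prime_iff_eq hp Nat.prime_three).mp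
      ((Nat.dvd_add_right (dvd_mul_of_dvd_right h' q)).mp h3'))

theorem kq_prime {m p : ℕ} (hp : p.Prime) (h : p ∣ kq m) :
    p ≠ 2 ∧ p ≠ 3 ∧ ¬ p ∣ 3 ^ (2 * m + 1) - 1 ∧ p ∣ 3 ^ (2 * m + 1) + 1 := by
  obtain ⟨h4, hodd, -⟩ := kq_facts m
  obtain ⟨h1, -, h3, -⟩ := q_facts m
  have hq : p ∣ 3 ^ (2 * m + 1) + 1 := h4 ▸ dvd_mul_of_dvd_right h 4
  have hp2 : p ≠ 2 := by rintro rfl; exact absurd (Nat.odd_iff.mp hodd) (by omega)
  refine ⟨hp2, ?_, fun h' => ?_, hq⟩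
  · rintro rfl
    exact absurd ((Nat.dvd_add_right h3).mp hq) (by norm_num)
  · have := Nat.dvd_sub hq h'
    rw [show 3 ^ (2 * m + 1) + 1 - (3 ^ (2 * m + 1) - 1) = 2 by omega] at this
    exact hp2 ((Nat.prime_dvd_prime_iff_eq hp Nat.prime_two).mp this)

theorem kq_coprime_borel (m : ℕ) :
    Nat.Coprime (kq m) ((3 ^ (2 * m + 1)) ^ 3 * (3 ^ (2 * m + 1) - 1)) := by
  refine Nat.coprime_of_dvd fun p hp h1 h2 => ?_
  obtain ⟨-, h3, h4, -⟩ := kq_prime hp h1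
  rcases hp.dvd_mul.mp h2 with h | h
  · exact h3 ((Nat.prime_dvd_prime_iff_eq hp Nat.prime_three).mp (hp.dvd_of_dvd_pow (hp.dvd_of_dvd_pow h)))
  · exact h4 h

/-- The primes of the order. -/
theorem prime_cases {m p : ℕ} (hp : p.Prime)
    (h : p ∣ (3 ^ (2 * m + 1)) ^ 3 * (3 ^ (2 * m + 1) - 1) * (3 ^ (2 * m + 1) + 1) * hexN m) :
    p = 3 ∨ p = 2 ∨ (p ≠ 2 ∧ p ∣ 3 ^ (2 * m + 1) - 1) ∨ p ∣ kq m ∨ p ∣ hexN m := by
  by_cases h2 : p = 2
  · exact Or.inr (Or.inl h2)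
  rcases hp.dvd_mul.mp h with h | h
  · rcases hp.dvd_mul.mp h with h | h
    · rcases hp.dvd_mul.mp h with h | h
      · exact Or.inl ((Nat.prime_dvd_prime_iff_eq hp Nat.prime_three).mp
          (hp.dvd_of_dvd_pow (hp.dvd_of_dvd_pow h)))
      · exact Or.inr (Or.inr (Or.inl ⟨h2, h⟩))
    · rw [← (kq_facts m).1] at h
      rcases hp.dvd_mul.mp h with h | h
      · exact absurd ((Nat.prime_dvd_prime_iff_eq hp Nat.prime_two).mp
          (hp.dvd_of_dvd_pow (show p ∣ 2 ^ 2 from h))) h2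
      · exact Or.inr (Or.inr (Or.inr (Or.inl h)))
  · exact Or.inr (Or.inr (Or.inr (Or.inr h)))

theorem orderOf_hex {K : Type*} [Field K] [Fintype K] {m p : ℕ} (hK : Fintype.card K = 3 ^ (2 * m + 1))
    (hp : p.Prime) (h : p ∣ hexN m) : orderOf ((Fintype.card K : ℕ) : ZMod p) = 6 := by
  obtain ⟨-, h3, hm1, hp1⟩ := hexN_prime hp h
  have : Fact p.Prime := ⟨hp⟩
  obtain ⟨h1, -, -, -⟩ := q_facts m
  rw [hK]
  have hN := hexN_mul m
  set q := 3 ^ (2 * m + 1)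
  clear_value q
  have e : ((q : ZMod p)) ^ 2 - q + 1 = 0 := by
    have h0 : ((hexN m : ℕ) : ZMod p) = 0 := (ZMod.natCast_eq_zero_iff _ _).mpr h
    have h1' := congrArg (fun n : ℕ => (n : ZMod p)) hN
    simp only [Nat.cast_add, Nat.cast_pow, Nat.cast_one, h0, zero_add] at h1'
    linear_combination -h1'
  have hneq : (q : ZMod p) ≠ 1 := fun e1 => hm1 ((ZMod.natCast_eq_zero_iff _ _).mp
    (by rw [Nat.cast_sub (by omega), e1, Nat.cast_one, sub_self]))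
  have hneg : (q : ZMod p) ≠ -1 := fun e1 => hp1 ((ZMod.natCast_eq_zero_iff _ _).mp
    (by rw [Nat.cast_add, e1, Nat.cast_one, neg_add_cancel]))
  have h6 : (q : ZMod p) ^ 6 = 1 := by
    linear_combination ((q : ZMod p) ^ 4 + (q : ZMod p) ^ 3 - (q : ZMod p) - 1) * e
  have hd := orderOf_dvd_of_pow_eq_one h6
  have hn : (2 : ZMod p) ≠ 0 := fun e2 => (hexN_prime hp h).1
    ((Nat.prime_dvd_prime_iff_eq hp Nat.prime_two).mp ((ZMod.natCast_eq_zero_iff _ _).mp (by exact_mod_cast e2)))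
  have hcases : orderOf (q : ZMod p) ∈ Nat.divisors 6 := Nat.mem_divisors.mpr ⟨hd, by norm_num⟩
  rw [show Nat.divisors 6 = {1, 2, 3, 6} by decide] at hcases
  simp only [Finset.mem_insert, Finset.mem_singleton] at hcases
  have hp' := pow_orderOf_eq_one (q : ZMod p)
  rcases hcases with h' | h' | h' | h' <;> rw [h'] at hp'
  · exact absurd (by simpa using hp') hneq
  · have : ((q : ZMod p) - 1) * ((q : ZMod p) + 1) = 0 := by linear_combination hp'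
    rcases mul_eq_zero.mp this with h0 | h0
    · exact absurd (sub_eq_zero.mp h0) hneq
    · exact absurd (eq_neg_of_add_eq_zero_left h0) hneg
  · have : (2 : ZMod p) = 0 := by linear_combination -hp' + ((q : ZMod p) + 1) * e
    exact absurd this hn
  · exact h'

end CfsgLib.Chevalley.Twist.G2
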