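import Cfsg.Agent.Lib.Chevalley.Twist.G2Rot
import Cfsg.Agent.Lib.Chevalley.Twist.HexArith

/-!
The four-group with the cyclic torus of order `(q + 1) / 4`: its centraliser and normaliser.
-/

set_option autoImplicit false
set_option maxRecDepth 20000
set_option Elab.async false

namespace CfsgLib.Chevalley.Twist.G2

open Tbl
open Matrix (ProjectiveSpecialLinearGroup SpecialLinearGroup)
open scoped Matrix

local notation "T2" => Data.G2.tbl

variable {K : Type*} [Field K] [Finite K] {m : ℕ} (hK : Nat.card K = 3 ^ (2 * m + 1))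
include hK

omit hK [Field K] [Finite K] in
/-- A subgroup of the index counted by an orbit. -/
theorem card_orbit_mul {G : Type*} [Group G] [Finite G] (N S : Subgroup G) (hSN : S ≤ N) (h : G) (T : Set G)
    (hmap : ∀ n ∈ N, n * h * n⁻¹ ∈ T) (hsurj : ∀ t ∈ T, ∃ n ∈ N, n * h * n⁻¹ = t)
    (hS : ∀ n ∈ N, n * h = h * n ↔ n ∈ S) : Nat.card ↥N = Nat.card T * Nat.card ↥S := by
  let f : ↥N → T := fun n => ⟨n.1 * h * n.1⁻¹, hmap _ n.2⟩
  have hiff : ∀ a b : ↥N, f a = f b ↔ a⁻¹ * b ∈ S.subgroupOf N := by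
    intro a b
    rw [Subgroup.mem_subgroupOf, ← hS _ (a⁻¹ * b).2]
    push_cast
    constructor
    · intro e
      have e' : a.1 * h * a.1⁻¹ = b.1 * h * b.1⁻¹ := congrArg Subtype.val e
      calc a.1⁻¹ * b.1 * h = a.1⁻¹ * (b.1 * h * b.1⁻¹) * b.1 := by group
        _ = a.1⁻¹ * (a.1 * h * a.1⁻¹) * b.1 := by rw [e']
        _ = _ := by group
    · intro e
      refine Subtype.ext ?_
      show a.1 * h * a.1⁻¹ = b.1 * h * b.1⁻¹
      calc a.1 * h * a.1⁻¹ = a.1 * (h * (a.1⁻¹ * b.1)) * b.1⁻¹ := by group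
        _ = a.1 * (a.1⁻¹ * b.1 * h) * b.1⁻¹ := by rw [e]
        _ = _ := by group
  let e : ↥N ⧸ S.subgroupOf N ≃ T := Equiv.ofBijective
    (fun q => Quotient.liftOn' q f fun a b hab => (hiff a b).mpr (QuotientGroup.leftRel_apply.mp hab))
    ⟨fun a b => by
      induction a using QuotientGroup.induction_on with | H a =>
      induction b using QuotientGroup.induction_on with | H b =>
      exact fun hab => QuotientGroup.eq.mpr ((hiff a b).mp hab),
     fun x => by
      obtain ⟨n, hn, hx⟩ := hsurj x.1 x.2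
      exact ⟨QuotientGroup.mk ⟨n, hn⟩, Subtype.ext hx⟩⟩
  rw [Subgroup.card_eq_card_quotient_mul_card_subgroup (S.subgroupOf N), Nat.card_congr e,
    Nat.card_congr (Subgroup.subgroupOfEquivOfLe hSN).toEquiv]

theorem orderOf_zb' : orderOf (zb hK) = 2 * kq m := by
  have := orderOf_zb hK
  have := (kq_facts m).1
  omega

theorem flip_sq {y : ProjectiveSpecialLinearGroup (Fin 2) K} (hy : y ∈ Subgroup.zpowers (zb hK)) :
    (vb hK * y) * (vb hK * y) = 1 := by
  obtain ⟨k, rfl⟩ := hy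
  have := rot_cyclic hK
  obtain ⟨g, hg, e⟩ : ∃ g ∈ rot (K := K), zb hK ^ k = QuotientGroup.mk g := by
    refine ⟨_, zpow_mem (IsCyclic.exists_generator (α := ↥(rot (K := K))) ).choose.2 k, ?_⟩
    rw [zb, ← QuotientGroup.mk_zpow]
  have hv := (exists_vv hK).choose_spec
  have h3 := three_eq_zero hK
  obtain ⟨e11, e10⟩ := mem_rot.mp hg
  have hd := rot_det hg
  show vb hK * zb hK ^ k * (vb hK * zb hK ^ k) = 1
  rw [e, vb, ← QuotientGroup.mk_mul, ← QuotientGroup.mk_mul, ← QuotientGroup.mk_one, mk_eq_mk_iff]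
  refine Or.inr ?_
  simp only [Matrix.SpecialLinearGroup.coe_mul, hv, one_val]
  rw [Matrix.eta_fin_two g.1, e11, e10]
  ext i j
  fin_cases i <;> fin_cases j <;> simp [Matrix.mul_apply, Fin.sum_univ_two] <;>
    first | ring1 | linear_combination h3 + 2 * hd | linear_combination -h3 - 2 * hd

theorem vb_not_zb : vb hK ∉ Subgroup.zpowers (zb hK) := by
  intro h
  have hle : Subgroup.zpowers (wb (K := K)) ≤ Subgroup.zpowers (zb hK) :=
    Subgroup.zpowers_le.mpr (wb_mem_zb hK)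
  have hc : Nat.card ↥(Subgroup.zpowers (wb (K := K))) = 2 := by
    rw [Nat.card_zpowers]
    exact orderOf_eq_prime (p := 2) (by rw [pow_two]; exact (klein_rel hK).1) (vb_ne_wb hK).2.2
  have h2 := ToriGen.mem_of_pow hle h (by rw [hc, pow_two]; exact (klein_rel hK).2.1)
  obtain ⟨j, hj⟩ := h2
  have hj' : wb ^ j = vb hK := hj
  rcases Int.even_or_odd j with ⟨i, rfl⟩ | ⟨i, rfl⟩
  · exact (vb_ne_wb hK).2.1 (by
      rw [← hj', ← two_mul, _root_.zpow_mul, zpow_two, (klein_rel hK).1, one_zpow])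
  · exact (vb_ne_wb hK).1 (by
      rw [← hj', _root_.zpow_add, _root_.zpow_mul, zpow_two, (klein_rel hK).1, one_zpow, one_mul, zpow_one])

omit hK [Finite K] in
/-- The centraliser of the four-group, as a subgroup of `PSL₂`. -/
noncomputable def cwb : Subgroup (ProjectiveSpecialLinearGroup (Fin 2) K) := Subgroup.centralizer {wb}

omit hK [Finite K] in
theorem mem_cwb {x : ProjectiveSpecialLinearGroup (Fin 2) K} : x ∈ cwb ↔ wb * x = x * wb := by
  rw [cwb, Subgroup.mem_centralizer_iff]; simp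

theorem card_cwb : Nat.card ↥(cwb (K := K)) = 4 * kq m := by
  have hz : ∀ y ∈ Subgroup.zpowers (zb hK), y ∈ cwb := fun y hy =>
    (mem_cwb).mpr ((wb_comm_iff hK).mpr (Or.inl hy))
  have hv : vb hK ∈ cwb := (mem_cwb).mpr (klein_rel hK).2.2.symm
  have hbij : Function.Bijective (fun p : Bool × ↥(Subgroup.zpowers (zb hK)) =>
      (⟨if p.1 then vb hK * p.2.1 else p.2.1, by
        split_ifs
        exacts [mul_mem hv (hz _ p.2.2), hz _ p.2.2]⟩ : ↥(cwb))) := by
    constructor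
    · rintro ⟨b, y⟩ ⟨b', y'⟩ e
      have e' := congrArg Subtype.val e
      cases b <;> cases b' <;> simp at e'
      · exact Prod.ext rfl e'
      · exact absurd (by rw [eq_mul_inv_of_mul_eq e'.symm]; exact mul_mem y.2 (inv_mem y'.2)) (vb_not_zb hK)
      · exact absurd (by rw [eq_mul_inv_of_mul_eq e']; exact mul_mem y'.2 (inv_mem y.2)) (vb_not_zb hK)
      · exact Prod.ext rfl e'
    · rintro ⟨x, hx⟩
      rcases (wb_comm_iff hK).mp ((mem_cwb).mp hx) with h | h
      · exact ⟨(false, ⟨x, h⟩), rfl⟩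
      · refine ⟨(true, ⟨_, h⟩), Subtype.ext ?_⟩
        show vb hK * (vb hK * x) = x
        rw [← mul_assoc, (klein_rel hK).2.1, one_mul]
  rw [← Nat.card_eq_of_bijective _ hbij, Nat.card_prod, Nat.card_zpowers, orderOf_zb' hK, Nat.card_eq_fintype_card,
    Fintype.card_bool]
  ring

/-- The involution in `PSL₂` as a fixed point. -/
noncomputable def wF : ↥(S hK).fix := gen2 hK wb

/-- The generator of the torus as a fixed point. -/
noncomputable def zF : ↥(S hK).fix := gen2 hK (zb hK)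

/-- The four-group. -/
noncomputable def four : Subgroup ↥(S hK).fix :=
  (Subgroup.prod (⊤ : Subgroup (Multiplicative (ZMod 2))) (Subgroup.zpowers wb)).map (psi hK)

/-- The centraliser of the four-group. -/
noncomputable def cFour : Subgroup ↥(S hK).fix :=
  (Subgroup.prod (⊤ : Subgroup (Multiplicative (ZMod 2))) (cwb)).map (psi hK)

/-- The abelian group of order `q + 1`. -/
noncomputable def cTor : Subgroup ↥(S hK).fix :=
  (Subgroup.prod (⊤ : Subgroup (Multiplicative (ZMod 2))) (Subgroup.zpowers (zb hK))).map (psi hK)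

/-- The cyclic torus of order `(q + 1) / 4`. -/
noncomputable def aTor : Subgroup ↥(S hK).fix := Subgroup.zpowers (zF hK * zF hK)

theorem psi_h0 : psi hK ((Multiplicative.ofAdd (1 : ZMod 2) : Multiplicative (ZMod 2)), 1) = h0 hK := by
  rw [psi, MonoidHom.noncommCoprod_apply]; dsimp only
  rw [map_one (PhiBar hK), mul_one]
  show h0 hK ^ (Multiplicative.toAdd (Multiplicative.ofAdd (1 : ZMod 2))).val = _
  rw [toAdd_ofAdd, ZMod.val_one, pow_one]

omit hK [Field K] [Finite K] in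
theorem z2_cases (z : Multiplicative (ZMod 2)) : z = 1 ∨ z = Multiplicative.ofAdd (1 : ZMod 2) := by
  have : ∀ x : ZMod 2, x = 0 ∨ x = 1 := by decide
  rcases this (Multiplicative.toAdd z) with h | h
  · exact Or.inl (Multiplicative.toAdd.injective h)
  · exact Or.inr (Multiplicative.toAdd.injective h)

theorem four_cases {x : ↥(S hK).fix} (hx : x ∈ four hK) :
    x = 1 ∨ x = h0 hK ∨ x = wF hK ∨ x = h0 hK * wF hK := by
  obtain ⟨⟨z, y⟩, hzy, rfl⟩ := hx
  obtain ⟨j, hj⟩ := (Subgroup.mem_prod.mp hzy).2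
  have hy : y = 1 ∨ y = wb := by
    have hj' : wb ^ j = y := hj
    rcases Int.even_or_odd j with ⟨i, rfl⟩ | ⟨i, rfl⟩
    · left; rw [← hj', ← two_mul, _root_.zpow_mul, zpow_two, (klein_rel hK).1, one_zpow]
    · right; rw [← hj', _root_.zpow_add, _root_.zpow_mul, zpow_two, (klein_rel hK).1, one_zpow, one_mul, zpow_one]
  have hsplit : psi hK (z, y) = psi hK (z, 1) * gen2 hK y := by
    rw [gen2, ← map_mul, Prod.mk_mul_mk, mul_one, one_mul]
  rcases z2_cases z with rfl | rfl <;> rcases hy with rfl | rfl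
  · exact Or.inl (map_one _)
  · exact Or.inr (Or.inr (Or.inl rfl))
  · exact Or.inr (Or.inl (psi_h0 hK))
  · exact Or.inr (Or.inr (Or.inr (by rw [hsplit, psi_h0 hK]; rfl)))

theorem four_mem : h0 hK ∈ four hK ∧ wF hK ∈ four hK := by
  constructor
  · exact ⟨_, Subgroup.mem_prod.mpr ⟨Subgroup.mem_top _, one_mem _⟩, psi_h0 hK⟩
  · exact ⟨(1, wb), Subgroup.mem_prod.mpr ⟨Subgroup.mem_top _, Subgroup.mem_zpowers _⟩, rfl⟩

theorem cFour_eq : cFour hK = Subgroup.centralizer ({h0 hK, wF hK} : Set ↥(S hK).fix) := by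
  ext g
  constructor
  · rintro ⟨⟨z, x⟩, hzx, rfl⟩
    rw [Subgroup.mem_centralizer_iff]
    rintro y (rfl | rfl)
    · rw [← psi_h0 hK, ← map_mul, ← map_mul]
      congr 1
      refine Prod.ext (mul_comm _ _) ?_
      show 1 * x = x * 1
      rw [one_mul, mul_one]
    · show psi hK (1, wb) * psi hK (z, x) = psi hK (z, x) * psi hK (1, wb)
      rw [← map_mul, ← map_mul]
      refine congrArg _ (Prod.ext ?_ ((mem_cwb).mp (Subgroup.mem_prod.mp hzx).2))
      show 1 * z = z * 1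
      rw [one_mul, mul_one]
  · intro hg
    rw [Subgroup.mem_centralizer_iff] at hg
    have h1 : g ∈ (psi hK).range := by
      rw [psi_range hK, Subgroup.mem_centralizer_iff]
      rintro y rfl
      exact hg _ (Or.inl rfl)
    obtain ⟨⟨z, x⟩, rfl⟩ := h1
    have h2 := hg _ (Or.inr rfl)
    rw [wF, gen2, ← map_mul, ← map_mul] at h2
    exact ⟨(z, x), Subgroup.mem_prod.mpr ⟨Subgroup.mem_top _,
      (mem_cwb).mpr (congrArg Prod.snd (psi_inj hK h2))⟩, rfl⟩

theorem card_cFour : Nat.card ↥(cFour hK) = 8 * kq m := by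
  rw [cFour, Subgroup.card_map_of_injective (psi_inj hK),
    Nat.card_congr (Subgroup.prodEquiv _ _).toEquiv, Nat.card_prod, card_cwb hK, Subgroup.card_top]
  simp
  ring

theorem card_cTor : Nat.card ↥(cTor hK) = 4 * kq m := by
  rw [cTor, Subgroup.card_map_of_injective (psi_inj hK),
    Nat.card_congr (Subgroup.prodEquiv _ _).toEquiv, Nat.card_prod, Nat.card_zpowers, orderOf_zb' hK,
    Subgroup.card_top]
  simp
  ring

theorem orderOf_zF : orderOf (zF hK) = 2 * kq m := by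
  rw [← orderOf_zb' hK]
  exact orderOf_injective ((psi hK).comp (MonoidHom.inr _ _))
    (fun a b h => congrArg Prod.snd (psi_inj hK h)) (zb hK)

theorem card_aTor : Nat.card ↥(aTor hK) = kq m := by
  rw [aTor, Nat.card_zpowers, ← pow_two, orderOf_pow, orderOf_zF hK]
  simp [Nat.gcd_eq_right (dvd_mul_right 2 (kq m))]

theorem aTor_le : aTor hK ≤ cTor hK := by
  rw [aTor, Subgroup.zpowers_le]
  refine ⟨(1, zb hK * zb hK), Subgroup.mem_prod.mpr ⟨Subgroup.mem_top _,
    mul_mem (Subgroup.mem_zpowers _) (Subgroup.mem_zpowers _)⟩, ?_⟩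
  rw [zF, gen2, ← map_mul, Prod.mk_mul_mk, mul_one]

theorem cTor_le : cTor hK ≤ cFour hK := by
  refine Subgroup.map_mono (Subgroup.prod_mono le_rfl fun y hy => ?_)
  exact (mem_cwb).mpr ((wb_comm_iff hK).mpr (Or.inl hy))

theorem cTor_comm {a b : ↥(S hK).fix} (ha : a ∈ cTor hK) (hb : b ∈ cTor hK) : a * b = b * a := by
  obtain ⟨⟨z, x⟩, hx, rfl⟩ := ha
  obtain ⟨⟨z', y⟩, hy, rfl⟩ := hb
  rw [← map_mul, ← map_mul]
  obtain ⟨i, hi⟩ := (Subgroup.mem_prod.mp hx).2
  obtain ⟨j, hj⟩ := (Subgroup.mem_prod.mp hy).2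
  refine congrArg _ (Prod.ext (mul_comm _ _) ?_)
  show x * y = y * x
  rw [← (show zb hK ^ i = x from hi), ← (show zb hK ^ j = y from hj)]
  exact (Commute.zpow_zpow_self _ i j).eq

theorem four_le : four hK ≤ cTor hK :=
  Subgroup.map_mono (Subgroup.prod_mono le_rfl (Subgroup.zpowers_le.mpr (wb_mem_zb hK)))

theorem cFour_odd {g : ↥(S hK).fix} (hg : g ∈ cFour hK) (ho : Odd (orderOf g)) : g ∈ aTor hK := by
  obtain ⟨⟨z, x⟩, hzx, rfl⟩ := hg
  have hx := (Subgroup.mem_prod.mp hzx).2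
  set o := orderOf (psi hK (z, x)) with hodef
  have hp : psi hK ((z, x) ^ o) = psi hK 1 := by rw [map_pow, pow_orderOf_eq_one, map_one]
  have hp' := psi_inj hK hp
  have hz : z = 1 := by
    have h1 : z ^ o = 1 := congrArg Prod.fst hp'
    rcases z2_cases z with h | h
    · exact h
    · obtain ⟨i, hi⟩ := ho
      have h2 : z ^ 2 = 1 := by rw [h]; exact Multiplicative.toAdd.injective (by decide)
      rw [hi, pow_succ, pow_mul, h2, one_pow, one_mul] at h1
      exact h1
  have hxo : x ^ o = 1 := congrArg Prod.snd hp'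
  obtain ⟨i, hi⟩ := ho
  have hx2 : x = (x * x) ^ (i + 1) := by
    rw [← pow_two, ← pow_mul, show 2 * (i + 1) = o + 1 by omega, pow_succ, hxo, one_mul]
  have hzp : x ∈ Subgroup.zpowers (zb hK) := by
    rcases (wb_comm_iff hK).mp ((mem_cwb).mp hx) with h | h
    · exact h
    · have h2 := flip_sq hK h
      rw [← mul_assoc (vb hK) (vb hK) x, (klein_rel hK).2.1, one_mul] at h2
      rw [hx2, h2, one_pow]
      exact one_mem _
  obtain ⟨j, hj⟩ := hzp
  have hj' : zb hK ^ j = x := hj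
  refine ⟨j * (i + 1 : ℕ), ?_⟩
  show (zF hK * zF hK) ^ (j * ((i + 1 : ℕ) : ℤ)) = _
  rw [zF, gen2, ← map_mul, ← map_zpow, hz]
  refine congrArg _ (Prod.ext (by simp) ?_)
  show (zb hK * zb hK) ^ (j * ((i + 1 : ℕ) : ℤ)) = x
  conv_rhs => rw [hx2, ← hj', ← (Commute.refl (zb hK)).mul_zpow, ← zpow_natCast, ← _root_.zpow_mul]

/-- The normaliser of the four-group. -/
noncomputable def norFour : Subgroup ↥(S hK).fix := Subgroup.normalizer (four hK : Set ↥(S hK).fix)

theorem cFour_le_norFour : cFour hK ≤ norFour hK := fun g hg => by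
  refine ToriGen.mem_normalizer_of_conj fun b hb => ?_
  have hg' := Subgroup.mem_centralizer_iff.mp ((cFour_eq hK) ▸ hg)
  have c0 := hg' _ (Or.inl rfl)
  have cw := hg' _ (Or.inr rfl)
  have e : g * b * g⁻¹ = b := by
    rw [mul_inv_eq_iff_eq_mul]
    rcases four_cases hK hb with rfl | rfl | rfl | rfl
    · simp
    · exact c0.symm
    · exact cw.symm
    · rw [mul_assoc, cw, ← mul_assoc, ← mul_assoc, c0]
  rwa [e]

theorem exists_cycle : ∃ g ∈ norFour hK, g * h0 hK * g⁻¹ ≠ h0 hK ∧ g * g * h0 hK * (g * g)⁻¹ ≠ h0 hK ∧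
    g * g * h0 hK * (g * g)⁻¹ ≠ g * h0 hK * g⁻¹ := by
  obtain ⟨hvw, hv1, hw1⟩ := vb_ne_wb hK
  obtain ⟨kw, kv, kc⟩ := klein_rel hK
  have hwm := mem_klein hK (x := wb) (Or.inr (Or.inl rfl))
  have hvm := mem_klein hK (x := vb hK) (Or.inr (Or.inr (Or.inl rfl)))
  have hinj : ∀ {a b}, gen2 hK a = gen2 hK b → a = b := fun h => congrArg Prod.snd (psi_inj hK h)
  have g1 : gen2 hK 1 = 1 := map_one _
  obtain ⟨n', hn', en'⟩ := eight_conj_transitive hK (gen2_mem hK hwm) (fun e => hw1 (hinj (e.trans g1.symm)))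
  set n := n'⁻¹
  have hn : n ∈ nor hK := inv_mem hn'
  have enw : n * gen2 hK wb * n⁻¹ = h0 hK := by rw [← en']; simp only [n]; group
  obtain ⟨⟨a, k⟩, hak⟩ := ((mem_nor hK).mp hn _).mp (gen2_mem hK hvm)
  set y : ProjectiveSpecialLinearGroup (Fin 2) K := QuotientGroup.mk gg with hy
  obtain ⟨r1, r2⟩ := gg_rel hK
  rw [← hy] at r1 r2
  have hk1 : klein hK k ≠ 1 := by
    intro e
    have e2 : n * gen2 hK (vb hK) * n⁻¹ = psi hK (a, 1) := by
      rw [← hak]; exact congrArg (fun x => psi hK (a, x)) e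
    rcases z2_cases a with ha | ha <;> rw [ha] at e2
    · rw [show psi hK ((1 : Multiplicative (ZMod 2)), 1) = 1 from map_one _] at e2
      refine hv1 (hinj (Eq.trans ?_ g1.symm))
      simpa using e2
    · rw [psi_h0 hK, ← enw] at e2
      exact hvw (hinj (mul_left_cancel (mul_right_cancel e2)))
  obtain ⟨i, hi⟩ : ∃ i : ℕ, y ^ i * klein hK k * (y ^ i)⁻¹ = wb := by
    have c1 : y * wb * y⁻¹ = vb hK := by rw [r1, mul_inv_cancel_right]
    have c2 : y * vb hK * y⁻¹ = wb * vb hK := by rw [r2, mul_inv_cancel_right]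
    have c3 : y * (wb * vb hK) * y⁻¹ = wb := by
      rw [show y * (wb * vb hK) * y⁻¹ = (y * wb * y⁻¹) * (y * vb hK * y⁻¹) by group, c1, c2, ← mul_assoc, kc,
        mul_assoc, kv, mul_one]
    rcases klein_range_cases hK ⟨k, rfl⟩ with h | h | h | h
    · exact absurd h hk1
    · exact ⟨0, by simp [h]⟩
    · refine ⟨2, ?_⟩
      rw [h, pow_two, show y * y * vb hK * (y * y)⁻¹ = y * (y * vb hK * y⁻¹) * y⁻¹ by group, c2, c3]
    · exact ⟨1, by rw [h, pow_one, c3]⟩
  set n2 := gen2 hK (y ^ i) * n with hn2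
  have hc0 : ∀ x, gen2 hK x * h0 hK * (gen2 hK x)⁻¹ = h0 hK := fun x => by
    rw [← psi_h0 hK, gen2, ← map_inv, ← map_mul, ← map_mul]
    simp
  have E0 : n2 * gen2 hK wb * n2⁻¹ = h0 hK := by
    rw [show n2 * gen2 hK wb * n2⁻¹ = gen2 hK (y ^ i) * (n * gen2 hK wb * n⁻¹) * (gen2 hK (y ^ i))⁻¹ by
      rw [hn2]; group, enw, hc0]
  have E1 : n2 * gen2 hK (vb hK) * n2⁻¹ = psi hK (a, wb) := by
    rw [show n2 * gen2 hK (vb hK) * n2⁻¹ = gen2 hK (y ^ i) * (n * gen2 hK (vb hK) * n⁻¹) *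
      (gen2 hK (y ^ i))⁻¹ by rw [hn2]; group, ← hak]
    show psi hK (1, y ^ i) * psi hK (a, klein hK k) * (psi hK (1, y ^ i))⁻¹ = _
    rw [← map_inv, ← map_mul, ← map_mul]
    simp [hi]
  have E2 : n2 * gen2 hK (wb * vb hK) * n2⁻¹ = h0 hK * psi hK (a, wb) := by
    rw [show gen2 hK (wb * vb hK) = gen2 hK wb * gen2 hK (vb hK) by
      simp only [gen2, ← map_mul, Prod.mk_mul_mk, mul_one],
      show n2 * (gen2 hK wb * gen2 hK (vb hK)) * n2⁻¹ =
        (n2 * gen2 hK wb * n2⁻¹) * (n2 * gen2 hK (vb hK) * n2⁻¹) by group, E0, E1]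
  have hT : psi hK (a, wb) ∈ four hK :=
    ⟨(a, wb), Subgroup.mem_prod.mpr ⟨Subgroup.mem_top _, Subgroup.mem_zpowers _⟩, rfl⟩
  have gy : ∀ x x', y * x * y⁻¹ = x' →
      n2 * gen2 hK y * n2⁻¹ * (n2 * gen2 hK x * n2⁻¹) * (n2 * gen2 hK y * n2⁻¹)⁻¹ = n2 * gen2 hK x' * n2⁻¹ := by
    intro x x' e
    rw [← e, show gen2 hK (y * x * y⁻¹) = gen2 hK y * gen2 hK x * (gen2 hK y)⁻¹ by
      simp [gen2, ← map_inv, ← map_mul]]
    group
  have c1 : y * wb * y⁻¹ = vb hK := by rw [r1, mul_inv_cancel_right]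
  have c2 : y * vb hK * y⁻¹ = wb * vb hK := by rw [r2, mul_inv_cancel_right]
  have c3 : y * (wb * vb hK) * y⁻¹ = wb := by
    rw [show y * (wb * vb hK) * y⁻¹ = (y * wb * y⁻¹) * (y * vb hK * y⁻¹) by group, c1, c2, ← mul_assoc, kc,
      mul_assoc, kv, mul_one]
  set g := n2 * gen2 hK y * n2⁻¹ with hg
  have G0 : g * h0 hK * g⁻¹ = psi hK (a, wb) := by
    conv_lhs => rw [← E0]
    rw [gy _ _ c1, E1]
  have G1 : g * psi hK (a, wb) * g⁻¹ = h0 hK * psi hK (a, wb) := by
    conv_lhs => rw [← E1]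
    rw [gy _ _ c2, E2]
  have G2' : g * (h0 hK * psi hK (a, wb)) * g⁻¹ = h0 hK := by
    conv_lhs => rw [← E2]
    rw [gy _ _ c3, E0]
  have hT1 : psi hK (a, wb) ≠ h0 hK := fun e => hw1 (congrArg Prod.snd (psi_inj hK (e.trans (psi_h0 hK).symm)))
  have hT2 : h0 hK * psi hK (a, wb) ≠ h0 hK := fun e => hw1 (by
    rw [mul_eq_left] at e
    exact congrArg Prod.snd (psi_inj hK (e.trans (map_one (psi hK)).symm)))
  refine ⟨g, ?_, by rw [G0]; exact hT1, ?_, ?_⟩
  · refine ToriGen.mem_normalizer_of_conj fun b hb => ?_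
    rcases four_cases hK hb with rfl | rfl | rfl | rfl
    · simp
    · rw [G0]; exact hT
    · have : wF hK = psi hK (a, wb) ∨ wF hK = h0 hK * psi hK (a, wb) := by
        rcases z2_cases a with rfl | rfl
        · exact Or.inl rfl
        · right
          rw [← psi_h0 hK, ← map_mul]
          have key : (1 : Multiplicative (ZMod 2)) =
              Multiplicative.ofAdd (1 : ZMod 2) * Multiplicative.ofAdd (1 : ZMod 2) := by decide
          exact congrArg _ (Prod.ext key (one_mul _).symm)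
      rcases this with e | e <;> rw [e]
      · rw [G1]; exact mul_mem (four_mem hK).1 hT
      · rw [G2']; exact (four_mem hK).1
    · have : h0 hK * wF hK = psi hK (a, wb) ∨ h0 hK * wF hK = h0 hK * psi hK (a, wb) := by
        rcases z2_cases a with rfl | rfl
        · exact Or.inr rfl
        · left
          rw [← psi_h0 hK, wF, gen2, ← map_mul]
          exact congrArg _ (Prod.ext (mul_one _) (one_mul _))
      rcases this with e | e <;> rw [e]
      · rw [G1]; exact mul_mem (four_mem hK).1 hT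
      · rw [G2']; exact (four_mem hK).1
  · rw [show g * g * h0 hK * (g * g)⁻¹ = g * (g * h0 hK * g⁻¹) * g⁻¹ by group, G0, G1]; exact hT2
  · rw [show g * g * h0 hK * (g * g)⁻¹ = g * (g * h0 hK * g⁻¹) * g⁻¹ by group, G0, G1]
    intro e
    exact h0_ne hK (mul_eq_right.mp e)

theorem card_norFour : Nat.card ↥(norFour hK) = 24 * kq m := by
  have hw1 := (vb_ne_wb hK).2.2
  have hwF1 : wF hK ≠ 1 := fun e => hw1 (congrArg Prod.snd (psi_inj hK (e.trans (map_one (psi hK)).symm)))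
  have hwh : wF hK ≠ h0 hK := fun e => hw1 (congrArg Prod.snd (psi_inj hK (e.trans (psi_h0 hK).symm)))
  have hT : Nat.card ({h0 hK, wF hK, h0 hK * wF hK} : Set ↥(S hK).fix) = 3 := by
    rw [Nat.card_coe_set_eq, Set.ncard_eq_three]
    exact ⟨_, _, _, hwh.symm, fun e => hwF1 (mul_eq_left.mp e.symm),
      fun e => h0_ne hK (mul_eq_right.mp e.symm), rfl⟩
  have hmap : ∀ g ∈ norFour hK, g * h0 hK * g⁻¹ ∈ ({h0 hK, wF hK, h0 hK * wF hK} : Set ↥(S hK).fix) := by
    intro g hg
    have h := (Subgroup.mem_normalizer_iff.mp hg _).mp (four_mem hK).1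
    rcases four_cases hK h with e | e | e | e
    · exact absurd (by simpa using e) (h0_ne hK)
    all_goals rw [e]; simp
  rw [card_orbit_mul (norFour hK) (cFour hK) (cFour_le_norFour hK) (h0 hK) _ hmap ?_ ?_, hT, card_cFour hK]
  · ring
  · obtain ⟨g, hg, n1, n2, n3⟩ := exists_cycle hK
    intro t ht
    have hall : ({h0 hK, g * h0 hK * g⁻¹, g * g * h0 hK * (g * g)⁻¹} : Set ↥(S hK).fix) =
        {h0 hK, wF hK, h0 hK * wF hK} := by
      refine Set.eq_of_subset_of_ncard_le ?_ ?_ (Set.toFinite _)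
      · rintro x (rfl | rfl | rfl)
        · exact Or.inl rfl
        · exact hmap g hg
        · exact hmap _ (mul_mem hg hg)
      · rw [← Nat.card_coe_set_eq, hT]
        exact le_of_eq (Set.ncard_eq_three.mpr ⟨_, _, _, n1.symm, n2.symm, n3.symm, rfl⟩).symm
    rw [← hall] at ht
    rcases ht with rfl | rfl | rfl
    · exact ⟨1, one_mem _, by group⟩
    · exact ⟨g, hg, rfl⟩
    · exact ⟨g * g, mul_mem hg hg, rfl⟩
  · intro g hg
    refine ⟨fun h => ?_, fun h => ?_⟩
    · rw [cFour_eq hK, Subgroup.mem_centralizer_iff]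
      have hr : g ∈ (psi hK).range := by
        rw [psi_range hK, Subgroup.mem_centralizer_iff]
        rintro y rfl
        exact h.symm
      obtain ⟨⟨z, x⟩, rfl⟩ := hr
      rintro y (rfl | rfl)
      · exact h.symm
      · have h2 := (Subgroup.mem_normalizer_iff.mp hg _).mp (four_mem hK).2
        have e : psi hK (z, x) * wF hK * (psi hK (z, x))⁻¹ = gen2 hK (x * wb * x⁻¹) := by
          rw [wF, gen2, gen2, ← map_inv, ← map_mul, ← map_mul]
          simp
        rw [e] at h2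
        obtain ⟨⟨z', x'⟩, hx', e'⟩ := h2
        obtain ⟨j, hj⟩ := (Subgroup.mem_prod.mp hx').2
        have hx'' : x * wb * x⁻¹ = x' := (congrArg Prod.snd (psi_inj hK e')).symm
        have hj' : wb ^ j = x' := hj
        rcases Int.even_or_odd j with ⟨i, rfl⟩ | ⟨i, rfl⟩
        · rw [← hj', ← two_mul, _root_.zpow_mul, zpow_two, (klein_rel hK).1, one_zpow] at hx''
          exact absurd (by simpa using hx'') hw1
        · rw [← hj', _root_.zpow_add, _root_.zpow_mul, zpow_two, (klein_rel hK).1, one_zpow, one_mul, zpow_one] at hx''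
          rw [← mul_inv_eq_iff_eq_mul.mp (show psi hK (z, x) * wF hK * (psi hK (z, x))⁻¹ = wF hK by
            rw [e, hx'']; rfl)]
    · have h' : g ∈ Subgroup.centralizer ({h0 hK, wF hK} : Set ↥(S hK).fix) := cFour_eq hK ▸ h
      exact (Subgroup.mem_centralizer_iff.mp h' _ (Or.inl rfl)).symm

theorem norFour_eq_aTor : norFour hK ≤ Subgroup.normalizer (aTor hK : Set ↥(S hK).fix) := fun g hg => by
  refine ToriGen.mem_normalizer_of_conj fun a ha => cFour_odd hK ?_ ?_
  · rw [cFour_eq hK, Subgroup.mem_centralizer_iff]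
    intro y hy
    have hy' : y ∈ four hK := by
      rcases hy with rfl | rfl
      exacts [(four_mem hK).1, (four_mem hK).2]
    have h' := (Subgroup.mem_normalizer_iff.mp (inv_mem hg) _).mp hy'
    rw [inv_inv] at h'
    have ac := cTor_comm hK (aTor_le hK ha) (four_le hK h')
    calc y * (g * a * g⁻¹) = g * (g⁻¹ * y * g * a) * g⁻¹ := by group
      _ = g * (a * (g⁻¹ * y * g)) * g⁻¹ := by rw [ac]
      _ = _ := by group
  · rw [show g * a * g⁻¹ = MulAut.conj g a from rfl, MulEquiv.orderOf_eq]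
    refine Odd.of_dvd_nat (kq_facts m).2.1 ?_
    rw [← card_aTor hK, ← Subgroup.orderOf_mk a ha]
    exact orderOf_dvd_natCard _

end CfsgLib.Chevalley.Twist.G2
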