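import Cfsg.Agent.Lib.Chevalley.Twist.G2Action
import Cfsg.Agent.Lib.Chevalley.Basic

/-!
Centralisers of involutions in ²G₂.
-/

set_option autoImplicit false
set_option maxRecDepth 20000
set_option Elab.async false

namespace CfsgLib.Chevalley.Twist.G2

open Tbl Matrix

local notation "T2" => Data.G2.tbl

section Gen

variable {F : Type*} [Field F] {G : Type*} [Group G]

/-- The lower unitriangular element. -/
def ly (t : F) : SpecialLinearGroup (Fin 2) F := ⟨!![1, 0; t, 1], by simp [Matrix.det_fin_two]⟩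

theorem wn_eq : (SL2.wn : SpecialLinearGroup (Fin 2) F) = SL2.ux 1 * ly (-1) * SL2.ux 1 := by
  refine Subtype.ext ?_
  show (!![0, 1; -1, 0] : Matrix (Fin 2) (Fin 2) F) = !![1, 1; 0, 1] * !![1, 0; -1, 1] * !![1, 1; 0, 1]
  ext i j
  fin_cases i <;> fin_cases j <;> simp [Matrix.mul_apply, Fin.sum_univ_two]

theorem dh_eq (c : Fˣ) : SL2.dh c * SL2.wn = SL2.ux (c : F) * ly (-(c : F)⁻¹) * SL2.ux (c : F) := by
  refine Subtype.ext ?_
  show (!![(c : F), 0; 0, (c : F)⁻¹] : Matrix (Fin 2) (Fin 2) F) * !![0, 1; -1, 0] =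
    !![1, (c : F); 0, 1] * !![1, 0; -(c : F)⁻¹, 1] * !![1, (c : F); 0, 1]
  ext i j
  fin_cases i <;> fin_cases j <;> simp [Matrix.mul_apply, Fin.sum_univ_two]

theorem sl2_mem (P : Subgroup (SpecialLinearGroup (Fin 2) F)) (hx : ∀ t, SL2.ux t ∈ P) (hy : ∀ t, ly t ∈ P)
    (g : SpecialLinearGroup (Fin 2) F) : g ∈ P := by
  have hn : SL2.wn ∈ P := wn_eq (F := F) ▸ mul_mem (mul_mem (hx _) (hy _)) (hx _)
  refine (Submonoid.closure_le (S := P.toSubmonoid)).mpr ?_ (SL2.exists_normal_form g)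
  rintro x ((⟨t, rfl⟩ | ⟨c, rfl⟩) | hx')
  · exact hx t
  · show _ ∈ P
    rw [show SL2.dh c = SL2.ux (c : F) * ly (-(c : F)⁻¹) * SL2.ux (c : F) * SL2.wn⁻¹ by
      rw [← dh_eq, mul_inv_cancel_right]]
    exact mul_mem (mul_mem (mul_mem (hx _) (hy _)) (hx _)) (inv_mem hn)
  · rw [Set.mem_singleton_iff] at hx'
    exact hx' ▸ hn

theorem hom_dh (S : SL2.Data F G) (c : Fˣ) : S.hom (SL2.dh c) = S.h c := by
  show S.map _ = _
  have := S.map_dh_mul c 1
  rwa [mul_one, S.map_one, mul_one] at this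

theorem hom_wn (S : SL2.Data F G) : S.hom SL2.wn = S.n := by
  show S.map _ = _
  have := S.map_wn_mul 1
  rwa [mul_one, S.map_one, mul_one] at this

theorem neg_dh : (SL2.dh (-1) : SpecialLinearGroup (Fin 2) F).1 = !![-1, 0; 0, -1] := by
  simp [SL2.dh, inv_neg]

end Gen

variable {K : Type*} [Field K] [Finite K] {m : ℕ} (hK : Nat.card K = 3 ^ (2 * m + 1))
include hK

omit hK [Finite K] in
/-- The homomorphism of the root `8`. -/
noncomputable def φ8 : SpecialLinearGroup (Fin 2) K →* GL (T2).I K :=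
  (Tbl.sl2Data (F := K) Data.G2.valid (lt_n).2.2.1).hom

omit hK [Finite K] in
/-- The homomorphism of the root `10`. -/
noncomputable def φ10 : SpecialLinearGroup (Fin 2) K →* GL (T2).I K :=
  (Tbl.sl2Data (F := K) Data.G2.valid (lt_n).2.2.2.2.1).hom

omit hK [Finite K] in
theorem φ8_ux (t : K) : φ8 (SL2.ux t) = (T2).xU K 8 t := SL2.Data.hom_upper _ _ t rfl

omit hK [Finite K] in
theorem φ10_ux (t : K) : φ10 (SL2.ux t) = (T2).xU K 10 t := SL2.Data.hom_upper _ _ t rfl

omit hK [Finite K] in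
theorem φ8_ly (t : K) : φ8 (ly t) = (T2).xU K 3 t :=
  (SL2.Data.hom_lower _ _ t rfl).trans (by
    show (T2).xU K ((T2).neg 8) t = _
    rw [show (T2).neg 8 = 3 by decide +kernel])

omit hK [Finite K] in
theorem φ10_ly (t : K) : φ10 (ly t) = (T2).xU K 1 t :=
  (SL2.Data.hom_lower _ _ t rfl).trans (by
    show (T2).xU K ((T2).neg 10) t = _
    rw [show (T2).neg 10 = 1 by decide +kernel])

theorem φ_comm (g g' : SpecialLinearGroup (Fin 2) K) : Commute (φ8 g) (φ10 g') := by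
  have hp : ∀ p ∈ [(8, 10), (8, 1), (3, 10), (3, 1)],
      (Nat.blt p.1 (T2).n && Nat.blt p.2 (T2).n && !Nat.beq p.2 ((T2).neg p.1) &&
      ((T2).commT p.1 p.2).all fun c => decide (c.2.1 % 3 = 0)) = true := by decide +kernel
  have key : ∀ a ∈ [8, 3], ∀ (s : K) (g' : SpecialLinearGroup (Fin 2) K),
      Commute ((T2).xU K a s) (φ10 g') := by
    intro a ha s g'
    refine sl2_mem ((Subgroup.centralizer {(T2).xU K a s}).comap φ10) (fun t => ?_) (fun t => ?_) g' _ rfl <;>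
      refine Subgroup.mem_centralizer_iff.mpr fun x hx => ?_ <;> rw [Set.mem_singleton_iff] at hx <;>
      subst hx <;> simp only [List.mem_cons, List.not_mem_nil, or_false] at ha
    · rw [φ10_ux]
      rcases ha with rfl | rfl
      · exact (commute_of hK (hp (8, 10) (by simp)) s t).eq
      · exact (commute_of hK (hp (3, 10) (by simp)) s t).eq
    · rw [φ10_ly]
      rcases ha with rfl | rfl
      · exact (commute_of hK (hp (8, 1) (by simp)) s t).eq
      · exact (commute_of hK (hp (3, 1) (by simp)) s t).eq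
  refine sl2_mem ((Subgroup.centralizer {φ10 g'}).comap φ8) (fun t => ?_) (fun t => ?_) g _ rfl |>.symm <;>
    refine Subgroup.mem_centralizer_iff.mpr fun x hx => ?_ <;> rw [Set.mem_singleton_iff] at hx <;> subst hx
  · rw [φ8_ux]; exact (key 8 (by simp) t g').eq.symm
  · rw [φ8_ly]; exact (key 3 (by simp) t g').eq.symm

/-- The twisted homomorphism. -/
noncomputable def Phi : SpecialLinearGroup (Fin 2) K →* GL (T2).I K where
  toFun g := φ8 (SpecialLinearGroup.map (theta hK).toRingHom g) * φ10 g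
  map_one' := by simp
  map_mul' g h := by
    rw [map_mul, map_mul, map_mul]
    exact (φ_comm hK _ g).mul_mul_mul_comm _ _

omit hK [Finite K] in
theorem ree_y (t : K) : ree m 0 t 0 = (T2).xU K 8 (t ^ 3 ^ m) * (T2).xU K 10 t := by
  obtain ⟨h6, h7, h8, h9, h10, h11⟩ := lt_n
  have h0 : (3 : ℕ) ^ m ≠ 0 := by positivity
  have h1 : 3 * 3 ^ m + 1 ≠ 0 := by positivity
  have h2 : 3 * 3 ^ m + 2 ≠ 0 := by positivity
  simp only [ree, hi, zero_pow h0, zero_pow h1, zero_pow h2, add_zero, xU_zero Data.G2.valid h6,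
    xU_zero Data.G2.valid h7, xU_zero Data.G2.valid h9, xU_zero Data.G2.valid h11, one_mul, mul_one]

theorem Phi_ux (t : K) : Phi hK (SL2.ux t) = ree m 0 t 0 := by
  have e : SpecialLinearGroup.map (theta hK).toRingHom (SL2.ux t) = SL2.ux (t ^ 3 ^ m) := by
    refine Subtype.ext ?_
    ext i j
    show theta hK _ = _
    fin_cases i <;> fin_cases j <;> simp [SL2.ux, theta_apply]
  show φ8 _ * φ10 _ = _
  rw [e, φ8_ux, φ10_ux, ree_y]

theorem Phi_ly_eq (t : K) : Phi hK (ly t) = (T2).xU K 3 (t ^ 3 ^ m) * (T2).xU K 1 t := by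
  have e : SpecialLinearGroup.map (theta hK).toRingHom (ly t) = ly (t ^ 3 ^ m) := by
    refine Subtype.ext ?_
    ext i j
    show theta hK _ = _
    fin_cases i <;> fin_cases j <;> simp [ly, theta_apply]
  show φ8 _ * φ10 _ = _
  rw [e, φ8_ly, φ10_ly]

theorem Phi_ly (t : K) : Phi hK (ly t) = rev m 0 (-t) 0 := by
  have hr : negMap.ρ Cfsg.Lie.g2a = 4 ∧ negMap.ρ Cfsg.Lie.g2b = 5 ∧ negMap.ρ Cfsg.Lie.g2ab = 3 ∧
      negMap.ρ Cfsg.Lie.g2aab = 2 ∧ negMap.ρ Cfsg.Lie.g2aaab = 1 ∧ negMap.ρ Cfsg.Lie.g2aaabb = 0 := by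
    decide +kernel
  obtain ⟨r4, r5, r3, r2, r1, r0⟩ := hr
  have hn : ∀ r ≤ 5, r < (T2).n := by decide +kernel
  have hodd : Odd (3 ^ m) := Odd.pow (by decide)
  have h0 : (3 : ℕ) ^ m ≠ 0 := by positivity
  have h1 : 2 * 3 ^ m + 1 ≠ 0 := by positivity
  rw [Phi_ly_eq hK]
  simp only [rev, negW, Cfsg.Lie.reeWordU, gprod, List.map_cons, List.map_nil, List.prod_cons, List.prod_nil,
    r4, r5, r3, r2, r1, r0, zero_pow h0, zero_pow h1, zero_pow (Nat.succ_ne_zero _), zero_add, add_zero,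
    neg_zero, hodd.neg_pow, neg_neg, xU_zero Data.G2.valid (hn 0 (by omega)),
    xU_zero Data.G2.valid (hn 2 (by omega)), xU_zero Data.G2.valid (hn 4 (by omega)),
    xU_zero Data.G2.valid (hn 5 (by omega)), one_mul, mul_one]

theorem Phi_mem (g : SpecialLinearGroup (Fin 2) K) : Phi hK g ∈ (S hK).fix := by
  refine sl2_mem ((S hK).fix.comap (Phi hK)) (fun t => ?_) (fun t => ?_) g <;> rw [Subgroup.mem_comap]
  · rw [Phi_ux]; exact ree_fix hK _ _ _
  · rw [Phi_ly]; exact neg_fix hK _ _ _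

theorem Phi_dh (c : Kˣ) :
    Phi hK (SL2.dh c) = (T2).dU ((T2).hCh 8 (c ^ 3 ^ m) * (T2).hCh 10 c) := by
  have e : SpecialLinearGroup.map (theta hK).toRingHom (SL2.dh c) = SL2.dh (c ^ 3 ^ m) := by
    refine Subtype.ext ?_
    ext i j
    show theta hK _ = _
    fin_cases i <;> fin_cases j <;> simp [SL2.dh, theta_apply]
  show φ8 _ * φ10 _ = _
  rw [e, φ8, φ10, hom_dh, hom_dh]
  exact dU_mul _ _

theorem Phi_dh_mem (c : Kˣ) :
    Phi hK (SL2.dh c) ∈ (T2).datum.diagonalSubgroup K ⊓ (S hK).fix := by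
  refine Subgroup.mem_inf.mpr ⟨?_, Phi_mem hK _⟩
  obtain ⟨h6, h7, h8, h9, h10, h11⟩ := lt_n
  rw [Phi_dh hK, ← dU_mul, ← hU_eq Data.G2.valid h8, ← hU_eq Data.G2.valid h10]
  exact mul_mem (Subgroup.subset_closure ⟨8, ((c ^ 3 ^ m : Kˣ) : K), h8, Units.ne_zero _,
      (hMat_eq Data.G2.valid h8 _).symm⟩)
    (Subgroup.subset_closure ⟨10, (c : K), h10, Units.ne_zero _, (hMat_eq Data.G2.valid h10 _).symm⟩)

/-- The parameter of `Φ (dh c)`. -/
theorem Phi_dh_eq (c : Kˣ) : Phi hK (SL2.dh c) = hd hK (c ^ (3 * 3 ^ m + 1)) := by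
  obtain ⟨d, hd'⟩ := exists_hd hK (Phi_dh_mem hK c)
  have e := hd'.trans (Phi_dh hK c)
  have h11 : (11 : ℕ) < (T2).n := (lt_n).2.2.2.2.2
  have e11 := dU_apply_inj (T := T2) (χ := fun s => ∏ i, par m d i ^ (T2).ca i s) e h11
  simp only [Pi.mul_apply, hCh, show (T2).pair 8 11 = 3 by decide +kernel,
    show (T2).pair 10 11 = 1 by decide +kernel] at e11
  have hl : (∏ i : Fin (T2).rank, par m d i ^ (T2).ca i.val 11) = d := by
    show ∏ i : Fin 2, par m d i ^ (T2).ca i.val 11 = d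
    rw [Fin.prod_univ_two, show (T2).ca (0 : Fin 2).val 11 = 0 by decide +kernel,
      show (T2).ca (1 : Fin 2).val 11 = 1 by decide +kernel]
    simp [par]
  rw [← hd', ← hl, e11]
  congr 1
  rw [zpow_one, zpow_ofNat, ← pow_mul, pow_succ, mul_comm (3 ^ m) 3]

theorem Phi_neg_one : Phi hK (SL2.dh (-1)) = 1 := by
  rw [Phi_dh_eq hK, show ((-1 : Kˣ)) ^ (3 * 3 ^ m + 1) = 1 from
    (((by decide : Odd 3).mul (Odd.pow (by decide))).add_one).neg_one_pow, map_one]

omit hK [Finite K] in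
theorem sq_eq_one {c : Kˣ} (h : c * c = 1) : c = 1 ∨ c = -1 := by
  rcases mul_self_eq_one_iff.mp (show (c : K) * c = 1 by rw [← Units.val_mul, h, Units.val_one]) with h | h
  · exact Or.inl (Units.ext h)
  · exact Or.inr (Units.ext (by rw [h, Units.val_neg, Units.val_one]))

theorem neg_one_ne : (-1 : Kˣ) ≠ 1 := by
  intro e
  have := congrArg (fun c : Kˣ => (c : K)) e
  simp only [Units.val_neg, Units.val_one] at this
  have h2 : (2 : K) = 0 := by linear_combination -this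
  exact one_ne_zero (by linear_combination three_eq_zero hK - h2 : (1 : K) = 0)

theorem pow_eq_one_iff {c : Kˣ} : c ^ (3 * 3 ^ m + 1) = 1 ↔ c = 1 ∨ c = -1 := by
  refine ⟨fun h => sq_eq_one ?_, ?_⟩
  · have e : (c : K) ^ (3 * 3 ^ m) * c = 1 := by rw [← pow_succ, ← Units.val_pow_eq_pow_val, h, Units.val_one]
    have e1 := congrArg (· ^ 3 ^ m) e
    simp only [mul_pow, pow_theta' hK, one_pow] at e1
    have e2 := congrArg (· ^ 3) e1
    simp only [mul_pow, one_pow, ← pow_mul, mul_comm (3 ^ m) 3] at e2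
    exact Units.ext (by
      rw [Units.val_mul, Units.val_one]
      exact mul_right_cancel₀ (mul_ne_zero (pow_ne_zero (3 * 3 ^ m) c.ne_zero) c.ne_zero)
        (by linear_combination e2 - e))
  · rintro (rfl | rfl)
    · exact one_pow _
    · exact (((by decide : Odd 3).mul (Odd.pow (by decide))).add_one).neg_one_pow

theorem Phi_n_not_borel : Phi hK SL2.wn ∉ (T2).datum.borelSubgroup K := by
  intro hn
  have h1 : Phi hK (SL2.ux 1) ∈ (T2).datum.posUnipotent K := by
    rw [Phi_ux]; exact (ree_mem_pos hK _ _ _).1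
  have h2 := borel_normalizes hn h1
  have e : SL2.wn * SL2.ux (1 : K) * SL2.wn⁻¹ = ly (-1) := by
    rw [mul_inv_eq_iff_eq_mul]
    refine Subtype.ext ?_
    show (!![0, 1; -1, 0] : Matrix (Fin 2) (Fin 2) K) * !![1, 1; 0, 1] = !![1, 0; -1, 1] * !![0, 1; -1, 0]
    ext i j
    fin_cases i <;> fin_cases j <;> simp [Matrix.mul_apply, Fin.sum_univ_two]
  rw [← map_inv, ← map_mul, ← map_mul, e, posUnipotent_rootGen Data.G2.valid] at h2
  have hlt : 3 < (T2).n ∧ 3 < (T2).half ∧ 1 < (T2).n ∧ 1 < (T2).half := by decide +kernel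
  have h4 := eq_one_of_pos_neg Data.G2.valid h2 (by
    rw [Phi_ly_eq hK]
    exact mul_mem (xU_mem_rootGen hlt.1 hlt.2.1 _) (xU_mem_rootGen hlt.2.2.1 hlt.2.2.2 _))
  have h5 : Phi hK (SL2.ux 1) = 1 := by
    rw [show SL2.ux (1 : K) = SL2.wn⁻¹ * ly (-1) * SL2.wn by rw [← e]; group, map_mul, map_mul, map_inv, h4]
    group
  rw [Phi_ux, ← ree0_one hK] at h5
  exact one_ne_zero (ree_inj hK h5).2.1

/-- Elements of `B` in the image come from upper triangular matrices. -/
theorem Phi_borel {g : SpecialLinearGroup (Fin 2) K} (h : Phi hK g ∈ (T2).datum.borelSubgroup K) :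
    ∃ (c : Kˣ) (t : K), g = SL2.dh c * SL2.ux t := by
  have hdet : g.1 0 0 * g.1 1 1 - g.1 0 1 * g.1 1 0 = 1 := by
    have := g.2; rwa [Matrix.det_fin_two] at this
  by_cases hc : g.1 1 0 = 0
  · have ha : g.1 0 0 ≠ 0 := fun h => by simp [h, hc] at hdet
    refine ⟨Units.mk0 _ ha, g.1 0 1 / g.1 0 0, ?_⟩
    apply Subtype.ext
    rw [SL2.val_dh_mul]
    have h11 : g.1 1 1 = (g.1 0 0)⁻¹ := by
      rw [hc, mul_zero, sub_zero] at hdet; exact eq_inv_of_mul_eq_one_right hdet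
    ext i j; fin_cases i <;> fin_cases j <;> simp [SL2.ux, hc, h11, mul_div_cancel₀ _ ha]
  · exfalso
    apply Phi_n_not_borel hK
    have e : g = SL2.ux (g.1 0 0 / g.1 1 0) *
        (SL2.dh (-(Units.mk0 _ hc)⁻¹) * (SL2.wn * SL2.ux (g.1 1 1 / g.1 1 0))) := by
      apply Subtype.ext
      rw [SL2.val_ux_mul, SL2.val_dh_mul, SL2.val_wn_mul]
      ext i j
      fin_cases i <;> fin_cases j <;> simp [SL2.ux] <;> field_simp
      linear_combination -hdet
    rw [e, map_mul, map_mul, map_mul] at h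
    have hu : ∀ t, Phi hK (SL2.ux t) ∈ (T2).datum.borelSubgroup K := fun t => by
      rw [Phi_ux]; exact pos_le_borel (ree_mem_pos hK _ _ _).1
    have hd : ∀ c, Phi hK (SL2.dh c) ∈ (T2).datum.borelSubgroup K := fun c =>
      Subgroup.mem_sup_right (Phi_dh_mem hK c).1
    have h1 := (mul_mem_cancel_left (hu _)).mp h
    have h2 := (mul_mem_cancel_left (hd _)).mp h1
    exact (mul_mem_cancel_right (hu _)).mp h2

theorem Phi_eq_one_iff {g : SpecialLinearGroup (Fin 2) K} :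
    Phi hK g = 1 ↔ g = 1 ∨ g = SL2.dh (-1) := by
  refine ⟨fun h => ?_, ?_⟩
  · obtain ⟨c, t, rfl⟩ := Phi_borel hK (g := g) (h ▸ one_mem _)
    rw [map_mul] at h
    have h1 : Phi hK (SL2.ux t) = 1 := by
      refine pos_diag_one ?_ ?_
      · rw [Phi_ux]; exact (ree_mem_pos hK _ _ _).1
      · rw [eq_inv_of_mul_eq_one_right h]; exact inv_mem (Phi_dh_mem hK c).1
    rw [h1, mul_one, Phi_dh_eq hK, ← map_one (hd hK)] at h
    have ht : t = 0 := by
      rw [Phi_ux, ← ree0_one hK] at h1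
      exact (ree_inj hK h1).2.1
    have hx : (SL2.ux (0 : K)) = 1 := by
      refine Subtype.ext ?_
      ext i j; fin_cases i <;> fin_cases j <;> simp [SL2.ux]
    rw [ht, hx, mul_one]
    rcases (pow_eq_one_iff hK).mp (hd_inj hK h) with rfl | rfl
    · refine Or.inl (Subtype.ext ?_)
      ext i j; fin_cases i <;> fin_cases j <;> simp [SL2.dh]
    · exact Or.inr rfl
  · rintro (rfl | rfl)
    · exact map_one _
    · exact Phi_neg_one hK

theorem ker_Phi : (Phi hK).ker = Subgroup.center (SpecialLinearGroup (Fin 2) K) := by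
  have hneg : (SL2.dh (-1) : SpecialLinearGroup (Fin 2) K).1 = Matrix.scalar (Fin 2) (-1) := by
    rw [neg_dh]
    ext i j; fin_cases i <;> fin_cases j <;> simp
  ext g
  rw [MonoidHom.mem_ker, Phi_eq_one_iff hK, Matrix.SpecialLinearGroup.mem_center_iff]
  constructor
  · rintro (rfl | rfl)
    · exact ⟨1, one_pow _, by simp⟩
    · exact ⟨-1, by simp, hneg.symm⟩
  · rintro ⟨r, hr, e⟩
    rw [Fintype.card_fin, sq_eq_one_iff] at hr
    rcases hr with rfl | rfl
    · exact Or.inl (Subtype.ext (by rw [← e]; simp))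
    · exact Or.inr (Subtype.ext (by rw [hneg, e]))

/-! The centraliser of the involution -/

theorem neg_one_conj (t u v : K) :
    hd hK (-1) * ree m t u v * (hd hK (-1))⁻¹ = ree m (-t) u (-v) := by
  rw [conj_hd hK]
  have hodd : Odd (3 * 3 ^ m) := (by decide : Odd 3).mul (Odd.pow (by decide))
  simp [hodd.neg_one_pow]

theorem neg_one_ne' : hd hK (-1) ≠ 1 := fun e =>
  neg_one_ne hK (hd_inj hK (e.trans (map_one (hd hK)).symm))

theorem diag_involution {x : GL (T2).I K} (hx : x ∈ (T2).datum.diagonalSubgroup K ⊓ (S hK).fix)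
    (h1 : x ≠ 1) (h2 : x * x = 1) : x = hd hK (-1) := by
  obtain ⟨c, rfl⟩ := exists_hd hK hx
  rw [← map_mul, ← map_one (hd hK)] at h2
  rcases sq_eq_one (hd_inj hK h2) with rfl | rfl
  · exact absurd (map_one _) h1
  · rfl

theorem mono_comm {n : GL (T2).I K} (hn : n ∈ (T2).datum.monomialSubgroup K ⊓ (S hK).fix) :
    n * hd hK (-1) * n⁻¹ = hd hK (-1) := by
  have hh := hd_mem hK (-1 : Kˣ)
  obtain ⟨w, -, hm⟩ := exists_mono Data.G2.valid hn.1
  refine diag_involution hK (Subgroup.mem_inf.mpr ⟨mem_diag_of_mono_one Data.G2.valid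
    (mul_mem (mul_mem hn.1 (diag_le_N Data.G2.valid hh.1)) (inv_mem hn.1)) ?_,
    mul_mem (mul_mem hn.2 hh.2) (inv_mem hn.2)⟩) (fun e => neg_one_ne' hK (by simpa using e)) ?_
  · have := (hm.mul (mono_diag Data.G2.valid hh.1)).mul hm.inv
    rwa [mul_one, mul_inv_cancel] at this
  · rw [show n * hd hK (-1) * n⁻¹ * (n * hd hK (-1) * n⁻¹) = n * (hd hK (-1) * hd hK (-1)) * n⁻¹ by group,
      ← map_mul, neg_one_mul, neg_neg, map_one, mul_one, mul_inv_cancel]

theorem Phi_comm (g : SpecialLinearGroup (Fin 2) K) : Commute (hd hK (-1)) (Phi hK g) := by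
  have hx : ∀ t, Commute (hd hK (-1)) (Phi hK (SL2.ux t)) := fun t => by
    rw [Phi_ux]
    exact mul_inv_eq_iff_eq_mul.mp (hd_neg_one_conj hK t)
  have hy : ∀ t : K, ly t = SL2.wn * SL2.ux (-t) * (SL2.wn)⁻¹ := fun t => by
    rw [eq_mul_inv_iff_mul_eq]
    refine Subtype.ext ?_
    show (!![1, 0; t, 1] : Matrix (Fin 2) (Fin 2) K) * !![0, 1; -1, 0] = !![0, 1; -1, 0] * !![1, -t; 0, 1]
    ext i j
    fin_cases i <;> fin_cases j <;> simp [Matrix.mul_apply, Fin.sum_univ_two]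
  have hw : Commute (hd hK (-1)) (Phi hK SL2.wn) := by
    have hN : Phi hK SL2.wn ∈ (T2).datum.monomialSubgroup K := by
      have e : SpecialLinearGroup.map (theta hK).toRingHom (SL2.wn : SpecialLinearGroup (Fin 2) K) = SL2.wn := by
        refine Subtype.ext ?_
        ext i j
        show theta hK _ = _
        fin_cases i <;> fin_cases j <;> simp [SL2.wn]
      show φ8 _ * φ10 _ ∈ _
      rw [e, φ8, φ10, hom_wn, hom_wn]
      exact mul_mem ((S hK).nU_mem_N ⟨8, (lt_n).2.2.1⟩ one_ne_zero)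
        ((S hK).nU_mem_N ⟨10, (lt_n).2.2.2.2.1⟩ one_ne_zero)
    exact (mul_inv_eq_iff_eq_mul.mp (mono_comm hK (Subgroup.mem_inf.mpr ⟨hN, Phi_mem hK _⟩))).symm
  refine (sl2_mem ((Subgroup.centralizer {hd hK (-1)}).comap (Phi hK)) (fun t => ?_) (fun t => ?_) g _ rfl :)
  · exact Subgroup.mem_centralizer_iff.mpr fun x h => by rw [Set.mem_singleton_iff.mp h]; exact (hx t).eq
  · exact Subgroup.mem_centralizer_iff.mpr fun x h => by
      rw [Set.mem_singleton_iff.mp h, hy, map_mul, map_mul, map_inv]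
      exact (((hw.mul_right (hx (-t))).mul_right hw.inv_right)).eq

theorem not_mem_range : hd hK (-1) ∉ (Phi hK).range := by
  rintro ⟨g, hg⟩
  obtain ⟨c, t, rfl⟩ := Phi_borel hK (g := g) (hg ▸ Subgroup.mem_sup_right (hd_mem hK _).1)
  rw [map_mul] at hg
  have h1 : Phi hK (SL2.ux t) = 1 := by
    refine pos_diag_one ?_ ?_
    · rw [Phi_ux]; exact (ree_mem_pos hK _ _ _).1
    · rw [← inv_mul_cancel_left (Phi hK (SL2.dh c)) (Phi hK (SL2.ux t)), hg]
      exact mul_mem (inv_mem (Phi_dh_mem hK c).1) (hd_mem hK _).1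
  rw [h1, mul_one, Phi_dh_eq hK] at hg
  have he := hd_inj hK hg
  obtain ⟨k, hk⟩ := half_card m
  have hodd : ((-1 : Kˣ)) ^ (2 * k + 1) = -1 := (odd_two_mul_add_one k).neg_one_pow
  have hev : (c ^ (3 * 3 ^ m + 1)) ^ (2 * k + 1) = 1 := by
    obtain ⟨j, hj⟩ : Even (3 * 3 ^ m + 1) := ((by decide : Odd 3).mul (Odd.pow (by decide : Odd 3))).add_one
    rw [← pow_mul, hj, show (j + j) * (2 * k + 1) = (2 * (2 * k + 1)) * j by ring, pow_mul, ← hk, ← hK,
      ← Nat.card_units, pow_card_eq_one', one_pow]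
  rw [he, hodd] at hev
  exact neg_one_ne hK hev

theorem hd_mem_prod (c : Kˣ) : hd hK c ∈ (Phi hK).range ∨ hd hK (-1) * hd hK c ∈ (Phi hK).range := by
  let f : Kˣ →* Kˣ := powMonoidHom (3 * 3 ^ m + 1)
  have hker : Nat.card ↥f.ker = 2 := by
    have e : (f.ker : Set Kˣ) = {1, -1} := Set.ext fun x => by
      rw [SetLike.mem_coe, MonoidHom.mem_ker]
      exact pow_eq_one_iff hK
    rw [← SetLike.coe_sort_coe, Nat.card_coe_set_eq, e, Set.ncard_pair (neg_one_ne hK).symm]
  have hi : f.range.index = 2 := by rw [Subgroup.index_range, hker]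
  have hf : ∀ x ∈ f.range, hd hK x ∈ (Phi hK).range := by
    rintro _ ⟨a, rfl⟩
    exact ⟨SL2.dh a, Phi_dh_eq hK a⟩
  by_cases hc : c ∈ f.range
  · exact Or.inl (hf _ hc)
  · refine Or.inr ?_
    rw [← map_mul]
    refine hf _ ((Subgroup.mul_mem_iff_of_index_two hi).mpr (iff_of_false ?_ hc))
    exact fun h => not_mem_range hK (hf _ h)

/-- The centraliser of the involution inside the fixed points. -/
noncomputable def cen : Subgroup (GL (T2).I K) := (S hK).fix ⊓ Subgroup.centralizer {hd hK (-1)}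

theorem mem_cen {g : GL (T2).I K} :
    g ∈ cen hK ↔ g ∈ (S hK).fix ∧ hd hK (-1) * g = g * hd hK (-1) := by
  rw [cen, Subgroup.mem_inf, Subgroup.mem_centralizer_iff]
  simp

theorem cen_pos {a : GL (T2).I K} (ha : a ∈ (T2).datum.posUnipotent K ⊓ (S hK).fix)
    (hc : hd hK (-1) * a * (hd hK (-1))⁻¹ = a) : a ∈ (Phi hK).range := by
  obtain ⟨t, u, v, rfl⟩ := exists_pos hK ha
  rw [neg_one_conj hK] at hc
  obtain ⟨ht, -, hv⟩ := ree_inj hK hc
  have key : ∀ x : K, -x = x → x = 0 := fun x h => by linear_combination x * three_eq_zero hK + h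
  rw [key t ht, key v hv]
  exact ⟨SL2.ux u, Phi_ux hK u⟩

theorem cen_canon {g : GL (T2).I K} (hg : g ∈ cen hK) (hB : g ∉ (T2).datum.borelSubgroup K) :
    ∃ a ∈ (Phi hK).range, ∃ n ∈ (T2).datum.monomialSubgroup K ⊓ (S hK).fix,
      (T2).Mono n ((S hK).wJ (O hK) (0 : Fin 1)) ∧ ∃ u ∈ (Phi hK).range, g = a * n * u := by
  obtain ⟨hgf, hgc⟩ := (mem_cen hK).mp hg
  obtain ⟨a, ha, n, hn, hm, u, hu, rfl⟩ := (canon hK hgf).resolve_left hB
  have hh := hd_mem hK (-1 : Kˣ)
  have ha' := diag_conj_pos hh.1 ha.1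
  have hu' := diag_conj_pos hh.1 hu.1
  have e : n * (u * (hd hK (-1) * u * (hd hK (-1))⁻¹)⁻¹) * n⁻¹ =
      a⁻¹ * (hd hK (-1) * a * (hd hK (-1))⁻¹) := by
    calc n * (u * (hd hK (-1) * u * (hd hK (-1))⁻¹)⁻¹) * n⁻¹
        = a⁻¹ * (a * n * u * hd hK (-1)) * (u⁻¹ * ((hd hK (-1))⁻¹ * n⁻¹)) := by group
      _ = a⁻¹ * (hd hK (-1) * (a * n * u)) * (u⁻¹ * ((hd hK (-1))⁻¹ * n⁻¹)) := by rw [← hgc]
      _ = a⁻¹ * (hd hK (-1) * a) * (n * (hd hK (-1))⁻¹ * n⁻¹) := by group
      _ = _ := by rw [← conj_inv, mono_comm hK hn]; group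
  have h1 : n * (u * (hd hK (-1) * u * (hd hK (-1))⁻¹)⁻¹) * n⁻¹ = 1 := by
    refine eq_one_of_pos_neg Data.G2.valid ?_ (conj_pos_neg hK hm (mul_mem hu.1 (inv_mem hu')))
    rw [e, ← posUnipotent_rootGen Data.G2.valid]
    exact mul_mem (inv_mem ha.1) ha'
  have h2 : a⁻¹ * (hd hK (-1) * a * (hd hK (-1))⁻¹) = 1 := e ▸ h1
  have h3 : u * (hd hK (-1) * u * (hd hK (-1))⁻¹)⁻¹ = 1 := by simpa using h1
  exact ⟨a, cen_pos hK ha (inv_mul_eq_one.mp h2).symm, n, hn, hm, u,
    cen_pos hK hu (mul_inv_eq_one.mp h3).symm, rfl⟩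

theorem Phi_mem_cen {x : GL (T2).I K} (hx : x ∈ (Phi hK).range) : x ∈ cen hK := by
  obtain ⟨g, rfl⟩ := hx
  exact (mem_cen hK).mpr ⟨Phi_mem hK g, (Phi_comm hK g).eq⟩

theorem cen_cases {g : GL (T2).I K} (hg : g ∈ cen hK) :
    g ∈ (Phi hK).range ∨ hd hK (-1) * g ∈ (Phi hK).range := by
  have hmove : ∀ p ∈ (Phi hK).range, ∀ c : Kˣ, ∀ p' ∈ (Phi hK).range,
      p * hd hK c * p' ∈ (Phi hK).range ∨ hd hK (-1) * (p * hd hK c * p') ∈ (Phi hK).range := by
    intro p hp c p' hp'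
    rcases hd_mem_prod hK c with h | h
    · exact Or.inl (mul_mem (mul_mem hp h) hp')
    · refine Or.inr ?_
      obtain ⟨y, rfl⟩ := hp
      rw [← mul_assoc, ← mul_assoc, (Phi_comm hK y).eq, mul_assoc (Phi hK y)]
      exact mul_mem (mul_mem ⟨y, rfl⟩ h) hp'
  obtain ⟨hgf, hgc⟩ := (mem_cen hK).mp hg
  by_cases hB : g ∈ (T2).datum.borelSubgroup K
  · obtain ⟨a, ha, h, hh, rfl⟩ := borel_parts hB
    have hcomm := diag_comm Data.G2.valid (hd_mem hK (-1 : Kˣ)).1 hh
    have haf : hd hK (-1) * a * (hd hK (-1))⁻¹ = a := by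
      rw [mul_inv_eq_iff_eq_mul]
      refine mul_right_cancel (b := h) ?_
      rw [mul_assoc, hgc, mul_assoc a h, ← hcomm, ← mul_assoc]
    obtain ⟨b, hb, h', hh', e⟩ : ∃ b ∈ (T2).datum.posUnipotent K ⊓ (S hK).fix,
        ∃ h' ∈ (T2).datum.diagonalSubgroup K ⊓ (S hK).fix, a * h = b * h' := by
      obtain ⟨p, hp, hpf, n, hn, hnf, w, hw, hm, q, hq, hqf, e⟩ := (S hK).fix_canonical hgf
      rcases W1_cases hK hw with rfl | rfl
      · have hq1 : q = 1 := by
          have h0 : q ∈ (⊥ : Subgroup (GL (T2).I K)) := Tbl.Twist.Uw_one (S := S hK) ▸ ⟨hqf, hq⟩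
          simpa using h0
        rw [← posUnipotent_rootGen Data.G2.valid] at hp
        exact ⟨p, Subgroup.mem_inf.mpr ⟨hp, hpf⟩, n,
          Subgroup.mem_inf.mpr ⟨mem_diag_of_mono_one Data.G2.valid hn hm, hnf⟩, by rw [e, hq1, mul_one]⟩
      · exfalso
        rw [← posUnipotent_rootGen Data.G2.valid] at hp
        have hq' : q ∈ (T2).datum.borelSubgroup K := by
          refine pos_le_borel ?_
          rw [posUnipotent_rootGen Data.G2.valid]
          exact rootGen_mono (fun r _ ⟨_, h, _⟩ => h) hq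
        rw [e] at hB
        exact n0_not_borel hK hm ((mul_mem_cancel_left (pos_le_borel hp)).mp
          ((mul_mem_cancel_right hq').mp hB))
    have hab : a = b := by
      have e2 : b⁻¹ * a = h' * h⁻¹ := by
        rw [eq_mul_inv_iff_mul_eq, mul_assoc, e, inv_mul_cancel_left]
      exact (inv_mul_eq_one.mp (pos_diag_one (mul_mem (inv_mem hb.1) ha)
        (e2 ▸ mul_mem hh'.1 (inv_mem hh)))).symm
    subst hab
    obtain rfl := mul_left_cancel e
    obtain ⟨c, rfl⟩ := exists_hd hK hh'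
    have := hmove a (cen_pos hK hb haf) c 1 (one_mem _)
    simpa using this
  · obtain ⟨a, ha, n, hn, hm, u, hu, rfl⟩ := cen_canon hK hg hB
    obtain ⟨a', ha', n', hn', hm', u', hu', e⟩ :=
      cen_canon hK (Phi_mem_cen hK ⟨_, rfl⟩) (Phi_n_not_borel hK)
    have hn'r : n' ∈ (Phi hK).range := by
      rw [show n' = a'⁻¹ * Phi hK SL2.wn * u'⁻¹ by rw [e]; group]
      exact mul_mem (mul_mem (inv_mem ha') ⟨_, rfl⟩) (inv_mem hu')
    obtain ⟨c, hc⟩ := exists_hd hK (Subgroup.mem_inf.mpr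
      ⟨mono_diff hK hn'.1 hn.1 hm' hm, mul_mem (inv_mem hn'.2) hn.2⟩)
    have := hmove (a * n') (mul_mem ha hn'r) c u hu
    rwa [hc, show a * n' * (n'⁻¹ * n) * u = a * n * u by group] at this

/-- `Φ` into the group of fixed points. -/
noncomputable def PhiF : SpecialLinearGroup (Fin 2) K →* ↥(S hK).fix :=
  (Phi hK).codRestrict _ (Phi_mem hK)

/-- The involution of the torus as a fixed point. -/
noncomputable def h0 : ↥(S hK).fix := ⟨hd hK (-1), (hd_mem hK _).2⟩

theorem h0_sq : h0 hK * h0 hK = 1 := Subtype.ext (by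
  show hd hK (-1) * hd hK (-1) = 1
  rw [← map_mul, neg_one_mul, neg_neg, map_one])

theorem h0_ne : h0 hK ≠ 1 := fun e => neg_one_ne' hK (congrArg Subtype.val e)

theorem PhiF_ker : (PhiF hK).ker = Subgroup.center _ := by
  rw [PhiF, MonoidHom.ker_codRestrict, ker_Phi]

/-- The embedding of `PSL₂`. -/
noncomputable def PhiBar : ProjectiveSpecialLinearGroup (Fin 2) K →* ↥(S hK).fix :=
  QuotientGroup.lift _ (PhiF hK) (PhiF_ker hK).ge

theorem PhiBar_inj : Function.Injective (PhiBar hK) := by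
  refine (injective_iff_map_eq_one _).mpr fun x hx => ?_
  induction x using QuotientGroup.induction_on with | H x =>
  rw [PhiBar, QuotientGroup.lift_mk] at hx
  exact (QuotientGroup.eq_one_iff _).mpr ((PhiF_ker hK).le hx)

/-- The group of order two generated by the involution. -/
noncomputable def iota : Multiplicative (ZMod 2) →* ↥(S hK).fix where
  toFun z := h0 hK ^ (Multiplicative.toAdd z).val
  map_one' := by simp
  map_mul' a b := by
    rw [← pow_add, toAdd_mul, ZMod.val_add]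
    exact (pow_eq_pow_mod _ (show h0 hK ^ 2 = 1 by rw [pow_two, h0_sq])).symm

theorem iota_cases (z : Multiplicative (ZMod 2)) : iota hK z = 1 ∨ iota hK z = h0 hK := by
  have : (Multiplicative.toAdd z).val = 0 ∨ (Multiplicative.toAdd z).val = 1 := by
    have := ZMod.val_lt (Multiplicative.toAdd z); omega
  rcases this with h | h
  · exact Or.inl (by show h0 hK ^ _ = 1; rw [h, pow_zero])
  · exact Or.inr (by show h0 hK ^ _ = _; rw [h, pow_one])

theorem iota_inj : Function.Injective (iota hK) := by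
  refine (injective_iff_map_eq_one _).mpr fun z hz => ?_
  have : (Multiplicative.toAdd z).val = 0 ∨ (Multiplicative.toAdd z).val = 1 := by
    have := ZMod.val_lt (Multiplicative.toAdd z); omega
  rcases this with h | h
  · exact Multiplicative.toAdd.injective ((ZMod.val_eq_zero _).mp h)
  · exfalso
    have hz' : h0 hK ^ (Multiplicative.toAdd z).val = 1 := hz
    rw [h, pow_one] at hz'
    exact h0_ne hK hz'

theorem h0_PhiBar_comm (x : ProjectiveSpecialLinearGroup (Fin 2) K) : Commute (h0 hK) (PhiBar hK x) := by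
  induction x using QuotientGroup.induction_on with | H x =>
  exact Subtype.ext (Phi_comm hK x).eq

theorem iota_comm (z : Multiplicative (ZMod 2)) (x : ProjectiveSpecialLinearGroup (Fin 2) K) :
    Commute (iota hK z) (PhiBar hK x) := by
  rcases iota_cases hK z with h | h <;> rw [h]
  · exact Commute.one_left _
  · exact h0_PhiBar_comm hK x

/-- The isomorphism onto the centraliser. -/
noncomputable def psi : Multiplicative (ZMod 2) × ProjectiveSpecialLinearGroup (Fin 2) K →* ↥(S hK).fix :=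
  (iota hK).noncommCoprod (PhiBar hK) (iota_comm hK)

theorem PhiBar_range {g : ↥(S hK).fix} :
    g ∈ (PhiBar hK).range ↔ (g : GL (T2).I K) ∈ (Phi hK).range := by
  constructor
  · rintro ⟨x, rfl⟩
    induction x using QuotientGroup.induction_on with | H x =>
    exact ⟨x, rfl⟩
  · rintro ⟨x, hx⟩
    exact ⟨QuotientGroup.mk x, Subtype.ext hx⟩

theorem psi_inj : Function.Injective (psi hK) := by
  refine (MonoidHom.noncommCoprod_injective _ _ _).mpr ⟨iota_inj hK, PhiBar_inj hK, ?_⟩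
  rw [Subgroup.disjoint_def]
  rintro _ ⟨z, rfl⟩ hz
  rcases iota_cases hK z with h | h
  · exact h
  · exact absurd (PhiBar_range hK |>.mp (h ▸ hz)) (not_mem_range hK)

theorem psi_range : (psi hK).range = Subgroup.centralizer {h0 hK} := by
  refine le_antisymm ?_ fun g hg => ?_
  · rintro _ ⟨⟨z, x⟩, rfl⟩
    rw [Subgroup.mem_centralizer_iff]
    rintro y rfl
    rw [psi, MonoidHom.noncommCoprod_apply]
    refine (Commute.mul_right ?_ (h0_PhiBar_comm hK x)).eq
    rcases iota_cases hK z with h | h <;> rw [h]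
    exacts [Commute.one_right _, Commute.refl _]
  · have hc : h0 hK * g = g * h0 hK := Subgroup.mem_centralizer_iff.mp hg _ rfl
    have hmem : ∀ x : ↥(S hK).fix, x ∈ (PhiBar hK).range → x ∈ (psi hK).range := by
      rintro _ ⟨x, rfl⟩
      exact ⟨(1, x), by rw [psi, MonoidHom.noncommCoprod_apply, map_one, one_mul]⟩
    rcases cen_cases hK ((mem_cen hK).mpr ⟨g.2, congrArg Subtype.val hc⟩) with h | h
    · exact hmem g ((PhiBar_range hK).mpr h)
    · have h1 := hmem (h0 hK * g) ((PhiBar_range hK).mpr h)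
      have h2 : h0 hK ∈ (psi hK).range := by
        refine ⟨((Multiplicative.ofAdd (1 : ZMod 2) : Multiplicative (ZMod 2)), 1), ?_⟩
        rw [psi, MonoidHom.noncommCoprod_apply]; dsimp only; rw [map_one (PhiBar hK), mul_one]
        show h0 hK ^ (Multiplicative.toAdd (Multiplicative.ofAdd (1 : ZMod 2))).val = _
        rw [toAdd_ofAdd, ZMod.val_one, pow_one]
      exact (mul_mem_cancel_left h2).mp h1

/-- The centraliser of the involution. -/
noncomputable def cenEquiv : ↥(Subgroup.centralizer {h0 hK}) ≃*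
    Multiplicative (ZMod 2) × ProjectiveSpecialLinearGroup (Fin 2) K :=
  ((MonoidHom.ofInjective (psi_inj hK)).trans (MulEquiv.subgroupCongr (psi_range hK))).symm

end CfsgLib.Chevalley.Twist.G2
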