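import Cfsg.Agent.Lib.Chevalley.Twist.G2Conj

/-!
The numbers of elements of given orders in ²G₂.
-/

set_option autoImplicit false
set_option maxRecDepth 20000
set_option Elab.async false

namespace CfsgLib.Chevalley.Twist.G2

open Tbl

local notation "T2" => Data.G2.tbl

/-- Elements of a given order inside conjugates of a trivial intersection set. -/
theorem order_count {G : Type*} [Group G] [Finite G] (N T : Subgroup G) (i : ℕ)
    (hN : ∀ n ∈ N, ∀ d ∈ T, orderOf d = i → n * d * n⁻¹ ∈ T)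
    (hti : ∀ g : G, ∀ d ∈ T, orderOf d = i → g * d * g⁻¹ ∈ T → g ∈ N)
    (hall : ∀ g : G, orderOf g = i → ∃ k : G, k * g * k⁻¹ ∈ T) :
    Nat.card {g : G // orderOf g = i} * Nat.card ↥N = Nat.card G * Nat.card {d : ↥T // orderOf d = i} := by
  have ho : ∀ k g : G, orderOf (k * g * k⁻¹) = orderOf g := fun k g =>
    MulEquiv.orderOf_eq (MulAut.conj k) g
  set D : Set G := {d | d ∈ T ∧ orderOf d = i} with hD
  have h := ToriGen.ti_count N D (fun n hn d hd => ⟨hN n hn d hd.1 hd.2, by rw [ho]; exact hd.2⟩)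
    (fun g d hd hgd => hti g d hd.1 hd.2 hgd.1)
  have he : ToriGen.conjUnion D = {g | orderOf g = i} := by
    ext g
    constructor
    · rintro ⟨k, d, hd, rfl⟩
      show orderOf (k * d * k⁻¹) = i
      rw [ho]; exact hd.2
    · intro hg
      obtain ⟨k, hk⟩ := hall g hg
      exact ⟨k⁻¹, k * g * k⁻¹, ⟨hk, by rw [ho]; exact hg⟩, by group⟩
  rw [he] at h
  refine h.trans (congrArg _ ?_)
  exact Nat.card_congr
    { toFun := fun d => ⟨⟨d.1, d.2.1⟩, by rw [Subgroup.orderOf_mk]; exact d.2.2⟩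
      invFun := fun d => ⟨d.1.1, d.1.2, by rw [Subgroup.orderOf_coe]; exact d.2⟩
      left_inv := fun d => rfl
      right_inv := fun d => rfl }

theorem card_order_eq {G : Type*} [Group G] [Finite G] (T : Subgroup G) [IsCyclic ↥T] {i : ℕ}
    (h : i ∣ Nat.card ↥T) : Nat.card {d : ↥T // orderOf d = i} = i.totient := by
  classical
  have : Fintype ↥T := Fintype.ofFinite _
  rw [Nat.card_eq_fintype_card, Fintype.card_subtype]
  exact IsCyclic.card_orderOf_eq_totient (by rwa [← Nat.card_eq_fintype_card])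

/-- Invariant properties with a unique fixed point. -/
theorem point_count {G X : Type*} [Group G] [MulAction G X] [MulAction.IsPretransitive G X] [Finite G]
    (P : G → Prop) (hP : ∀ k g : G, P g → P (k * g * k⁻¹)) (x0 : X)
    (huniq : ∀ g, P g → ∃! x : X, g • x = x) :
    Nat.card {g : G // P g} = Nat.card X * Nat.card {g : G // P g ∧ g • x0 = x0} := by
  choose k hk using fun x : X => MulAction.exists_smul_eq G x0 x
  rw [← Nat.card_prod]
  refine (Nat.card_eq_of_bijective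
    (fun p : X × {g : G // P g ∧ g • x0 = x0} => (⟨k p.1 * p.2.1 * (k p.1)⁻¹, hP _ _ p.2.2.1⟩ : {g : G // P g}))
    ⟨?_, ?_⟩).symm
  · rintro ⟨x, g, hg⟩ ⟨y, h, hh⟩ e
    have e' : k x * g * (k x)⁻¹ = k y * h * (k y)⁻¹ := congrArg Subtype.val e
    have hfix : ∀ (z : X) (f : G), f • x0 = x0 → (k z * f * (k z)⁻¹) • z = z := fun z f hf => by
      rw [mul_smul, mul_smul, show (k z)⁻¹ • z = x0 by rw [inv_smul_eq_iff, hk], hf, hk]
    obtain rfl : x = y := (huniq _ (hP (k x) g hg.1)).unique (hfix x g hg.2) (e' ▸ hfix y h hh.2)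
    exact Prod.ext rfl (Subtype.ext (mul_left_cancel (mul_right_cancel e')))
  · rintro ⟨g, hg⟩
    obtain ⟨x, hx, -⟩ := huniq g hg
    refine ⟨(x, ⟨(k x)⁻¹ * g * k x, ?_, ?_⟩), Subtype.ext (show k x * ((k x)⁻¹ * g * k x) * (k x)⁻¹ = g by group)⟩
    · have := hP (k x)⁻¹ g hg
      rwa [inv_inv] at this
    · rw [mul_smul, mul_smul, hk, hx, inv_smul_eq_iff, hk]

variable {K : Type*} [Field K] [Finite K] {m : ℕ} (hK : Nat.card K = 3 ^ (2 * m + 1))
include hK

omit hK [Field K] [Finite K] in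
theorem coprime_three (m : ℕ) : Nat.Coprime 3 (3 ^ (2 * m + 1) - 1) := by
  refine (Nat.prime_three.coprime_iff_not_dvd).mpr fun h => ?_
  obtain ⟨h1, -, h3, -⟩ := q_facts m
  omega

theorem three_uniq {u : ↥(S hK).fix} (hu : orderOf u = 3) : ∃! x : Pts hK, u • x = x := by
  obtain ⟨k, hk⟩ := conj_into_Upart hK hu
  have hu1 : k * u * k⁻¹ ≠ 1 := fun e => by
    rw [conj_eq_one_iff] at e
    rw [e, orderOf_one] at hu
    omega
  refine ⟨k⁻¹ • pInf hK, ?_, fun x hx => ?_⟩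
  · show u • (k⁻¹ • pInf hK) = k⁻¹ • pInf hK
    rw [eq_inv_smul_iff, smul_smul, smul_smul]
    exact MulAction.mem_stabilizer_iff.mp ((stab_pInf hK).mpr ⟨_, hk, 1, by rw [map_one, mul_one]⟩)
  · rw [eq_inv_smul_iff]
    exact fix_Upart hK hk hu1 (by rw [smul_smul, inv_mul_cancel_right, mul_smul, hx])

theorem uniq_of_order {n : ℕ} (hn : 3 ∣ n) {g : ↥(S hK).fix} (hg : orderOf g = n) :
    ∃! x : Pts hK, g • x = x := by
  obtain ⟨k, hk, hc⟩ := exists_prime_pow_comm (hg ▸ hn)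
  obtain ⟨x, hx⟩ := three_comm hK hk hc
  refine ⟨x, hx, fun y hy => (three_uniq hK hk).unique ?_ ?_⟩
  · exact MulAction.mem_stabilizer_iff.mp (pow_mem (MulAction.mem_stabilizer_iff.mpr hy) k)
  · exact MulAction.mem_stabilizer_iff.mp (pow_mem (MulAction.mem_stabilizer_iff.mpr hx) k)

theorem point_order {n : ℕ} (hn : 3 ∣ n) :
    Nat.card {g : ↥(S hK).fix // orderOf g = n} = ((3 ^ (2 * m + 1)) ^ 3 + 1) *
      Nat.card {g : ↥(S hK).fix // orderOf g = n ∧ g • pInf hK = pInf hK} := by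
  rw [← card_Pts hK]
  exact point_count (fun g : ↥(S hK).fix => orderOf g = n)
    (fun k g h => (MulEquiv.orderOf_eq (MulAut.conj k) g).trans h) (pInf hK) fun g hg => uniq_of_order hK hn hg

theorem pow_stab {u : ↥(S hK).fix} (hu : u ∈ Upart hK) (c : Kˣ) (k : ℕ) :
    ∃ b ∈ Upart hK, (u * hF hK c) ^ k = b * hF hK (c ^ k) := by
  induction k with
  | zero => exact ⟨1, one_mem _, by simp⟩
  | succ k ih =>
    obtain ⟨b, hb, eb⟩ := ih
    refine ⟨b * (hF hK (c ^ k) * u * (hF hK (c ^ k))⁻¹), mul_mem hb ?_, ?_⟩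
    · exact Subgroup.mem_subgroupOf.mpr ⟨diag_conj_pos (hd_mem hK _).1 (Subgroup.mem_subgroupOf.mp hu).1,
        (hF hK (c ^ k) * u * (hF hK (c ^ k))⁻¹).2⟩
    · rw [pow_succ, eb, pow_succ, map_mul]; group

theorem Upart_diag {c : Kˣ} (h : hF hK c ∈ Upart hK) : c = 1 := by
  refine hF_inj hK (Subtype.ext ?_)
  rw [map_one, OneMemClass.coe_one]
  exact pos_diag_one (Subgroup.mem_subgroupOf.mp h).1 (hd_mem hK c).1

theorem pow_stab_one {u : ↥(S hK).fix} (hu : u ∈ Upart hK) {c : Kˣ} {k : ℕ}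
    (h : (u * hF hK c) ^ k = 1) : c ^ k = 1 := by
  obtain ⟨b, hb, eb⟩ := pow_stab hK hu c k
  rw [h] at eb
  refine Upart_diag hK ?_
  rw [eq_inv_of_mul_eq_one_right eb.symm]
  exact inv_mem hb

theorem stab_Upart {g : ↥(S hK).fix} (hg : g • pInf hK = pInf hK) {n : ℕ}
    (hn : Nat.Coprime n (3 ^ (2 * m + 1) - 1)) (h : g ^ n = 1) : g ∈ Upart hK := by
  obtain ⟨u, hu, c, rfl⟩ := (stab_pInf hK).mp (MulAction.mem_stabilizer_iff.mpr hg)
  have h2 : orderOf c ∣ 3 ^ (2 * m + 1) - 1 := by rw [← hK, ← Nat.card_units]; exact orderOf_dvd_natCard c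
  rw [orderOf_eq_one_iff.mp (Nat.eq_one_of_dvd_coprimes hn (orderOf_dvd_of_pow_eq_one (pow_stab_one hK hu h)) h2),
    map_one, mul_one]
  exact hu

/-- The parameters of `Upart`. -/
noncomputable def reeEquiv : K × K × K ≃ ↥(Upart hK) :=
  Equiv.ofBijective (fun p => ⟨⟨ree m p.1 p.2.1 p.2.2, (ree_mem_pos hK _ _ _).2⟩,
    Subgroup.mem_subgroupOf.mpr (ree_mem_pos hK _ _ _)⟩)
    ⟨fun p p' e => by
      obtain ⟨h1, h2, h3⟩ := ree_inj hK (congrArg (fun z : ↥(Upart hK) => ((z.1 : ↥(S hK).fix) : GL (T2).I K)) e)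
      exact Prod.ext h1 (Prod.ext h2 h3),
    fun u => by
      obtain ⟨t, a, b, e⟩ := ree_three_dvd hK u.2
      exact ⟨(t, a, b), Subtype.ext (Subtype.ext e.symm)⟩⟩

theorem reeEquiv_val (p : K × K × K) :
    (((reeEquiv hK p).1 : ↥(S hK).fix) : GL (T2).I K) = ree m p.1 p.2.1 p.2.2 := rfl

theorem reeEquiv_cube (p : K × K × K) : ((reeEquiv hK p).1 : ↥(S hK).fix) ^ 3 = 1 ↔ p.1 = 0 := by
  rw [← ree_cube hK p.1 p.2.1 p.2.2, ← reeEquiv_val hK p]
  refine ⟨fun h => ?_, fun h => Subtype.ext ?_⟩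
  · simpa using congrArg (fun z : ↥(S hK).fix => (z : GL (T2).I K)) h
  · simpa using h

theorem stab_of_Upart {u : ↥(S hK).fix} (hu : u ∈ Upart hK) : u • pInf hK = pInf hK :=
  MulAction.mem_stabilizer_iff.mp ((stab_pInf hK).mpr ⟨u, hu, 1, by rw [map_one, mul_one]⟩)

theorem card_three : Nat.card {g : ↥(S hK).fix // orderOf g = 3} =
    ((3 ^ (2 * m + 1)) ^ 2 - 1) * ((3 ^ (2 * m + 1)) ^ 3 + 1) := by
  classical
  have : Fintype K := Fintype.ofFinite K
  rw [point_order hK dvd_rfl, mul_comm]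
  congr 1
  have e : {g : ↥(S hK).fix // orderOf g = 3 ∧ g • pInf hK = pInf hK} ≃ {p : K × K // p ≠ 0} :=
    (Equiv.ofBijective (fun p : {p : K × K // p ≠ 0} =>
      (⟨(reeEquiv hK (0, p.1)).1, ⟨orderOf_eq_prime ((reeEquiv_cube hK _).mpr rfl) fun e => p.2 ?_,
        stab_of_Upart hK (reeEquiv hK (0, p.1)).2⟩⟩ : {g : ↥(S hK).fix // orderOf g = 3 ∧ g • pInf hK = pInf hK}))
      ⟨fun p p' h => ?_, fun g => ?_⟩).symm
  · rw [Nat.card_congr e, Nat.card_eq_fintype_card, Fintype.card_subtype_compl, Fintype.card_subtype_eq,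
      Fintype.card_prod, ← Nat.card_eq_fintype_card, hK, pow_two]
  · have e' : reeEquiv hK (0, p.1) = reeEquiv hK (0, 0, 0) := by
      refine Subtype.ext (e.trans (Subtype.ext ?_))
      rw [reeEquiv_val, OneMemClass.coe_one, ree0_one hK]
    exact congrArg Prod.snd ((reeEquiv hK).injective e')
  · have h0 : (reeEquiv hK (0, p.1)).1 = (reeEquiv hK (0, p'.1)).1 := by have := congrArg Subtype.val h; exact this
    exact Subtype.ext (congrArg Prod.snd ((reeEquiv hK).injective (Subtype.ext h0)))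
  · obtain ⟨g, hg3, hg⟩ := g
    have hU := stab_Upart hK hg (n := 3) (coprime_three m) (hg3 ▸ pow_orderOf_eq_one g)
    obtain ⟨p, hp⟩ := (reeEquiv hK).surjective ⟨g, hU⟩
    have hp0 : p.1 = 0 := (reeEquiv_cube hK p).mp (by
      rw [hp]; exact hg3 ▸ pow_orderOf_eq_one g)
    have hpp : p = (0, p.2) := Prod.ext hp0 rfl
    refine ⟨⟨p.2, fun h0 => ?_⟩, Subtype.ext ?_⟩
    · have : g = 1 := by
        have e1 := congrArg Subtype.val hp
        rw [hpp, h0] at e1
        refine (e1.symm.trans (Subtype.ext ?_))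
        rw [OneMemClass.coe_one, reeEquiv_val]
        exact ree0_one hK
      rw [this, orderOf_one] at hg3
      omega
    · show (reeEquiv hK (0, p.2)).1 = g
      rw [← hpp, hp]

theorem card_nine : Nat.card {g : ↥(S hK).fix // orderOf g = 9} =
    (3 ^ (2 * m + 1)) ^ 2 * (3 ^ (2 * m + 1) - 1) * ((3 ^ (2 * m + 1)) ^ 3 + 1) := by
  classical
  have : Fintype K := Fintype.ofFinite K
  have : Fact (Nat.Prime 3) := ⟨Nat.prime_three⟩
  rw [point_order hK (by norm_num), mul_comm]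
  congr 1
  have e : {g : ↥(S hK).fix // orderOf g = 9 ∧ g • pInf hK = pInf hK} ≃ {t : K // t ≠ 0} × K × K :=
    (Equiv.ofBijective (fun p : {t : K // t ≠ 0} × K × K =>
      (⟨(reeEquiv hK (p.1.1, p.2)).1, ⟨orderOf_eq_prime_pow (p := 3) (n := 1) (fun e => p.1.2 ?_)
        (Upart_nine hK (reeEquiv hK (p.1.1, p.2)).2),
        stab_of_Upart hK (reeEquiv hK (p.1.1, p.2)).2⟩⟩ : {g : ↥(S hK).fix // orderOf g = 9 ∧ g • pInf hK = pInf hK}))
      ⟨fun p p' h => ?_, fun g => ?_⟩).symm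
  · rw [Nat.card_congr e, Nat.card_prod, Nat.card_prod, Nat.card_eq_fintype_card,
      Fintype.card_subtype_compl, Fintype.card_subtype_eq, ← Nat.card_eq_fintype_card, hK]
    ring
  · rw [pow_one] at e
    exact (reeEquiv_cube hK _).mp e
  · have h0 : (reeEquiv hK (p.1.1, p.2)).1 = (reeEquiv hK (p'.1.1, p'.2)).1 := by have := congrArg Subtype.val h; exact this
    have h' := (reeEquiv hK).injective (Subtype.ext h0)
    have h1 := congrArg Prod.fst h'
    have h2 := congrArg Prod.snd h'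
    exact Prod.ext (Subtype.ext h1) h2
  · obtain ⟨g, hg9, hg⟩ := g
    have hU := stab_Upart hK hg (n := 9) (Nat.Coprime.pow_left 2 (coprime_three m)) (hg9 ▸ pow_orderOf_eq_one g)
    obtain ⟨p, hp⟩ := (reeEquiv hK).surjective ⟨g, hU⟩
    have hp0 : p.1 ≠ 0 := fun h0 => by
      have h3 := (reeEquiv_cube hK p).mpr h0
      rw [hp] at h3
      have := orderOf_dvd_of_pow_eq_one h3
      rw [hg9] at this
      omega
    exact ⟨(⟨p.1, hp0⟩, p.2), Subtype.ext (show (reeEquiv hK (p.1, p.2)).1 = g from congrArg Subtype.val hp)⟩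

theorem hF_sq_one : hF hK (-1) * hF hK (-1) = 1 := by rw [← map_mul, neg_one_mul, neg_neg, map_one]

/-- The coset of the involution of the torus in the stabiliser. -/
theorem coset_order {u : ↥(S hK).fix} (hu : u ∈ Upart hK) :
    orderOf (u * hF hK (-1)) = 2 ∨ orderOf (u * hF hK (-1)) = 6 := by
  set g := u * hF hK (-1) with hgdef
  have hfix : g • pInf hK = pInf hK := MulAction.mem_stabilizer_iff.mp ((stab_pInf hK).mpr ⟨u, hu, -1, rfl⟩)
  have heven : ∀ k, g ^ k = 1 → 2 ∣ k := by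
    intro k hk
    have h1 := pow_stab_one hK hu hk
    by_contra h2
    rw [(Nat.odd_iff.mpr (by omega)).neg_one_pow] at h1
    exact neg_one_ne hK h1
  have he := heven _ (pow_orderOf_eq_one g)
  have h2U : g ^ 2 ∈ Upart hK := by
    obtain ⟨b, hb, eb⟩ := pow_stab hK hu (-1) 2
    rw [hgdef, eb, neg_one_sq, map_one, mul_one]
    exact hb
  rcases order_stab hK hfix with h | h | h
  · have : orderOf g ∈ Nat.divisors 6 := Nat.mem_divisors.mpr ⟨h, by norm_num⟩
    rw [show Nat.divisors 6 = {1, 2, 3, 6} by decide] at this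
    simp only [Finset.mem_insert, Finset.mem_singleton] at this
    omega
  · have := he.trans h
    omega
  · left
    have h3 : g ^ 2 = 1 := by
      refine orderOf_eq_one_iff.mp (Nat.eq_one_of_dvd_coprimes (Nat.Coprime.pow_left 2 (coprime_three m))
        (orderOf_dvd_of_pow_eq_one (Upart_nine hK h2U)) ?_)
      exact (orderOf_pow_dvd 2).trans h
    refine orderOf_eq_prime (p := 2) h3 fun e => ?_
    have := heven 1 (by rw [pow_one, e])
    omega

theorem invol_coset {u : ↥(S hK).fix} (hu : u ∈ Upart hK) (h : orderOf (u * hF hK (-1)) = 2) :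
    ∃ v ∈ Upart hK, v * hF hK (-1) * v⁻¹ = u * hF hK (-1) := by
  set B := MulAction.stabilizer ↥(S hK).fix (pInf hK)
  have : Fact (Nat.Prime 2) := ⟨Nat.prime_two⟩
  let b0 : ↥B := ⟨hF hK (-1), (stab_pInf hK).mpr ⟨1, one_mem _, -1, (one_mul _).symm⟩⟩
  have hb0 : orderOf b0 = 2 := by
    rw [Subgroup.orderOf_mk]
    exact orderOf_eq_prime (by rw [pow_two]; exact hF_sq_one hK) (h0_ne hK)
  obtain ⟨h1, h8, h3, -⟩ := q_facts m
  obtain ⟨k, hk⟩ := ToriGen.conj_into (Subgroup.zpowers b0) (p := 2) (by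
    rw [Nat.card_zpowers, hb0, card_stab_pInf hK, Nat.prime_two.factorization_self,
      Nat.factorization_mul (by positivity) (by omega), Finsupp.add_apply,
      Nat.factorization_eq_zero_of_not_dvd (fun hd => by
        have := Nat.prime_two.dvd_of_dvd_pow hd
        omega), zero_add]
    obtain ⟨j, hj⟩ : ∃ j, 3 ^ (2 * m + 1) - 1 = 2 * (2 * j + 1) := ⟨(3 ^ (2 * m + 1) - 3) / 4, by omega⟩
    rw [hj, Nat.factorization_mul (by norm_num) (by omega), Finsupp.add_apply,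
      Nat.prime_two.factorization_self, Nat.factorization_eq_zero_of_not_dvd (by omega)])
    (y := (⟨u * hF hK (-1), (stab_pInf hK).mpr ⟨u, hu, -1, rfl⟩⟩ : ↥B)) (k := 1)
    (by rw [Subgroup.orderOf_mk, h, pow_one])
  obtain ⟨w, hw, c, hwc⟩ := (stab_pInf hK).mp k⁻¹.2
  refine ⟨w, hw, ?_⟩
  obtain ⟨j, hj⟩ := hk
  have hj' : hF hK (-1) ^ j = (k : ↥(S hK).fix) * (u * hF hK (-1)) * (k : ↥(S hK).fix)⁻¹ :=
    congrArg Subtype.val hj
  rcases Int.even_or_odd j with he | ho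
  · exfalso
    obtain ⟨i, rfl⟩ := he
    rw [← two_mul, _root_.zpow_mul, show hF hK (-1) ^ (2 : ℤ) = 1 by
      rw [zpow_two]; exact hF_sq_one hK, _root_.one_zpow, eq_comm, conj_eq_one_iff] at hj'
    rw [hj', orderOf_one] at h
    omega
  · obtain ⟨i, rfl⟩ := ho
    rw [_root_.zpow_add, _root_.zpow_mul, show hF hK (-1) ^ (2 : ℤ) = 1 by
      rw [zpow_two]; exact hF_sq_one hK, _root_.one_zpow, one_mul, zpow_one] at hj'
    have hkk : ((k⁻¹ : ↥B) : ↥(S hK).fix) = (k : ↥(S hK).fix)⁻¹ := rfl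
    rw [hkk] at hwc
    calc w * hF hK (-1) * w⁻¹ = w * (hF hK c * hF hK (-1) * (hF hK c)⁻¹) * w⁻¹ := by
          rw [← map_mul, mul_comm c, map_mul, mul_inv_cancel_right]
      _ = (k : ↥(S hK).fix)⁻¹ * hF hK (-1) * ((k : ↥(S hK).fix)⁻¹)⁻¹ := by rw [hwc]; group
      _ = u * hF hK (-1) := by conv_lhs => rw [hj']
                               group

theorem card_invol_coset :
    Nat.card {u : ↥(Upart hK) // orderOf ((u : ↥(S hK).fix) * hF hK (-1)) = 2} = (3 ^ (2 * m + 1)) ^ 2 := by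
  classical
  obtain ⟨h1, -, -, -⟩ := q_facts m
  set S0 : Subgroup ↥(S hK).fix := Upart hK ⊓ Subgroup.centralizer {hF hK (-1)}
  have hS : Nat.card ↥S0 = 3 ^ (2 * m + 1) := by
    rw [← hK]
    refine (Nat.card_eq_of_bijective (fun a : K => (⟨(reeEquiv hK (0, a, 0)).1,
      Subgroup.mem_inf.mpr ⟨(reeEquiv hK (0, a, 0)).2, mem_cent_one.mpr (Subtype.ext ?_)⟩⟩ : ↥S0))
      ⟨fun a b e => ?_, fun v => ?_⟩).symm
    · show hd hK (-1) * ree m 0 a 0 = ree m 0 a 0 * hd hK (-1)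
      exact mul_inv_eq_iff_eq_mul.mp (hd_neg_one_conj hK a)
    · have h0 : (reeEquiv hK (0, a, 0)).1 = (reeEquiv hK (0, b, 0)).1 := by have := congrArg Subtype.val e; exact this
      exact congrArg (fun p : K × K × K => p.2.1) ((reeEquiv hK).injective (Subtype.ext h0))
    · obtain ⟨v, hvU, hv⟩ := v
      obtain ⟨⟨t, a, b⟩, hp⟩ := (reeEquiv hK).surjective ⟨v, hvU⟩
      have e : hd hK (-1) * ree m t a b * (hd hK (-1))⁻¹ = ree m t a b := by
        rw [mul_inv_eq_iff_eq_mul]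
        have e1 := congrArg (fun z : ↥(S hK).fix => (z : GL (T2).I K)) (mem_cent_one.mp hv)
        have e0 : (v : GL (T2).I K) = ree m t a b :=
          (congrArg (fun z : ↥(Upart hK) => ((z.1 : ↥(S hK).fix) : GL (T2).I K)) hp).symm.trans (reeEquiv_val hK _)
        simp only [Subgroup.coe_mul, hF_val hK, e0] at e1
        exact e1
      rw [neg_one_conj hK] at e
      obtain ⟨ht, -, hb⟩ := ree_inj hK e
      have h3 := three_eq_zero hK
      obtain rfl : t = 0 := by linear_combination ht + t * h3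
      obtain rfl : b = 0 := by linear_combination hb + b * h3
      exact ⟨a, Subtype.ext (show (reeEquiv hK (0, a, 0)).1 = v from congrArg Subtype.val hp)⟩
  have horb := card_orbit_mul (Upart hK) S0 inf_le_left (hF hK (-1))
    {g | ∃ u ∈ Upart hK, g = u * hF hK (-1) ∧ orderOf g = 2}
    (fun v hv => by
      refine ⟨v * (hF hK (-1) * v⁻¹ * (hF hK (-1))⁻¹), mul_mem hv ?_, by group, ?_⟩
      · exact Subgroup.mem_subgroupOf.mpr ⟨diag_conj_pos (hd_mem hK _).1
          (Subgroup.mem_subgroupOf.mp (inv_mem hv)).1, (hF hK (-1) * v⁻¹ * (hF hK (-1))⁻¹).2⟩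
      · rw [show v * hF hK (-1) * v⁻¹ = MulAut.conj v (hF hK (-1)) from rfl, MulEquiv.orderOf_eq]
        exact orderOf_eq_prime (by rw [pow_two]; exact hF_sq_one hK) (h0_ne hK))
    (fun t ht => by
      obtain ⟨u, hu, rfl, ho⟩ := ht
      exact invol_coset hK hu ho)
    (fun v hv => by
      rw [Subgroup.mem_inf, mem_cent_one]
      exact ⟨fun e => ⟨hv, e.symm⟩, fun e => e.2.symm⟩)
  rw [hS, card_Upart hK] at horb
  refine Nat.eq_of_mul_eq_mul_right (show 0 < 3 ^ (2 * m + 1) by omega) (Eq.trans ?_ (pow_succ _ 2))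
  rw [horb]
  congr 1
  exact Nat.card_eq_of_bijective
    (fun u => (⟨u.1.1 * hF hK (-1), u.1.1, u.1.2, rfl, u.2⟩ :
      {g | ∃ u ∈ Upart hK, g = u * hF hK (-1) ∧ orderOf g = 2}))
    ⟨fun a b e => Subtype.ext (Subtype.ext (mul_right_cancel (congrArg Subtype.val e))),
      fun ⟨g, u, hu, e, ho⟩ => ⟨⟨⟨u, hu⟩, e ▸ ho⟩, Subtype.ext e.symm⟩⟩

theorem card_six : Nat.card {g : ↥(S hK).fix // orderOf g = 6} =
    (3 ^ (2 * m + 1)) ^ 2 * (3 ^ (2 * m + 1) - 1) * ((3 ^ (2 * m + 1)) ^ 3 + 1) := by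
  classical
  rw [point_order hK (by norm_num), mul_comm]
  congr 1
  have e : {g : ↥(S hK).fix // orderOf g = 6 ∧ g • pInf hK = pInf hK} ≃
      {u : ↥(Upart hK) // ¬ orderOf ((u : ↥(S hK).fix) * hF hK (-1)) = 2} :=
    (Equiv.ofBijective (fun u : {u : ↥(Upart hK) // ¬ orderOf ((u : ↥(S hK).fix) * hF hK (-1)) = 2} =>
      (⟨u.1.1 * hF hK (-1), (coset_order hK u.1.2).resolve_left u.2,
        MulAction.mem_stabilizer_iff.mp ((stab_pInf hK).mpr ⟨u.1.1, u.1.2, -1, rfl⟩)⟩ :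
        {g : ↥(S hK).fix // orderOf g = 6 ∧ g • pInf hK = pInf hK}))
      ⟨fun a b e => Subtype.ext (Subtype.ext (mul_right_cancel (congrArg Subtype.val e))), fun g => by
        obtain ⟨g, hg6, hg⟩ := g
        obtain ⟨u, hu, c, rfl⟩ := (stab_pInf hK).mp (MulAction.mem_stabilizer_iff.mpr hg)
        have hc6 := pow_stab_one hK hu (hg6 ▸ pow_orderOf_eq_one _)
        have h2 : orderOf c ∣ 3 ^ (2 * m + 1) - 1 := by rw [← hK, ← Nat.card_units]; exact orderOf_dvd_natCard c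
        have hc2 : c * c = 1 := by
          rw [← pow_two]
          refine orderOf_dvd_iff_pow_eq_one.mp (Nat.Coprime.dvd_of_dvd_mul_left ?_
            (show orderOf c ∣ 3 * 2 from orderOf_dvd_of_pow_eq_one hc6))
          exact Nat.Coprime.coprime_dvd_left h2 (coprime_three m).symm
        rcases sq_eq_one hc2 with rfl | rfl
        · exfalso
          rw [map_one, mul_one] at hg6
          have := orderOf_dvd_of_pow_eq_one (Upart_nine hK hu)
          rw [hg6] at this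
          omega
        · exact ⟨⟨⟨u, hu⟩, fun h => by rw [hg6] at h; omega⟩, rfl⟩⟩).symm
  have : Fintype ↥(Upart hK) := Fintype.ofFinite _
  rw [Nat.card_congr e, Nat.card_eq_fintype_card, Fintype.card_subtype_compl, ← Nat.card_eq_fintype_card,
    ← Nat.card_eq_fintype_card, card_Upart hK, card_invol_coset hK]
  rw [pow_succ, Nat.mul_sub_one]

variable (hm : 1 ≤ m)
include hm

omit hm in
theorem card_eq_parts : Nat.card ↥(S hK).fix =
    (3 ^ (2 * m + 1)) ^ 3 * (3 ^ (2 * m + 1) - 1) * ((3 ^ (2 * m + 1) + 1) * hexN m) := by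
  rw [card_fix' hK]; ring

theorem card_split {i : ℕ} (hi : 2 < i) (hid : i ∣ 3 ^ (2 * m + 1) - 1) :
    2 * Nat.card {g : ↥(S hK).fix // orderOf g = i} =
      i.totient * (3 ^ (2 * m + 1)) ^ 3 * ((3 ^ (2 * m + 1)) ^ 3 + 1) := by
  have := hF_cyclic hK
  obtain ⟨h1, h8, -, hq3⟩ := q_facts m
  have hne : ∀ c : Kˣ, orderOf (hF hK c) = i → c * c ≠ 1 := fun c hc e => by
    have h2 := orderOf_dvd_of_pow_eq_one (show hF hK c ^ 2 = 1 by rw [← map_pow, pow_two, e, map_one])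
    rw [hc] at h2
    have := Nat.le_of_dvd (by norm_num) h2
    omega
  have h := order_count (Subgroup.normalizer ((hF hK).range : Set ↥(S hK).fix)) (hF hK).range i
    (fun n hn d hd _ => (Subgroup.mem_normalizer_iff.mp hn d).mp hd)
    (fun g d hd ho hgd => by
      refine ToriGen.mem_normalizer_of_conj ?_
      rintro b hb
      obtain ⟨c, rfl⟩ := hd
      obtain ⟨c', hc'⟩ := hgd
      rw [← cent_torus hK (hne c' (by rw [hc', show g * hF hK c * g⁻¹ = MulAut.conj g (hF hK c) from rfl,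
        MulEquiv.orderOf_eq, ho])), mem_cent_one, hc']
      obtain ⟨b, rfl⟩ := hb
      calc g * hF hK c * g⁻¹ * (g * hF hK b * g⁻¹) = g * (hF hK c * hF hK b) * g⁻¹ := by group
        _ = g * (hF hK b * hF hK c) * g⁻¹ := by rw [← map_mul, mul_comm, map_mul]
        _ = _ := by group)
    (fun g hg => by
      obtain ⟨p, hp, hpi, hp2⟩ : ∃ p, p.Prime ∧ p ∣ i ∧ p ≠ 2 := by
        by_contra hall
        push Not at hall
        have h2 := Nat.eq_prime_pow_of_unique_prime_dvd (p := 2) (n := i) (by omega) fun hd hdi => hall _ hd hdi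
        have h4 : 4 ∣ i := by
          rw [h2]
          refine (pow_dvd_pow 2 (show 2 ≤ _ from ?_))
          by_contra hlt
          interval_cases (i.primeFactorsList.length) <;> simp at h2 <;> omega
        have := h4.trans hid
        omega
      have : Fact p.Prime := ⟨hp⟩
      obtain ⟨j, hj, hc⟩ := exists_prime_pow_comm (hg ▸ hpi)
      exact torus_comm hK hp2 (hpi.trans hid) hj hc)
  rw [card_norm_torus hK hm, card_order_eq (hF hK).range (by rw [card_torus hK]; exact hid), card_eq_parts hK, ← hq3] at h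
  refine Nat.eq_of_mul_eq_mul_right (show 0 < 3 ^ (2 * m + 1) - 1 by omega) ?_
  linarith

theorem card_four_part {i : ℕ} (hi : 1 < i) (hid : i ∣ kq m) :
    6 * Nat.card {g : ↥(S hK).fix // orderOf g = i} =
        i.totient * (3 ^ (2 * m + 1)) ^ 3 * (3 ^ (2 * m + 1) - 1) * hexN m ∧
      2 * Nat.card {g : ↥(S hK).fix // orderOf g = 2 * i} =
        i.totient * (3 ^ (2 * m + 1)) ^ 3 * (3 ^ (2 * m + 1) - 1) * hexN m := by
  have : IsCyclic ↥(aTor hK) := Subgroup.isCyclic_zpowers _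
  obtain ⟨h4, hodd, hk0⟩ := kq_facts m
  have hio : Odd i := Odd.of_dvd_nat hodd hid
  have hinto : ∀ (g : ↥(S hK).fix), i ∣ orderOf g → ∃ k : ↥(S hK).fix, k * g * k⁻¹ ∈ cTor hK := by
    intro g hg
    obtain ⟨p, hp, hpi⟩ := Nat.exists_prime_and_dvd (show i ≠ 1 by omega)
    have : Fact p.Prime := ⟨hp⟩
    obtain ⟨j, hj, hc⟩ := exists_prime_pow_comm (hpi.trans hg)
    obtain ⟨k, hk⟩ := conj_into_aTor hK (hpi.trans hid) (k := 1) (hj.trans (pow_one p).symm)
    refine ⟨k, ?_⟩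
    rw [← cent_aTor hK hm hk (fun e => hp.ne_one (by rw [← hj, conj_eq_one_iff.mp e, orderOf_one])), mem_cent_one]
    calc k * g ^ j * k⁻¹ * (k * g * k⁻¹) = k * (g ^ j * g) * k⁻¹ := by group
      _ = k * (g * g ^ j) * k⁻¹ := by rw [hc]
      _ = _ := by group
  have hmul : ∀ {C : ℕ}, C * (24 * kq m) = (3 ^ (2 * m + 1)) ^ 3 * (3 ^ (2 * m + 1) - 1) *
      ((3 ^ (2 * m + 1) + 1) * hexN m) * i.totient →
      6 * C = i.totient * (3 ^ (2 * m + 1)) ^ 3 * (3 ^ (2 * m + 1) - 1) * hexN m := by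
    intro C h
    rw [← h4] at h
    refine Nat.eq_of_mul_eq_mul_right (show 0 < 4 * kq m by omega) ?_
    linarith
  constructor
  · have h := order_count (norFour hK) (aTor hK) i
      (fun n hn d hd _ => (Subgroup.mem_normalizer_iff.mp (norFour_eq_aTor hK hn) d).mp hd)
      (fun g d hd ho hgd => (aTor_ti hK hm hd (fun e => by rw [e, orderOf_one] at ho; omega) hgd).1)
      (fun g hg => by
        obtain ⟨k, hk⟩ := hinto g (dvd_of_eq hg.symm)
        refine ⟨k, cFour_odd hK (cTor_le hK hk) ?_⟩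
        rw [show k * g * k⁻¹ = MulAut.conj k g from rfl, MulEquiv.orderOf_eq, hg]
        exact hio)
    rw [card_norFour hK, card_order_eq (aTor hK) (by rw [card_aTor hK]; exact hid), card_eq_parts hK] at h
    exact hmul h
  · have h := order_count (norFour hK) (cTor hK) (2 * i)
      (fun n hn d hd _ => norFour_cTor hK hm hn hd)
      (fun g d hd ho hgd => by
        refine (aTor_ti hK hm (cTor_sq hK hd) (fun e => ?_) ?_).1
        · have := orderOf_dvd_of_pow_eq_one (show d ^ 2 = 1 by rw [pow_two, e])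
          rw [ho] at this
          have := Nat.le_of_dvd (by norm_num) this
          omega
        · rw [show g * (d * d) * g⁻¹ = g * d * g⁻¹ * (g * d * g⁻¹) by group]
          exact cTor_sq hK hgd)
      (fun g hg => hinto g (hg ▸ dvd_mul_left i 2))
    have hD : Nat.card {d : ↥(cTor hK) // orderOf d = 2 * i} = 3 * i.totient := by
      classical
      have : Fintype ↥(four hK) := Fintype.ofFinite _
      have h3 : Nat.card {e : ↥(four hK) // e ≠ 1} = 3 := by
        rw [Nat.card_eq_fintype_card, Fintype.card_subtype_compl, Fintype.card_subtype_eq,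
          ← Nat.card_eq_fintype_card, card_four hK]
      rw [← h3, ← card_order_eq (aTor hK) (by rw [card_aTor hK]; exact hid), ← Nat.card_prod]
      have he2 : ∀ e : {e : ↥(four hK) // e ≠ 1}, orderOf (e.1 : ↥(S hK).fix) = 2 := fun e =>
        orderOf_eq_prime (by rw [pow_two]; exact (four_iff hK (four_le hK e.1.2)).mp e.1.2)
          (fun h => e.2 (Subtype.ext h))
      refine (Nat.card_eq_of_bijective
        (fun p : {e : ↥(four hK) // e ≠ 1} × {a : ↥(aTor hK) // orderOf a = i} =>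
          (⟨⟨(p.1.1 : ↥(S hK).fix) * p.2.1, mul_mem (four_le hK p.1.1.2) (aTor_le hK p.2.1.2)⟩, ?_⟩ :
            {d : ↥(cTor hK) // orderOf d = 2 * i})) ⟨?_, ?_⟩).symm
      · have ha : orderOf (p.2.1 : ↥(S hK).fix) = i := by rw [Subgroup.orderOf_coe]; exact p.2.2
        rw [Subgroup.orderOf_mk, Commute.orderOf_mul_eq_mul_orderOf_of_coprime
          (cTor_comm hK (four_le hK p.1.1.2) (aTor_le hK p.2.1.2))
          (by rw [he2, ha]; exact Nat.coprime_two_left.mpr hio), he2, ha]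
      · rintro ⟨e, a⟩ ⟨e', a'⟩ h'
        have h'' : (e.1 : ↥(S hK).fix) * a.1 = e'.1 * a'.1 := congrArg (fun z => ((z.1 : ↥(cTor hK)) : ↥(S hK).fix)) h'
        have ho : ∀ a : {a : ↥(aTor hK) // orderOf a = i}, (a.1 : ↥(S hK).fix) ^ i = 1 := fun a => by
          rw [← Subgroup.coe_pow, orderOf_dvd_iff_pow_eq_one.mp (dvd_of_eq a.2), OneMemClass.coe_one]
        have hp : ∀ e : {e : ↥(four hK) // e ≠ 1}, (e.1 : ↥(S hK).fix) ^ i = e.1 := fun e => by
          obtain ⟨j, rfl⟩ := hio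
          rw [pow_succ, pow_mul, pow_two, (four_iff hK (four_le hK e.1.2)).mp e.1.2, one_pow, one_mul]
        have h3' := congrArg (· ^ i) h''
        simp only [(show Commute _ _ from cTor_comm hK (four_le hK e.1.2) (aTor_le hK a.1.2)).mul_pow,
          (show Commute _ _ from cTor_comm hK (four_le hK e'.1.2) (aTor_le hK a'.1.2)).mul_pow,
          ho, hp, mul_one] at h3'
        rw [h3'] at h''
        exact Prod.ext (Subtype.ext (Subtype.ext h3')) (Subtype.ext (Subtype.ext (mul_left_cancel h'')))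
      · rintro ⟨⟨d, hd⟩, ho⟩
        rw [Subgroup.orderOf_mk] at ho
        have hp : d ^ (2 * i) = 1 := ho ▸ pow_orderOf_eq_one d
        have he : d ^ i ∈ four hK := (four_iff hK (pow_mem hd i)).mpr (by rw [← pow_add, ← two_mul, hp])
        obtain ⟨j, hj⟩ := hio
        have ha0 : orderOf (d ^ (i + 1)) = i := by
          rw [orderOf_pow' d (Nat.succ_ne_zero i), ho,
            show Nat.gcd (2 * i) (i + 1) = 2 from ?_, Nat.mul_div_cancel_left _ (by norm_num)]
          have hcop : Nat.Coprime i (i + 1) := Nat.coprime_self_add_right.mpr (Nat.coprime_one_right i)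
          rw [mul_comm 2 i, Nat.Coprime.gcd_mul_left_cancel 2 hcop]
          exact Nat.gcd_eq_left ⟨j + 1, by omega⟩
        have ha : d ^ (i + 1) ∈ aTor hK := cFour_odd hK (cTor_le hK (pow_mem hd _))
          (by rw [ha0]; exact ⟨j, hj⟩)
        refine ⟨(⟨⟨_, he⟩, fun e => ?_⟩, ⟨⟨_, ha⟩, by rw [Subgroup.orderOf_mk]; exact ha0⟩),
          Subtype.ext (Subtype.ext ?_)⟩
        · have := orderOf_dvd_of_pow_eq_one (congrArg Subtype.val e : d ^ i = 1)
          rw [ho] at this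
          have := Nat.le_of_dvd (by omega) this
          omega
        · show d ^ i * d ^ (i + 1) = d
          rw [← pow_add, ← add_assoc, ← two_mul, pow_succ, hp, one_mul]
    rw [card_norFour hK, hD, card_eq_parts hK] at h
    rw [← h4] at h
    refine Nat.eq_of_mul_eq_mul_right (show 0 < 4 * kq m by omega) ?_
    linarith

theorem card_hex_part {A : Subgroup ↥(S hK).fix} (hA : IsHexTor hK A)
    (hN : Nat.card ↥(Subgroup.normalizer (A : Set ↥(S hK).fix)) = 6 * Nat.card ↥A) {i : ℕ} (hi : 1 < i)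
    (hid : i ∣ Nat.card ↥A) :
    6 * Nat.card ↥A * Nat.card {g : ↥(S hK).fix // orderOf g = i} = Nat.card ↥(S hK).fix * i.totient := by
  have := hA.cyclic hK hm
  have h := order_count (Subgroup.normalizer (A : Set ↥(S hK).fix)) A i
    (fun n hn d hd _ => (Subgroup.mem_normalizer_iff.mp hn d).mp hd)
    (fun g d hd ho hgd => hA.ti hK hm hd (fun e => by rw [e, orderOf_one] at ho; omega) hgd)
    (fun g hg => by
      obtain ⟨p, hp, hpi⟩ := Nat.exists_prime_and_dvd (show i ≠ 1 by omega)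
      have : Fact p.Prime := ⟨hp⟩
      obtain ⟨j, hj, hc⟩ := exists_prime_pow_comm (hg ▸ hpi)
      exact hA.conj_into hK hm (hpi.trans hid) hj hc)
  rw [hN, card_order_eq A hid] at h
  rw [← h, mul_comm]

theorem counts :
    Nat.card {g : ↥(S hK).fix // orderOf g = 2} = (3 ^ (2 * m + 1)) ^ 2 * ((3 ^ (2 * m + 1)) ^ 2 - 3 ^ (2 * m + 1) + 1) ∧
    Nat.card {g : ↥(S hK).fix // orderOf g = 3} = ((3 ^ (2 * m + 1)) ^ 2 - 1) * ((3 ^ (2 * m + 1)) ^ 3 + 1) ∧
    Nat.card {g : ↥(S hK).fix // orderOf g = 6} = (3 ^ (2 * m + 1)) ^ 2 * (3 ^ (2 * m + 1) - 1) * ((3 ^ (2 * m + 1)) ^ 3 + 1) ∧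
    Nat.card {g : ↥(S hK).fix // orderOf g = 9} = (3 ^ (2 * m + 1)) ^ 2 * (3 ^ (2 * m + 1) - 1) * ((3 ^ (2 * m + 1)) ^ 3 + 1) ∧
    (∀ i : ℕ, 2 < i → i ∣ 3 ^ (2 * m + 1) - 1 →
      2 * Nat.card {g : ↥(S hK).fix // orderOf g = i} = Nat.totient i * (3 ^ (2 * m + 1)) ^ 3 * ((3 ^ (2 * m + 1)) ^ 3 + 1)) ∧
    (∀ i : ℕ, 1 < i → i ∣ (3 ^ (2 * m + 1) + 1) / 4 →
      6 * Nat.card {g : ↥(S hK).fix // orderOf g = i} =
          Nat.totient i * (3 ^ (2 * m + 1)) ^ 3 * (3 ^ (2 * m + 1) - 1) * ((3 ^ (2 * m + 1)) ^ 2 - 3 ^ (2 * m + 1) + 1) ∧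
        2 * Nat.card {g : ↥(S hK).fix // orderOf g = 2 * i} =
          Nat.totient i * (3 ^ (2 * m + 1)) ^ 3 * (3 ^ (2 * m + 1) - 1) * ((3 ^ (2 * m + 1)) ^ 2 - 3 ^ (2 * m + 1) + 1)) ∧
    (∀ i : ℕ, 1 < i → i ∣ 3 ^ (2 * m + 1) - 3 ^ (m + 1) + 1 →
      6 * Nat.card {g : ↥(S hK).fix // orderOf g = i} =
        Nat.totient i * (3 ^ (2 * m + 1)) ^ 3 * ((3 ^ (2 * m + 1)) ^ 2 - 1) * (3 ^ (2 * m + 1) + 3 ^ (m + 1) + 1)) ∧
    (∀ i : ℕ, 1 < i → i ∣ 3 ^ (2 * m + 1) + 3 ^ (m + 1) + 1 →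
      6 * Nat.card {g : ↥(S hK).fix // orderOf g = i} =
        Nat.totient i * (3 ^ (2 * m + 1)) ^ 3 * ((3 ^ (2 * m + 1)) ^ 2 - 1) * (3 ^ (2 * m + 1) - 3 ^ (m + 1) + 1)) := by
  obtain ⟨A, B, hA, hB, ha, hb, hnA, hnB, -⟩ := hex_two hK hm
  obtain ⟨h1, -, -, -⟩ := q_facts m
  have hab : (3 ^ (2 * m + 1) - 3 ^ (m + 1) + 1) * (3 ^ (2 * m + 1) + 3 ^ (m + 1) + 1) = hexN m := by
    have hrq : 3 ^ (m + 1) ≤ 3 ^ (2 * m + 1) := Nat.pow_le_pow_right (by norm_num) (by omega)
    have e := hexN_mul m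
    have hr := r_sq m
    generalize 3 ^ (2 * m + 1) = q at hrq e hr ⊢
    generalize 3 ^ (m + 1) = r at hrq e hr ⊢
    generalize hexN m = N at e ⊢
    obtain ⟨d, rfl⟩ : ∃ d, q = r + d := ⟨q - r, by omega⟩
    rw [Nat.add_sub_cancel_left]
    linarith
  have hsq : (3 ^ (2 * m + 1)) ^ 2 - 1 = (3 ^ (2 * m + 1) - 1) * (3 ^ (2 * m + 1) + 1) := by
    rw [show (1 : ℕ) = 1 ^ 2 from rfl, Nat.sq_sub_sq]; simp [mul_comm]
  have hpos : ∀ {x : ℕ}, x ∣ hexN m → 0 < x := fun h =>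
    Nat.pos_of_dvd_of_pos h (by unfold hexN; omega)
  refine ⟨?_, card_three hK, card_six hK, card_nine hK, fun i hi hid => card_split hK hm hi hid,
    fun i hi hid => card_four_part hK hm hi hid, fun i hi hid => ?_, fun i hi hid => ?_⟩
  · rw [← show hexN m = (3 ^ (2 * m + 1)) ^ 2 - 3 ^ (2 * m + 1) + 1 from rfl, ← card_invol hK]
    exact Nat.card_congr (Equiv.subtypeEquivRight fun g => by
      rw [orderOf_eq_prime_iff, pow_two]; exact and_comm)
  · have h := card_hex_part hK hm hA hnA hi (ha ▸ hid)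
    rw [ha, card_eq_parts hK, ← hab] at h
    rw [hsq]
    refine Nat.eq_of_mul_eq_mul_right (show 0 < 3 ^ (2 * m + 1) - 3 ^ (m + 1) + 1 by omega) ?_
    linarith
  · have h := card_hex_part hK hm hB hnB hi (hb ▸ hid)
    rw [hb, card_eq_parts hK, ← hab] at h
    rw [hsq]
    refine Nat.eq_of_mul_eq_mul_right (show 0 < 3 ^ (2 * m + 1) + 3 ^ (m + 1) + 1 by omega) ?_
    linarith

end CfsgLib.Chevalley.Twist.G2
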