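import Cfsg.Agent.Lib.Chevalley.Twist.G2Sylow
import Cfsg.Agent.Lib.Chevalley.Twist.ToriGen

/-!
Fixed points of elements of ²G₂; centralisers of elements of the torus.
-/

set_option autoImplicit false
set_option maxRecDepth 20000
set_option Elab.async false

namespace CfsgLib.Chevalley.Twist.G2

open Tbl

local notation "T2" => Data.G2.tbl

variable {K : Type*} [Field K] [Finite K] {m : ℕ} (hK : Nat.card K = 3 ^ (2 * m + 1))
include hK

omit hK [Field K] [Finite K] in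
/-- The number `q² - q + 1`. -/
def hexN (m : ℕ) : ℕ := (3 ^ (2 * m + 1)) ^ 2 - 3 ^ (2 * m + 1) + 1

omit hK [Field K] [Finite K] in
theorem q_facts (m : ℕ) : 3 ≤ 3 ^ (2 * m + 1) ∧ 3 ^ (2 * m + 1) % 8 = 3 ∧ 3 ∣ 3 ^ (2 * m + 1) ∧
    (3 ^ (2 * m + 1)) ^ 3 + 1 = (3 ^ (2 * m + 1) + 1) * hexN m := by
  refine ⟨Nat.le_self_pow (by omega) 3, ?_, dvd_pow_self 3 (by omega), ?_⟩
  · rw [pow_succ, pow_mul, Nat.mul_mod, Nat.pow_mod]
    norm_num
  · unfold hexN
    set q := 3 ^ (2 * m + 1)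
    have h : q ≤ q ^ 2 := Nat.le_self_pow (by norm_num) q
    zify [h]
    ring

theorem card_fix' : Nat.card ↥(S hK).fix =
    (3 ^ (2 * m + 1)) ^ 3 * (3 ^ (2 * m + 1) - 1) * (3 ^ (2 * m + 1) + 1) * hexN m := by
  rw [fix_card_eq hK, (q_facts m).2.2.2, ← mul_assoc]

/-- The standard points. -/
noncomputable abbrev pInf : Pts hK := QuotientGroup.mk 1

theorem borel_parts_fix {g : GL (T2).I K} (hg : g ∈ (S hK).fix) (hB : g ∈ (T2).datum.borelSubgroup K) :
    ∃ a ∈ (T2).datum.posUnipotent K ⊓ (S hK).fix, ∃ c : Kˣ, g = a * hd hK c := by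
  obtain ⟨p, hp, hpf, n, hn, hnf, w, hw, hm, q, hq, hqf, e⟩ := (S hK).fix_canonical hg
  rcases W1_cases hK hw with rfl | rfl
  · have hq1 : q = 1 := by
      have h0 : q ∈ (⊥ : Subgroup (GL (T2).I K)) := Tbl.Twist.Uw_one (S := S hK) ▸ ⟨hqf, hq⟩
      simpa using h0
    rw [← posUnipotent_rootGen Data.G2.valid] at hp
    obtain ⟨c, hc⟩ := exists_hd hK (Subgroup.mem_inf.mpr ⟨mem_diag_of_mono_one Data.G2.valid hn hm, hnf⟩)
    exact ⟨p, Subgroup.mem_inf.mpr ⟨hp, hpf⟩, c, by rw [e, hq1, mul_one, hc]⟩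
  · exfalso
    rw [← posUnipotent_rootGen Data.G2.valid] at hp
    have hq' : q ∈ (T2).datum.borelSubgroup K := by
      refine pos_le_borel ?_
      rw [posUnipotent_rootGen Data.G2.valid]
      exact rootGen_mono (fun r _ ⟨_, h, _⟩ => h) hq
    rw [e] at hB
    exact n0_not_borel hK hm ((mul_mem_cancel_left (pos_le_borel hp)).mp ((mul_mem_cancel_right hq').mp hB))

/-- The positive part among the fixed points. -/
noncomputable def Upart : Subgroup ↥(S hK).fix :=
  ((T2).datum.posUnipotent K ⊓ (S hK).fix).subgroupOf (S hK).fix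

/-- The torus among the fixed points. -/
noncomputable def hF : Kˣ →* ↥(S hK).fix :=
  (hd hK).codRestrict _ fun c => (hd_mem hK c).2

theorem hF_val (c : Kˣ) : ((hF hK c : ↥(S hK).fix) : GL (T2).I K) = hd hK c := rfl

theorem hF_inj : Function.Injective (hF hK) := fun _ _ h => hd_inj hK (congrArg Subtype.val h)

theorem card_torus : Nat.card ↥(hF hK).range = 3 ^ (2 * m + 1) - 1 := by
  rw [← Nat.card_congr (MonoidHom.ofInjective (hF_inj hK)).toEquiv, Nat.card_units, hK]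

theorem card_Upart : Nat.card ↥(Upart hK) = (3 ^ (2 * m + 1)) ^ 3 := by
  rw [Upart, Nat.card_congr (Subgroup.subgroupOfEquivOfLe inf_le_right).toEquiv, card_Upos hK]

theorem stab_pInf {g : ↥(S hK).fix} : g ∈ MulAction.stabilizer ↥(S hK).fix (pInf hK) ↔
    ∃ a ∈ Upart hK, ∃ c : Kˣ, g = a * hF hK c := by
  rw [MulAction.mem_stabilizer_iff, fixes_iff hK]
  simp only [OneMemClass.coe_one, inv_one, one_mul, mul_one]
  constructor
  · intro h
    obtain ⟨a, ha, c, e⟩ := borel_parts_fix hK g.2 h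
    exact ⟨⟨a, ha.2⟩, Subgroup.mem_subgroupOf.mpr ha, c, Subtype.ext e⟩
  · rintro ⟨a, ha, c, rfl⟩
    exact mul_mem (pos_le_borel (Subgroup.mem_subgroupOf.mp ha).1) (Subgroup.mem_sup_right (hd_mem hK c).1)

theorem card_stab_pInf : Nat.card ↥(MulAction.stabilizer ↥(S hK).fix (pInf hK)) =
    (3 ^ (2 * m + 1)) ^ 3 * (3 ^ (2 * m + 1) - 1) := by
  rw [← card_Upart hK, ← hK, ← Nat.card_units, ← Nat.card_prod]
  refine (Nat.card_eq_of_bijective (fun p : ↥(Upart hK) × Kˣ => (⟨p.1.1 * hF hK p.2,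
    (stab_pInf hK).mpr ⟨p.1.1, p.1.2, p.2, rfl⟩⟩ : ↥(MulAction.stabilizer ↥(S hK).fix (pInf hK)))) ⟨?_, ?_⟩).symm
  · rintro ⟨a, c⟩ ⟨b, d⟩ h
    have h' : (a : GL (T2).I K) * hd hK c = (b : GL (T2).I K) * hd hK d :=
      congrArg (fun z : ↥(MulAction.stabilizer ↥(S hK).fix (pInf hK)) => ((z.1 : ↥(S hK).fix) : GL (T2).I K)) h
    have e : (b : GL (T2).I K)⁻¹ * (a : GL (T2).I K) = hd hK d * (hd hK c)⁻¹ := by
      rw [eq_mul_inv_iff_mul_eq, mul_assoc, h', inv_mul_cancel_left]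
    have h1 := pos_diag_one (mul_mem (inv_mem (Subgroup.mem_subgroupOf.mp b.2).1)
      (Subgroup.mem_subgroupOf.mp a.2).1) (e ▸ mul_mem (hd_mem hK d).1 (inv_mem (hd_mem hK c).1))
    have hab : a = b := Subtype.ext (Subtype.ext (inv_mul_eq_one.mp h1).symm)
    subst hab
    rw [hd_inj hK (mul_left_cancel h')]
  · rintro ⟨g, hg⟩
    obtain ⟨a, ha, c, rfl⟩ := (stab_pInf hK).mp hg
    exact ⟨(⟨a, ha⟩, c), rfl⟩

theorem card_stab (x : Pts hK) : Nat.card ↥(MulAction.stabilizer ↥(S hK).fix x) =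
    (3 ^ (2 * m + 1)) ^ 3 * (3 ^ (2 * m + 1) - 1) := by
  obtain ⟨g, hg⟩ := MulAction.exists_smul_eq ↥(S hK).fix (pInf hK) x
  rw [← hg, MulAction.stabilizer_smul_eq_stabilizer_map_conj,
    Subgroup.card_map_of_injective (MulEquiv.injective _), card_stab_pInf hK]

theorem card_Pts : Nat.card (Pts hK) = (3 ^ (2 * m + 1)) ^ 3 + 1 := by
  have h := MulAction.index_stabilizer_of_transitive ↥(S hK).fix (pInf hK)
  have h2 := Subgroup.card_mul_index (MulAction.stabilizer ↥(S hK).fix (pInf hK))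
  rw [h, card_stab_pInf hK, fix_card_eq hK] at h2
  have hq := (q_facts m).1
  exact Nat.eq_of_mul_eq_mul_left (Nat.mul_pos (pow_pos (by omega) _) (by omega)) h2

theorem three_fix {g : ↥(S hK).fix} {x y z : Pts hK} (hxy : x ≠ y) (hxz : x ≠ z) (hyz : y ≠ z)
    (gx : g • x = x) (gy : g • y = y) (gz : g • z = z) : g * g = 1 := by
  obtain ⟨n, hn, hm⟩ := exists_n0 hK
  obtain ⟨k, kx, ky⟩ := two_trans hK (n := (⟨n, hn.2⟩ : ↥(S hK).fix)) hn.1 hm hxy
  obtain ⟨c, hc, e⟩ := three_le hK (n := (⟨n, hn.2⟩ : ↥(S hK).fix)) hn.1 hm (z := k • z) (g := k * g * k⁻¹)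
    (fun e => hxz (smul_left_cancel k (kx.trans e.symm)))
    (fun e => hyz (smul_left_cancel k (ky.trans e.symm)))
    (by rw [← kx, smul_smul, inv_mul_cancel_right, mul_smul, gx])
    (by rw [← ky, smul_smul, inv_mul_cancel_right, mul_smul, gy])
    (by rw [smul_smul, inv_mul_cancel_right, mul_smul, gz])
  have h2 : hF hK c = k * g * k⁻¹ := Subtype.ext e
  have h3 : k * g * k⁻¹ * (k * g * k⁻¹) = 1 := by rw [← h2, ← map_mul, hc, map_one]
  rw [show g * g = k⁻¹ * (k * g * k⁻¹ * (k * g * k⁻¹)) * k by group, h3]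
  group

theorem fix_Upart {u : ↥(S hK).fix} (hu : u ∈ Upart hK) (hu1 : u ≠ 1) {x : Pts hK} (hx : u • x = x) :
    x = pInf hK := by
  obtain ⟨n, hn, hm⟩ := exists_n0 hK
  induction x using QuotientGroup.induction_on with | H x =>
  rw [fixes_iff hK] at hx
  by_contra hne
  refine hne ((mk_eq_iff hK).mpr ?_)
  simp only [OneMemClass.coe_one, mul_one]
  refine inv_mem (ti hK x.2 (x := (x : GL (T2).I K)⁻¹ * u * x) ?_ (fun e => hu1 (Subtype.ext ?_)) ?_)
  · obtain ⟨a, ha, c, e⟩ := borel_parts_fix hK (mul_mem (mul_mem (inv_mem x.2) u.2) x.2) hx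
    have : Fact (Nat.Prime 3) := ⟨Nat.prime_three⟩
    have h3 : (hd hK c) ^ (3 ^ (3 * (2 * m + 1))) = 1 := by
      have hu3 : u ^ (3 ^ (3 * (2 * m + 1))) = 1 := by
        have := pow_card_eq_one' (x := (⟨u, hu⟩ : ↥(Upart hK)))
        rw [card_Upart hK, ← pow_mul, mul_comm (2 * m + 1)] at this
        exact congrArg Subtype.val this
      have hpow : ((x : GL (T2).I K)⁻¹ * u * x) ^ (3 ^ (3 * (2 * m + 1))) = 1 := by
        rw [show (x : GL (T2).I K)⁻¹ * u * x = (x : GL (T2).I K)⁻¹ * u * ((x : GL (T2).I K)⁻¹)⁻¹ by rw [inv_inv],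
          _root_.conj_pow, ← SubmonoidClass.coe_pow, hu3, OneMemClass.coe_one, mul_one, mul_inv_cancel]
      rw [e] at hpow
      have key : ∀ k : ℕ, ∃ b ∈ (T2).datum.posUnipotent K, (a * hd hK c) ^ k = b * hd hK c ^ k := by
        intro k
        induction k with
        | zero => exact ⟨1, one_mem _, by simp⟩
        | succ k ih =>
          obtain ⟨b, hb, eb⟩ := ih
          refine ⟨b * (hd hK c ^ k * a * (hd hK c ^ k)⁻¹),
            mul_mem hb (diag_conj_pos (pow_mem (hd_mem hK c).1 k) ha.1), ?_⟩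
          rw [pow_succ, eb, pow_succ]; group
      obtain ⟨b, hb, eb⟩ := key (3 ^ (3 * (2 * m + 1)))
      rw [eb] at hpow
      have hb1 : b = 1 := pos_diag_one hb (by
        rw [eq_inv_of_mul_eq_one_left hpow]
        exact inv_mem (pow_mem (hd_mem hK c).1 _))
      rwa [hb1, one_mul] at hpow
    have hc : c = 1 := by
      rw [← map_pow, ← map_one (hd hK)] at h3
      have h1 : orderOf c ∣ 3 ^ (3 * (2 * m + 1)) := orderOf_dvd_of_pow_eq_one (hd_inj hK h3)
      have h2 : orderOf c ∣ 3 ^ (2 * m + 1) - 1 := by rw [← hK, ← Nat.card_units]; exact orderOf_dvd_natCard c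
      refine orderOf_eq_one_iff.mp (Nat.eq_one_of_dvd_coprimes ?_ h1 h2)
      refine Nat.Coprime.pow_left _ ((Nat.prime_three.coprime_iff_not_dvd).mpr fun h => ?_)
      obtain ⟨h1, -, h3', -⟩ := q_facts m
      have := Nat.dvd_sub h3' h
      rw [Nat.sub_sub_self (by omega)] at this
      exact absurd this (by norm_num)
    rw [hc, map_one, mul_one] at e
    rw [e]; exact ha.1
  · calc (u : GL (T2).I K) = (x : GL (T2).I K) * ((x : GL (T2).I K)⁻¹ * u * x) * (x : GL (T2).I K)⁻¹ := by group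
      _ = 1 := by rw [e]; simp
  · rw [show (x : GL (T2).I K) * ((x : GL (T2).I K)⁻¹ * u * x) * (x : GL (T2).I K)⁻¹ = u by group]
    exact (Subgroup.mem_subgroupOf.mp hu).1

theorem conj_into_torus {p : ℕ} [Fact p.Prime] (hp2 : p ≠ 2) (hp : p ∣ 3 ^ (2 * m + 1) - 1)
    {y : ↥(S hK).fix} {k : ℕ} (hy : orderOf y = p ^ k) : ∃ g : ↥(S hK).fix, g * y * g⁻¹ ∈ (hF hK).range := by
  refine ToriGen.conj_into _ ?_ hy
  have hpp : p.Prime := Fact.out
  obtain ⟨h1, h8, h3, he⟩ := q_facts m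
  have hn3 : p ≠ 3 := by
    rintro rfl
    have := Nat.dvd_sub h3 hp
    rw [Nat.sub_sub_self (by omega)] at this
    exact absurd this (by norm_num)
  have hn : ¬ p ∣ (3 ^ (2 * m + 1)) ^ 3 * ((3 ^ (2 * m + 1)) ^ 3 + 1) := by
    rw [hpp.dvd_mul]
    rintro (h | h)
    · exact hn3 ((Nat.prime_dvd_prime_iff_eq hpp Nat.prime_three).mp
        (hpp.dvd_of_dvd_pow (hpp.dvd_of_dvd_pow h)))
    · have hq3 : 3 ^ (2 * m + 1) - 1 ∣ (3 ^ (2 * m + 1)) ^ 3 - 1 := Nat.sub_one_dvd_pow_sub_one _ _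
      have := Nat.dvd_sub h (hp.trans hq3)
      have h27 : 1 ≤ (3 ^ (2 * m + 1)) ^ 3 := Nat.one_le_pow _ _ (by omega)
      rw [show (3 ^ (2 * m + 1)) ^ 3 + 1 - ((3 ^ (2 * m + 1)) ^ 3 - 1) = 2 by omega] at this
      exact hp2 ((Nat.prime_dvd_prime_iff_eq hpp Nat.prime_two).mp this)
  rw [card_torus hK, fix_card_eq hK,
    show (3 ^ (2 * m + 1)) ^ 3 * (3 ^ (2 * m + 1) - 1) * ((3 ^ (2 * m + 1)) ^ 3 + 1) =
      (3 ^ (2 * m + 1) - 1) * ((3 ^ (2 * m + 1)) ^ 3 * ((3 ^ (2 * m + 1)) ^ 3 + 1)) by ring,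
    Nat.factorization_mul (by omega) (fun h => hn (by rw [h]; exact dvd_zero p)), Finsupp.add_apply,
    Nat.factorization_eq_zero_of_not_dvd hn, add_zero]

theorem mono_inv {n : GL (T2).I K} (hn : n ∈ (T2).datum.monomialSubgroup K)
    (hm : (T2).Mono n ((S hK).wJ (O hK) (0 : Fin 1))) (c : Kˣ) :
    n * hd hK c * n⁻¹ = (hd hK c)⁻¹ := by
  have hT : (T2).Valid := Data.G2.valid
  have hkey : ∀ i : Fin 2, ∀ r < (T2).n,
      (T2).ca i.val ((T2).actWord (Data.G2.orbWords.getD (0 : Fin 1).val []) r) = -(T2).ca i.val r := by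
    decide +kernel
  refine conj_dU_eq_inv hT hn hm (χ := fun s => ∏ i, par m c i ^ (T2).ca i s) (isChar_prod hT _)
    (hd_mem hK c).1 fun r => ?_
  rw [← Finset.prod_inv_distrib]
  refine Finset.prod_congr rfl fun i _ => ?_
  rw [(data hK).orbits_wJ chk_orbits (0 : Fin 1) r, hkey i r.val r.2, _root_.zpow_neg]

/-- The centraliser of an element of the torus of order above two is the torus. -/
theorem cent_torus {c : Kˣ} (hc : c * c ≠ 1) :
    Subgroup.centralizer {hF hK c} = (hF hK).range := by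
  refine le_antisymm (fun g hg => ?_) ?_
  · have hcm : hF hK c * g = g * hF hK c := Subgroup.mem_centralizer_iff.mp hg _ rfl
    obtain ⟨n, hn, hm⟩ := exists_n0 hK
    set n' : ↥(S hK).fix := ⟨n, hn.2⟩
    set p1 : Pts hK := QuotientGroup.mk n'
    obtain ⟨h0', h1'⟩ := hd_fix_pair hK (n := n') hn.1 hm c
    change hF hK c • pInf hK = pInf hK at h0'
    change hF hK c • p1 = p1 at h1'
    have hne : pInf hK ≠ p1 := fun e => n0_not_borel hK hm (by simpa [n'] using (mk_eq_iff hK).mp e)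
    have hfix : ∀ x, hF hK c • x = x → x = pInf hK ∨ x = p1 := by
      intro x hx
      by_contra h
      push Not at h
      have := three_fix hK hne (Ne.symm h.1) (Ne.symm h.2) h0' h1' hx
      rw [← map_mul, ← map_one (hF hK)] at this
      exact hc (hF_inj hK this)
    have hg0 := hfix (g • pInf hK) (by rw [smul_smul, hcm, mul_smul, h0'])
    have hg1 := hfix (g • p1) (by rw [smul_smul, hcm, mul_smul, h1'])
    rcases hg0 with g0 | g0
    · have g1 : g • p1 = p1 := hg1.resolve_left fun e => hne (smul_left_cancel g (g0.trans e.symm))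
      obtain ⟨d, hd'⟩ := fix_pair hK (n := n') hn.1 hm g0 g1
      exact ⟨d, Subtype.ext hd'⟩
    · exfalso
      have g1 : g • p1 = pInf hK := hg1.resolve_right fun e => hne (smul_left_cancel g (g0.trans e.symm))
      obtain ⟨d, hd'⟩ := fix_pair hK (n := n') hn.1 hm (g := n'⁻¹ * g)
        (by rw [mul_smul, show g • pInf hK = p1 from g0, inv_smul_eq_iff]
            show (QuotientGroup.mk n' : Pts hK) = QuotientGroup.mk (n' * 1)
            rw [mul_one])
        (by rw [mul_smul, show g • p1 = pInf hK from g1]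
            show (QuotientGroup.mk (n'⁻¹ * 1) : Pts hK) = _
            rw [mul_one, mk_eq_iff hK]
            simp only [InvMemClass.coe_inv, inv_inv, n']
            refine Subgroup.mem_sup_right (mem_diag_of_mono_one Data.G2.valid (mul_mem hn.1 hn.1) ?_)
            have := hm.mul hm
            rwa [show (S hK).wJ (O hK) (0 : Fin 1) * (S hK).wJ (O hK) (0 : Fin 1) = 1 from
              Equiv.ext fun r => (S hK).wJ_wJ (O hK) (0 : Fin 1) r] at this)
      have hgeq : (g : GL (T2).I K) = n * hd hK d := by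
        rw [hd']
        simp [n']
      have e1 : hd hK c * (n * hd hK d) = n * hd hK d * hd hK c := by
        rw [← hgeq]; exact congrArg Subtype.val hcm
      have e2 : (hd hK c)⁻¹ = hd hK c := by
        rw [← mono_inv hK hn.1 hm c, mul_inv_eq_iff_eq_mul]
        refine mul_right_cancel (b := hd hK d) ?_
        calc n * hd hK c * hd hK d = n * hd hK d * hd hK c := by
              rw [mul_assoc, mul_assoc, ← map_mul, ← map_mul, mul_comm c d]
          _ = _ := by rw [← e1, ← mul_assoc]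
      refine hc (hd_inj hK ?_)
      rw [map_mul, map_one]
      exact inv_eq_iff_mul_eq_one.mp e2
  · rintro _ ⟨d, rfl⟩
    rw [Subgroup.mem_centralizer_iff]
    rintro _ rfl
    rw [← map_mul, ← map_mul, mul_comm]

end CfsgLib.Chevalley.Twist.G2
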