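import Cfsg.Agent.Lib.Chevalley.Twist.G2Sylow
import Cfsg.Agent.Lib.Chevalley.Twist.ToriGen

/-!
The cyclic torus of order `(q + 1) / 2` inside `PSL₂(q)` and the centraliser of an involution there.
-/

set_option autoImplicit false
set_option maxRecDepth 20000
set_option Elab.async false

namespace CfsgLib.Chevalley.Twist.G2

open Tbl Matrix

local notation "T2" => Data.G2.tbl

variable {K : Type*} [Field K] [Finite K] {m : ℕ} (hK : Nat.card K = 3 ^ (2 * m + 1))
include hK

theorem neg_one_nonsq : ¬ IsSquare (-1 : K) := by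
  have : Fintype K := Fintype.ofFinite K
  rw [FiniteField.isSquare_neg_one_iff, ← Nat.card_eq_fintype_card, hK, not_ne_iff, pow_succ, pow_mul,
    Nat.mul_mod, Nat.pow_mod]
  norm_num

omit hK [Finite K] in
/-- The rotations. -/
def rot : Subgroup (SpecialLinearGroup (Fin 2) K) := Subgroup.centralizer {SL2.wn}

omit hK [Finite K] in
theorem mem_rot {g : SpecialLinearGroup (Fin 2) K} :
    g ∈ rot ↔ g.1 1 1 = g.1 0 0 ∧ g.1 1 0 = -g.1 0 1 := by
  rw [rot, Subgroup.mem_centralizer_iff]
  simp only [Set.mem_singleton_iff, forall_eq]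
  constructor
  · intro h
    have h' := congrArg Subtype.val h
    simp only [Matrix.SpecialLinearGroup.coe_mul, wn_val] at h'
    have e00 := congrFun (congrFun h' 0) 0
    have e01 := congrFun (congrFun h' 0) 1
    simp [Matrix.mul_apply, Fin.sum_univ_two] at e00 e01
    exact ⟨e01, e00⟩
  · rintro ⟨h1, h2⟩
    refine Subtype.ext ?_
    rw [Matrix.SpecialLinearGroup.coe_mul, Matrix.SpecialLinearGroup.coe_mul, wn_val]
    ext i j
    fin_cases i <;> fin_cases j <;> simp [Matrix.mul_apply, Fin.sum_univ_two, h1, h2]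

omit hK [Finite K] in
theorem rot_det {g : SpecialLinearGroup (Fin 2) K} (h : g ∈ rot) : g.1 0 0 ^ 2 + g.1 0 1 ^ 2 = 1 := by
  obtain ⟨h1, h2⟩ := mem_rot.mp h
  have := g.2
  rw [Matrix.det_fin_two, h1, h2] at this
  linear_combination this

omit hK [Finite K] in
/-- The rotation with given entries. -/
def mkRot (a b : K) (h : a ^ 2 + b ^ 2 = 1) : ↥(rot (K := K)) :=
  ⟨⟨!![a, b; -b, a], by rw [Matrix.det_fin_two_of]; linear_combination h⟩, mem_rot.mpr ⟨rfl, rfl⟩⟩

theorem card_rot : Nat.card ↥(rot (K := K)) = 3 ^ (2 * m + 1) + 1 := by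
  have hns := neg_one_nonsq hK
  have hne : ∀ t : K, t ^ 2 + 1 ≠ 0 := fun t h => hns ⟨t, by linear_combination -h⟩
  let f : Option K → ↥(rot (K := K)) := fun o => match o with
    | none => 1
    | some t => mkRot ((t ^ 2 - 1) / (t ^ 2 + 1)) (2 * t / (t ^ 2 + 1)) (by have := hne t; field_simp; ring)
  have h1 : ∀ t : K, ((t ^ 2 - 1) / (t ^ 2 + 1)) ≠ 1 := by
    intro t e
    rw [div_eq_one_iff_eq (hne t)] at e
    exact one_ne_zero (by linear_combination three_eq_zero hK + e : (1 : K) = 0)
  have hbij : Function.Bijective f := by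
    constructor
    · rintro (_ | s) (_ | t) e
      · rfl
      · exact absurd (congrFun (congrFun (congrArg (fun g : ↥(rot (K := K)) => g.1.1) e) 0) 0).symm
          (by simpa [f, mkRot] using h1 t)
      · exact absurd (congrFun (congrFun (congrArg (fun g : ↥(rot (K := K)) => g.1.1) e) 0) 0)
          (by simpa [f, mkRot] using h1 s)
      · have ea := congrFun (congrFun (congrArg (fun g : ↥(rot (K := K)) => g.1.1) e) 0) 0
        have eb := congrFun (congrFun (congrArg (fun g : ↥(rot (K := K)) => g.1.1) e) 0) 1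
        simp [f, mkRot] at ea eb
        have hs := hne s
        have ht := hne t
        field_simp at ea eb
        have h2 : s ^ 2 = t ^ 2 := by linear_combination (s ^ 2 - t ^ 2) * three_eq_zero hK - ea
        refine congrArg some (mul_left_cancel₀ (mul_ne_zero (fun h : (2 : K) = 0 =>
          one_ne_zero (by linear_combination three_eq_zero hK - h : (1 : K) = 0)) ht) ?_)
        rw [h2] at eb
        linear_combination eb
    · rintro ⟨g, hg⟩
      obtain ⟨e11, e10⟩ := mem_rot.mp hg
      have hd := rot_det hg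
      set a := g.1 0 0 with ha
      set b := g.1 0 1 with hb
      by_cases ha1 : a = 1
      · refine ⟨none, Subtype.ext (Subtype.ext ?_)⟩
        have hb0 : b = 0 := by
          rw [ha1] at hd
          exact eq_zero_of_pow_eq_zero (n := 2) (by linear_combination hd)
        show (1 : SpecialLinearGroup (Fin 2) K).1 = g.1
        rw [one_val, Matrix.eta_fin_two g.1, e11, e10, ← ha, ← hb, ha1, hb0, neg_zero]
      · have hd1 : 1 - a ≠ 0 := sub_ne_zero.mpr (Ne.symm ha1)
        refine ⟨some (b / (1 - a)), Subtype.ext (Subtype.ext ?_)⟩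
        have hz : (b / (1 - a)) ^ 2 + 1 = 2 / (1 - a) := by
          field_simp; linear_combination hd
        have h20 : (2 : K) ≠ 0 := fun h => one_ne_zero (by linear_combination three_eq_zero hK - h : (1 : K) = 0)
        have ea : ((b / (1 - a)) ^ 2 - 1) / ((b / (1 - a)) ^ 2 + 1) = a := by
          rw [hz]; field_simp; linear_combination hd
        have eb : 2 * (b / (1 - a)) / ((b / (1 - a)) ^ 2 + 1) = b := by
          rw [hz]; field_simp
        show !![((b / (1 - a)) ^ 2 - 1) / ((b / (1 - a)) ^ 2 + 1), 2 * (b / (1 - a)) / ((b / (1 - a)) ^ 2 + 1);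
          -(2 * (b / (1 - a)) / ((b / (1 - a)) ^ 2 + 1)), ((b / (1 - a)) ^ 2 - 1) / ((b / (1 - a)) ^ 2 + 1)] = g.1
        rw [ea, eb, Matrix.eta_fin_two g.1, e11, e10]
  rw [← Nat.card_eq_of_bijective f hbij, Finite.card_option, hK]

theorem rot_cyclic : IsCyclic ↥(rot (K := K)) := by
  obtain ⟨i, hi⟩ := IsAlgClosed.exists_eq_mul_self (-1 : AlgebraicClosure K)
  let φ := algebraMap K (AlgebraicClosure K)
  let f : ↥(rot (K := K)) →* AlgebraicClosure K :=
    { toFun := fun g => φ (g.1.1 0 0) + φ (g.1.1 0 1) * i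
      map_one' := by simp
      map_mul' := fun g g' => by
        obtain ⟨a1, a2⟩ := mem_rot.mp g'.2
        obtain ⟨b1, b2⟩ := mem_rot.mp g.2
        simp only [Subgroup.coe_mul, Matrix.SpecialLinearGroup.coe_mul, Matrix.mul_apply, Fin.sum_univ_two,
          a1, a2, map_add, map_mul, map_neg]
        linear_combination φ (g.1.1 0 1) * φ (g'.1.1 0 1) * hi }
  refine isCyclic_of_injective_ringHom f ((injective_iff_map_eq_one f).mpr fun g hg => ?_)
  have hg' : φ (g.1.1 0 0) + φ (g.1.1 0 1) * i = 1 := hg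
  obtain ⟨e11, e10⟩ := mem_rot.mp g.2
  have hb : g.1.1 0 1 = 0 := by
    by_contra hb
    apply neg_one_nonsq hK
    refine ⟨(1 - g.1.1 0 0) / g.1.1 0 1, φ.injective ?_⟩
    have hb' : φ (g.1.1 0 1) ≠ 0 := (map_ne_zero φ).mpr hb
    have ei : i = (1 - φ (g.1.1 0 0)) / φ (g.1.1 0 1) := by
      rw [eq_div_iff hb']; linear_combination hg'
    rw [map_mul, map_neg, map_one, map_div₀, map_sub, map_one, ← ei]
    exact hi
  rw [hb, map_zero, zero_mul, add_zero, ← map_one φ] at hg'
  refine Subtype.ext (Subtype.ext ?_)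
  show g.1.1 = (1 : SpecialLinearGroup (Fin 2) K).1
  rw [one_val, Matrix.eta_fin_two g.1.1, e11, e10, hb, φ.injective hg', neg_zero]

theorem rot_sq_one {g : SpecialLinearGroup (Fin 2) K} (hg : g ∈ rot) :
    g * g = 1 ↔ g ∈ Subgroup.center (SpecialLinearGroup (Fin 2) K) := by
  obtain ⟨e11, e10⟩ := mem_rot.mp hg
  constructor
  · intro h
    have h' := congrArg Subtype.val h
    rw [Matrix.SpecialLinearGroup.coe_mul, one_val] at h'
    have e01 := congrFun (congrFun h' 0) 1
    have e00 := congrFun (congrFun h' 0) 0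
    simp [Matrix.mul_apply, Fin.sum_univ_two, e11, e10] at e01 e00
    have hd := rot_det hg
    have hb : g.1 0 1 = 0 := by
      have : (g.1 0 1) ^ 2 = 0 := by linear_combination (g.1 0 1) ^ 2 * three_eq_zero hK + e00 - hd
      exact eq_zero_of_pow_eq_zero this
    refine mem_center_sl (g.1 0 0) ?_
    conv_lhs => rw [Matrix.eta_fin_two g.1, e11, e10, hb, neg_zero]
  · intro h
    refine Subtype.ext ?_
    rw [Matrix.SpecialLinearGroup.coe_mul, one_val]
    rcases center_entries h with h | h <;> rw [h] <;>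
      (ext i j; fin_cases i <;> fin_cases j <;> simp [Matrix.mul_apply, Fin.sum_univ_two])

omit hK [Finite K] in
theorem wn_rot : (SL2.wn : SpecialLinearGroup (Fin 2) K) ∈ rot := by
  rw [rot, Subgroup.mem_centralizer_iff]
  rintro _ rfl
  rfl

/-- A generator of the torus of `PSL₂`. -/
noncomputable def zb : ProjectiveSpecialLinearGroup (Fin 2) K :=
  haveI := rot_cyclic hK
  QuotientGroup.mk ((IsCyclic.exists_generator (α := ↥(rot (K := K)))).choose.1)

theorem mk_rot_mem {g : SpecialLinearGroup (Fin 2) K} (hg : g ∈ rot) :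
    (QuotientGroup.mk g : ProjectiveSpecialLinearGroup (Fin 2) K) ∈ Subgroup.zpowers (zb hK) := by
  have := rot_cyclic hK
  obtain ⟨k, hk⟩ := (IsCyclic.exists_generator (α := ↥(rot (K := K)))).choose_spec ⟨g, hg⟩
  refine ⟨k, ?_⟩
  have h2 : (IsCyclic.exists_generator (α := ↥(rot (K := K)))).choose.1 ^ k = g := congrArg Subtype.val hk
  show zb hK ^ k = _
  rw [zb, ← QuotientGroup.mk_zpow, h2]

theorem orderOf_zb : 2 * orderOf (zb hK) = 3 ^ (2 * m + 1) + 1 := by
  have := rot_cyclic hK
  set r := (IsCyclic.exists_generator (α := ↥(rot (K := K)))).choose with hr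
  have ho : orderOf r.1 = 3 ^ (2 * m + 1) + 1 := by
    rw [Subgroup.orderOf_coe, orderOf_eq_card_of_forall_mem_zpowers
      (IsCyclic.exists_generator (α := ↥(rot (K := K)))).choose_spec, card_rot hK]
  have key : ∀ n : ℕ, zb hK ^ n = 1 ↔ 3 ^ (2 * m + 1) + 1 ∣ 2 * n := by
    intro n
    rw [show zb hK = QuotientGroup.mk r.1 from rfl, ← QuotientGroup.mk_pow, QuotientGroup.eq_one_iff,
      ← rot_sq_one hK (pow_mem r.2 n), ← pow_add, ← two_mul, ← orderOf_dvd_iff_pow_eq_one, ho]
  apply Nat.dvd_antisymm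
  · have he : 2 ∣ 3 ^ (2 * m + 1) + 1 := (Odd.add_one (Odd.pow (by decide : Odd 3))).two_dvd
    obtain ⟨j, hj⟩ := he
    have h1 : orderOf (zb hK) ∣ j := orderOf_dvd_iff_pow_eq_one.mpr ((key j).mpr (by rw [hj]))
    rw [hj]
    exact Nat.mul_dvd_mul_left 2 h1
  · exact (key _).mp (pow_orderOf_eq_one _)

theorem wb_mem_zb : wb ∈ Subgroup.zpowers (zb hK) := mk_rot_mem hK (wn_rot)

theorem wb_comm_iff {x : ProjectiveSpecialLinearGroup (Fin 2) K} :
    wb * x = x * wb ↔ x ∈ Subgroup.zpowers (zb hK) ∨ vb hK * x ∈ Subgroup.zpowers (zb hK) := by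
  have hzw : ∀ y ∈ Subgroup.zpowers (zb hK), wb * y = y * wb := fun y hy => by
    obtain ⟨j, hj⟩ := wb_mem_zb hK
    obtain ⟨k, hk⟩ := hy
    rw [← hj, ← hk]
    exact (Commute.zpow_zpow_self _ j k).eq
  constructor
  · induction x using QuotientGroup.induction_on with | H g =>
    intro h
    have hv := (exists_vv hK).choose_spec
    have h3 := three_eq_zero hK
    have e1 := mk_eq_mk_iff.mp ((QuotientGroup.mk_mul _ _ _).trans (h.trans (QuotientGroup.mk_mul _ _ _).symm))
    simp only [Matrix.SpecialLinearGroup.coe_mul, wn_val] at e1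
    rcases e1 with e1 | e1
    · left
      refine mk_rot_mem hK (mem_rot.mpr ⟨?_, ?_⟩)
      · have := congrFun (congrFun e1 0) 1
        simp [Matrix.mul_apply, Fin.sum_univ_two] at this
        linear_combination -this
      · have := congrFun (congrFun e1 0) 0
        simp [Matrix.mul_apply, Fin.sum_univ_two] at this
        linear_combination -this
    · right
      rw [vb, ← QuotientGroup.mk_mul]
      refine mk_rot_mem hK ?_
      rw [rot, Subgroup.mem_centralizer_iff]
      rintro _ rfl
      refine Subtype.ext ?_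
      simp only [Matrix.SpecialLinearGroup.coe_mul, wn_val, hv]
      calc (!![0, 1; -1, 0] : Matrix (Fin 2) (Fin 2) K) * (!![1, 1; 1, -1] * g.1)
          = -(!![1, 1; 1, -1] * (!![0, 1; -1, 0] * g.1)) := by
            rw [← mul_assoc, ← mul_assoc, ← Matrix.neg_mul]
            congr 1
            ext i j; fin_cases i <;> fin_cases j <;> simp [Matrix.mul_apply, Fin.sum_univ_two]
        _ = !![1, 1; 1, -1] * g.1 * !![0, 1; -1, 0] := by
            rw [← Matrix.mul_neg, ← e1, mul_assoc]
  · rintro (h | h)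
    · exact hzw x h
    · obtain ⟨-, kv, kc⟩ := klein_rel hK
      have h2 := hzw _ h
      rw [← mul_assoc, ← kc, mul_assoc, mul_assoc] at h2
      exact mul_left_cancel h2

end CfsgLib.Chevalley.Twist.G2
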