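import Cfsg.Agent.Lib.Chevalley.Twist.G2OrderCount

/-!
Solvable subgroups of ²G₂ normalise a Sylow subgroup or a torus.
-/

set_option autoImplicit false
set_option maxRecDepth 20000
set_option Elab.async false

namespace CfsgLib.Chevalley.Twist.G2

open Tbl

local notation "T2" => Data.G2.tbl

/-- A finite non-trivial solvable group has a normal elementary abelian subgroup. -/
theorem exists_elementary (H : Type*) [Group H] [Finite H] (hs : Group.IsSolvable H) [Nontrivial H] :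
    ∃ p : ℕ, p.Prime ∧ ∃ U : Subgroup H, U.Normal ∧ U ≠ ⊥ ∧ (∀ x ∈ U, x ^ p = 1) ∧
      ∀ x ∈ U, ∀ y ∈ U, x * y = y * x := by
  classical
  have hex := (isSolvable_def H).mp hs
  set n := Nat.find hex with hn
  have hn0 : n ≠ 0 := fun e => by
    have := Nat.find_spec hex
    rw [← hn, e, derivedSeries_zero] at this
    exact top_ne_bot this
  obtain ⟨k, hk⟩ := Nat.exists_eq_succ_of_ne_zero hn0
  set D := derivedSeries H k
  have hD : D ≠ ⊥ := Nat.find_min hex (by omega)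
  have hc : ∀ x ∈ D, ∀ y ∈ D, x * y = y * x := by
    intro x hx y hy
    have h := Nat.find_spec hex
    rw [← hn, hk, derivedSeries_succ] at h
    exact commutatorElement_eq_one_iff_mul_comm.mp ((Subgroup.mem_bot).mp (h ▸ Subgroup.commutator_mem_commutator hx hy))
  obtain ⟨p, hp, hpd⟩ := Nat.exists_prime_and_dvd (show Nat.card ↥D ≠ 1 from fun e => hD (Subgroup.eq_bot_of_card_eq D e))
  have : Fact p.Prime := ⟨hp⟩
  obtain ⟨w, hw⟩ := exists_prime_orderOf_dvd_card' (G := ↥D) p hpd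
  let U : Subgroup H :=
    { carrier := {x | x ∈ D ∧ x ^ p = 1}
      one_mem' := ⟨one_mem D, one_pow p⟩
      mul_mem' := fun {a b} ha hb => ⟨mul_mem ha.1 hb.1, by
        rw [(show Commute a b from hc a ha.1 b hb.1).mul_pow, ha.2, hb.2, one_mul]⟩
      inv_mem' := fun {a} ha => ⟨inv_mem ha.1, by rw [inv_pow, ha.2, inv_one]⟩ }
  refine ⟨p, hp, U, ⟨fun x hx g => ⟨(derivedSeries_normal H k).conj_mem x hx.1 g, ?_⟩⟩, fun e => ?_,
    fun x hx => hx.2, fun x hx y hy => hc x hx.1 y hy.1⟩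
  · rw [_root_.conj_pow, hx.2, mul_one, mul_inv_cancel]
  · have h1 : (w : H) ∈ U := ⟨w.2, by rw [← Subgroup.coe_pow, ← hw, pow_orderOf_eq_one, OneMemClass.coe_one]⟩
    rw [e, Subgroup.mem_bot] at h1
    rw [show w = 1 from Subtype.ext h1, orderOf_one] at hw
    exact hp.ne_one hw.symm

/-- A normal elementary abelian subgroup which is not a lone central involution. -/
theorem exists_good (H : Type*) [Group H] [Finite H] (hs : Group.IsSolvable H) [Nontrivial H]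
    (h2 : ∀ W : Subgroup H, IsPGroup 2 ↥W → ∀ x ∈ W, x * x = 1) :
    ∃ p : ℕ, p.Prime ∧ ∃ U : Subgroup H, U.Normal ∧ U ≠ ⊥ ∧ (∀ x ∈ U, x ^ p = 1) ∧
      (∀ x ∈ U, ∀ y ∈ U, x * y = y * x) ∧ (p = 2 → Nat.card ↥U = 2 → U = ⊤) := by
  classical
  obtain ⟨p, hp, U, hU, hU1, hUp, hUc⟩ := exists_elementary H hs
  by_cases hb : p = 2 ∧ Nat.card ↥U = 2 ∧ U ≠ ⊤
  swap
  · exact ⟨p, hp, U, hU, hU1, hUp, hUc, fun e e' => by by_contra hne; exact hb ⟨e, e', hne⟩⟩
  obtain ⟨rfl, hc2, htop⟩ := hb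
  have : Nontrivial (H ⧸ U) := by
    obtain ⟨x, -, hx⟩ := SetLike.exists_of_lt (lt_top_iff_ne_top.mpr htop)
    exact ⟨⟨(x : H ⧸ U), 1, fun e => hx ((QuotientGroup.eq_one_iff x).mp e)⟩⟩
  obtain ⟨l, hl, V, hV, hV1, hVp, hVc⟩ := exists_elementary (H ⧸ U)
    (have := hs; Group.isSolvable_of_surjective (QuotientGroup.mk'_surjective U))
  set W := V.comap (QuotientGroup.mk' U) with hW
  have hWn : W.Normal := hV.comap _
  have hWp : ∀ x ∈ W, x ^ l ∈ U := fun x hx => by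
    rw [← QuotientGroup.eq_one_iff, QuotientGroup.mk_pow]
    exact hVp _ hx
  have hU2 : ∀ c ∈ U, c * c = 1 := fun c hc => by rw [← pow_two]; exact hUp c hc
  have hcent : ∀ c ∈ U, ∀ g : H, g * c = c * g := by
    intro c hc g
    by_cases h1 : c = 1
    · simp [h1]
    obtain ⟨a, b, hab, huniv⟩ := Nat.card_eq_two_iff.mp hc2
    have hall : ∀ d ∈ U, d ≠ 1 → d = c := by
      intro d hd hd1
      have key : ∀ z : ↥U, z = a ∨ z = b := fun z => by
        have : z ∈ ({a, b} : Set ↥U) := huniv ▸ Set.mem_univ z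
        simpa using this
      rcases key ⟨d, hd⟩ with e1 | e1 <;> rcases key ⟨c, hc⟩ with e2 | e2 <;> rcases key 1 with e3 | e3 <;>
        first
        | exact congrArg Subtype.val (e1.trans e2.symm)
        | exact absurd (congrArg Subtype.val (e1.trans e3.symm)) hd1
        | exact absurd (congrArg Subtype.val (e2.trans e3.symm)) h1
    have h := hall _ (hU.conj_mem c hc g) fun e => h1 (conj_eq_one_iff.mp e)
    exact mul_inv_eq_iff_eq_mul.mp h
  obtain ⟨x0, hx0W, hx0U⟩ : ∃ x ∈ W, x ∉ U := by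
    obtain ⟨v, hv, hv1⟩ := (Subgroup.bot_or_exists_ne_one V).resolve_left hV1
    induction v using QuotientGroup.induction_on with | H z =>
    exact ⟨z, hv, fun h => hv1 ((QuotientGroup.eq_one_iff z).mpr h)⟩
  by_cases hl2 : l = 2
  · subst hl2
    have hg : IsPGroup 2 ↥W := fun x => ⟨2, Subtype.ext (by
      rw [Subgroup.coe_pow, OneMemClass.coe_one, show 2 ^ 2 = 2 * 2 from rfl, pow_mul, pow_two]
      exact hU2 _ (hWp x x.2))⟩
    have hsq := h2 W hg
    refine ⟨2, Nat.prime_two, W, hWn, fun e => hx0U ?_, fun x hx => by rw [pow_two]; exact hsq x hx,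
      fun x hx y hy => ?_, fun _ e => ?_⟩
    · have : x0 = 1 := by rw [e] at hx0W; exact hx0W
      rw [this]; exact one_mem U
    · have h := hsq _ (mul_mem hx hy)
      calc x * y = x * (x * y * (x * y)) * y := by rw [h, mul_one]
        _ = (x * x) * (y * x) * (y * y) := by group
        _ = y * x := by rw [hsq x hx, hsq y hy, one_mul, mul_one]
    · exfalso
      refine hx0U ?_
      have hle : U ≤ W := fun u hu => by
        show (QuotientGroup.mk' U) u ∈ V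
        rw [show (QuotientGroup.mk' U) u = 1 from (QuotientGroup.eq_one_iff u).mpr hu]
        exact one_mem V
      rw [Subgroup.eq_of_le_of_card_ge hle (by rw [e, hc2])]
      exact hx0W
  · have hodd : Odd l := hl.odd_of_ne_two hl2
    have hWc : ∀ x ∈ W, ∀ y ∈ W, x * y = y * x := by
      intro x hx y hy
      have hc : y * x * y⁻¹ * x⁻¹ ∈ U := by
        rw [← QuotientGroup.eq_one_iff]
        have h := hVc _ hy _ hx
        simp only [QuotientGroup.mk'_apply] at h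
        rw [QuotientGroup.mk_mul, QuotientGroup.mk_mul, QuotientGroup.mk_mul, QuotientGroup.mk_inv,
          QuotientGroup.mk_inv, h]
        group
      set c := y * x * y⁻¹ * x⁻¹ with hcdef
      have h1 : (y * x * y⁻¹) ^ l = x ^ l := by
        rw [_root_.conj_pow, hcent _ (hWp x hx) y, mul_inv_cancel_right]
      rw [show y * x * y⁻¹ = c * x by rw [hcdef]; group,
        (show Commute c x from (hcent c hc x).symm).mul_pow, mul_eq_right] at h1
      have hc1 : c = 1 := by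
        obtain ⟨j, hj⟩ := hodd
        rw [hj, pow_succ, pow_mul, pow_two, hU2 c hc, one_pow, one_mul] at h1
        exact h1
      have h3 : y * x = c * (x * y) := by rw [hcdef]; group
      rw [h3, hc1, one_mul]
    let U' : Subgroup H :=
      { carrier := {x | x ∈ W ∧ x ^ l = 1}
        one_mem' := ⟨one_mem W, one_pow l⟩
        mul_mem' := fun {a b} ha hb => ⟨mul_mem ha.1 hb.1, by
          rw [(show Commute a b from hWc a ha.1 b hb.1).mul_pow, ha.2, hb.2, one_mul]⟩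
        inv_mem' := fun {a} ha => ⟨inv_mem ha.1, by rw [inv_pow, ha.2, inv_one]⟩ }
    refine ⟨l, hl, U', ⟨fun x hx g => ⟨hWn.conj_mem x hx.1 g, by
      rw [_root_.conj_pow, hx.2, mul_one, mul_inv_cancel]⟩⟩, fun e => hx0U ?_, fun x hx => hx.2,
      fun x hx y hy => hWc x hx.1 y hy.1, fun e => absurd e hl2⟩
    have h1 : x0 * x0 ∈ U' := ⟨mul_mem hx0W hx0W, by
      rw [(Commute.refl x0).mul_pow]; exact hU2 _ (hWp x0 hx0W)⟩
    rw [e, Subgroup.mem_bot] at h1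
    obtain ⟨j, hj⟩ := hodd
    have h := hWp x0 hx0W
    rwa [hj, pow_succ, pow_mul, pow_two, h1, one_pow, one_mul] at h

theorem mem_normalizer_map {G : Type*} [Group G] (A : Subgroup G) {k s : G}
    (h : k * s * k⁻¹ ∈ Subgroup.normalizer (A : Set G)) :
    s ∈ Subgroup.normalizer ((A.map (MulAut.conj k⁻¹).toMonoidHom : Subgroup G) : Set G) := by
  rw [Subgroup.mem_normalizer_iff] at h ⊢
  have hmem : ∀ x : G, x ∈ A.map (MulAut.conj k⁻¹).toMonoidHom ↔ k * x * k⁻¹ ∈ A := by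
    intro x
    constructor
    · rintro ⟨a, ha, rfl⟩
      simp only [MulEquiv.coe_toMonoidHom, MulAut.conj_apply]
      rwa [show k * (k⁻¹ * a * k⁻¹⁻¹) * k⁻¹ = a by group]
    · intro hx
      exact ⟨k * x * k⁻¹, hx, by simp only [MulEquiv.coe_toMonoidHom, MulAut.conj_apply]; group⟩
  intro x
  rw [hmem, hmem, h, show k * s * k⁻¹ * (k * x * k⁻¹) * (k * s * k⁻¹)⁻¹ = k * (s * x * s⁻¹) * k⁻¹ by group]

variable {K : Type*} [Field K] [Finite K] {m : ℕ} (hK : Nat.card K = 3 ^ (2 * m + 1))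
include hK

/-- The allowed subgroups. -/
def LocalTarget (A : Subgroup ↥(S hK).fix) : Prop :=
  (∃ P : Sylow 2 ↥(S hK).fix, A = P) ∨ (∃ P : Sylow 3 ↥(S hK).fix, A = P) ∨
    (IsCyclic A ∧ (Nat.card A = (3 ^ (2 * m + 1) - 1) / 2 ∨ Nat.card A = (3 ^ (2 * m + 1) + 1) / 4 ∨
      Nat.card A = 3 ^ (2 * m + 1) - 3 ^ (m + 1) + 1 ∨ Nat.card A = 3 ^ (2 * m + 1) + 3 ^ (m + 1) + 1))

theorem target_conj {A : Subgroup ↥(S hK).fix} (hA : IsCyclic ↥A)
    (hc : Nat.card A = (3 ^ (2 * m + 1) - 1) / 2 ∨ Nat.card A = (3 ^ (2 * m + 1) + 1) / 4 ∨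
      Nat.card A = 3 ^ (2 * m + 1) - 3 ^ (m + 1) + 1 ∨ Nat.card A = 3 ^ (2 * m + 1) + 3 ^ (m + 1) + 1)
    (k : ↥(S hK).fix) : LocalTarget hK (A.map (MulAut.conj k).toMonoidHom) := by
  let e := A.equivMapOfInjective (MulAut.conj k).toMonoidHom (MulEquiv.injective _)
  exact Or.inr (Or.inr ⟨e.isCyclic.mp hA, by rw [← Nat.card_congr e.toEquiv]; exact hc⟩)

/-- A subgroup with an element of a trivial intersection torus. -/
theorem into_ti {R V A : Subgroup ↥(S hK).fix} {k w : ↥(S hK).fix}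
    (hnorm : ∀ s ∈ R, ∀ v ∈ V, s * v * s⁻¹ ∈ V) (hw : w ∈ V) (hw1 : w ≠ 1)
    (hV : ∀ v ∈ V, k * v * k⁻¹ ∈ A)
    (hti : ∀ a ∈ A, a ≠ 1 → ∀ g : ↥(S hK).fix, g * a * g⁻¹ ∈ A → g ∈ Subgroup.normalizer (A : Set ↥(S hK).fix)) :
    R ≤ Subgroup.normalizer ((A.map (MulAut.conj k⁻¹).toMonoidHom : Subgroup ↥(S hK).fix) : Set ↥(S hK).fix) :=
  fun s hs => mem_normalizer_map A (hti _ (hV w hw) (fun e => hw1 (conj_eq_one_iff.mp e)) _ (by
    rw [show k * s * k⁻¹ * (k * w * k⁻¹) * (k * s * k⁻¹)⁻¹ = k * (s * w * s⁻¹) * k⁻¹ by group]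
    exact hV _ (hnorm s hs w hw)))

theorem three_case {R V : Subgroup ↥(S hK).fix} (hnorm : ∀ s ∈ R, ∀ v ∈ V, s * v * s⁻¹ ∈ V)
    (hcomm : ∀ x ∈ V, ∀ y ∈ V, x * y = y * x) (hp : ∀ v ∈ V, v ^ 3 = 1) {w : ↥(S hK).fix} (hw : w ∈ V)
    (hw1 : w ≠ 1) :
    ∃ A : Subgroup ↥(S hK).fix, R ≤ Subgroup.normalizer (A : Set ↥(S hK).fix) ∧ LocalTarget hK A := by
  have : Fact (Nat.Prime 3) := ⟨Nat.prime_three⟩
  have ho : ∀ v ∈ V, v ≠ 1 → orderOf v = 3 := fun v hv h1 => orderOf_eq_prime (hp v hv) h1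
  obtain ⟨x, hx, hxu⟩ := three_uniq hK (ho w hw hw1)
  have hVfix : ∀ v ∈ V, v • x = x := by
    intro v hv
    refine hxu _ ?_
    show w • v • x = v • x
    rw [smul_smul, hcomm w hw v hv, mul_smul, hx]
  have hRfix : ∀ s ∈ R, s • x = x := by
    intro s hs
    refine hxu _ ?_
    show w • s • x = s • x
    have h := hVfix _ (hnorm s⁻¹ (inv_mem hs) w hw)
    rw [inv_inv] at h
    calc w • s • x = s • ((s⁻¹ * w * s) • x) := by simp only [smul_smul]; congr 1; group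
      _ = s • x := by rw [h]
  obtain ⟨k, hk⟩ := MulAction.exists_smul_eq ↥(S hK).fix x (pInf hK)
  have hcard : Nat.card ↥((Upart hK).map (MulAut.conj k⁻¹).toMonoidHom) =
      3 ^ (Nat.card ↥(S hK).fix).factorization 3 := by
    have hn : ¬ 3 ∣ (3 ^ (2 * m + 1) - 1) * (3 ^ (2 * m + 1) + 1) * hexN m := by
      obtain ⟨h1, -, h3, -⟩ := q_facts m
      rw [Nat.prime_three.dvd_mul, Nat.prime_three.dvd_mul]
      rintro ((h | h) | h)
      · omega
      · omega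
      · exact (hexN_prime Nat.prime_three h).2.1 rfl
    rw [Subgroup.card_map_of_injective (MulEquiv.injective _), card_Upart hK, card_fix' hK,
      show (3 ^ (2 * m + 1)) ^ 3 * (3 ^ (2 * m + 1) - 1) * (3 ^ (2 * m + 1) + 1) * hexN m =
        (3 ^ (2 * m + 1)) ^ 3 * ((3 ^ (2 * m + 1) - 1) * (3 ^ (2 * m + 1) + 1) * hexN m) by ring,
      Nat.factorization_mul (by positivity) (fun h => hn (by rw [h]; exact dvd_zero 3)), Finsupp.add_apply,
      Nat.factorization_eq_zero_of_not_dvd hn, add_zero, ← pow_mul, Nat.prime_three.factorization_pow,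
      Finsupp.single_eq_same]
  refine ⟨_, fun s hs => ?_, Or.inr (Or.inl ⟨Sylow.ofCard _ hcard, rfl⟩)⟩
  refine mem_normalizer_map _ (ToriGen.mem_normalizer_of_conj fun b hb => ?_)
  have hst : (k * s * k⁻¹) • pInf hK = pInf hK := by
    rw [← hk, smul_smul, inv_mul_cancel_right, mul_smul, hRfix s hs]
  refine stab_Upart hK ?_ (n := 3 ^ (3 * (2 * m + 1))) ((coprime_three m).pow_left _) ?_
  · have hb0 := stab_of_Upart hK hb
    rw [mul_smul, mul_smul, show (k * s * k⁻¹)⁻¹ • pInf hK = pInf hK by rw [inv_smul_eq_iff, hst], hb0, hst]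
  · rw [_root_.conj_pow]
    have h := pow_card_eq_one' (x := (⟨b, hb⟩ : ↥(Upart hK)))
    rw [card_Upart hK, ← pow_mul, mul_comm (2 * m + 1)] at h
    rw [show b ^ 3 ^ (3 * (2 * m + 1)) = 1 from congrArg Subtype.val h, mul_one, mul_inv_cancel]

/-- A four-group lies in a conjugate of the standard one. -/
theorem klein_conj {x : ↥(S hK).fix} (hx : x ∈ eight hK) (hx1 : x ≠ 1) (hxh : x ≠ h0 hK) :
    ∃ n : ↥(S hK).fix, n * h0 hK * n⁻¹ = h0 hK ∧ n * x * n⁻¹ ∈ four hK := by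
  obtain ⟨⟨z, kk⟩, rfl⟩ := hx
  have hy := klein_range_cases hK ⟨kk, rfl⟩
  have hz : eightHom hK (z, kk) = psi hK (z, klein hK kk) := rfl
  rw [hz] at hx1 hxh ⊢
  generalize klein hK kk = y at hy hx1 hxh ⊢
  have hmem : ∀ y', y' = (1 : Matrix.ProjectiveSpecialLinearGroup (Fin 2) K) ∨ y' = wb →
      psi hK (z, y') ∈ four hK := by
    intro y' hy'
    refine ⟨(z, y'), Subgroup.mem_prod.mpr ⟨Subgroup.mem_top _, ?_⟩, rfl⟩
    rcases hy' with rfl | rfl
    exacts [one_mem _, Subgroup.mem_zpowers _]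
  obtain ⟨r1, r2⟩ := gg_rel hK
  set g : Matrix.ProjectiveSpecialLinearGroup (Fin 2) K := QuotientGroup.mk gg
  have hconj : ∀ a : Matrix.ProjectiveSpecialLinearGroup (Fin 2) K,
      gen2 hK a * h0 hK * (gen2 hK a)⁻¹ = h0 hK ∧ gen2 hK a * psi hK (z, y) * (gen2 hK a)⁻¹ = psi hK (z, a * y * a⁻¹) := by
    intro a
    constructor
    · have h0' : gen2 hK a ∈ (psi hK).range := ⟨(1, a), rfl⟩
      rw [psi_range hK, mem_cent_one] at h0'
      rw [← h0', mul_inv_cancel_right]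
    · rw [gen2, ← map_inv, ← map_mul, ← map_mul]
      simp
  rcases hy with rfl | rfl | rfl | rfl
  · exact ⟨1, by group, by rw [one_mul, inv_one, mul_one]; exact hmem _ (Or.inl rfl)⟩
  · exact ⟨1, by group, by rw [one_mul, inv_one, mul_one]; exact hmem _ (Or.inr rfl)⟩
  · refine ⟨gen2 hK g⁻¹, (hconj _).1, ?_⟩
    rw [(hconj g⁻¹).2]
    refine hmem _ (Or.inr ?_)
    rw [inv_inv, mul_assoc, inv_mul_eq_iff_eq_mul]
    exact r1.symm
  · refine ⟨gen2 hK (g * g)⁻¹, (hconj _).1, ?_⟩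
    rw [(hconj (g * g)⁻¹).2]
    refine hmem _ (Or.inr ?_)
    rw [inv_inv, mul_assoc (g * g)⁻¹, inv_mul_eq_iff_eq_mul]
    calc wb * vb hK * (g * g) = wb * vb hK * g * g := by group
      _ = g * (vb hK * g) := by rw [← r2]; group
      _ = g * g * wb := by rw [← r1]; group

theorem four_case {R V : Subgroup ↥(S hK).fix} (hnorm : ∀ s ∈ R, ∀ v ∈ V, s * v * s⁻¹ ∈ V)
    (hV4 : Nat.card ↥V = 4) :
    ∃ A : Subgroup ↥(S hK).fix, R ≤ Subgroup.normalizer (A : Set ↥(S hK).fix) ∧ LocalTarget hK A := by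
  classical
  have : Fact (Nat.Prime 2) := ⟨Nat.prime_two⟩
  have hVp : IsPGroup 2 ↥V := IsPGroup.of_card (n := 2) hV4
  obtain ⟨Q, hQ⟩ := hVp.exists_le_sylow
  obtain ⟨g, hg⟩ := MulAction.exists_smul_eq ↥(S hK).fix Q (syl hK)
  have hV8 : ∀ v ∈ V, g * v * g⁻¹ ∈ eight hK := by
    intro v hv
    show g * v * g⁻¹ ∈ ((syl hK : Sylow 2 _) : Subgroup ↥(S hK).fix)
    rw [← hg]
    exact ⟨v, hQ hv, rfl⟩
  obtain ⟨a, ha, ha1⟩ : ∃ a ∈ V, a ≠ 1 := (Subgroup.bot_or_exists_ne_one V).resolve_left fun e => by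
    rw [e, Subgroup.card_bot] at hV4; omega
  obtain ⟨b, hb, hb1, hba⟩ : ∃ b ∈ V, b ≠ 1 ∧ b ≠ a := by
    by_contra hall
    push Not at hall
    have h3 := Set.ncard_le_ncard (show (V : Set ↥(S hK).fix) ⊆ {1, a} from fun v hv => by
      by_cases h : v = 1
      · exact Or.inl h
      · exact Or.inr (hall v hv h)) (Set.toFinite _)
    rw [← Nat.card_coe_set_eq, show Nat.card ↥(V : Set ↥(S hK).fix) = 4 from hV4] at h3
    have h2 := (Set.ncard_insert_le (1 : ↥(S hK).fix) ({a} : Set _))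
    rw [Set.ncard_singleton] at h2
    omega
  obtain ⟨n, hn, hna⟩ := eight_conj_transitive hK (hV8 a ha) (fun e => ha1 (conj_eq_one_iff.mp e))
  set k1 := n⁻¹ * g with hk1
  have hk1a : k1 * a * k1⁻¹ = h0 hK := by
    rw [hk1, show n⁻¹ * g * a * (n⁻¹ * g)⁻¹ = n⁻¹ * (g * a * g⁻¹) * n by group, ← hna]; group
  have hk1b : k1 * b * k1⁻¹ ∈ eight hK := by
    rw [hk1, show n⁻¹ * g * b * (n⁻¹ * g)⁻¹ = n⁻¹ * (g * b * g⁻¹) * n⁻¹⁻¹ by group]
    exact ((mem_nor hK).mp (inv_mem hn) _).mp (hV8 b hb)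
  obtain ⟨n', hn'0, hn'⟩ := klein_conj hK hk1b (fun e => hb1 (conj_eq_one_iff.mp e))
    (fun e => hba (by rw [← hk1a] at e; exact mul_left_cancel (mul_right_cancel e)))
  set k := n' * k1 with hk
  have hle : V.map (MulAut.conj k).toMonoidHom = four hK := by
    refine Subgroup.eq_of_le_of_card_ge ?_ (by
      rw [card_four hK, Subgroup.card_map_of_injective (MulEquiv.injective _), hV4])
    have hka : k * a * k⁻¹ ∈ four hK := by
      rw [hk, show n' * k1 * a * (n' * k1)⁻¹ = n' * (k1 * a * k1⁻¹) * n'⁻¹ by group, hk1a, hn'0]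
      exact (four_mem hK).1
    have hkb : k * b * k⁻¹ ∈ four hK := by
      rw [hk, show n' * k1 * b * (n' * k1)⁻¹ = n' * (k1 * b * k1⁻¹) * n'⁻¹ by group]
      exact hn'
    have hset : ({1, a, b, a * b} : Set ↥(S hK).fix) = (V : Set ↥(S hK).fix) := by
      have hab1 : a * b ≠ 1 := fun e => by
        have hea : (g * a * g⁻¹) * (g * a * g⁻¹) = 1 := eight_sq hK (hV8 a ha)
        rw [show g * a * g⁻¹ * (g * a * g⁻¹) = g * (a * a) * g⁻¹ by group, conj_eq_one_iff] at hea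
        exact hba (mul_left_cancel (e.trans hea.symm))
      refine Set.eq_of_subset_of_ncard_le ?_ ?_ (Set.toFinite _)
      · rintro v (rfl | rfl | rfl | rfl)
        exacts [one_mem V, ha, hb, mul_mem ha hb]
      · rw [← Nat.card_coe_set_eq, show Nat.card ↥(V : Set ↥(S hK).fix) = 4 from hV4,
          Set.ncard_insert_of_notMem, Set.ncard_insert_of_notMem, Set.ncard_pair]
        · exact fun e => ha1 (mul_eq_right.mp e.symm)
        · simp only [Set.mem_insert_iff, Set.mem_singleton_iff, not_or]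
          exact ⟨Ne.symm hba, fun e => hb1 (left_eq_mul.mp e)⟩
        · simp only [Set.mem_insert_iff, Set.mem_singleton_iff, not_or]
          exact ⟨Ne.symm ha1, Ne.symm hb1, Ne.symm hab1⟩
    rintro _ ⟨v, hv, rfl⟩
    have hv' : v ∈ ({1, a, b, a * b} : Set ↥(S hK).fix) := hset ▸ hv
    simp only [MulEquiv.coe_toMonoidHom, MulAut.conj_apply]
    rcases hv' with rfl | rfl | rfl | rfl
    · rw [mul_one, mul_inv_cancel]; exact one_mem _
    · exact hka
    · exact hkb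
    · rw [show k * (a * b) * k⁻¹ = k * a * k⁻¹ * (k * b * k⁻¹) by group]; exact mul_mem hka hkb
  refine ⟨(aTor hK).map (MulAut.conj k⁻¹).toMonoidHom, fun s hs => mem_normalizer_map _ (norFour_eq_aTor hK
    (ToriGen.mem_normalizer_of_conj fun c hc => ?_)), target_conj hK (Subgroup.isCyclic_zpowers _)
    (Or.inr (Or.inl (card_aTor hK))) _⟩
  obtain ⟨v, hv, rfl⟩ := hle.symm ▸ hc
  rw [← hle]
  exact ⟨s * v * s⁻¹, hnorm s hs v hv, by simp only [MulEquiv.coe_toMonoidHom, MulAut.conj_apply]; group⟩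

variable (hm : 1 ≤ m)
include hm

theorem odd_case {R V : Subgroup ↥(S hK).fix} (hnorm : ∀ s ∈ R, ∀ v ∈ V, s * v * s⁻¹ ∈ V)
    (hcomm : ∀ x ∈ V, ∀ y ∈ V, x * y = y * x) {p : ℕ} (hp : p.Prime) (hp2 : p ≠ 2) (hp3 : p ≠ 3)
    (hpow : ∀ v ∈ V, v ^ p = 1) {w : ↥(S hK).fix} (hw : w ∈ V) (hw1 : w ≠ 1) :
    ∃ A : Subgroup ↥(S hK).fix, R ≤ Subgroup.normalizer (A : Set ↥(S hK).fix) ∧ LocalTarget hK A := by
  have : Fact p.Prime := ⟨hp⟩
  have hwo : orderOf w = p := orderOf_eq_prime (hpow w hw) hw1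
  have hpG : p ∣ (3 ^ (2 * m + 1)) ^ 3 * (3 ^ (2 * m + 1) - 1) * (3 ^ (2 * m + 1) + 1) * hexN m :=
    card_fix' hK ▸ hwo ▸ orderOf_dvd_natCard w
  have hcommk : ∀ k, ∀ v ∈ V, k * w * k⁻¹ * (k * v * k⁻¹) = k * v * k⁻¹ * (k * w * k⁻¹) := fun k v hv => by
    calc k * w * k⁻¹ * (k * v * k⁻¹) = k * (w * v) * k⁻¹ := by group
      _ = k * (v * w) * k⁻¹ := by rw [hcomm w hw v hv]
      _ = _ := by group
  rcases prime_cases hp hpG with h | h | ⟨-, hpm⟩ | hpk | hpN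
  · exact absurd h hp3
  · exact absurd h hp2
  · obtain ⟨k, hk⟩ := conj_into_torus hK hp2 hpm (k := 1) (hwo.trans (pow_one p).symm)
    have := hF_cyclic hK
    have := sqTor_cyclic hK
    have hpc : p ∣ Nat.card ↥(sqTor hK) := by
      rw [card_sqTor hK]
      obtain ⟨h1, h8, -, -⟩ := q_facts m
      have h2 : 3 ^ (2 * m + 1) - 1 = 2 * ((3 ^ (2 * m + 1) - 1) / 2) := by omega
      rw [h2] at hpm
      exact (hp.dvd_mul.mp hpm).resolve_left fun h =>
        hp2 ((Nat.prime_dvd_prime_iff_eq hp Nat.prime_two).mp h)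
    obtain ⟨c, hc⟩ := hk
    have hc2 : c * c ≠ 1 := fun e => by
      have h2 : orderOf (k * w * k⁻¹) ∣ 2 := orderOf_dvd_of_pow_eq_one (by rw [← hc, ← map_pow, pow_two, e, map_one])
      rw [show k * w * k⁻¹ = MulAut.conj k w from rfl, MulEquiv.orderOf_eq, hwo] at h2
      exact hp2 ((Nat.prime_dvd_prime_iff_eq hp Nat.prime_two).mp h2)
    refine ⟨_, into_ti hK hnorm hw hw1 (k := k) (A := sqTor hK) (fun v hv => ?_) (fun a ha ha1 g hg =>
      (norm_sqTor hK hm).symm ▸ sqTor_ti hK ha ha1 hg), target_conj hK inferInstance (Or.inl (card_sqTor hK)) _⟩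
    obtain ⟨j, hj⟩ := hpc
    refine ToriGen.mem_of_pow (sqTor_le hK) ?_ (by
      rw [hj, pow_mul, _root_.conj_pow, hpow v hv, mul_one, mul_inv_cancel, one_pow])
    rw [← cent_torus hK hc2, hc, mem_cent_one]
    exact hcommk k v hv
  · obtain ⟨k, hk⟩ := conj_into_aTor hK hpk (k := 1) (hwo.trans (pow_one p).symm)
    refine ⟨_, into_ti hK hnorm hw hw1 (k := k) (A := aTor hK) (fun v hv => cFour_odd hK (cTor_le hK ?_) ?_)
      (fun a ha ha1 g hg => (norm_aTor hK hm).symm ▸ (aTor_ti hK hm ha ha1 hg).1),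
      target_conj hK (Subgroup.isCyclic_zpowers _) (Or.inr (Or.inl (card_aTor hK))) _⟩
    · rw [← cent_aTor hK hm hk (fun e => hw1 (conj_eq_one_iff.mp e)), mem_cent_one]
      exact hcommk k v hv
    · refine Odd.of_dvd_nat (hp.odd_of_ne_two hp2) (orderOf_dvd_of_pow_eq_one ?_)
      rw [_root_.conj_pow, hpow v hv, mul_one, mul_inv_cancel]
  · obtain ⟨A, B, hA, hB, ha, hb, -, -, hord⟩ := hex_two hK hm
    have key : ∀ C : Subgroup ↥(S hK).fix, IsHexTor hK C → p ∣ Nat.card ↥C →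
        (Nat.card C = 3 ^ (2 * m + 1) - 3 ^ (m + 1) + 1 ∨ Nat.card C = 3 ^ (2 * m + 1) + 3 ^ (m + 1) + 1) →
        ∃ A : Subgroup ↥(S hK).fix, R ≤ Subgroup.normalizer (A : Set ↥(S hK).fix) ∧ LocalTarget hK A := by
      intro C hC hpC hcC
      obtain ⟨k, hk⟩ := hC.conj_into hK hm hpC hwo rfl
      refine ⟨_, into_ti hK hnorm hw hw1 (k := k) (A := C) (fun v hv => ?_)
        (fun a ha ha1 g hg => hC.ti hK hm ha ha1 hg), target_conj hK (hC.cyclic hK hm) (Or.inr (Or.inr hcC)) _⟩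
      rw [← hC.cent hK hm hk (fun e => hw1 (conj_eq_one_iff.mp e)), mem_cent_one]
      exact hcommk k v hv
    rcases hord w ⟨hw1, hwo ▸ hpN⟩ with h | h
    · exact key A hA (hwo ▸ h) (Or.inl ha)
    · exact key B hB (hwo ▸ h) (Or.inr hb)

/-- Solvable subgroups are local. -/
theorem solvable_local (R : Subgroup ↥(S hK).fix) (hR : Group.IsSolvable ↥R) :
    ∃ A : Subgroup ↥(S hK).fix, R ≤ Subgroup.normalizer (A : Set ↥(S hK).fix) ∧ LocalTarget hK A := by
  classical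
  have : Fact (Nat.Prime 2) := ⟨Nat.prime_two⟩
  have hsq : ∀ {W : Subgroup ↥(S hK).fix}, IsPGroup 2 ↥W → ∀ x ∈ W, x * x = 1 := fun hW x hx => by
    obtain ⟨Q, hQ⟩ := hW.exists_le_sylow
    exact (sylow_facts hK Q).2.1 x (hQ hx)
  by_cases hR1 : R = ⊥
  · obtain ⟨P⟩ : Nonempty (Sylow 2 ↥(S hK).fix) := inferInstance
    exact ⟨P, hR1 ▸ bot_le, Or.inl ⟨P, rfl⟩⟩
  have : Nontrivial ↥R := (Subgroup.nontrivial_iff_ne_bot R).mpr hR1
  obtain ⟨p, hp, U, hU, hU1, hUp, hUc, hU2⟩ := exists_good ↥R hR fun W hW x hx => Subtype.ext (hsq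
    (W := W.map R.subtype) (hW.map R.subtype) x.1 ⟨x, hx, rfl⟩)
  set V := U.map R.subtype with hV
  have hVR : V ≤ R := Subgroup.map_subtype_le U
  have hnorm : ∀ s ∈ R, ∀ v ∈ V, s * v * s⁻¹ ∈ V := by
    rintro s hs _ ⟨u, hu, rfl⟩
    refine ⟨⟨s, hs⟩ * u * ⟨s, hs⟩⁻¹, hU.conj_mem u hu _, ?_⟩
    rw [map_mul, map_mul, map_inv, Subgroup.coe_subtype]
  have hcomm : ∀ x ∈ V, ∀ y ∈ V, x * y = y * x := by
    rintro _ ⟨x, hx, rfl⟩ _ ⟨y, hy, rfl⟩
    rw [← map_mul, ← map_mul, hUc x hx y hy]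
  have hpow : ∀ v ∈ V, v ^ p = 1 := by
    rintro _ ⟨x, hx, rfl⟩
    rw [← map_pow, hUp x hx, map_one]
  obtain ⟨w, hw, hw1⟩ : ∃ w ∈ V, w ≠ 1 := (Subgroup.bot_or_exists_ne_one V).resolve_left fun e =>
    hU1 ((Subgroup.map_eq_bot_iff_of_injective _ R.subtype_injective).mp e)
  by_cases hp3 : p = 3
  · exact three_case hK hnorm hcomm (hp3 ▸ hpow) hw hw1
  by_cases hp2 : p = 2
  swap
  · exact odd_case hK hm hnorm hcomm hp hp2 hp3 hpow hw hw1
  subst hp2
  have hVp : IsPGroup 2 ↥V := fun v => ⟨1, Subtype.ext (by simpa using hpow v v.2)⟩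
  obtain ⟨Q, hQ⟩ := hVp.exists_le_sylow
  obtain ⟨hQ8, -, -, -⟩ := sylow_facts hK Q
  have hd : Nat.card ↥V ∣ 2 ^ 3 := by
    have h := Subgroup.card_dvd_of_le hQ
    rwa [hQ8] at h
  obtain ⟨j, hj, hcardV⟩ := (Nat.dvd_prime_pow Nat.prime_two).mp hd
  interval_cases j
  · exact absurd (Subgroup.eq_bot_of_card_eq V (by rw [hcardV]; rfl)) fun e => hw1 (by rw [e] at hw; exact hw)
  · have hUcard : Nat.card ↥U = 2 := by
      rw [← Subgroup.card_map_of_injective (f := R.subtype) R.subtype_injective]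
      exact hcardV.trans (pow_one 2)
    have hRV : R ≤ V := fun s hs => ⟨⟨s, hs⟩, by rw [hU2 rfl hUcard]; exact Subgroup.mem_top _, rfl⟩
    exact ⟨Q, (hRV.trans hQ).trans Subgroup.le_normalizer, Or.inl ⟨Q, rfl⟩⟩
  · exact four_case hK hnorm hcardV
  · have hVQ : V = Q := Subgroup.eq_of_le_of_card_ge hQ (by rw [hcardV, hQ8]; norm_num)
    exact ⟨Q, fun s hs => hVQ ▸ ToriGen.mem_normalizer_of_conj (hnorm s hs), Or.inl ⟨Q, rfl⟩⟩

end CfsgLib.Chevalley.Twist.G2
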