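import Cfsg.Agent.Lib.Chevalley.Twist.G2Tori

/-!
Sylow subgroups, normalisers of tori and element orders of ²G₂.
-/

set_option autoImplicit false
set_option maxRecDepth 20000
set_option Elab.async false

namespace CfsgLib.Chevalley.Twist.G2

open Tbl

local notation "T2" => Data.G2.tbl

theorem factor_split {c d n p : ℕ} (h : c * d = n) (hp : ¬ p ∣ d) (hc : c ≠ 0) :
    c.factorization p = n.factorization p := by
  rw [← h, Nat.factorization_mul hc (fun e => hp (by rw [e]; exact dvd_zero p)), Finsupp.add_apply,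
    Nat.factorization_eq_zero_of_not_dvd hp, add_zero]

variable {K : Type*} [Field K] [Finite K] {m : ℕ} (hK : Nat.card K = 3 ^ (2 * m + 1))
include hK

theorem hF_cyclic : IsCyclic ↥(hF hK).range :=
  isCyclic_of_surjective (hF hK).rangeRestrict (hF hK).rangeRestrict_surjective

theorem sylow_cyclic_gt (hm : 1 ≤ m) {p : ℕ} [Fact p.Prime] (hp : 3 < p) (P : Sylow p ↥(S hK).fix) :
    IsCyclic ↥(P : Subgroup ↥(S hK).fix) := by
  have hpp : p.Prime := Fact.out
  by_cases hd : p ∣ Nat.card ↥(S hK).fix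
  swap
  · have h1 : Nat.card ↥(P : Subgroup ↥(S hK).fix) = 1 := by
      rw [P.card_eq_multiplicity, Nat.factorization_eq_zero_of_not_dvd hd, pow_zero]
    have := (Nat.card_eq_one_iff_unique.mp h1).1
    infer_instance
  rw [card_fix' hK] at hd
  obtain ⟨h4, -, hkpos⟩ := kq_facts m
  obtain ⟨h1, -, -, -⟩ := q_facts m
  have h2' : ∀ {n : ℕ}, p ∣ n → n ≤ 3 → n ≠ 0 → False := fun h hn h0 => by
    have := Nat.le_of_dvd (by omega) h; omega
  rcases prime_cases hpp hd with rfl | rfl | ⟨hp2, hpm⟩ | hpk | hpN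
  · omega
  · omega
  · have := hF_cyclic hK
    refine ToriGen.sylow_cyclic (hF hK).range ?_ P
    rw [card_torus hK, card_fix' hK]
    refine factor_split (d := (3 ^ (2 * m + 1)) ^ 3 * (3 ^ (2 * m + 1) + 1) * hexN m) (by ring) ?_ (by omega)
    rw [hpp.dvd_mul, hpp.dvd_mul]
    rintro ((h | h) | h)
    · exact h2' (hpp.dvd_of_dvd_pow (hpp.dvd_of_dvd_pow h)) le_rfl (by omega)
    · have := Nat.dvd_sub h hpm
      rw [show 3 ^ (2 * m + 1) + 1 - (3 ^ (2 * m + 1) - 1) = 2 by omega] at this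
      exact h2' this (by omega) (by omega)
    · exact (hexN_prime hpp h).2.2.1 hpm
  · have : IsCyclic ↥(aTor hK) := Subgroup.isCyclic_zpowers _
    refine ToriGen.sylow_cyclic (aTor hK) ?_ P
    obtain ⟨-, -, hm1, hp1⟩ := kq_prime hpp hpk
    rw [card_aTor hK, card_fix' hK]
    refine factor_split (d := 4 * ((3 ^ (2 * m + 1)) ^ 3 * (3 ^ (2 * m + 1) - 1) * hexN m)) ?_ ?_ hkpos.ne'
    · rw [← h4]; ring
    rw [hpp.dvd_mul, hpp.dvd_mul, hpp.dvd_mul]
    rintro (h | ((h | h) | h))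
    · exact h2' (hpp.dvd_of_dvd_pow (show p ∣ 2 ^ 2 from h)) (by omega) (by omega)
    · exact h2' (hpp.dvd_of_dvd_pow (hpp.dvd_of_dvd_pow h)) le_rfl (by omega)
    · exact hm1 h
    · exact (hexN_prime hpp h).2.2.2 hp1
  · exact sylow_hex hK hm hpN P

/-- The torus of order `(q - 1) / 2`. -/
noncomputable def sqTor : Subgroup ↥(S hK).fix := ((hF hK).comp (powMonoidHom 2)).range

theorem sqTor_le : sqTor hK ≤ (hF hK).range := by
  rw [sqTor, MonoidHom.range_comp]
  exact Subgroup.map_le_range _ _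

theorem sqTor_cyclic : IsCyclic ↥(sqTor hK) :=
  isCyclic_of_surjective ((hF hK).comp (powMonoidHom 2)).rangeRestrict
    ((hF hK).comp (powMonoidHom 2)).rangeRestrict_surjective

theorem card_sqTor : Nat.card ↥(sqTor hK) = (3 ^ (2 * m + 1) - 1) / 2 := by
  rw [sqTor, MonoidHom.range_comp, Subgroup.card_map_of_injective (hF_inj hK), IsCyclic.card_powMonoidHom_range,
    Nat.card_units, hK]
  obtain ⟨h1, h8, -, -⟩ := q_facts m
  rw [Nat.gcd_eq_right (by omega : 2 ∣ 3 ^ (2 * m + 1) - 1)]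

theorem sqTor_cent {a : ↥(S hK).fix} (ha : a ∈ sqTor hK) (ha1 : a ≠ 1) :
    Subgroup.centralizer {a} = (hF hK).range := by
  obtain ⟨d, rfl⟩ := ha
  refine cent_torus hK fun e => ?_
  simp only [powMonoidHom_apply] at e
  rcases sq_eq_one e with h | h
  · exact ha1 (by simp only [MonoidHom.comp_apply, powMonoidHom_apply, h, map_one])
  · refine neg_one_nonsq hK ⟨(d : K), ?_⟩
    have := congrArg Units.val h
    simpa [pow_two] using this.symm

theorem sqTor_ti {a g : ↥(S hK).fix} (ha : a ∈ sqTor hK) (ha1 : a ≠ 1) (hg : g * a * g⁻¹ ∈ sqTor hK) :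
    g ∈ Subgroup.normalizer ((hF hK).range : Set ↥(S hK).fix) := by
  refine ToriGen.mem_normalizer_of_conj fun c hc => ?_
  rw [← sqTor_cent hK hg (fun e => ha1 (conj_eq_one_iff.mp e)), mem_cent_one]
  have h : a * c = c * a := mem_cent_one.mp (sqTor_cent hK ha ha1 ▸ hc)
  calc g * a * g⁻¹ * (g * c * g⁻¹) = g * (a * c) * g⁻¹ := by group
    _ = g * (c * a) * g⁻¹ := by rw [h]
    _ = _ := by group

variable (hm : 1 ≤ m)
include hm

theorem sqTor_ne_bot : ∃ a ∈ sqTor hK, a ≠ 1 := by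
  refine (Subgroup.bot_or_exists_ne_one (sqTor hK)).resolve_left fun e => ?_
  have := card_sqTor hK
  rw [e, Subgroup.card_bot] at this
  obtain ⟨h27, -, -⟩ := big_facts hm
  omega

theorem norm_sqTor : Subgroup.normalizer (sqTor hK : Set ↥(S hK).fix) =
    Subgroup.normalizer ((hF hK).range : Set ↥(S hK).fix) := by
  have := hF_cyclic hK
  refine le_antisymm (fun g hg => ?_) (ToriGen.normalizer_mono (sqTor_le hK))
  obtain ⟨a, ha, ha1⟩ := sqTor_ne_bot hK hm
  exact sqTor_ti hK ha ha1 ((Subgroup.mem_normalizer_iff.mp hg a).mp ha)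

theorem card_norm_torus :
    Nat.card ↥(Subgroup.normalizer ((hF hK).range : Set ↥(S hK).fix)) = 2 * (3 ^ (2 * m + 1) - 1) := by
  obtain ⟨n, hn, hmn⟩ := exists_n0 hK
  set n' : ↥(S hK).fix := ⟨n, hn.2⟩
  set p1 : Pts hK := QuotientGroup.mk n'
  obtain ⟨a, ha, ha1⟩ := sqTor_ne_bot hK hm
  obtain ⟨c0, rfl⟩ := ha
  set c := powMonoidHom 2 c0
  have hc : c * c ≠ 1 := by
    intro e
    rcases sq_eq_one e with h | h
    · exact ha1 (show hF hK c = 1 by rw [h, map_one])
    · refine neg_one_nonsq hK ⟨(c0 : K), ?_⟩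
      have := congrArg Units.val h
      simpa [c, pow_two] using this.symm
  have hinv : n' * hF hK c * n'⁻¹ = (hF hK c)⁻¹ := Subtype.ext (mono_inv hK hn.1 hmn c)
  have hne : hF hK c ≠ (hF hK c)⁻¹ := fun e => hc (hF_inj hK (by
    rw [map_mul, map_one]; exact eq_inv_iff_mul_eq_one.mp e))
  have hnN : n' ∈ Subgroup.normalizer ((hF hK).range : Set ↥(S hK).fix) := by
    refine ToriGen.mem_normalizer_of_conj ?_
    rintro _ ⟨d, rfl⟩
    exact ⟨d⁻¹, by rw [map_inv]; exact (Subtype.ext (mono_inv hK hn.1 hmn d)).symm⟩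
  rw [card_orbit_mul _ (hF hK).range Subgroup.le_normalizer (hF hK c) {hF hK c, (hF hK c)⁻¹} ?_ ?_ ?_,
    card_torus hK, Nat.card_coe_set_eq, Set.ncard_pair hne]
  · intro g hg
    -- an element of the normaliser permutes the two fixed points
    obtain ⟨h0', h1'⟩ := hd_fix_pair hK (n := n') hn.1 hmn c
    change hF hK c • pInf hK = pInf hK at h0'
    change hF hK c • p1 = p1 at h1'
    have hne01 : pInf hK ≠ p1 := fun e => n0_not_borel hK hmn (by simpa [n'] using (mk_eq_iff hK).mp e)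
    have hfix : ∀ x, hF hK c • x = x → x = pInf hK ∨ x = p1 := by
      intro x hx
      by_contra h
      push Not at h
      have := three_fix hK hne01 (Ne.symm h.1) (Ne.symm h.2) h0' h1' hx
      rw [← map_mul, ← map_one (hF hK)] at this
      exact hc (hF_inj hK this)
    obtain ⟨d, hd'⟩ := (Subgroup.mem_normalizer_iff.mp (inv_mem hg) (hF hK c)).mp ⟨c, rfl⟩
    rw [inv_inv] at hd'
    obtain ⟨hd0, hd1⟩ := hd_fix_pair hK (n := n') hn.1 hmn d
    change hF hK d • pInf hK = pInf hK at hd0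
    change hF hK d • p1 = p1 at hd1
    have hgx : ∀ x, hF hK d • x = x → g • x = pInf hK ∨ g • x = p1 := by
      intro x hx
      refine hfix _ ?_
      rw [smul_smul, show hF hK c * g = g * hF hK d by rw [hd']; group, mul_smul, hx]
    rcases hgx _ hd0 with g0 | g0
    · have g1 : g • p1 = p1 :=
        (hgx _ hd1).resolve_left fun e => hne01 (smul_left_cancel g (g0.trans e.symm))
      obtain ⟨e, he⟩ := fix_pair hK (n := n') hn.1 hmn g0 g1
      left
      rw [show g = hF hK e from (Subtype.ext he).symm, ← map_mul, mul_comm, map_mul, mul_inv_cancel_right]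
    · have g1 : g • p1 = pInf hK :=
        (hgx _ hd1).resolve_right fun e => hne01 (smul_left_cancel g (g0.trans e.symm))
      have h2 : (n'⁻¹ * g) • pInf hK = pInf hK := by
        rw [mul_smul, g0, inv_smul_eq_iff]
        show (QuotientGroup.mk n' : Pts hK) = QuotientGroup.mk (n' * 1)
        rw [mul_one]
      have h3 : (n'⁻¹ * g) • p1 = p1 := by
        rw [mul_smul, g1]
        show (QuotientGroup.mk (n'⁻¹ * 1) : Pts hK) = _
        rw [mul_one, mk_eq_iff hK]
        simp only [InvMemClass.coe_inv, inv_inv, n']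
        refine Subgroup.mem_sup_right (mem_diag_of_mono_one Data.G2.valid (mul_mem hn.1 hn.1) ?_)
        have := hmn.mul hmn
        rwa [show (S hK).wJ (O hK) (0 : Fin 1) * (S hK).wJ (O hK) (0 : Fin 1) = 1 from
          Equiv.ext fun r => (S hK).wJ_wJ (O hK) (0 : Fin 1) r] at this
      obtain ⟨e, he⟩ := fix_pair hK (n := n') hn.1 hmn h2 h3
      right
      have hge : g = n' * hF hK e := by
        rw [show hF hK e = n'⁻¹ * g from Subtype.ext he, mul_inv_cancel_left]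
      rw [Set.mem_singleton_iff, hge, show n' * hF hK e * hF hK c * (n' * hF hK e)⁻¹ =
        n' * (hF hK e * hF hK c * (hF hK e)⁻¹) * n'⁻¹ by group, ← map_mul, mul_comm, map_mul,
        mul_inv_cancel_right, hinv]
  · rintro t (rfl | rfl)
    · exact ⟨1, one_mem _, by group⟩
    · exact ⟨n', hnN, hinv⟩
  · intro g _
    rw [← cent_torus hK hc, mem_cent_one]
    exact eq_comm

omit hm in
theorem ree_three_dvd {u : ↥(S hK).fix} (hu : u ∈ Upart hK) :
    ∃ t a b : K, (u : GL (T2).I K) = ree m t a b :=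
  exists_pos hK (Subgroup.mem_subgroupOf.mp hu)

omit hm in
theorem Upart_nine {u : ↥(S hK).fix} (hu : u ∈ Upart hK) : u ^ 9 = 1 := by
  obtain ⟨t, a, b, e⟩ := ree_three_dvd hK hu
  obtain ⟨t2, a2, b2, e2⟩ := ree_three_dvd hK (pow_mem hu 2)
  obtain ⟨t3, a3, b3, e3⟩ := ree_three_dvd hK (pow_mem hu 3)
  rw [SubmonoidClass.coe_pow] at e2 e3
  have f2 := ree_mul_fst hK t a b t a b t2 a2 b2 (by rw [← e, ← pow_two, e2])
  have f3 := ree_mul_fst hK t2 a2 b2 t a b t3 a3 b3 (by rw [← e2, ← e, ← pow_succ, e3])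
  have ht : t3 = 0 := by linear_combination f3 + f2 + t * three_eq_zero hK
  refine Subtype.ext ?_
  rw [SubmonoidClass.coe_pow, OneMemClass.coe_one, show (9 : ℕ) = 3 * 3 from rfl, pow_mul, e3, ht]
  exact (ree_cube hK 0 a3 b3).mpr rfl

omit hm in
theorem order_stab {g : ↥(S hK).fix} (hg : g • pInf hK = pInf hK) :
    orderOf g ∣ 6 ∨ orderOf g ∣ 9 ∨ orderOf g ∣ 3 ^ (2 * m + 1) - 1 := by
  classical
  obtain ⟨u, hu, c, rfl⟩ := (stab_pInf hK).mp (MulAction.mem_stabilizer_iff.mpr hg)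
  have hnorm : ∀ (d : Kˣ) {w : ↥(S hK).fix}, w ∈ Upart hK → hF hK d * w * (hF hK d)⁻¹ ∈ Upart hK := by
    intro d w hw
    refine Subgroup.mem_subgroupOf.mpr ⟨?_, (hF hK d * w * (hF hK d)⁻¹).2⟩
    exact diag_conj_pos (hd_mem hK d).1 (Subgroup.mem_subgroupOf.mp hw).1
  by_cases hc : c * c = 1
  · rcases sq_eq_one hc with rfl | rfl
    · right; left
      rw [map_one, mul_one]
      exact orderOf_dvd_of_pow_eq_one (Upart_nine hK hu)
    · left
      obtain ⟨t, a, b, e⟩ := ree_three_dvd hK hu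
      set v := (u * hF hK (-1)) * (u * hF hK (-1)) with hv
      have hh : hF hK (-1) * hF hK (-1) = 1 := by rw [← map_mul, hc, map_one]
      have hve : v = u * (hF hK (-1) * u * (hF hK (-1))⁻¹) := by
        rw [hv, inv_eq_of_mul_eq_one_right hh]; group
      have hvU : v ∈ Upart hK := hve ▸ mul_mem hu (hnorm _ hu)
      obtain ⟨t', a', b', e'⟩ := ree_three_dvd hK hvU
      obtain ⟨t1, a1, b1, e1⟩ := ree_three_dvd hK (hnorm (-1) hu)
      have ht : t' = 0 := by
        have h1 : ree m t1 a1 b1 = hd hK (-1) * ree m t a b * (hd hK (-1))⁻¹ := by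
          rw [← e1]
          simp only [Subgroup.coe_mul, InvMemClass.coe_inv, e]; rfl
        rw [conj_hd hK] at h1
        have h2 := ree_mul_fst hK t a b t1 a1 b1 t' a' b' (by
          rw [← e, ← e1, ← e', hve]; simp only [Subgroup.coe_mul])
        have hodd : Odd (3 * 3 ^ m) := (by decide : Odd 3).mul (Odd.pow (by decide))
        rw [h2, (ree_inj hK h1).1, Units.val_neg, Units.val_one, hodd.neg_one_pow]
        norm_num
      refine orderOf_dvd_of_pow_eq_one ?_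
      rw [show (6 : ℕ) = 2 * 3 from rfl, pow_mul, pow_two, ← hv]
      refine Subtype.ext ?_
      rw [SubmonoidClass.coe_pow, e', ht, OneMemClass.coe_one]
      exact (ree_cube hK 0 a' b').mpr rfl
  · right; right
    let f : ↥(Upart hK) → ↥(Upart hK) := fun w =>
      ⟨w.1 * (hF hK c * w.1⁻¹ * (hF hK c)⁻¹), mul_mem w.2 (hnorm c (inv_mem w.2))⟩
    have hinj : Function.Injective f := by
      intro w w' h
      have h' : w.1 * (hF hK c * w.1⁻¹ * (hF hK c)⁻¹) = w'.1 * (hF hK c * w'.1⁻¹ * (hF hK c)⁻¹) :=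
        congrArg Subtype.val h
      have hz : hF hK c * (w'.1⁻¹ * w.1) * (hF hK c)⁻¹ = w'.1⁻¹ * w.1 := by
        have h2 : w'.1⁻¹ * (w.1 * (hF hK c * w.1⁻¹ * (hF hK c)⁻¹)) * (hF hK c * w.1 * (hF hK c)⁻¹) =
            w'.1⁻¹ * w.1 := by group
        rw [h'] at h2
        refine Eq.trans ?_ h2
        group
      obtain ⟨t, a, b, e⟩ := ree_three_dvd hK (mul_mem (inv_mem w'.2) w.2)
      have h3 : hd hK c * ree m t a b * (hd hK c)⁻¹ = ree m t a b := by
        rw [← e]; exact congrArg Subtype.val hz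
      have h4 := fpf hK hc h3
      rw [← e] at h4
      exact Subtype.ext (inv_mul_eq_one.mp (Subtype.ext h4 : w'.1⁻¹ * w.1 = 1)).symm
    obtain ⟨w, hw⟩ := (Finite.injective_iff_surjective.mp hinj) ⟨u, hu⟩
    have hw' : w.1 * (hF hK c * w.1⁻¹ * (hF hK c)⁻¹) = u := congrArg Subtype.val hw
    rw [← hw', show w.1 * (hF hK c * w.1⁻¹ * (hF hK c)⁻¹) * hF hK c = MulAut.conj w.1 (hF hK c) by
      simp [mul_assoc], MulEquiv.orderOf_eq, orderOf_injective _ (hF_inj hK), ← hK, ← Nat.card_units]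
    exact orderOf_dvd_natCard c

theorem order_cases (g : ↥(S hK).fix) :
    orderOf g ∣ 6 ∨ orderOf g ∣ 9 ∨ orderOf g ∣ 3 ^ (2 * m + 1) - 1 ∨
      orderOf g ∣ (3 ^ (2 * m + 1) + 1) / 2 ∨ orderOf g ∣ 3 ^ (2 * m + 1) - 3 ^ (m + 1) + 1 ∨
        orderOf g ∣ 3 ^ (2 * m + 1) + 3 ^ (m + 1) + 1 := by
  by_cases hx : ∃ x : Pts hK, g • x = x
  · obtain ⟨x, hx⟩ := hx
    obtain ⟨k, hk⟩ := MulAction.exists_smul_eq ↥(S hK).fix x (pInf hK)
    have h : orderOf (k * g * k⁻¹) = orderOf g := by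
      rw [show k * g * k⁻¹ = MulAut.conj k g from rfl, MulEquiv.orderOf_eq]
    have h2 := order_stab hK (g := k * g * k⁻¹)
      (by rw [← hk, smul_smul, inv_mul_cancel_right, mul_smul, hx])
    rw [h] at h2
    tauto
  · push Not at hx
    rcases fpf_cases hK hm hx with ⟨k, hk, -⟩ | ⟨A, hA, hgA, hg1⟩
    · refine Or.inr (Or.inr (Or.inr (Or.inl ?_)))
      have h : orderOf (k * g * k⁻¹) ∣ 2 * kq m := orderOf_dvd_of_pow_eq_one (cTor_pow hK hk)
      rw [show k * g * k⁻¹ = MulAut.conj k g from rfl, MulEquiv.orderOf_eq] at h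
      obtain ⟨h4, -, -⟩ := kq_facts m
      rwa [show (3 ^ (2 * m + 1) + 1) / 2 = 2 * kq m by omega]
    · obtain ⟨A', B', -, -, ha, hb, -, -, hord⟩ := hex_two hK hm
      have hmem : g ∈ hexSet hK := ⟨hg1, by
        refine Dvd.dvd.trans ?_ (hA.dvd hK hm)
        rw [← Subgroup.orderOf_mk g hgA]
        exact orderOf_dvd_natCard _⟩
      have h2 := hord g hmem
      rw [ha, hb] at h2
      tauto

theorem order_exists {d : ℕ} (h : d ∣ 6 ∨ d ∣ 9 ∨ d ∣ 3 ^ (2 * m + 1) - 1 ∨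
    d ∣ (3 ^ (2 * m + 1) + 1) / 2 ∨ d ∣ 3 ^ (2 * m + 1) - 3 ^ (m + 1) + 1 ∨
      d ∣ 3 ^ (2 * m + 1) + 3 ^ (m + 1) + 1) : ∃ g : ↥(S hK).fix, orderOf g = d := by
  have down : ∀ {g : ↥(S hK).fix} {n : ℕ}, orderOf g = n → d ∣ n → ∃ g : ↥(S hK).fix, orderOf g = d :=
    fun {g n} hg hd => ⟨g ^ (orderOf g / d), orderOf_pow_orderOf_div (orderOf_pos g).ne' (hg ▸ hd)⟩
  have : Fact (Nat.Prime 3) := ⟨Nat.prime_three⟩
  set u : ↥(S hK).fix := ⟨ree m 0 1 0, (ree_mem_pos hK 0 1 0).2⟩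
  set v : ↥(S hK).fix := ⟨ree m 1 0 0, (ree_mem_pos hK 1 0 0).2⟩
  rcases h with h | h | h | h | h | h
  · have hu3 : orderOf u = 3 := by
      refine orderOf_eq_prime (Subtype.ext ?_) fun e => ?_
      · rw [SubmonoidClass.coe_pow, OneMemClass.coe_one]
        exact (ree_cube hK 0 1 0).mpr rfl
      · have e' : ree m 0 1 0 = (1 : GL (T2).I K) := congrArg Subtype.val e
        rw [← ree0_one hK] at e'
        exact one_ne_zero (ree_inj hK e').2.1
    have hcomm : Commute (h0 hK) u := by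
      refine Subtype.ext ?_
      show hd hK (-1) * ree m 0 1 0 = ree m 0 1 0 * hd hK (-1)
      rw [← mul_inv_eq_iff_eq_mul]
      exact hd_neg_one_conj hK 1
    have h2 : orderOf (h0 hK) = 2 := orderOf_eq_prime (by rw [pow_two]; exact h0_sq hK) (h0_ne hK)
    refine down (g := h0 hK * u) ?_ h
    rw [hcomm.orderOf_mul_eq_mul_orderOf_of_coprime (by rw [h2, hu3]; norm_num), h2, hu3]
  · refine down (g := v) (orderOf_eq_prime_pow (p := 3) (n := 1) (fun e => ?_) ?_) h
    · have e' := congrArg Subtype.val e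
      rw [SubmonoidClass.coe_pow, OneMemClass.coe_one, pow_one] at e'
      exact one_ne_zero ((ree_cube hK 1 0 0).mp e')
    · exact Upart_nine hK (Subgroup.mem_subgroupOf.mpr (ree_mem_pos hK 1 0 0))
  · obtain ⟨c, hc⟩ := IsCyclic.exists_generator (α := Kˣ)
    refine down (g := hF hK c) ?_ h
    rw [orderOf_injective _ (hF_inj hK), orderOf_eq_card_of_forall_mem_zpowers hc, Nat.card_units, hK]
  · refine down (g := zF hK) ?_ h
    rw [orderOf_zF hK]
    have := (kq_facts m).1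
    omega
  · obtain ⟨A, B, hA, -, ha, -⟩ := hex_two hK hm
    have := hA.cyclic hK hm
    obtain ⟨c, hc⟩ := IsCyclic.exists_generator (α := ↥A)
    refine down (g := (c : ↥(S hK).fix)) ?_ h
    rw [Subgroup.orderOf_coe, orderOf_eq_card_of_forall_mem_zpowers hc, ha]
  · obtain ⟨A, B, -, hB, -, hb, -⟩ := hex_two hK hm
    have := hB.cyclic hK hm
    obtain ⟨c, hc⟩ := IsCyclic.exists_generator (α := ↥B)
    refine down (g := (c : ↥(S hK).fix)) ?_ h
    rw [Subgroup.orderOf_coe, orderOf_eq_card_of_forall_mem_zpowers hc, hb]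

theorem tori_normalizers :
    ∀ kn ∈ ({((3 ^ (2 * m + 1) - 1) / 2, 2 * (3 ^ (2 * m + 1) - 1)),
        ((3 ^ (2 * m + 1) + 1) / 4, 6 * (3 ^ (2 * m + 1) + 1)),
        (3 ^ (2 * m + 1) - 3 ^ (m + 1) + 1, 6 * (3 ^ (2 * m + 1) - 3 ^ (m + 1) + 1)),
        (3 ^ (2 * m + 1) + 3 ^ (m + 1) + 1, 6 * (3 ^ (2 * m + 1) + 3 ^ (m + 1) + 1))} : Set (ℕ × ℕ)),
      ∃ A : Subgroup ↥(S hK).fix, IsCyclic A ∧ Nat.card A = kn.1 ∧
        Nat.card (Subgroup.normalizer (A : Set ↥(S hK).fix)) = kn.2 ∧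
        ∀ A₀ : Subgroup ↥(S hK).fix, A₀ ≤ A → A₀ ≠ ⊥ →
          Subgroup.normalizer (A₀ : Set ↥(S hK).fix) = Subgroup.normalizer (A : Set ↥(S hK).fix) := by
  rintro kn (rfl | rfl | rfl | rfl)
  · have := sqTor_cyclic hK
    refine ⟨sqTor hK, inferInstance, card_sqTor hK, ?_, fun A₀ hle hne => ?_⟩
    · rw [norm_sqTor hK hm, card_norm_torus hK hm]
    · exact ToriGen.normalizer_ti hle hne fun a ha ha1 g hg =>
        (norm_sqTor hK hm).symm ▸ sqTor_ti hK ha ha1 hg
  · have : IsCyclic ↥(aTor hK) := Subgroup.isCyclic_zpowers _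
    refine ⟨aTor hK, inferInstance, card_aTor hK, ?_, fun A₀ hle hne => ?_⟩
    · rw [norm_aTor hK hm, card_norFour hK]
      have := (kq_facts m).1
      dsimp only
      omega
    · exact ToriGen.normalizer_ti hle hne fun a ha ha1 g hg =>
        (norm_aTor hK hm).symm ▸ (aTor_ti hK hm ha ha1 hg).1
  · obtain ⟨A, B, hA, -, ha, -, hnA, -⟩ := hex_two hK hm
    have := hA.cyclic hK hm
    exact ⟨A, inferInstance, ha, by rw [hnA, ha], fun A₀ hle hne =>
      ToriGen.normalizer_ti hle hne fun a ha' ha1 g hg => hA.ti hK hm ha' ha1 hg⟩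
  · obtain ⟨A, B, -, hB, -, hb, -, hnB, -⟩ := hex_two hK hm
    have := hB.cyclic hK hm
    exact ⟨B, inferInstance, hb, by rw [hnB, hb], fun A₀ hle hne =>
      ToriGen.normalizer_ti hle hne fun a ha' ha1 g hg => hB.ti hK hm ha' ha1 hg⟩

end CfsgLib.Chevalley.Twist.G2
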