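import Cfsg.Agent.Lib.Chevalley.Twist.G2Invol
import Cfsg.Agent.Lib.Classical.SLOrders

/-!
Involutions and Sylow 2-subgroups of ²G₂.
-/

set_option autoImplicit false
set_option maxRecDepth 20000
set_option Elab.async false

namespace CfsgLib.Chevalley.Twist.G2

open Tbl Matrix

local notation "T2" => Data.G2.tbl

variable {K : Type*} [Field K] [Finite K] {m : ℕ} (hK : Nat.card K = 3 ^ (2 * m + 1))
include hK

theorem card_psl :
    2 * Nat.card (ProjectiveSpecialLinearGroup (Fin 2) K) =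
      3 ^ (2 * m + 1) * ((3 ^ (2 * m + 1)) ^ 2 - 1) := by
  have : Fintype K := Fintype.ofFinite K
  have hF : Fintype.card K = 3 ^ (2 * m + 1) := Nat.card_eq_fintype_card.symm.trans hK
  obtain ⟨k, hk⟩ := half_card m
  have h1 := Classical.card_psl_mul hF 2 (by omega)
  have hg : Nat.gcd 2 (3 ^ (2 * m + 1) - 1) = 2 := Nat.gcd_eq_left ⟨_, hk⟩
  rw [hg] at h1
  have h2 := Classical.card_sl_mul hF 2 (by omega)
  rw [Fin.prod_univ_two, ← h1] at h2
  simp only [Fin.val_zero, Fin.val_one, pow_zero, pow_one] at h2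
  have h3 : 0 < 3 ^ (2 * m + 1) - 1 := by omega
  apply Nat.eq_of_mul_eq_mul_left h3
  rw [h2, pow_two, show 3 ^ (2 * m + 1) * 3 ^ (2 * m + 1) - 3 ^ (2 * m + 1) =
    3 ^ (2 * m + 1) * (3 ^ (2 * m + 1) - 1) by rw [Nat.mul_sub_left_distrib, mul_one]]
  ring

theorem card_cen : Nat.card ↥(Subgroup.centralizer {h0 hK}) =
    3 ^ (2 * m + 1) * ((3 ^ (2 * m + 1)) ^ 2 - 1) := by
  rw [Nat.card_congr (cenEquiv hK).toEquiv, Nat.card_prod, ← card_psl hK]
  simp

omit hK [Field K] [Finite K] in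
theorem conj_count {G X C : Type*} [Group G] [MulAction G X] [Finite G] (h : G) (x y : X) (d : C → G)
    (hd : Function.Injective d) (hfix : ∀ c, d c • x = x ∧ d c • y = y)
    (htr : ∀ z : X, h • z ≠ z → ∃ g : G, g • z = x ∧ g • (h • z) = y) :
    Nat.card {z : X // h • z ≠ z} * Nat.card C ≤ Nat.card {g : G // (g * h * g⁻¹) • x = y} := by
  choose g hg0 hg1 using htr
  let F : {z : X // h • z ≠ z} × C → G := fun p => d p.2 * g p.1.1 p.1.2
  have hF0 : ∀ p, (F p)⁻¹ • x = p.1.1 := fun p => by rw [inv_smul_eq_iff, mul_smul, hg0, (hfix _).1]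
  have hF1 : ∀ p, F p • (h • p.1.1) = y := fun p => by rw [mul_smul, hg1, (hfix _).2]
  rw [← Nat.card_prod]
  refine Nat.card_le_card_of_injective
    (fun p => (⟨F p, by rw [mul_smul, mul_smul, hF0, hF1]⟩ : {g : G // (g * h * g⁻¹) • x = y})) fun a b e => ?_
  have e' : F a = F b := congrArg Subtype.val e
  have hx : a.1 = b.1 := Subtype.ext (by rw [← hF0 a, ← hF0 b, e'])
  refine Prod.ext hx (hd ?_)
  obtain ⟨⟨z, hz⟩, c⟩ := a
  obtain ⟨⟨z', hz'⟩, c'⟩ := b
  obtain rfl : z = z' := congrArg Subtype.val hx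
  exact mul_right_cancel e'

section Counting

variable {n : ↥(S hK).fix} (hN : (n : GL (T2).I K) ∈ (T2).datum.monomialSubgroup K)
  (hm : (T2).Mono (n : GL (T2).I K) ((S hK).wJ (O hK) (0 : Fin 1)))
include hN hm

theorem fix_pair {g : ↥(S hK).fix} (g0 : g • (QuotientGroup.mk 1 : Pts hK) = QuotientGroup.mk 1)
    (g1 : g • (QuotientGroup.mk n : Pts hK) = QuotientGroup.mk n) :
    ∃ c, hd hK c = (g : GL (T2).I K) := by
  rw [fixes_iff hK] at g0 g1
  simp only [OneMemClass.coe_one, inv_one, one_mul, mul_one] at g0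
  exact exists_hd hK (Subgroup.mem_inf.mpr ⟨borel_inter hK hN hm g0 g1, g.2⟩)

theorem hd_fix_pair (c : Kˣ) :
    (⟨hd hK c, (hd_mem hK c).2⟩ : ↥(S hK).fix) • (QuotientGroup.mk 1 : Pts hK) = QuotientGroup.mk 1 ∧
      (⟨hd hK c, (hd_mem hK c).2⟩ : ↥(S hK).fix) • (QuotientGroup.mk n : Pts hK) = QuotientGroup.mk n := by
  constructor <;> rw [fixes_iff hK]
  · have h : hd hK c ∈ (T2).datum.borelSubgroup K := Subgroup.mem_sup_right (hd_mem hK c).1
    simpa only [OneMemClass.coe_one, inv_one, one_mul, mul_one] using h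
  · refine Subgroup.mem_sup_right (mem_diag_of_mono_one Data.G2.valid
      (mul_mem (mul_mem (inv_mem hN) (diag_le_N Data.G2.valid (hd_mem hK c).1)) hN) ?_)
    have := (hm.inv.mul (mono_diag Data.G2.valid (hd_mem hK c).1)).mul hm
    rwa [mul_one, inv_mul_cancel] at this

theorem card_swappers :
    Nat.card {j : ↥(S hK).fix // j * j = 1 ∧
      j • (QuotientGroup.mk 1 : Pts hK) = QuotientGroup.mk n} ≤ Nat.card Kˣ := by
  have hn0 : n⁻¹ • (QuotientGroup.mk n : Pts hK) = QuotientGroup.mk 1 := by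
    show (QuotientGroup.mk (n⁻¹ * n) : Pts hK) = _
    rw [inv_mul_cancel]
  have hn1 : n⁻¹ • (QuotientGroup.mk 1 : Pts hK) = QuotientGroup.mk n := by
    show (QuotientGroup.mk (n⁻¹ * 1) : Pts hK) = _
    rw [mul_one, mk_eq_iff hK]
    simp only [InvMemClass.coe_inv, inv_inv]
    refine Subgroup.mem_sup_right (mem_diag_of_mono_one Data.G2.valid (mul_mem hN hN) ?_)
    have := hm.mul hm
    rwa [show (S hK).wJ (O hK) (0 : Fin 1) * (S hK).wJ (O hK) (0 : Fin 1) = 1 from
      Equiv.ext fun r => (S hK).wJ_wJ (O hK) (0 : Fin 1) r] at this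
  have key : ∀ j : {j : ↥(S hK).fix // j * j = 1 ∧
      j • (QuotientGroup.mk 1 : Pts hK) = QuotientGroup.mk n},
      ∃ c, hd hK c = ((n⁻¹ * j.1 : ↥(S hK).fix) : GL (T2).I K) := by
    rintro ⟨j, hj1, hj2⟩
    have hj3 : j • (QuotientGroup.mk n : Pts hK) = QuotientGroup.mk 1 := by
      rw [← hj2, smul_smul, hj1, one_smul]
    exact fix_pair hK hN hm (by rw [mul_smul, hj2, hn0]) (by rw [mul_smul, hj3, hn1])
  choose f hf using key
  refine Nat.card_le_card_of_injective f fun a b e => ?_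
  have := (hf a).symm.trans ((congrArg (hd hK) e).trans (hf b))
  exact Subtype.ext (mul_left_cancel (Subtype.ext this))

theorem card_conjugators :
    Nat.card {x : Pts hK // h0 hK • x ≠ x} * Nat.card Kˣ ≤ Nat.card {g : ↥(S hK).fix //
      (g * h0 hK * g⁻¹) • (QuotientGroup.mk 1 : Pts hK) = QuotientGroup.mk n} :=
  conj_count (h0 hK) (QuotientGroup.mk 1 : Pts hK) (QuotientGroup.mk n)
    (fun c : Kˣ => (⟨hd hK c, (hd_mem hK c).2⟩ : ↥(S hK).fix))
    (fun _ _ e => hd_inj hK (congrArg Subtype.val e)) (fun c => hd_fix_pair hK hN hm c)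
    (fun _ hx => two_trans hK hN hm (Ne.symm hx))

theorem moved_inj {a b : GL (T2).I K} (ha : a ∈ (T2).datum.posUnipotent K ⊓ (S hK).fix)
    (hb : b ∈ (T2).datum.posUnipotent K ⊓ (S hK).fix)
    (e : (⟨a, ha.2⟩ : ↥(S hK).fix) • (QuotientGroup.mk n : Pts hK) =
      (⟨b, hb.2⟩ : ↥(S hK).fix) • (QuotientGroup.mk n : Pts hK)) : a = b := by
  rw [MulAction.Quotient.smul_mk, MulAction.Quotient.smul_mk, mk_eq_iff hK] at e
  simp only [smul_eq_mul, Subgroup.coe_mul] at e
  have hU : a⁻¹ * b ∈ (T2).datum.posUnipotent K := mul_mem (inv_mem ha.1) hb.1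
  have h := borel_inter hK hN hm (pos_le_borel hU) (by simpa [mul_assoc] using e)
  exact inv_mul_eq_one.mp (pos_diag_one hU h)

omit hm in
theorem h0_fix_n : h0 hK • (QuotientGroup.mk n : Pts hK) = QuotientGroup.mk n := by
  rw [fixes_iff hK]
  have h := mono_comm hK (inv_mem (Subgroup.mem_inf.mpr ⟨hN, n.2⟩ :
    (n : GL (T2).I K) ∈ (T2).datum.monomialSubgroup K ⊓ (S hK).fix))
  rw [inv_inv] at h
  have e : ((h0 hK : ↥(S hK).fix) : GL (T2).I K) = hd hK (-1) := rfl
  rw [e, h]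
  exact Subgroup.mem_sup_right (hd_mem hK _).1

omit hN hm in
theorem h0_mul_ree (t u v : K) :
    h0 hK * (⟨ree m t u v, (ree_mem_pos hK t u v).2⟩ : ↥(S hK).fix) =
      (⟨ree m (-t) u (-v), (ree_mem_pos hK (-t) u (-v)).2⟩ : ↥(S hK).fix) * h0 hK := by
  refine Subtype.ext ?_
  show hd hK (-1) * ree m t u v = ree m (-t) u (-v) * hd hK (-1)
  rw [← neg_one_conj hK, inv_mul_cancel_right]

theorem card_moved :
    Nat.card {p : K × K × K // ¬(p.1 = 0 ∧ p.2.2 = 0)} ≤ Nat.card {x : Pts hK // h0 hK • x ≠ x} := by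
  let pt : K × K × K → Pts hK := fun p =>
    (⟨ree m p.1 p.2.1 p.2.2, (ree_mem_pos hK _ _ _).2⟩ : ↥(S hK).fix) • QuotientGroup.mk n
  have hinj : ∀ {a b : K × K × K}, pt a = pt b → a = b := by
    intro a b e
    obtain ⟨x, y, z⟩ := ree_inj hK (moved_inj hK hN hm (ree_mem_pos hK a.1 a.2.1 a.2.2)
      (ree_mem_pos hK b.1 b.2.1 b.2.2) e)
    exact Prod.ext x (Prod.ext y z)
  have hmove : ∀ p : K × K × K, h0 hK • pt p = pt (-p.1, p.2.1, -p.2.2) := fun p => by
    simp only [pt]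
    rw [smul_smul, h0_mul_ree hK, mul_smul, h0_fix_n hK hN]
  refine Nat.card_le_card_of_injective (fun p => (⟨pt p.1, fun e => p.2 ?_⟩ :
    {x : Pts hK // h0 hK • x ≠ x})) fun a b e => Subtype.ext (hinj (congrArg Subtype.val e))
  rw [hmove] at e
  have e3 := hinj e
  have key : ∀ x : K, -x = x → x = 0 := fun x h => by linear_combination x * three_eq_zero hK + h
  exact ⟨key _ (congrArg Prod.fst e3), key _ (congrArg (fun z => z.2.2) e3)⟩

end Counting

theorem card_N' :
    Nat.card {p : K × K × K // ¬(p.1 = 0 ∧ p.2.2 = 0)} =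
      (3 ^ (2 * m + 1)) * ((3 ^ (2 * m + 1)) ^ 2 - 1) := by
  classical
  let e : {p : K × K × K // ¬(p.1 = 0 ∧ p.2.2 = 0)} ≃ {p : K × K // p ≠ 0} × K :=
    { toFun := fun p => (⟨(p.1.1, p.1.2.2), fun h => p.2 ⟨congrArg Prod.fst h, congrArg Prod.snd h⟩⟩,
        p.1.2.1)
      invFun := fun p => ⟨(p.1.1.1, p.2, p.1.1.2), fun h => p.1.2 (Prod.ext h.1 h.2)⟩
      left_inv := fun p => rfl
      right_inv := fun p => rfl }
  have : Fintype K := Fintype.ofFinite K
  rw [Nat.card_congr e, Nat.card_prod, Nat.card_eq_fintype_card, Fintype.card_subtype_compl,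
    Fintype.card_subtype_eq, Fintype.card_prod, ← Nat.card_eq_fintype_card, hK, ← pow_two, mul_comm]

omit hK [Field K] [Finite K] in
theorem surj_aux {G X : Type*} [Group G] [MulAction G X] [Finite G] (h : G) (hh : h * h = 1) (x y : X) {L : ℕ}
    (hS : Nat.card {j : G // j * j = 1 ∧ j • x = y} * Nat.card ↥(Subgroup.centralizer {h}) ≤ L)
    (hA : L ≤ Nat.card {g : G // (g * h * g⁻¹) • x = y}) :
    ∀ j : G, j * j = 1 → j • x = y → ∃ g, g * h * g⁻¹ = j := by
  let f : {g : G // (g * h * g⁻¹) • x = y} → {j : G // j * j = 1 ∧ j • x = y} := fun g =>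
    ⟨g.1 * h * g.1⁻¹, by
      rw [show g.1 * h * g.1⁻¹ * (g.1 * h * g.1⁻¹) = g.1 * (h * h) * g.1⁻¹ by group, hh, mul_one,
        mul_inv_cancel], g.2⟩
  have hfib : Nat.card {g : G // (g * h * g⁻¹) • x = y} ≤
      Nat.card (Set.range f) * Nat.card ↥(Subgroup.centralizer {h}) := by
    rw [← Nat.card_prod]
    choose r hr using fun s : Set.range f => s.2
    have hc : ∀ g, ((r ⟨f g, g, rfl⟩).1)⁻¹ * g.1 ∈ Subgroup.centralizer {h} := by
      intro g
      have e := congrArg Subtype.val (hr ⟨f g, g, rfl⟩)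
      simp only [f] at e
      rw [Subgroup.mem_centralizer_iff]
      intro z hz
      rw [Set.mem_singleton_iff.mp hz]
      generalize (r ⟨f g, g, rfl⟩).1 = t at e
      calc h * (t⁻¹ * g.1) = t⁻¹ * (t * h * t⁻¹) * g.1 := by group
        _ = t⁻¹ * (g.1 * h * g.1⁻¹) * g.1 := by rw [e]
        _ = t⁻¹ * g.1 * h := by group
    refine Nat.card_le_card_of_injective (fun g => ((⟨f g, g, rfl⟩ : Set.range f),
      (⟨_, hc g⟩ : ↥(Subgroup.centralizer {h})))) fun a b e => ?_
    obtain ⟨e1, e2⟩ := Prod.mk.inj e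
    have e3 : ((r ⟨f a, a, rfl⟩).1)⁻¹ * a.1 = ((r ⟨f b, b, rfl⟩).1)⁻¹ * b.1 := congrArg Subtype.val e2
    simp only [e1] at e3
    exact Subtype.ext (mul_left_cancel e3)
  have hr : Set.range f = Set.univ := by
    refine Set.eq_of_subset_of_ncard_le (Set.subset_univ _) ?_ (Set.toFinite _)
    rw [Set.ncard_univ, ← Nat.card_coe_set_eq]
    exact Nat.le_of_mul_le_mul_right (hS.trans (hA.trans hfib)) Nat.card_pos
  intro j h1 h2
  obtain ⟨g, hg⟩ := hr.symm ▸ Set.mem_univ (⟨j, h1, h2⟩ : {j : G // j * j = 1 ∧ j • x = y})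
  exact ⟨g.1, congrArg Subtype.val hg⟩

/-- Every involution is conjugate to the one in the torus. -/
theorem involution_conj {i : ↥(S hK).fix} (h1 : i ≠ 1) (h2 : i * i = 1) :
    ∃ g : ↥(S hK).fix, g * h0 hK * g⁻¹ = i := by
  obtain ⟨n, hn, hm⟩ := exists_n0 hK
  set n' : ↥(S hK).fix := ⟨n, hn.2⟩
  have hN : (n' : GL (T2).I K) ∈ (T2).datum.monomialSubgroup K := hn.1
  have hsurj := surj_aux (h0 hK) (h0_sq hK) (QuotientGroup.mk 1 : Pts hK) (QuotientGroup.mk n')
    (L := Nat.card Kˣ * Nat.card ↥(Subgroup.centralizer {h0 hK}))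
    (Nat.mul_le_mul_right _ (card_swappers hK hN hm))
    (le_trans (by
      rw [card_cen hK, ← card_N' hK, mul_comm]
      exact Nat.mul_le_mul_right _ (card_moved hK hN hm)) (card_conjugators hK hN hm))
  by_cases hmv : ∃ x : Pts hK, i • x ≠ x
  · obtain ⟨x, hx⟩ := hmv
    obtain ⟨g, g0, g1⟩ := two_trans hK hN hm (Ne.symm hx)
    have hgx : g⁻¹ • (QuotientGroup.mk 1 : Pts hK) = x := by rw [inv_smul_eq_iff]; exact g0.symm
    obtain ⟨g', e⟩ := hsurj (g * i * g⁻¹)
      (by rw [show g * i * g⁻¹ * (g * i * g⁻¹) = g * (i * i) * g⁻¹ by group, h2, mul_one, mul_inv_cancel])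
      (by rw [mul_smul, mul_smul, hgx]; exact g1)
    refine ⟨g⁻¹ * g', ?_⟩
    rw [show g⁻¹ * g' * h0 hK * (g⁻¹ * g')⁻¹ = g⁻¹ * (g' * h0 hK * g'⁻¹) * g by group, e]
    group
  · push Not at hmv
    obtain ⟨c, hc⟩ := fix_pair hK hN hm (hmv _) (hmv _)
    refine ⟨1, ?_⟩
    rw [one_mul, inv_one, mul_one]
    refine Subtype.ext (Eq.symm ?_)
    exact diag_involution hK (hc ▸ hd_mem hK c) (fun e => h1 (Subtype.ext e)) (congrArg Subtype.val h2)

/-! Sylow 2-subgroups -/

theorem exists_vv : ∃ g : SpecialLinearGroup (Fin 2) K, g.1 = !![1, 1; 1, -1] :=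
  ⟨⟨!![1, 1; 1, -1], by
    rw [Matrix.det_fin_two_of]; linear_combination -three_eq_zero hK⟩, rfl⟩

omit hK [Finite K] in
/-- The images of the two quaternion generators. -/
noncomputable def wb : ProjectiveSpecialLinearGroup (Fin 2) K := QuotientGroup.mk SL2.wn

/-- The second image. -/
noncomputable def vb : ProjectiveSpecialLinearGroup (Fin 2) K := QuotientGroup.mk (exists_vv hK).choose

omit hK [Finite K] in
theorem mem_center_sl {g : SpecialLinearGroup (Fin 2) K} (r : K) (h : g.1 = !![r, 0; 0, r]) :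
    g ∈ Subgroup.center (SpecialLinearGroup (Fin 2) K) := by
  rw [Matrix.SpecialLinearGroup.mem_center_iff]
  refine ⟨r, ?_, ?_⟩
  · have hd := g.2
    rw [h, Matrix.det_fin_two_of] at hd
    rw [Fintype.card_fin]; linear_combination hd
  · rw [h]; ext i j; fin_cases i <;> fin_cases j <;> simp

omit hK [Finite K] in
theorem center_entries {g : SpecialLinearGroup (Fin 2) K} (h : g ∈ Subgroup.center _) :
    (g.1 = !![1, 0; 0, 1] ∨ g.1 = !![-1, 0; 0, -1]) := by
  obtain ⟨r, hr, e⟩ := Matrix.SpecialLinearGroup.mem_center_iff.mp h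
  rw [Fintype.card_fin, sq_eq_one_iff] at hr
  rcases hr with rfl | rfl
  · exact Or.inl (by rw [← e]; ext i j; fin_cases i <;> fin_cases j <;> simp)
  · exact Or.inr (by rw [← e]; ext i j; fin_cases i <;> fin_cases j <;> simp)

omit hK [Finite K] in
theorem mk_eq_mk_iff {g g' : SpecialLinearGroup (Fin 2) K} :
    (QuotientGroup.mk g : ProjectiveSpecialLinearGroup (Fin 2) K) = QuotientGroup.mk g' ↔
      g'.1 = g.1 ∨ g'.1 = -g.1 := by
  rw [QuotientGroup.eq]
  constructor
  · intro h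
    have e : g'.1 = g.1 * (g⁻¹ * g').1 := by
      rw [← Matrix.SpecialLinearGroup.coe_mul, mul_inv_cancel_left]
    rcases center_entries h with h' | h' <;> rw [e, h']
    · exact Or.inl (by ext i j; fin_cases i <;> fin_cases j <;> simp [Matrix.mul_apply, Fin.sum_univ_two])
    · exact Or.inr (by ext i j; fin_cases i <;> fin_cases j <;> simp [Matrix.mul_apply, Fin.sum_univ_two])
  · intro h
    have e : (g⁻¹ * g').1 = g.1.adjugate * g'.1 := by
      rw [Matrix.SpecialLinearGroup.coe_mul, Matrix.SpecialLinearGroup.coe_inv]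
    have hadj : g.1.adjugate * g.1 = 1 := by rw [Matrix.adjugate_mul, g.2, one_smul]
    rcases h with h | h
    · refine mem_center_sl 1 ?_
      rw [e, h, hadj]; ext i j; fin_cases i <;> fin_cases j <;> simp
    · refine mem_center_sl (-1) ?_
      rw [e, h, mul_neg, hadj]; ext i j; fin_cases i <;> fin_cases j <;> simp

omit hK [Finite K] in
theorem mul_eq_mk (g h k : SpecialLinearGroup (Fin 2) K) (e : k.1 = g.1 * h.1 ∨ k.1 = -(g.1 * h.1)) :
    (QuotientGroup.mk g : ProjectiveSpecialLinearGroup (Fin 2) K) * QuotientGroup.mk h = QuotientGroup.mk k := by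
  rw [← QuotientGroup.mk_mul, mk_eq_mk_iff, Matrix.SpecialLinearGroup.coe_mul]
  exact e

omit hK [Finite K] in
theorem wn_val : (SL2.wn : SpecialLinearGroup (Fin 2) K).1 = !![0, 1; -1, 0] := rfl

omit hK [Finite K] in
theorem one_val : (1 : SpecialLinearGroup (Fin 2) K).1 = !![1, 0; 0, 1] := by
  rw [Matrix.SpecialLinearGroup.coe_one]; ext i j; fin_cases i <;> fin_cases j <;> simp

theorem klein_rel : wb (K := K) * wb = 1 ∧ vb hK * vb hK = 1 ∧ vb hK * wb = wb * vb hK := by
  have hv := (exists_vv hK).choose_spec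
  have h3 := three_eq_zero hK
  refine ⟨?_, ?_, ?_⟩
  · refine mul_eq_mk _ _ 1 (Or.inr ?_)
    rw [wn_val, one_val]
    ext i j; fin_cases i <;> fin_cases j <;> simp [Matrix.mul_apply, Fin.sum_univ_two]
  · refine mul_eq_mk _ _ 1 (Or.inr ?_)
    rw [hv, one_val]
    ext i j
    fin_cases i <;> fin_cases j <;> simp [Matrix.mul_apply, Fin.sum_univ_two] <;> linear_combination h3
  · show _ = QuotientGroup.mk SL2.wn * QuotientGroup.mk _
    rw [← QuotientGroup.mk_mul]
    refine mul_eq_mk _ _ _ (Or.inr ?_)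
    rw [Matrix.SpecialLinearGroup.coe_mul, wn_val, hv]
    ext i j
    fin_cases i <;> fin_cases j <;> simp [Matrix.mul_apply, Fin.sum_univ_two]

theorem vb_ne_wb : vb hK ≠ wb ∧ vb hK ≠ 1 ∧ wb (K := K) ≠ 1 := by
  have hv := (exists_vv hK).choose_spec
  refine ⟨fun e => ?_, fun e => ?_, fun e => ?_⟩
  · have e' := (mk_eq_mk_iff).mp (show (QuotientGroup.mk (exists_vv hK).choose :
      ProjectiveSpecialLinearGroup (Fin 2) K) = QuotientGroup.mk SL2.wn from e)
    rcases e' with h | h <;> rw [wn_val, hv] at h <;>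
      · have := congrFun (congrFun h 0) 0
        simp at this
  · have e' := (mk_eq_mk_iff).mp (show (QuotientGroup.mk (exists_vv hK).choose :
      ProjectiveSpecialLinearGroup (Fin 2) K) = QuotientGroup.mk 1 from e)
    rcases e' with h | h <;> rw [one_val, hv] at h <;>
      · have := congrFun (congrFun h 0) 1
        simp at this
  · have e' := (mk_eq_mk_iff).mp (show (QuotientGroup.mk SL2.wn :
      ProjectiveSpecialLinearGroup (Fin 2) K) = QuotientGroup.mk 1 from e)
    rcases e' with h | h <;> rw [one_val, wn_val] at h <;>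
      · have := congrFun (congrFun h 0) 1
        simp at this

/-- The self-centralising four-group. -/
theorem klein_cent {x : ProjectiveSpecialLinearGroup (Fin 2) K} (hw : wb * x = x * wb)
    (hv' : vb hK * x = x * vb hK) : x = 1 ∨ x = wb ∨ x = vb hK ∨ x = wb * vb hK := by
  induction x using QuotientGroup.induction_on with | H g =>
  have hv := (exists_vv hK).choose_spec
  have h3 := three_eq_zero hK
  have e1 := (mk_eq_mk_iff).mp ((QuotientGroup.mk_mul _ _ _).trans (hw.trans (QuotientGroup.mk_mul _ _ _).symm))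
  have e2 := (mk_eq_mk_iff).mp ((QuotientGroup.mk_mul _ _ _).trans (hv'.trans (QuotientGroup.mk_mul _ _ _).symm))
  simp only [Matrix.SpecialLinearGroup.coe_mul, wn_val, hv] at e1 e2
  set a := g.1 0 0 with ha
  set b := g.1 0 1 with hb
  set c := g.1 1 0 with hc
  set d := g.1 1 1 with hd
  have hg : g.1 = !![a, b; c, d] := Matrix.eta_fin_two g.1
  have hdet : a * d - b * c = 1 := by
    have := g.2; rwa [Matrix.det_fin_two] at this
  rw [hg] at e1 e2
  simp only [Matrix.mul_fin_two, Matrix.neg_of, Matrix.neg_cons, Matrix.neg_empty,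
    ← Matrix.ext_iff, Fin.forall_fin_two, Matrix.of_apply, Matrix.cons_val_zero, Matrix.cons_val_one] at e1 e2
  have hfin : (b = 0 ∧ c = 0 ∧ d = a) ∨ (a = 0 ∧ d = 0 ∧ c = -b) ∨ (b = a ∧ c = a ∧ d = -a) ∨
      (b = -a ∧ c = -a ∧ d = -a) := by
    rcases e1 with ⟨⟨p1, p2⟩, ⟨p3, p4⟩⟩ | ⟨⟨p1, p2⟩, ⟨p3, p4⟩⟩ <;>
      rcases e2 with ⟨⟨q1, q2⟩, ⟨q3, q4⟩⟩ | ⟨⟨q1, q2⟩, ⟨q3, q4⟩⟩
    · have hb0 : b = 0 := by linear_combination b * h3 - q1 + p1
      exact Or.inl ⟨hb0, by linear_combination -p1 - hb0, by linear_combination -p2⟩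
    · have ha0 : a = 0 := by linear_combination a * h3 - q1 - p1
      exact Or.inr (Or.inl ⟨ha0, by linear_combination -p2 + ha0, by linear_combination -p1⟩)
    · have hba : b = a := by linear_combination (b - a) * h3 + q2 + p2
      exact Or.inr (Or.inr (Or.inl ⟨hba, by linear_combination p1 + hba, by linear_combination p2⟩))
    · have hba : b = -a := by linear_combination (a + b) * h3 - q1 + p1
      exact Or.inr (Or.inr (Or.inr ⟨hba, by linear_combination p1 + hba, by linear_combination p2⟩))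
  rcases hfin with ⟨rfl', rfl'', h⟩ | ⟨h, h', h''⟩ | ⟨h, h', h''⟩ | ⟨h, h', h''⟩
  · refine Or.inl ?_
    have : a ^ 2 = 1 := by rw [rfl', rfl'', h] at hdet; linear_combination hdet
    rw [← QuotientGroup.mk_one, mk_eq_mk_iff, one_val, hg, rfl', rfl'', h]
    rcases sq_eq_one_iff.mp this with h1 | h1 <;> rw [h1]
    · exact Or.inl rfl
    · exact Or.inr (by ext i j; fin_cases i <;> fin_cases j <;> simp)
  · refine Or.inr (Or.inl ?_)
    have : b ^ 2 = 1 := by rw [h, h', h''] at hdet; linear_combination hdet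
    rw [wb, mk_eq_mk_iff, wn_val, hg, h, h', h'']
    rcases sq_eq_one_iff.mp this with h1 | h1 <;> rw [h1]
    · exact Or.inl (by ext i j; fin_cases i <;> fin_cases j <;> simp)
    · exact Or.inr (by ext i j; fin_cases i <;> fin_cases j <;> simp)
  · refine Or.inr (Or.inr (Or.inl ?_))
    have : a ^ 2 = 1 := by rw [h, h', h''] at hdet; linear_combination a ^ 2 * h3 + hdet
    rw [vb, mk_eq_mk_iff, hv, hg, h, h', h'']
    rcases sq_eq_one_iff.mp this with h1 | h1 <;> rw [h1]
    · exact Or.inl rfl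
    · exact Or.inr (by ext i j; fin_cases i <;> fin_cases j <;> simp)
  · refine Or.inr (Or.inr (Or.inr ?_))
    have : a ^ 2 = 1 := by rw [h, h', h''] at hdet; linear_combination a ^ 2 * h3 + hdet
    rw [wb, vb, ← QuotientGroup.mk_mul, mk_eq_mk_iff, Matrix.SpecialLinearGroup.coe_mul, wn_val, hv,
      hg, h, h', h'']
    rcases sq_eq_one_iff.mp this with h1 | h1 <;> rw [h1]
    · exact Or.inl (by ext i j; fin_cases i <;> fin_cases j <;> simp [Matrix.mul_apply, Fin.sum_univ_two])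
    · exact Or.inr (by ext i j; fin_cases i <;> fin_cases j <;> simp [Matrix.mul_apply, Fin.sum_univ_two])

omit hK [Field K] [Finite K] in
/-- The homomorphism from the group of order two. -/
noncomputable def two {G : Type*} [Group G] (g : G) (hg : g * g = 1) : Multiplicative (ZMod 2) →* G where
  toFun z := g ^ (Multiplicative.toAdd z).val
  map_one' := by simp
  map_mul' a b := by
    rw [← pow_add, toAdd_mul, ZMod.val_add]
    exact (pow_eq_pow_mod _ (show g ^ 2 = 1 by rw [pow_two, hg])).symm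

omit hK [Field K] [Finite K] in
theorem two_cases {G : Type*} [Group G] (g : G) (hg : g * g = 1) (z : Multiplicative (ZMod 2)) :
    (z = 1 ∧ two g hg z = 1) ∨ (z = Multiplicative.ofAdd 1 ∧ two g hg z = g) := by
  have : ∀ x : ZMod 2, x = 0 ∨ x = 1 := by decide
  rcases this (Multiplicative.toAdd z) with h | h
  · left
    refine ⟨Multiplicative.toAdd.injective h, ?_⟩
    show g ^ _ = 1
    rw [h, ZMod.val_zero, pow_zero]
  · right
    refine ⟨Multiplicative.toAdd.injective h, ?_⟩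
    show g ^ _ = g
    rw [h, ZMod.val_one, pow_one]

/-- The four-group. -/
noncomputable def klein :
    Multiplicative (ZMod 2) × Multiplicative (ZMod 2) →* ProjectiveSpecialLinearGroup (Fin 2) K :=
  (two wb (klein_rel hK).1).noncommCoprod (two (vb hK) (klein_rel hK).2.1) fun a b => by
    rcases two_cases wb (klein_rel hK).1 a with ⟨-, h⟩ | ⟨-, h⟩ <;> rw [h]
    · exact Commute.one_left _
    · rcases two_cases (vb hK) (klein_rel hK).2.1 b with ⟨-, h'⟩ | ⟨-, h'⟩ <;> rw [h']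
      · exact Commute.one_right _
      · exact (klein_rel hK).2.2.symm

theorem klein_inj : Function.Injective (klein hK) := by
  obtain ⟨h1, h2, h3⟩ := vb_ne_wb hK
  refine (injective_iff_map_eq_one _).mpr ?_
  rintro ⟨a, b⟩ h
  rw [klein, MonoidHom.noncommCoprod_apply] at h
  rcases two_cases wb (klein_rel hK).1 a with ⟨ea, e⟩ | ⟨ea, e⟩ <;>
    rcases two_cases (vb hK) (klein_rel hK).2.1 b with ⟨eb, e'⟩ | ⟨eb, e'⟩ <;> simp only [e, e'] at h
  · exact Prod.ext ea eb
  · exact absurd (by simpa using h) h2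
  · exact absurd (by simpa using h) h3
  · refine absurd ?_ h1
    rw [eq_inv_of_mul_eq_one_right h]
    exact inv_eq_of_mul_eq_one_right (klein_rel hK).1

theorem mem_klein {x : ProjectiveSpecialLinearGroup (Fin 2) K}
    (h : x = 1 ∨ x = wb ∨ x = vb hK ∨ x = wb * vb hK) : x ∈ (klein hK).range := by
  have hw : wb ∈ (klein hK).range := by
    rcases two_cases wb (klein_rel hK).1 (Multiplicative.ofAdd 1) with ⟨e, -⟩ | ⟨-, e⟩
    · exact absurd (Multiplicative.ofAdd.injective e) one_ne_zero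
    · refine ⟨((Multiplicative.ofAdd (1 : ZMod 2) : Multiplicative (ZMod 2)), 1), ?_⟩
      rw [klein, MonoidHom.noncommCoprod_apply]; dsimp only
      rw [e, map_one (two (vb hK) _), mul_one]
  have hv : vb hK ∈ (klein hK).range := by
    rcases two_cases (vb hK) (klein_rel hK).2.1 (Multiplicative.ofAdd 1) with ⟨e, -⟩ | ⟨-, e⟩
    · exact absurd (Multiplicative.ofAdd.injective e) one_ne_zero
    · refine ⟨(1, (Multiplicative.ofAdd (1 : ZMod 2) : Multiplicative (ZMod 2))), ?_⟩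
      rw [klein, MonoidHom.noncommCoprod_apply]; dsimp only
      rw [e, map_one (two wb _), one_mul]
  rcases h with rfl | rfl | rfl | rfl
  exacts [one_mem _, hw, hv, mul_mem hw hv]

/-- The elementary abelian group of order eight. -/
noncomputable def eightHom :
    Multiplicative (ZMod 2) × (Multiplicative (ZMod 2) × Multiplicative (ZMod 2)) →* ↥(S hK).fix :=
  (psi hK).comp ((MonoidHom.id _).prodMap (klein hK))

/-- Its range. -/
noncomputable def eight : Subgroup ↥(S hK).fix := (eightHom hK).range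

theorem eightHom_inj : Function.Injective (eightHom hK) := fun a b h => by
  have h' := psi_inj hK h
  simp only [MonoidHom.prodMap, MonoidHom.coe_comp, MonoidHom.coe_mk, MonoidHom.prod_apply,
    Prod.mk.injEq, Function.comp_apply, MonoidHom.id_apply, MonoidHom.coe_fst, MonoidHom.coe_snd] at h'
  exact Prod.ext h'.1 (klein_inj hK h'.2)

theorem card_eight : Nat.card ↥(eight hK) = 8 := by
  rw [eight, ← Nat.card_congr (MonoidHom.ofInjective (eightHom_inj hK)).toEquiv, Nat.card_prod, Nat.card_prod]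
  simp

theorem eight_comm {x y : ↥(S hK).fix} (hx : x ∈ eight hK) (hy : y ∈ eight hK) : x * y = y * x := by
  obtain ⟨a, rfl⟩ := hx
  obtain ⟨b, rfl⟩ := hy
  rw [← map_mul, ← map_mul, mul_comm]

theorem eight_sq {x : ↥(S hK).fix} (hx : x ∈ eight hK) : x * x = 1 := by
  obtain ⟨⟨a, b, c⟩, rfl⟩ := hx
  have h : ∀ z : Multiplicative (ZMod 2), z * z = 1 := fun z => by
    have : ∀ y : ZMod 2, y + y = 0 := by decide
    exact Multiplicative.toAdd.injective (this _)
  rw [← map_mul, Prod.mk_mul_mk, Prod.mk_mul_mk, h, h, h]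
  exact map_one _

theorem h0_mem_eight : h0 hK ∈ eight hK := by
  refine ⟨((Multiplicative.ofAdd (1 : ZMod 2) : Multiplicative (ZMod 2)), 1), ?_⟩
  show psi hK (_, klein hK 1) = _
  rw [map_one (klein hK), psi, MonoidHom.noncommCoprod_apply]; dsimp only
  rw [map_one (PhiBar hK), mul_one]
  show h0 hK ^ (Multiplicative.toAdd (Multiplicative.ofAdd (1 : ZMod 2))).val = _
  rw [toAdd_ofAdd, ZMod.val_one, pow_one]

theorem eight_cent : Subgroup.centralizer (eight hK : Set ↥(S hK).fix) = eight hK := by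
  refine le_antisymm (fun g hg => ?_) fun x hx => Subgroup.mem_centralizer_iff.mpr fun y hy => eight_comm hK hy hx
  rw [Subgroup.mem_centralizer_iff] at hg
  have hc : g ∈ (psi hK).range := by
    rw [psi_range hK, Subgroup.mem_centralizer_iff]
    rintro y rfl
    exact hg _ (h0_mem_eight hK)
  obtain ⟨⟨z, x⟩, rfl⟩ := hc
  have key : ∀ k, k ∈ (klein hK).range → k * x = x * k := by
    rintro _ ⟨k, rfl⟩
    have h := hg _ ⟨(1, k), rfl⟩
    rw [show eightHom hK (1, k) = psi hK (1, klein hK k) from rfl, ← map_mul, ← map_mul] at h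
    exact congrArg Prod.snd (psi_inj hK h)
  obtain ⟨k, hk⟩ := mem_klein hK (klein_cent hK (key _ (mem_klein hK (Or.inr (Or.inl rfl))))
    (key _ (mem_klein hK (Or.inr (Or.inr (Or.inl rfl))))))
  exact ⟨(z, k), by show psi hK (z, klein hK k) = _; rw [hk]⟩

theorem fix_card_eq : Nat.card ↥(S hK).fix =
    (3 ^ (2 * m + 1)) ^ 3 * (3 ^ (2 * m + 1) - 1) * ((3 ^ (2 * m + 1)) ^ 3 + 1) := by
  have h := card_eq hK
  rwa [grp_eq_fix hK] at h

theorem factor_two : (Nat.card ↥(S hK).fix).factorization 2 = 3 := by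
  have : Fact (Nat.Prime 2) := ⟨Nat.prime_two⟩
  set q := 3 ^ (2 * m + 1) with hq
  have h8 : q % 8 = 3 := by
    rw [hq, pow_succ, pow_mul, Nat.mul_mod, Nat.pow_mod]
    norm_num
  obtain ⟨j, hj⟩ : ∃ j, q = 8 * j + 3 := ⟨q / 8, by omega⟩
  have e : Nat.card ↥(S hK).fix = 2 ^ 3 * (q ^ 3 * (4 * j + 1) * (128 * j ^ 3 + 144 * j ^ 2 + 54 * j + 7)) := by
    rw [fix_card_eq hK, ← hq, hj, show 8 * j + 3 - 1 = 2 * (4 * j + 1) by omega]
    ring
  have hodd : ¬ 2 ∣ q ^ 3 * (4 * j + 1) * (128 * j ^ 3 + 144 * j ^ 2 + 54 * j + 7) := by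
    rw [Nat.prime_two.dvd_mul, Nat.prime_two.dvd_mul]
    rintro ((h | h) | h)
    · have := Nat.prime_two.dvd_of_dvd_pow h
      omega
    · omega
    · omega
  rw [e, Nat.factorization_mul (by norm_num) (fun h => hodd (by rw [h]; exact dvd_zero 2))]
  rw [Finsupp.add_apply, Nat.factorization_eq_zero_of_not_dvd hodd, Nat.prime_two.factorization_pow,
    Finsupp.single_eq_same]

/-- The Sylow subgroup. -/
noncomputable def syl : Sylow 2 ↥(S hK).fix :=
  haveI : Fact (Nat.Prime 2) := ⟨Nat.prime_two⟩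
  Sylow.ofCard (eight hK) (by rw [card_eight hK, factor_two hK]; norm_num)

/-! The normaliser -/

omit hK [Finite K] in
/-- An element of order three. -/
def gg : SpecialLinearGroup (Fin 2) K := ⟨!![0, 1; -1, -1], by simp [Matrix.det_fin_two_of]⟩

omit hK [Finite K] in
theorem gg_cube : (gg : SpecialLinearGroup (Fin 2) K) * gg * gg = 1 := by
  refine Subtype.ext ?_
  show (!![0, 1; -1, -1] : Matrix (Fin 2) (Fin 2) K) * !![0, 1; -1, -1] * !![0, 1; -1, -1] = 1
  ext i j; fin_cases i <;> fin_cases j <;> simp [Matrix.mul_apply, Fin.sum_univ_two]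

theorem gg_rel : (QuotientGroup.mk gg : ProjectiveSpecialLinearGroup (Fin 2) K) * wb =
      vb hK * QuotientGroup.mk gg ∧
    (QuotientGroup.mk gg : ProjectiveSpecialLinearGroup (Fin 2) K) * vb hK =
      wb * vb hK * QuotientGroup.mk gg := by
  have hv := (exists_vv hK).choose_spec
  have h3 := three_eq_zero hK
  constructor <;>
    simp only [wb, vb, ← QuotientGroup.mk_mul, mk_eq_mk_iff, Matrix.SpecialLinearGroup.coe_mul, wn_val, hv] <;>
    refine Or.inl ?_ <;>
    show _ = (!![0, 1; -1, -1] : Matrix (Fin 2) (Fin 2) K) * _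
  · show !![1, 1; 1, -1] * (!![0, 1; -1, -1] : Matrix (Fin 2) (Fin 2) K) = _
    ext i j
    fin_cases i <;> fin_cases j <;> simp [Matrix.mul_apply, Fin.sum_univ_two] <;>
      first | linear_combination h3 | linear_combination -h3
  · show !![0, 1; -1, 0] * !![1, 1; 1, -1] * (!![0, 1; -1, -1] : Matrix (Fin 2) (Fin 2) K) = _
    ext i j
    fin_cases i <;> fin_cases j <;> simp [Matrix.mul_apply, Fin.sum_univ_two] <;>
      first | linear_combination h3 | linear_combination -h3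

/-- The normaliser of the Sylow subgroup. -/
noncomputable def nor : Subgroup ↥(S hK).fix := Subgroup.normalizer (eight hK : Set ↥(S hK).fix)

theorem mem_nor {g : ↥(S hK).fix} :
    g ∈ nor hK ↔ ∀ x, x ∈ eight hK ↔ g * x * g⁻¹ ∈ eight hK := Subgroup.mem_normalizer_iff

/-- The two generators in the centraliser. -/
noncomputable def gen2 (y : ProjectiveSpecialLinearGroup (Fin 2) K) : ↥(S hK).fix := psi hK (1, y)

theorem gen2_mem {y : ProjectiveSpecialLinearGroup (Fin 2) K} (h : y ∈ (klein hK).range) :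
    gen2 hK y ∈ eight hK := by
  obtain ⟨k, rfl⟩ := h
  exact ⟨(1, k), rfl⟩

theorem klein_range_cases {x : ProjectiveSpecialLinearGroup (Fin 2) K} (h : x ∈ (klein hK).range) :
    x = 1 ∨ x = wb ∨ x = vb hK ∨ x = wb * vb hK := by
  obtain ⟨⟨a, b⟩, rfl⟩ := h
  rw [klein, MonoidHom.noncommCoprod_apply]
  rcases two_cases wb (klein_rel hK).1 a with ⟨-, e⟩ | ⟨-, e⟩ <;>
    rcases two_cases (vb hK) (klein_rel hK).2.1 b with ⟨-, e'⟩ | ⟨-, e'⟩ <;> simp only [e, e'] <;> simp

theorem eight_gen {g : ↥(S hK).fix} (h1 : h0 hK * g = g * h0 hK) (h2 : gen2 hK wb * g = g * gen2 hK wb)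
    (h3 : gen2 hK (vb hK) * g = g * gen2 hK (vb hK)) : g ∈ eight hK := by
  rw [← eight_cent hK, Subgroup.mem_centralizer_iff]
  rintro _ ⟨⟨a, k⟩, rfl⟩
  have e : eightHom hK (a, k) = iota hK a * gen2 hK (klein hK k) := by
    show psi hK (a, klein hK k) = _
    rw [gen2, psi, MonoidHom.noncommCoprod_apply, MonoidHom.noncommCoprod_apply]
    dsimp only
    rw [map_one (iota hK), one_mul]
  rw [e]
  have hk : Commute (gen2 hK (klein hK k)) g := by
    rcases klein_range_cases hK ⟨k, rfl⟩ with h | h | h | h <;> rw [h]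
    · rw [gen2, ← Prod.one_eq_mk, map_one]; exact Commute.one_left _
    · exact h2
    · exact h3
    · rw [show gen2 hK (wb * vb hK) = gen2 hK wb * gen2 hK (vb hK) by
        simp only [gen2, ← map_mul, Prod.mk_mul_mk, mul_one]]
      exact Commute.mul_left h2 h3
  refine (Commute.mul_left ?_ hk).eq
  rcases iota_cases hK a with h | h <;> rw [h]
  exacts [Commute.one_left _, h1]

theorem eight_conj_transitive {x : ↥(S hK).fix} (hx : x ∈ eight hK) (hx1 : x ≠ 1) :
    ∃ n ∈ nor hK, n * h0 hK * n⁻¹ = x := by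
  have : Fact (Nat.Prime 2) := ⟨Nat.prime_two⟩
  obtain ⟨g, hg⟩ := involution_conj hK hx1 (eight_sq hK hx)
  have hc : ∀ y ∈ eight hK, y ∈ Subgroup.centralizer ((syl hK : Subgroup ↥(S hK).fix) : Set ↥(S hK).fix) := by
    intro y hy
    show y ∈ Subgroup.centralizer (eight hK : Set ↥(S hK).fix)
    rw [eight_cent hK]; exact hy
  obtain ⟨n, hn, e⟩ := Sylow.conj_eq_normalizer_conj_of_mem_centralizer (syl hK) (h0 hK) g⁻¹
    (hc _ (h0_mem_eight hK)) (by rw [inv_inv, hg]; exact hc _ hx)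
  refine ⟨n⁻¹, inv_mem hn, ?_⟩
  rw [inv_inv] at e ⊢
  rw [← e, hg]

/-- The stabiliser of the involution in the normaliser. -/
noncomputable def norC : Subgroup ↥(S hK).fix := nor hK ⊓ Subgroup.centralizer {h0 hK}

theorem eight_le_norC : eight hK ≤ norC hK := fun _ hx =>
  Subgroup.mem_inf.mpr ⟨Subgroup.le_normalizer hx, Subgroup.mem_centralizer_iff.mpr fun y hy => by
    rw [Set.mem_singleton_iff.mp hy]; exact eight_comm hK (h0_mem_eight hK) hx⟩

theorem gg_mem : gen2 hK (QuotientGroup.mk gg) ∈ norC hK := by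
  obtain ⟨r1, r2⟩ := gg_rel hK
  obtain ⟨kw, kv, kc⟩ := klein_rel hK
  set y : ProjectiveSpecialLinearGroup (Fin 2) K := QuotientGroup.mk gg with hy
  have hy3 : y * y * y = 1 := by
    rw [hy, ← QuotientGroup.mk_mul, ← QuotientGroup.mk_mul, gg_cube, QuotientGroup.mk_one]
  have hk : ∀ k ∈ (klein hK).range, y * k * y⁻¹ ∈ (klein hK).range := by
    intro k hk
    rcases klein_range_cases hK hk with rfl | rfl | rfl | rfl
    · simp
    · rw [r1, mul_inv_cancel_right]; exact mem_klein hK (Or.inr (Or.inr (Or.inl rfl)))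
    · rw [r2, mul_inv_cancel_right]; exact mem_klein hK (Or.inr (Or.inr (Or.inr rfl)))
    · rw [← mul_assoc, r1, mul_assoc (vb hK), r2, ← mul_assoc, mul_inv_cancel_right, ← mul_assoc, kc,
        mul_assoc, kv, mul_one]
      exact mem_klein hK (Or.inr (Or.inl rfl))
  have hce : gen2 hK y ∈ Subgroup.centralizer {h0 hK} := psi_range hK ▸ ⟨_, rfl⟩
  refine Subgroup.mem_inf.mpr ⟨?_, hce⟩
  have h1 : ∀ x ∈ eight hK, gen2 hK y * x * (gen2 hK y)⁻¹ ∈ eight hK := by
    rintro _ ⟨⟨a, k⟩, rfl⟩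
    obtain ⟨k', hk'⟩ := hk _ ⟨k, rfl⟩
    refine ⟨(a, k'), ?_⟩
    show psi hK (a, klein hK k') = psi hK (1, y) * psi hK (a, klein hK k) * (psi hK (1, y))⁻¹
    rw [← map_inv, ← map_mul, ← map_mul, hk']
    simp
  have h3 : gen2 hK y * gen2 hK y * gen2 hK y = 1 := by
    simp only [gen2, ← map_mul, Prod.mk_mul_mk, mul_one, hy3]
    exact map_one _
  refine (mem_nor hK).mpr fun x => ⟨h1 x, fun hx => ?_⟩
  have h2 := h1 _ (h1 _ hx)
  rwa [show gen2 hK y * (gen2 hK y * (gen2 hK y * x * (gen2 hK y)⁻¹) * (gen2 hK y)⁻¹) * (gen2 hK y)⁻¹ =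
    (gen2 hK y * gen2 hK y * gen2 hK y) * x * (gen2 hK y * gen2 hK y * gen2 hK y)⁻¹ by group, h3, one_mul,
    inv_one, mul_one] at h2

theorem conj_gen2 {g : ↥(S hK).fix} (hg : g ∈ norC hK) {y : ProjectiveSpecialLinearGroup (Fin 2) K}
    (hy : y ∈ (klein hK).range) (hy1 : y ≠ 1) :
    g * gen2 hK y * g⁻¹ ∈ ({gen2 hK wb, gen2 hK (vb hK), gen2 hK (wb * vb hK)} : Set ↥(S hK).fix) := by
  obtain ⟨hn, hc⟩ := Subgroup.mem_inf.mp hg
  rw [← psi_range hK] at hc
  obtain ⟨⟨z, x⟩, rfl⟩ := hc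
  have h := ((mem_nor hK).mp hn _).mp (gen2_mem hK hy)
  have e : psi hK (z, x) * gen2 hK y * (psi hK (z, x))⁻¹ = gen2 hK (x * y * x⁻¹) := by
    rw [gen2, gen2, ← map_inv, ← map_mul, ← map_mul]
    simp
  rw [e] at h ⊢
  obtain ⟨⟨a, k⟩, hk⟩ := h
  have hxy : x * y * x⁻¹ ∈ (klein hK).range := ⟨k, congrArg Prod.snd (psi_inj hK hk)⟩
  rcases klein_range_cases hK hxy with h' | h' | h' | h' <;> rw [h']
  · exact absurd (by
      have := congrArg (fun w => x⁻¹ * w * x) h'
      simpa [mul_assoc] using this) hy1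
  all_goals simp

omit hK [Field K] [Finite K] in
theorem pairs_card {G : Type*} [Finite G] (p q r : G) :
    Nat.card {z : G × G // z.1 ∈ ({p, q, r} : Set G) ∧ z.2 ∈ ({p, q, r} : Set G) ∧ z.1 ≠ z.2} ≤ 6 := by
  classical
  let T : Finset (G × G) := {(p, q), (p, r), (q, p), (q, r), (r, p), (r, q)}
  have : Nat.card {z : G × G // z.1 ∈ ({p, q, r} : Set G) ∧ z.2 ∈ ({p, q, r} : Set G) ∧ z.1 ≠ z.2} ≤
      Nat.card T := by
    refine Nat.card_le_card_of_injective (fun z => ⟨z.1, ?_⟩) fun a b e => Subtype.ext (by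
      simpa using congrArg Subtype.val e)
    obtain ⟨⟨a, b⟩, ha, hb, hne⟩ := z
    simp only [Set.mem_insert_iff, Set.mem_singleton_iff] at ha hb
    rcases ha with rfl | rfl | rfl <;> rcases hb with rfl | rfl | rfl <;>
      first | exact absurd rfl hne | simp [T]
  refine this.trans ?_
  rw [Nat.card_eq_fintype_card, Fintype.card_coe]
  exact Finset.card_le_six

theorem card_norC : Nat.card ↥(norC hK) = 24 := by
  have : Fact (Nat.Prime 2) := ⟨Nat.prime_two⟩
  have : Fact (Nat.Prime 3) := ⟨Nat.prime_three⟩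
  obtain ⟨hvw, hv1, hw1⟩ := vb_ne_wb hK
  have hwm := mem_klein hK (x := wb) (Or.inr (Or.inl rfl))
  have hvm := mem_klein hK (x := vb hK) (Or.inr (Or.inr (Or.inl rfl)))
  have hle : Nat.card ↥(norC hK) ≤ 6 * 8 := by
    let f : ↥(norC hK) → {z : ↥(S hK).fix × ↥(S hK).fix //
        z.1 ∈ ({gen2 hK wb, gen2 hK (vb hK), gen2 hK (wb * vb hK)} : Set ↥(S hK).fix) ∧
        z.2 ∈ ({gen2 hK wb, gen2 hK (vb hK), gen2 hK (wb * vb hK)} : Set ↥(S hK).fix) ∧ z.1 ≠ z.2} :=
      fun g => ⟨(g.1 * gen2 hK wb * g.1⁻¹, g.1 * gen2 hK (vb hK) * g.1⁻¹),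
        conj_gen2 hK g.2 hwm hw1, conj_gen2 hK g.2 hvm hv1, fun e => hvw (by
          simp only [mul_left_inj, mul_right_inj] at e
          exact (congrArg Prod.snd (psi_inj hK e)).symm)⟩
    refine le_trans ?_ (Nat.mul_le_mul_right 8 (pairs_card (gen2 hK wb) (gen2 hK (vb hK)) (gen2 hK (wb * vb hK))))
    rw [← card_eight hK, ← Nat.card_prod]
    choose r hr using fun s : Set.range f => s.2
    have hmem : ∀ g, ((r ⟨f g, g, rfl⟩).1)⁻¹ * g.1 ∈ eight hK := by
      intro g
      have e := hr ⟨f g, g, rfl⟩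
      have e1 := congrArg (fun z => z.1.1) e
      have e2 := congrArg (fun z => z.1.2) e
      simp only [f] at e1 e2
      have hh : ∀ t : ↥(norC hK), h0 hK * t.1 = t.1 * h0 hK := fun t =>
        Subgroup.mem_centralizer_iff.mp (Subgroup.mem_inf.mp t.2).2 _ rfl
      have key : ∀ (t s : ↥(S hK).fix) (u : ↥(S hK).fix), t * u * t⁻¹ = s * u * s⁻¹ →
          u * (t⁻¹ * s) = t⁻¹ * s * u := fun t s u e => by
        calc u * (t⁻¹ * s) = t⁻¹ * (t * u * t⁻¹) * s := by group
          _ = t⁻¹ * (s * u * s⁻¹) * s := by rw [e]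
          _ = _ := by group
      refine eight_gen hK ?_ (key _ _ _ e1) (key _ _ _ e2)
      refine key _ _ _ ?_
      rw [← hh, mul_inv_cancel_right, ← hh, mul_inv_cancel_right]
    refine Nat.card_le_card_of_injective (fun g => (f g, (⟨_, hmem g⟩ : ↥(eight hK)))) fun a b e => ?_
    obtain ⟨e1, e2⟩ := Prod.mk.inj e
    have e3 : ((r ⟨f a, a, rfl⟩).1)⁻¹ * a.1 = ((r ⟨f b, b, rfl⟩).1)⁻¹ * b.1 := congrArg Subtype.val e2
    simp only [e1] at e3
    exact Subtype.ext (mul_left_cancel e3)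
  have h8 : 8 ∣ Nat.card ↥(norC hK) := card_eight hK ▸ Subgroup.card_dvd_of_le (eight_le_norC hK)
  have h16 : ¬ 16 ∣ Nat.card ↥(norC hK) := fun h => by
    have h' := Nat.factorization_le_iff_dvd (d := 16) (by norm_num) Nat.card_pos.ne' |>.mpr
      (h.trans (Subgroup.card_subgroup_dvd_card _)) 2
    rw [factor_two hK, show (16 : ℕ) = 2 ^ 4 from rfl, Nat.prime_two.factorization_pow,
      Finsupp.single_eq_same] at h'
    omega
  have h3 : 3 ∣ Nat.card ↥(norC hK) := by
    have ho : orderOf (⟨_, gg_mem hK⟩ : ↥(norC hK)) = 3 := by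
      refine orderOf_eq_prime (Subtype.ext ?_) fun e => ?_
      · show gen2 hK (QuotientGroup.mk gg) ^ 3 = 1
        rw [gen2, ← map_pow, Prod.pow_mk, one_pow, pow_succ, pow_two, ← QuotientGroup.mk_mul,
          ← QuotientGroup.mk_mul, gg_cube]
        exact map_one _
      · have e' : gen2 hK (QuotientGroup.mk gg) = 1 := congrArg Subtype.val e
        rw [gen2, ← map_one (psi hK)] at e'
        have e2 : (QuotientGroup.mk gg : ProjectiveSpecialLinearGroup (Fin 2) K) = 1 :=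
          congrArg Prod.snd (psi_inj hK e')
        have r1 := (gg_rel hK).1
        rw [e2, one_mul, mul_one] at r1
        exact hvw r1.symm
    exact ho ▸ orderOf_dvd_natCard _
  have hpos : 0 < Nat.card ↥(norC hK) := Nat.card_pos
  omega

theorem card_nor : Nat.card ↥(nor hK) = 168 := by
  let T := {x : ↥(eight hK) // x ≠ 1}
  have hT : Nat.card T = 7 := by
    classical
    have : Fintype ↥(eight hK) := Fintype.ofFinite _
    rw [Nat.card_eq_fintype_card, Fintype.card_subtype_compl, Fintype.card_subtype_eq,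
      ← Nat.card_eq_fintype_card, card_eight hK]
  let f : ↥(nor hK) → T := fun n => ⟨⟨n.1 * h0 hK * n.1⁻¹, ((mem_nor hK).mp n.2 _).mp (h0_mem_eight hK)⟩,
    fun e => h0_ne hK (by simpa using congrArg Subtype.val e)⟩
  have hsurj : Function.Surjective f := fun x => by
    obtain ⟨n, hn, e⟩ := eight_conj_transitive hK x.1.2 fun e => x.2 (Subtype.ext e)
    exact ⟨⟨n, hn⟩, Subtype.ext (Subtype.ext e)⟩
  have hiff : ∀ a b : ↥(nor hK), f a = f b ↔ a⁻¹ * b ∈ (norC hK).subgroupOf (nor hK) := by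
    intro a b
    rw [Subgroup.mem_subgroupOf, norC, Subgroup.mem_inf, Subgroup.mem_centralizer_iff]
    constructor
    · intro e
      refine ⟨(a⁻¹ * b).2, ?_⟩
      intro y hy
      rw [Set.mem_singleton_iff.mp hy]
      have e' : a.1 * h0 hK * a.1⁻¹ = b.1 * h0 hK * b.1⁻¹ := congrArg (fun z : T => z.1.1) e
      push_cast
      calc h0 hK * (a.1⁻¹ * b.1) = a.1⁻¹ * (a.1 * h0 hK * a.1⁻¹) * b.1 := by group
        _ = a.1⁻¹ * (b.1 * h0 hK * b.1⁻¹) * b.1 := by rw [e']
        _ = _ := by group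
    · rintro ⟨-, h⟩
      refine Subtype.ext (Subtype.ext ?_)
      have h' := h _ rfl
      push_cast at h'
      show a.1 * h0 hK * a.1⁻¹ = b.1 * h0 hK * b.1⁻¹
      calc a.1 * h0 hK * a.1⁻¹ = a.1 * (h0 hK * (a.1⁻¹ * b.1)) * b.1⁻¹ := by group
        _ = a.1 * (a.1⁻¹ * b.1 * h0 hK) * b.1⁻¹ := by rw [h']
        _ = _ := by group
  let e : ↥(nor hK) ⧸ (norC hK).subgroupOf (nor hK) ≃ T := Equiv.ofBijective
    (fun q => Quotient.liftOn' q f fun a b h => (hiff a b).mpr (QuotientGroup.leftRel_apply.mp h))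
    ⟨fun a b => by
      induction a using QuotientGroup.induction_on with | H a =>
      induction b using QuotientGroup.induction_on with | H b =>
      exact fun h => QuotientGroup.eq.mpr ((hiff a b).mp h),
     fun x => by obtain ⟨n, hn⟩ := hsurj x; exact ⟨QuotientGroup.mk n, hn⟩⟩
  rw [Subgroup.card_eq_card_quotient_mul_card_subgroup ((norC hK).subgroupOf (nor hK)), Nat.card_congr e, hT,
    Nat.card_congr (Subgroup.subgroupOfEquivOfLe (show norC hK ≤ nor hK from inf_le_left)).toEquiv, card_norC hK]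

theorem sylow_facts (P : Sylow 2 ↥(S hK).fix) : Nat.card P = 8 ∧ (∀ x ∈ P, x * x = 1) ∧
    Subgroup.centralizer ((P : Subgroup ↥(S hK).fix) : Set ↥(S hK).fix) = P ∧
    Nat.card ↥(Subgroup.normalizer ((P : Subgroup ↥(S hK).fix) : Set ↥(S hK).fix)) = 168 := by
  have : Fact (Nat.Prime 2) := ⟨Nat.prime_two⟩
  obtain ⟨g, rfl⟩ := MulAction.exists_smul_eq ↥(S hK).fix (syl hK) P
  have hc : ((g • syl hK : Sylow 2 _) : Subgroup ↥(S hK).fix) =
      (eight hK).map (MulAut.conj g).toMonoidHom := rfl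
  refine ⟨?_, ?_, ?_, ?_⟩
  · rw [show Nat.card (g • syl hK : Sylow 2 ↥(S hK).fix) =
      Nat.card ↥((g • syl hK : Sylow 2 _) : Subgroup ↥(S hK).fix) from rfl, hc,
      Subgroup.card_map_of_injective (MulEquiv.injective _), card_eight hK]
  · intro x hx
    obtain ⟨y, hy, rfl⟩ := (hc ▸ hx : x ∈ (eight hK).map (MulAut.conj g).toMonoidHom)
    rw [← map_mul, eight_sq hK hy, map_one]
  · rw [hc, Subgroup.coe_map]
    show Subgroup.centralizer (MulAut.conj g '' _) = (eight hK).map (MulAut.conj g).toMonoidHom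
    refine le_antisymm (fun x hx => ?_) ?_
    · refine ⟨MulAut.conj g⁻¹ x, ?_, by simp [mul_assoc]⟩
      rw [← eight_cent hK, SetLike.mem_coe, Subgroup.mem_centralizer_iff]
      intro y hy
      have h := Subgroup.mem_centralizer_iff.mp hx _ ⟨y, hy, rfl⟩
      apply (MulAut.conj g).injective
      rw [map_mul, map_mul]
      simpa [mul_assoc] using h
    · rintro _ ⟨x, hx, rfl⟩
      rw [Subgroup.mem_centralizer_iff]
      rintro _ ⟨y, hy, rfl⟩
      show MulAut.conj g y * MulAut.conj g x = MulAut.conj g x * MulAut.conj g y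
      rw [← map_mul, ← map_mul, eight_comm hK hy hx]
  · rw [hc, ← Subgroup.map_equiv_normalizer_eq, Subgroup.card_map_of_injective (MulEquiv.injective _)]
    exact card_nor hK

end CfsgLib.Chevalley.Twist.G2
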