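import Cfsg.Agent.Lib.Chevalley.Twist.G2Classes

/-!
The two classes of tori of order `q ± r + 1` of ²G₂.
-/

set_option autoImplicit false
set_option maxRecDepth 20000
set_option Elab.async false

namespace CfsgLib.Chevalley.Twist.G2

open Tbl

local notation "T2" => Data.G2.tbl

theorem hex_prime_ge {m p : ℕ} (hp : p.Prime) (h : p ∣ hexN m) {K : Type*} [Field K] [Fintype K]
    (hK : Fintype.card K = 3 ^ (2 * m + 1)) : 7 ≤ p := by
  have : Fact p.Prime := ⟨hp⟩
  have hord := orderOf_hex hK hp h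
  have hne : ((Fintype.card K : ℕ) : ZMod p) ≠ 0 := fun e => by
    rw [e, orderOf_eq_zero_iff'.mpr (fun n hn => by rw [zero_pow hn.ne']; exact zero_ne_one)] at hord
    omega
  have hd := hord ▸ ZMod.orderOf_dvd_card_sub_one hne
  have := hp.two_le
  have := Nat.le_of_dvd (by omega) hd
  omega

theorem two_sum {N q a b e₁ e₂ : ℤ} (hab : a * b = N) (ha : 7 ≤ a) (hb : 7 ≤ b) (he₁ : 1 ≤ e₁) (he₂ : 1 ≤ e₂)
    (hq : 0 ≤ q) (h : e₁ * (a - 1) * b + e₂ * (b - 1) * a = 2 * (N - (q + 1))) :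
    e₁ = 1 ∧ e₂ = 1 ∧ a + b = 2 * (q + 1) := by
  subst hab
  have h1 : e₁ = 1 := by
    by_contra hne
    have : 2 ≤ e₁ := by omega
    nlinarith [mul_le_mul_of_nonneg_right this (show 0 ≤ (a - 1) * b by nlinarith),
      mul_le_mul_of_nonneg_right he₂ (show 0 ≤ (b - 1) * a by nlinarith)]
  have h2 : e₂ = 1 := by
    by_contra hne
    have : 2 ≤ e₂ := by omega
    subst h1
    nlinarith [mul_le_mul_of_nonneg_right this (show 0 ≤ (b - 1) * a by nlinarith)]
  subst h1 h2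
  exact ⟨rfl, rfl, by linarith⟩

theorem roots {m : ℕ} {a b : ℕ} (hab : a * b = hexN m) (hs : a + b = 2 * (3 ^ (2 * m + 1) + 1)) :
    (a = 3 ^ (2 * m + 1) - 3 ^ (m + 1) + 1 ∧ b = 3 ^ (2 * m + 1) + 3 ^ (m + 1) + 1) ∨
      (a = 3 ^ (2 * m + 1) + 3 ^ (m + 1) + 1 ∧ b = 3 ^ (2 * m + 1) - 3 ^ (m + 1) + 1) := by
  have hN := hexN_mul m
  have hr := r_sq m
  have hrq : 3 ^ (m + 1) ≤ 3 ^ (2 * m + 1) := Nat.pow_le_pow_right (by norm_num) (by omega)
  generalize 3 ^ (2 * m + 1) = q at *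
  generalize 3 ^ (m + 1) = r at *
  generalize hexN m = N at *
  have e : ((a : ℤ) - (q + 1)) ^ 2 = (r : ℤ) ^ 2 := by
    zify at hab hs hN hr
    linear_combination (a : ℤ) * hs - hab - hN - hr
  rcases sq_eq_sq_iff_eq_or_eq_neg.mp e with h | h
  · right; constructor <;> omega
  · left; constructor <;> omega

variable {K : Type*} [Field K] [Finite K] {m : ℕ} (hK : Nat.card K = 3 ^ (2 * m + 1)) (hm : 1 ≤ m)
include hK hm

theorem hex_factor {r : ℕ} (hr : r.Prime) (h : r ∣ hexN m) :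
    (Nat.card ↥(S hK).fix).factorization r = (hexN m).factorization r := by
  have hn := hexN_not_rest hr h
  rw [card_fix' hK, Nat.factorization_mul (fun e => hn (by rw [e]; exact dvd_zero r)) (by unfold hexN; omega),
    Finsupp.add_apply, Nat.factorization_eq_zero_of_not_dvd hn, zero_add]

theorem exists_hexTor {r : ℕ} (hr : r.Prime) (h : r ∣ hexN m) :
    ∃ A, IsHexTor hK A ∧ r ∣ Nat.card ↥A ∧ ∃ u ∈ A, orderOf u = r := by
  have : Fact r.Prime := ⟨hr⟩
  obtain ⟨u, hu⟩ := exists_prime_orderOf_dvd_card' (G := ↥(S hK).fix) r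
    (by rw [card_fix' hK]; exact dvd_mul_of_dvd_right h _)
  refine ⟨_, ⟨r, hr, h, u, hu, rfl⟩, ?_, u, mem_cent_one.mpr rfl, hu⟩
  rw [← hu, ← Subgroup.orderOf_mk (H := Subgroup.centralizer {u}) u (mem_cent_one.mpr rfl)]
  exact orderOf_dvd_natCard _

/-- A torus with every prime of `q² - q + 1` has that order. -/
theorem card_eq_of_primes {a : ℕ} (ha : a ∣ hexN m)
    (h : ∀ r : ℕ, r.Prime → r ∣ hexN m → a.factorization r = (hexN m).factorization r) : a = hexN m := by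
  have hN : hexN m ≠ 0 := by unfold hexN; omega
  refine Nat.eq_of_factorization_eq (fun e => hN (by rw [e] at ha; exact Nat.eq_zero_of_zero_dvd ha)) hN fun r => ?_
  by_cases hr : r.Prime
  · by_cases hd : r ∣ hexN m
    · exact h r hr hd
    · rw [Nat.factorization_eq_zero_of_not_dvd hd, Nat.factorization_eq_zero_of_not_dvd (fun e => hd (e.trans ha))]
  · rw [Nat.factorization_eq_zero_of_not_prime _ hr, Nat.factorization_eq_zero_of_not_prime _ hr]

theorem IsHexTor.share {A B : Subgroup ↥(S hK).fix} (hA : IsHexTor hK A) (hB : IsHexTor hK B) {r : ℕ}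
    (hr : r.Prime) (hrA : r ∣ Nat.card ↥A) (hrB : r ∣ Nat.card ↥B) : Nat.card ↥B ∣ Nat.card ↥A := by
  have : Fact r.Prime := ⟨hr⟩
  have := hB.cyclic hK hm
  obtain ⟨c, hc⟩ := IsCyclic.exists_generator (α := ↥B)
  obtain ⟨w, hw⟩ := exists_prime_orderOf_dvd_card' (G := ↥B) r hrB
  obtain ⟨k, hk⟩ := hA.conj_into hK hm hrA (g := (c : ↥(S hK).fix)) (w := (w : ↥(S hK).fix))
    (by rw [Subgroup.orderOf_coe, hw]) (cyclic_comm w.2 c.2)
  have h := orderOf_dvd_natCard (⟨_, hk⟩ : ↥A)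
  rwa [Subgroup.orderOf_mk, show k * (c : ↥(S hK).fix) * k⁻¹ = MulAut.conj k c.1 from rfl, MulEquiv.orderOf_eq,
    Subgroup.orderOf_coe, orderOf_eq_card_of_forall_mem_zpowers hc] at h

/-- The conjugates of the non-trivial elements of a torus. -/
theorem IsHexTor.conj_count {A : Subgroup ↥(S hK).fix} (hA : IsHexTor hK A) :
    ∃ e : ℕ, e ∣ 6 ∧ e * Nat.card ↥(Subgroup.normalizer (A : Set ↥(S hK).fix)) = 6 * Nat.card ↥A ∧
      6 * Nat.card ↥A * Nat.card ↥(ToriGen.conjUnion ((A : Set ↥(S hK).fix) \ {1})) +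
        e * Nat.card ↥(S hK).fix = e * Nat.card ↥(S hK).fix * Nat.card ↥A := by
  obtain ⟨e, he, hN⟩ := hA.index hK hm
  refine ⟨e, he, hN, ?_⟩
  have h := ToriGen.ti_count (Subgroup.normalizer (A : Set ↥(S hK).fix)) ((A : Set ↥(S hK).fix) \ {1})
    (fun n hn d hd => ⟨(Subgroup.mem_normalizer_iff.mp hn d).mp hd.1, fun e => hd.2 (conj_eq_one_iff.mp e)⟩)
    (fun g d hd hgd => hA.ti hK hm hd.1 hd.2 hgd.1)
  have hD : Nat.card ↥((A : Set ↥(S hK).fix) \ {1}) + 1 = Nat.card ↥A := by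
    rw [Nat.card_coe_set_eq, Set.ncard_sdiff_singleton_add_one (one_mem A) (Set.toFinite _),
      ← Nat.card_coe_set_eq]
    rfl
  rw [← hN]
  calc e * Nat.card ↥(Subgroup.normalizer (A : Set ↥(S hK).fix)) *
          Nat.card ↥(ToriGen.conjUnion ((A : Set ↥(S hK).fix) \ {1})) + e * Nat.card ↥(S hK).fix
      = e * (Nat.card ↥(ToriGen.conjUnion ((A : Set ↥(S hK).fix) \ {1})) *
          Nat.card ↥(Subgroup.normalizer (A : Set ↥(S hK).fix))) + e * Nat.card ↥(S hK).fix := by ring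
    _ = _ := by rw [h, ← hD]; ring

theorem IsHexTor.conjUnion_sub {A : Subgroup ↥(S hK).fix} (hA : IsHexTor hK A) :
    ToriGen.conjUnion ((A : Set ↥(S hK).fix) \ {1}) ⊆ hexSet hK := by
  rintro _ ⟨k, d, hd, rfl⟩
  refine ⟨fun e => hd.2 (conj_eq_one_iff.mp e), ?_⟩
  rw [show k * d * k⁻¹ = MulAut.conj k d from rfl, MulEquiv.orderOf_eq, ← Subgroup.orderOf_mk d hd.1]
  exact (orderOf_dvd_natCard _).trans (hA.dvd hK hm)

theorem IsHexTor.conjUnion_order {A : Subgroup ↥(S hK).fix} {g : ↥(S hK).fix}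
    (hg : g ∈ ToriGen.conjUnion ((A : Set ↥(S hK).fix) \ {1})) : g ≠ 1 ∧ orderOf g ∣ Nat.card ↥A := by
  obtain ⟨k, d, hd, rfl⟩ := hg
  refine ⟨fun e => hd.2 (conj_eq_one_iff.mp e), ?_⟩
  rw [show k * d * k⁻¹ = MulAut.conj k d from rfl, MulEquiv.orderOf_eq, ← Subgroup.orderOf_mk d hd.1]
  exact orderOf_dvd_natCard _

theorem hexSet_sub {g : ↥(S hK).fix} (hg : g ∈ hexSet hK) {r : ℕ} (hr : r.Prime) (hrg : r ∣ orderOf g)
    {A : Subgroup ↥(S hK).fix} (hA : IsHexTor hK A) (hrA : r ∣ Nat.card ↥A) :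
    g ∈ ToriGen.conjUnion ((A : Set ↥(S hK).fix) \ {1}) := by
  have : Fact r.Prime := ⟨hr⟩
  obtain ⟨j, hj, hcomm⟩ := exists_prime_pow_comm hrg
  obtain ⟨k, hk⟩ := hA.conj_into hK hm hrA hj hcomm
  exact ⟨k⁻¹, k * g * k⁻¹, ⟨hk, fun e => hg.1 (conj_eq_one_iff.mp e)⟩, by group⟩

/-- The two tori. -/
theorem hex_two : ∃ A B : Subgroup ↥(S hK).fix, IsHexTor hK A ∧ IsHexTor hK B ∧
    Nat.card ↥A = 3 ^ (2 * m + 1) - 3 ^ (m + 1) + 1 ∧ Nat.card ↥B = 3 ^ (2 * m + 1) + 3 ^ (m + 1) + 1 ∧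
    Nat.card ↥(Subgroup.normalizer (A : Set ↥(S hK).fix)) = 6 * Nat.card ↥A ∧
    Nat.card ↥(Subgroup.normalizer (B : Set ↥(S hK).fix)) = 6 * Nat.card ↥B ∧
    ∀ g ∈ hexSet hK, orderOf g ∣ Nat.card ↥A ∨ orderOf g ∣ Nat.card ↥B := by
  have : Fintype K := Fintype.ofFinite K
  have hqK : Fintype.card K = 3 ^ (2 * m + 1) := Nat.card_eq_fintype_card.symm.trans hK
  obtain ⟨hq27, hNbig, -⟩ := big_facts hm
  have hH := hex_count hK hm
  set G := Nat.card ↥(S hK).fix with hGdef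
  have hG0 : 0 < G := Nat.card_pos
  set N := hexN m with hNdef
  have hge : ∀ {A : Subgroup ↥(S hK).fix}, IsHexTor hK A → 7 ≤ Nat.card ↥A := by
    rintro A ⟨p, hp, hpN, u, hu, rfl⟩
    refine (hex_prime_ge hp hpN hqK).trans (Nat.le_of_dvd Nat.card_pos ?_)
    rw [← hu, ← Subgroup.orderOf_mk (H := Subgroup.centralizer {u}) u (mem_cent_one.mpr rfl)]
    exact orderOf_dvd_natCard _
  have hepos : ∀ {e : ℕ}, e ∣ 6 → 1 ≤ e := fun h => Nat.pos_of_dvd_of_pos h (by norm_num)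
  obtain ⟨p1, hp1, hp1N⟩ := Nat.exists_prime_and_dvd (show N ≠ 1 by omega)
  obtain ⟨A, hA, hA1, -⟩ := exists_hexTor hK hm hp1 hp1N
  obtain ⟨ea, hea, hnA, hcA⟩ := hA.conj_count hK hm
  set a := Nat.card ↥A with hadef
  set cA := ToriGen.conjUnion ((A : Set ↥(S hK).fix) \ {1}) with hcAdef
  -- there is a second class
  obtain ⟨p2, hp2, hp2N, hp2A⟩ : ∃ p, p.Prime ∧ p ∣ N ∧ ¬ p ∣ a := by
    by_contra hcon
    push Not at hcon
    have haN : a = N := card_eq_of_primes hK hm (hA.dvd hK hm) fun r hr hrN => by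
      have : Fact r.Prime := ⟨hr⟩
      rw [hA.full hK hm (hcon r hr hrN), hex_factor hK hm hr hrN]
    have heq : hexSet hK = cA := by
      refine Set.Subset.antisymm (fun g hg => ?_) (hA.conjUnion_sub hK hm)
      obtain ⟨r, hr, hrg⟩ := Nat.exists_prime_and_dvd (show orderOf g ≠ 1 from fun e =>
        hg.1 (orderOf_eq_one_iff.mp e))
      exact hexSet_sub hK hm hg hr hrg hA (hcon r hr (hrg.trans hg.2))
    rw [heq] at hH
    rw [haN] at hcA
    have he : ea ∈ Nat.divisors 6 := Nat.mem_divisors.mpr ⟨hea, by norm_num⟩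
    rw [show Nat.divisors 6 = {1, 2, 3, 6} by decide] at he
    simp only [Finset.mem_insert, Finset.mem_singleton] at he
    generalize Nat.card ↥cA = H at *
    have key : 2 * (3 ^ (2 * m + 1) + 1) + ea * N = 2 * N + ea := by
      refine Nat.eq_of_mul_eq_mul_left hG0 ?_
      zify at hH hcA ⊢
      linear_combination 2 * hH - hcA
    rcases he with rfl | rfl | rfl | rfl <;> omega
  obtain ⟨B, hB, hB2, -⟩ := exists_hexTor hK hm hp2 hp2N
  obtain ⟨eb, heb, hnB, hcB⟩ := hB.conj_count hK hm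
  set b := Nat.card ↥B with hbdef
  set cB := ToriGen.conjUnion ((B : Set ↥(S hK).fix) \ {1}) with hcBdef
  have hcop : Nat.Coprime a b := Nat.coprime_of_dvd fun r hr h1 h2 =>
    hp2A (hB2.trans (hA.share hK hm hB hr h1 h2))
  have hdisj : Disjoint cA cB := by
    rw [Set.disjoint_left]
    intro g g1 g2
    obtain ⟨h1, h1'⟩ := IsHexTor.conjUnion_order hK hm g1
    exact h1 (orderOf_eq_one_iff.mp (Nat.eq_one_of_dvd_coprimes hcop h1'
      (IsHexTor.conjUnion_order hK hm g2).2))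
  have hlow : ∀ {C : Subgroup ↥(S hK).fix}, IsHexTor hK C →
      G ≤ 7 * Nat.card ↥(ToriGen.conjUnion ((C : Set ↥(S hK).fix) \ {1})) := by
    intro C hC
    obtain ⟨e, he, -, hc⟩ := hC.conj_count hK hm
    have h7 := hge hC
    generalize Nat.card ↥C = c at *
    generalize Nat.card ↥(ToriGen.conjUnion ((C : Set ↥(S hK).fix) \ {1})) = H at *
    have he1 := hepos he
    obtain ⟨c', rfl⟩ : ∃ c', c = c' + 1 := ⟨c - 1, by omega⟩
    have h2 : G * c' ≤ 6 * (c' + 1) * H := by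
      have : e * G * c' = 6 * (c' + 1) * H := by
        refine Nat.add_right_cancel (m := e * G) ?_
        rw [hc]; ring
      rw [← this, mul_assoc]
      exact Nat.le_mul_of_pos_left _ he1
    by_contra hlt
    push Not at hlt
    have h3 : 6 * (c' + 1) * (7 * H) < 6 * (c' + 1) * G := Nat.mul_lt_mul_of_pos_left hlt (by omega)
    nlinarith [Nat.mul_le_mul_left G (show 6 ≤ c' by omega)]
  -- there is no third class
  have hall : ∀ r, r.Prime → r ∣ N → r ∣ a ∨ r ∣ b := by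
    intro r hr hrN
    by_contra hcon
    push Not at hcon
    obtain ⟨C, hC, hCr, -⟩ := exists_hexTor hK hm hr hrN
    set cC := ToriGen.conjUnion ((C : Set ↥(S hK).fix) \ {1})
    have d1 : Disjoint (cA ∪ cB) cC := by
      rw [Set.disjoint_left]
      rintro g hg g3
      obtain ⟨h1, h3⟩ := IsHexTor.conjUnion_order hK hm g3
      obtain ⟨s, hs, hsg⟩ := Nat.exists_prime_and_dvd (show orderOf g ≠ 1 from fun e =>
        h1 (orderOf_eq_one_iff.mp e))
      rcases hg with g1 | g1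
      · exact hcon.1 (hCr.trans (hA.share hK hm hC hs
          (hsg.trans (IsHexTor.conjUnion_order hK hm g1).2) (hsg.trans h3)))
      · exact hcon.2 (hCr.trans (hB.share hK hm hC hs
          (hsg.trans (IsHexTor.conjUnion_order hK hm g1).2) (hsg.trans h3)))
    have hsum : Nat.card ↥cA + Nat.card ↥cB + Nat.card ↥cC ≤ Nat.card ↥(hexSet hK) := by
      rw [Nat.card_coe_set_eq, Nat.card_coe_set_eq, Nat.card_coe_set_eq, Nat.card_coe_set_eq,
        ← Set.ncard_union_eq hdisj, ← Set.ncard_union_eq d1]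
      exact Set.ncard_le_ncard (Set.union_subset (Set.union_subset (hA.conjUnion_sub hK hm)
        (hB.conjUnion_sub hK hm)) (hC.conjUnion_sub hK hm)) (Set.toFinite _)
    have la : G ≤ 7 * Nat.card ↥cA := hlow hA
    have lb : G ≤ 7 * Nat.card ↥cB := hlow hB
    have lc : G ≤ 7 * Nat.card ↥cC := hlow hC
    have hlt : 3 * Nat.card ↥(hexSet hK) < G := by
      refine Nat.lt_of_mul_lt_mul_left (a := N) ?_
      calc N * (3 * Nat.card ↥(hexSet hK)) = 3 * N * Nat.card ↥(hexSet hK) := by ring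
        _ < 3 * N * Nat.card ↥(hexSet hK) + G * (3 ^ (2 * m + 1) + 1) :=
            Nat.lt_add_of_pos_right (Nat.mul_pos hG0 (by omega))
        _ = N * G := by rw [hH]; ring
    omega
  have hab : a * b = N := card_eq_of_primes hK hm
    (hcop.mul_dvd_of_dvd_of_dvd (hA.dvd hK hm) (hB.dvd hK hm)) fun r hr hrN => by
      have : Fact r.Prime := ⟨hr⟩
      rw [Nat.factorization_mul Nat.card_pos.ne' Nat.card_pos.ne', Finsupp.add_apply]
      rcases hall r hr hrN with h | h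
      · rw [hA.full hK hm h, hex_factor hK hm hr hrN,
          Nat.factorization_eq_zero_of_not_dvd (fun h' => hr.ne_one (Nat.eq_one_of_dvd_coprimes hcop h h')),
          add_zero]
      · rw [hB.full hK hm h, hex_factor hK hm hr hrN,
          Nat.factorization_eq_zero_of_not_dvd (fun h' => hr.ne_one (Nat.eq_one_of_dvd_coprimes hcop h' h)),
          zero_add]
  have horder : ∀ g ∈ hexSet hK, g ∈ cA ∨ g ∈ cB := by
    intro g hg
    obtain ⟨r, hr, hrg⟩ := Nat.exists_prime_and_dvd (show orderOf g ≠ 1 from fun e =>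
      hg.1 (orderOf_eq_one_iff.mp e))
    rcases hall r hr (hrg.trans hg.2) with h | h
    exacts [Or.inl (hexSet_sub hK hm hg hr hrg hA h), Or.inr (hexSet_sub hK hm hg hr hrg hB h)]
  have heq : hexSet hK = cA ∪ cB :=
    Set.Subset.antisymm horder (Set.union_subset (hA.conjUnion_sub hK hm) (hB.conjUnion_sub hK hm))
  rw [heq, Nat.card_coe_set_eq, Set.ncard_union_eq hdisj, ← Nat.card_coe_set_eq, ← Nat.card_coe_set_eq] at hH
  have h7a := hge hA
  have h7b := hge hB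
  rw [← hadef] at h7a
  rw [← hbdef] at h7b
  have hea1 := hepos hea
  have heb1 := hepos heb
  obtain ⟨e1, e2, hs⟩ := two_sum (N := (N : ℤ)) (q := ((3 ^ (2 * m + 1) : ℕ) : ℤ)) (a := (a : ℤ)) (b := (b : ℤ))
    (e₁ := (ea : ℤ)) (e₂ := (eb : ℤ)) (by exact_mod_cast hab) (by exact_mod_cast h7a) (by exact_mod_cast h7b)
    (by exact_mod_cast hea1) (by exact_mod_cast heb1) (Int.natCast_nonneg _) (by
      refine mul_left_cancel₀ (show (G : ℤ) ≠ 0 by exact_mod_cast hG0.ne') ?_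
      rw [← hab] at hH ⊢
      push_cast
      zify at hH hcA hcB
      push_cast at hH
      linear_combination 2 * hH - (b : ℤ) * hcA - (a : ℤ) * hcB)
  have e1' : ea = 1 := by exact_mod_cast e1
  have e2' : eb = 1 := by exact_mod_cast e2
  have hs' : a + b = 2 * (3 ^ (2 * m + 1) + 1) := by
    have := hs
    push_cast at this
    exact_mod_cast this
  rw [e1', one_mul] at hnA
  rw [e2', one_mul] at hnB
  have hord : ∀ g ∈ hexSet hK, orderOf g ∣ a ∨ orderOf g ∣ b := fun g hg =>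
    (horder g hg).imp (fun h => (IsHexTor.conjUnion_order hK hm h).2)
      (fun h => (IsHexTor.conjUnion_order hK hm h).2)
  rcases roots hab hs' with ⟨ra, rb⟩ | ⟨ra, rb⟩
  · exact ⟨A, B, hA, hB, ra, rb, hnA, hnB, hord⟩
  · exact ⟨B, A, hB, hA, rb, ra, hnB, hnA, fun g hg => (hord g hg).symm⟩

end CfsgLib.Chevalley.Twist.G2
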