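import Cfsg.Agent.Lib.Chevalley.Twist.Inst
import Cfsg.Agent.Lib.Chevalley.Twist.Field
import Cfsg.Agent.Lib.Chevalley.Twist.Torus1
import Cfsg.Agent.Lib.Chevalley.Twist.Eval
import Cfsg.Agent.Lib.Chevalley.Data.TwistG2
import Cfsg.Agent.Lib.Chevalley.Data.GraphCerts
import Cfsg.Agent.Lib.Chevalley.Data.SmithCerts
import Cfsg.Agent.Lib.Chevalley.Data.StCerts
import Cfsg.Agent.Lib.Chevalley.Data.G2Comm
import Cfsg.Prelude.Def_LieTwisted

/-!
The fixed unipotent elements in type G₂, characteristic three.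
-/

set_option autoImplicit false
set_option maxRecDepth 20000
set_option Elab.async false

namespace CfsgLib.Chevalley.Twist.G2

open Tbl

local notation "T2" => Data.G2.tbl

theorem stOk : (T2).StOk :=
  ⟨Data.G2.valid, Data.G2.chkComm, Data.G2.chkSorted, Data.G2.chkSplit⟩

theorem chk_twist : (T2).chkTwist Data.G2.graph [1, 0] = true := by decide +kernel

theorem chk_orbits :
    (T2).chkOrbits Data.G2.graph 1 [0, 0] Data.G2.orbWords = true := by decide +kernel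

theorem negList0 : (T2).negList (Data.G2.orbWords.getD 0 []) = [6, 7, 8, 9, 10, 11] := by decide +kernel

/-- The map `x_r(c) ↦ x_{-r}(-c)`. -/
def negMap : Tbl.RootMap :=
  ⟨[11, 10, 9, 8, 7, 6, 5, 4, 3, 2, 1, 0], List.replicate 12 (-1), List.replicate 12 1⟩

theorem chk_negMap : (T2).chkMap 3 negMap = true := by decide +kernel

theorem negMap_facts : ∀ r < (T2).n, negMap.ρ r < (T2).n ∧ negMap.ρ r = (T2).neg r ∧
    negMap.ε r = -1 ∧ negMap.lam r = 1 ∧ Data.G2.graph.ρ (negMap.ρ r) = negMap.ρ (Data.G2.graph.ρ r) ∧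
    Data.G2.graph.lam (negMap.ρ r) = Data.G2.graph.lam r ∧ Data.G2.graph.ρ r < (T2).n ∧
    Data.G2.graph.ε r = 1 ∧ Odd (Data.G2.graph.lam r) := by
  decide +kernel

section
variable {K : Type*} [Field K]

theorem word_lt (e : ℕ) (t u v : K) : ∀ p ∈ Cfsg.Lie.reeWordU e t u v, p.1 < (T2).n := by
  have h : ∀ r ∈ [Cfsg.Lie.g2a, Cfsg.Lie.g2b, Cfsg.Lie.g2ab, Cfsg.Lie.g2aab, Cfsg.Lie.g2aaab,
      Cfsg.Lie.g2aaabb], r < (T2).n := by decide +kernel
  intro p hp
  simp only [Cfsg.Lie.reeWordU, List.mem_cons, List.not_mem_nil, or_false] at hp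
  rcases hp with rfl | rfl | rfl | rfl | rfl | rfl <;> exact h _ (by simp)

/-- The image of a word. -/
def negW (l : List (ℕ × K)) : List (ℕ × K) := l.map fun p => (negMap.ρ p.1, -p.2)

theorem negW_eq {l : List (ℕ × K)} (hl : ∀ p ∈ l, p.1 < (T2).n) :
    Cfsg.Lie.chevG2.negWord l = negW l := by
  rw [← Data.G2.datum_eq]
  refine List.map_congr_left fun p hp => ?_
  rw [datum_negIdx_getD (hl p hp), (negMap_facts _ (hl p hp)).2.1]

theorem negW_lt {l : List (ℕ × K)} (hl : ∀ p ∈ l, p.1 < (T2).n) : ∀ p ∈ negW l, p.1 < (T2).n := by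
  intro p hp
  obtain ⟨q, hq, rfl⟩ := List.mem_map.mp hp
  exact (negMap_facts _ (hl q hq)).1

end

variable {K : Type*} [Field K] [Finite K] {m : ℕ} (hK : Nat.card K = 3 ^ (2 * m + 1))
include hK

theorem charThree : CharP K 3 := by
  have := Fintype.ofFinite K
  obtain ⟨n, hr, hc⟩ := FiniteField.card K (ringChar K)
  have h1 : ringChar K = 3 := by
    have h2 : ringChar K ∣ 3 ^ (2 * m + 1) := by
      rw [← hK, Nat.card_eq_fintype_card, hc]
      exact dvd_pow_self _ n.ne_zero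
    exact (Nat.prime_dvd_prime_iff_eq hr Nat.prime_three).mp (hr.dvd_of_dvd_pow h2)
  exact h1 ▸ ringChar.charP K

theorem three_eq_zero : (3 : K) = 0 := by
  have := charThree hK
  exact_mod_cast CharP.cast_eq_zero K 3

theorem exists_theta : ∃ f : K ≃+* K, ∀ t, f t = t ^ 3 ^ m := by
  have := charThree hK
  have : Fact (Nat.Prime 3) := ⟨Nat.prime_three⟩
  have : ExpChar K 3 := ExpChar.prime Nat.prime_three
  refine ⟨RingEquiv.ofBijective (iterateFrobenius K 3 m)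
    (Finite.injective_iff_bijective.mp (iterateFrobenius K 3 m).injective), fun t => ?_⟩
  show iterateFrobenius K 3 m t = _
  rw [iterateFrobenius_def]

/-- The map `θ`. -/
noncomputable def theta : K ≃+* K := (exists_theta hK).choose

theorem theta_apply (t : K) : theta hK t = t ^ 3 ^ m := (exists_theta hK).choose_spec t

theorem pow_theta (t : K) : (t ^ 3 ^ m) ^ (3 * 3 ^ m) = t := by
  rw [← pow_mul, show 3 ^ m * (3 * 3 ^ m) = 3 ^ (2 * m + 1) by ring]
  exact pow_card_eq hK t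

theorem pow_theta' (t : K) : (t ^ (3 * 3 ^ m)) ^ 3 ^ m = t := by
  rw [← pow_mul, show 3 * 3 ^ m * 3 ^ m = 3 ^ (2 * m + 1) by ring]
  exact pow_card_eq hK t

theorem add_pow3 (k : ℕ) (s t : K) : (s + t) ^ 3 ^ k = s ^ 3 ^ k + t ^ 3 ^ k := by
  have := charThree hK
  have : Fact (Nat.Prime 3) := ⟨Nat.prime_three⟩
  exact add_pow_char_pow s t 3 k

theorem add_pow3' (s t : K) : (s + t) ^ (3 * 3 ^ m) = s ^ (3 * 3 ^ m) + t ^ (3 * 3 ^ m) := by
  rw [show 3 * 3 ^ m = 3 ^ (m + 1) by ring, add_pow3 hK]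

/-- The data of the twist. -/
noncomputable def data : TwistData T2 K where
  ok := stOk
  p := 3
  hp := Or.inr ⟨Nat.prime_three, charThree hK⟩
  M := Data.G2.graph
  N := Data.G2.graph
  hM := Data.G2.chk_graph
  hN := Data.G2.chk_graph
  hinv := Data.G2.chk_graph_inv
  hperf x := ⟨(x ^ 3 ^ m) ^ 3 ^ m, Or.inl (by
    rw [← pow_mul, show 3 ^ m * 3 = 3 * 3 ^ m by ring]; exact pow_theta hK x)⟩
  π := [1, 0]
  hπ := chk_twist
  f := theta hK

/-- The twist. -/
noncomputable abbrev S : Twist T2 K := (data hK).twist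

/-- The orbit. -/
noncomputable abbrev O : Orbits T2 (S hK).valid (S hK).ρ := (data hK).orbits chk_orbits

theorem sg_x {r : ℕ} (hr : r < (T2).n) (t : K) :
    (S hK).sg ((T2).xU K r t) = (T2).xU K (Data.G2.graph.ρ r) ((t ^ 3 ^ m) ^ Data.G2.graph.lam r) := by
  rw [(data hK).sg_x hr]
  show (T2).xU K _ ((Data.G2.graph.ε r : K) * (theta hK t) ^ Data.G2.graph.lam r) = _
  rw [(negMap_facts r hr).2.2.2.2.2.2.2.1, Int.cast_one, one_mul, theta_apply hK]
  rfl

theorem gprod_negW_congr {l l' : List (ℕ × K)} (hl : ∀ p ∈ l, p.1 < (T2).n) (hl' : ∀ p ∈ l', p.1 < (T2).n)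
    (h : (T2).gprod l = (T2).gprod l') : (T2).gprod (negW l) = (T2).gprod (negW l') := by
  have hT : (T2).Valid := Data.G2.valid
  obtain ⟨α, -, hα⟩ := exists_rootMap_end (F := K) stOk (data hK).hp chk_negMap (data hK).hperf
  have key : ∀ (w : List (ℕ × K)) (hw : ∀ p ∈ w, p.1 < (T2).n),
      (α ⟨(T2).gprod w, gprod_mem_group hT hw⟩ : GL (T2).I K) = (T2).gprod (negW w) := by
    intro w
    induction w with
    | nil => intro _; exact congrArg Subtype.val (map_one α)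
    | cons p w ih =>
      intro hw
      have h1 := hw p List.mem_cons_self
      have h2 : ∀ q ∈ w, q.1 < (T2).n := fun q hq => hw q (List.mem_cons_of_mem _ hq)
      rw [show (⟨(T2).gprod (p :: w), gprod_mem_group hT hw⟩ : ↥((T2).datum.group K)) =
        ⟨(T2).xU K p.1 p.2, xU_mem_group hT h1 _⟩ * ⟨(T2).gprod w, gprod_mem_group hT h2⟩ from
          Subtype.ext (gprod_cons p w), map_mul, Subgroup.coe_mul, ih h2, hα _ p.1 p.2 h1 rfl, negW,
        negW, List.map_cons, gprod_cons]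
      congr 1
      obtain ⟨-, -, he, hlam, -⟩ := negMap_facts _ h1
      rw [RootMap.par, he, hlam, pow_one, Int.cast_neg, Int.cast_one, neg_one_mul]
  rw [← key l hl, ← key l' hl']
  exact congrArg (fun x => (α x : GL (T2).I K)) (Subtype.ext h)

theorem commute_of {a b : ℕ} (h : (Nat.blt a (T2).n && Nat.blt b (T2).n && !Nat.beq b ((T2).neg a) &&
    ((T2).commT a b).all fun c => decide (c.2.1 % 3 = 0)) = true) (s t : K) :
    Commute ((T2).xU K a s) ((T2).xU K b t) := by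
  simp only [Bool.and_eq_true, List.all_eq_true, decide_eq_true_eq, Bool.not_eq_true'] at h
  obtain ⟨⟨⟨ha, hb⟩, hne⟩, hz⟩ := h
  refine commute_xU Data.G2.valid Data.G2.chkComm (Nat.le_of_ble_eq_true ha) (Nat.le_of_ble_eq_true hb)
    (fun e => by rw [e, Nat.beq_refl] at hne; simp at hne) (fun c hc => ?_) s t
  have := charThree hK
  exact (CharP.intCast_eq_zero_iff K 3 c.2.1).mpr (Int.dvd_of_emod_eq_zero (hz c hc))

omit hK [Finite K] in
/-- Products over the four highest roots. -/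
noncomputable def hi (a b c d : K) : GL (T2).I K :=
  (T2).xU K 8 a * (T2).xU K 9 b * ((T2).xU K 10 c * (T2).xU K 11 d)

omit hK [Field K] [Finite K] in
theorem lt_n : 6 < (T2).n ∧ 7 < (T2).n ∧ 8 < (T2).n ∧ 9 < (T2).n ∧ 10 < (T2).n ∧ 11 < (T2).n := by
  decide +kernel

omit hK [Field K] [Finite K] in
theorem pairs_comm : ∀ p ∈ [(8, 9), (8, 10), (8, 11), (9, 10), (9, 11), (10, 11), (9, 6), (8, 6), (11, 6),
    (11, 7), (10, 7), (9, 7)],
    (Nat.blt p.1 (T2).n && Nat.blt p.2 (T2).n && !Nat.beq p.2 ((T2).neg p.1) &&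
    ((T2).commT p.1 p.2).all fun c => decide (c.2.1 % 3 = 0)) = true := by
  decide +kernel

theorem cc {a b : ℕ} (h : (a, b) ∈ [(8, 9), (8, 10), (8, 11), (9, 10), (9, 11), (10, 11), (9, 6), (8, 6),
    (11, 6), (11, 7), (10, 7), (9, 7)]) (s t : K) : Commute ((T2).xU K a s) ((T2).xU K b t) :=
  commute_of hK (pairs_comm _ h) s t

theorem hi_mul (a b c d a' b' c' d' : K) :
    hi a b c d * hi a' b' c' d' = hi (a + a') (b + b') (c + c') (d + d') := by
  have hT : (T2).Valid := Data.G2.valid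
  obtain ⟨-, -, h8, h9, h10, h11⟩ := lt_n
  have m1 : Commute ((T2).xU K 10 c * (T2).xU K 11 d) ((T2).xU K 8 a' * (T2).xU K 9 b') :=
    Commute.mul_left
      (Commute.mul_right (cc hK (a := 8) (b := 10) (by simp) a' c).symm
        (cc hK (a := 9) (b := 10) (by simp) b' c).symm)
      (Commute.mul_right (cc hK (a := 8) (b := 11) (by simp) a' d).symm
        (cc hK (a := 9) (b := 11) (by simp) b' d).symm)
  have m2 : Commute ((T2).xU K 9 b) ((T2).xU K 8 a') := (cc hK (a := 8) (b := 9) (by simp) a' b).symm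
  have m3 : Commute ((T2).xU K 11 d) ((T2).xU K 10 c') := (cc hK (a := 10) (b := 11) (by simp) c' d).symm
  calc hi a b c d * hi a' b' c' d'
      = (T2).xU K 8 a * (T2).xU K 9 b * (((T2).xU K 10 c * (T2).xU K 11 d) *
          ((T2).xU K 8 a' * (T2).xU K 9 b')) * ((T2).xU K 10 c' * (T2).xU K 11 d') := by
        simp only [hi, mul_assoc]
    _ = (T2).xU K 8 a * ((T2).xU K 9 b * (T2).xU K 8 a') * (T2).xU K 9 b' *
          ((T2).xU K 10 c * ((T2).xU K 11 d * (T2).xU K 10 c') * (T2).xU K 11 d') := by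
        rw [m1.eq]; simp only [mul_assoc]
    _ = (T2).xU K 8 a * (T2).xU K 8 a' * ((T2).xU K 9 b * (T2).xU K 9 b') *
          ((T2).xU K 10 c * (T2).xU K 10 c' * ((T2).xU K 11 d * (T2).xU K 11 d')) := by
        rw [m2.eq, m3.eq]; simp only [mul_assoc]
    _ = _ := by simp only [hi, xU_add hT h8, xU_add hT h9, xU_add hT h10, xU_add hT h11]

theorem sg_hi (a b c d : K) : (S hK).sg (hi a b c d) =
    hi (c ^ 3 ^ m) (d ^ 3 ^ m) (a ^ (3 * 3 ^ m)) (b ^ (3 * 3 ^ m)) := by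
  have hT : (T2).Valid := Data.G2.valid
  obtain ⟨-, -, h8, h9, h10, h11⟩ := lt_n
  have g : ∀ r < (T2).n, ∀ x : K, (T2).xU K r x ∈ (T2).datum.group K := fun r hr x => xU_mem_group hT hr x
  rw [hi, hi, (S hK).sg_mul (mul_mem (g 8 h8 _) (g 9 h9 _)) (mul_mem (g 10 h10 _) (g 11 h11 _)),
    (S hK).sg_mul (g 8 h8 _) (g 9 h9 _), (S hK).sg_mul (g 10 h10 _) (g 11 h11 _),
    sg_x hK h8, sg_x hK h9, sg_x hK h10, sg_x hK h11,
    show Data.G2.graph.ρ 8 = 10 by decide +kernel, show Data.G2.graph.ρ 9 = 11 by decide +kernel,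
    show Data.G2.graph.ρ 10 = 8 by decide +kernel, show Data.G2.graph.ρ 11 = 9 by decide +kernel,
    show Data.G2.graph.lam 8 = 3 by decide +kernel, show Data.G2.graph.lam 9 = 3 by decide +kernel,
    show Data.G2.graph.lam 10 = 1 by decide +kernel, show Data.G2.graph.lam 11 = 1 by decide +kernel,
    pow_one, pow_one, ← pow_mul a, ← pow_mul b, mul_comm (3 ^ m) 3]
  exact (Commute.mul_left
    (Commute.mul_right (cc hK (a := 8) (b := 10) (by simp) _ _).symm
      (cc hK (a := 9) (b := 10) (by simp) _ _).symm)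
    (Commute.mul_right (cc hK (a := 8) (b := 11) (by simp) _ _).symm
      (cc hK (a := 9) (b := 11) (by simp) _ _).symm)).eq

theorem swap67 (t u : K) : (T2).xU K 7 u * (T2).xU K 6 t =
    (T2).xU K 6 t * (T2).xU K 7 u * hi (-(t * u)) (-(t * u ^ 2)) (t * u ^ 3) (t ^ 2 * u ^ 3) := by
  obtain ⟨h6, h7, -, -, -, -⟩ := lt_n
  rw [comm_xU Data.G2.valid Data.G2.chkComm h6 h7 (by decide) (by decide +kernel),
    show (T2).commT 6 7 = [(8, 1, 1, 1), (9, 1, 1, 2), (10, -1, 1, 3), (11, -2, 2, 3)] by decide +kernel]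
  simp only [List.map_cons, List.map_nil, List.prod_cons, List.prod_nil, mul_one, hi]
  push_cast
  rw [show (1 : K) * (-t) ^ 1 * u ^ 1 = -(t * u) by ring, show (1 : K) * (-t) ^ 1 * u ^ 2 = -(t * u ^ 2) by ring,
    show (-1 : K) * (-t) ^ 1 * u ^ 3 = t * u ^ 3 by ring,
    show (-2 : K) * (-t) ^ 2 * u ^ 3 = t ^ 2 * u ^ 3 by
      linear_combination (-(t ^ 2 * u ^ 3)) * three_eq_zero hK]
  simp only [mul_assoc]

omit hK [Finite K] in
/-- The fixed element with parameters `t`, `u`, `v`. -/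
noncomputable def ree (m : ℕ) (t u v : K) : GL (T2).I K :=
  (T2).xU K 6 t * (T2).xU K 7 (t ^ 3 ^ m) *
    hi (u ^ 3 ^ m) (v ^ 3 ^ m) (u + t ^ (3 * 3 ^ m + 1)) (v + t ^ (3 * 3 ^ m + 2))

theorem word_eq (t u v : K) : (T2).gprod (Cfsg.Lie.reeWordU (3 ^ m) t u v) = ree m t u v := by
  have hw : (T2).gprod (Cfsg.Lie.reeWordU (3 ^ m) t u v) = (T2).xU K 7 (t ^ 3 ^ m) * (T2).xU K 6 t *
      hi (t ^ (3 ^ m + 1) + u ^ 3 ^ m) (t ^ (2 * 3 ^ m + 1) + v ^ 3 ^ m) u v := by
    simp only [Cfsg.Lie.reeWordU, gprod, List.map_cons, List.map_nil, List.prod_cons, List.prod_nil,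
      mul_one, hi, mul_assoc]
    rfl
  rw [hw, swap67 hK, mul_assoc ((T2).xU K 6 t * (T2).xU K 7 (t ^ 3 ^ m)), hi_mul hK, ree]
  congr 2 <;> ring

theorem sg_ree (t u v : K) : (S hK).sg (ree m t u v) = ree m t u v := by
  have hT : (T2).Valid := Data.G2.valid
  obtain ⟨h6, h7, h8, h9, h10, h11⟩ := lt_n
  conv_rhs => rw [← word_eq hK]
  have g : ∀ r < (T2).n, ∀ x : K, (T2).xU K r x ∈ (T2).datum.group K := fun r hr x => xU_mem_group hT hr x
  rw [ree, (S hK).sg_mul (mul_mem (g 6 h6 _) (g 7 h7 _))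
      (show hi _ _ _ _ ∈ _ from mul_mem (mul_mem (g 8 h8 _) (g 9 h9 _)) (mul_mem (g 10 h10 _) (g 11 h11 _))),
    (S hK).sg_mul (g 6 h6 _) (g 7 h7 _), sg_x hK h6, sg_x hK h7, sg_hi hK,
    show Data.G2.graph.ρ 6 = 7 by decide +kernel, show Data.G2.graph.ρ 7 = 6 by decide +kernel,
    show Data.G2.graph.lam 6 = 1 by decide +kernel, show Data.G2.graph.lam 7 = 3 by decide +kernel,
    pow_one, ← pow_mul (t ^ 3 ^ m), mul_comm (3 ^ m) 3, pow_theta hK, pow_theta hK, pow_theta hK,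
    add_pow3 hK, add_pow3 hK, pow_succ t (3 * 3 ^ m), show t ^ (3 * 3 ^ m + 2) = t ^ (3 * 3 ^ m) * t ^ 2 from
      pow_add _ _ _, mul_pow, mul_pow, pow_theta' hK]
  simp only [Cfsg.Lie.reeWordU, gprod, List.map_cons, List.map_nil, List.prod_cons, List.prod_nil,
    mul_one, hi, mul_assoc]
  congr 3
  · congr 1; ring
  · congr 1
    · congr 1; rw [← pow_mul]; ring

theorem ree_fix (t u v : K) : ree m t u v ∈ (S hK).fix := by
  refine ⟨?_, sg_ree hK t u v⟩
  rw [← word_eq hK]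
  exact gprod_mem_group Data.G2.valid (word_lt _ t u v)

theorem neg_fix (t u v : K) :
    (T2).gprod (negW (Cfsg.Lie.reeWordU (3 ^ m) t u v)) ∈ (S hK).fix := by
  have hT : (T2).Valid := Data.G2.valid
  set W := Cfsg.Lie.reeWordU (3 ^ m) t u v with hW
  have hl := word_lt (3 ^ m) t u v
  refine ⟨gprod_mem_group hT (negW_lt hl), ?_⟩
  let g : ℕ × K → ℕ × K := fun p => (Data.G2.graph.ρ p.1, (p.2 ^ 3 ^ m) ^ Data.G2.graph.lam p.1)
  have hg : ∀ p : ℕ × K, p.1 < (T2).n → (S hK).sg ((T2).xU K p.1 p.2) = (T2).xU K (g p).1 (g p).2 :=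
    fun p hp => sg_x hK hp p.2
  rw [sg_gprod (S hK) (negW_lt hl) g fun p hp => hg p (negW_lt hl p hp)]
  have e1 : (negW W).map g = negW (W.map g) := by
    rw [negW, negW, List.map_map, List.map_map]
    refine List.map_congr_left fun p hp => ?_
    obtain ⟨-, -, -, -, h5, h6, -, -, h9⟩ := negMap_facts _ (hl p hp)
    show (_, _) = (_, _)
    refine Prod.ext h5 ?_
    show ((-p.2) ^ 3 ^ m) ^ Data.G2.graph.lam (negMap.ρ p.1) = -(p.2 ^ 3 ^ m) ^ Data.G2.graph.lam p.1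
    rw [h6, Odd.neg_pow (Odd.pow (by decide : Odd 3)), Odd.neg_pow h9]
  rw [e1]
  refine gprod_negW_congr hK (fun p hp => ?_) hl ?_
  · obtain ⟨q, hq, rfl⟩ := List.mem_map.mp hp
    exact (negMap_facts _ (hl q hq)).2.2.2.2.2.2.1
  · rw [← sg_gprod (S hK) hl g fun p hp => hg p (hl p hp), hW, word_eq hK]
    exact sg_ree hK t u v

/-- The fixed elements of the positive root subgroup. -/
theorem exists_ree {x : GL (T2).I K} (hx : x ∈ (S hK).Uw ((S hK).wJ (O hK) (0 : Fin 1))) :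
    ∃ t u v, x = ree m t u v := by
  obtain ⟨hxf, hxU⟩ := Subgroup.mem_inf.mp hx
  obtain ⟨f, rfl⟩ := (data hK).exists_word chk_orbits (0 : Fin 1) negList0 hxU
  have hT : (T2).Valid := Data.G2.valid
  obtain ⟨h6, h7, h8, h9, h10, h11⟩ := lt_n
  have split : ∀ f : ℕ → K, (T2).gprod ([6, 7, 8, 9, 10, 11].map fun r => (r, f r)) =
      (T2).xU K 6 (f 6) * (T2).xU K 7 (f 7) * hi (f 8) (f 9) (f 10) (f 11) := by
    intro f
    simp only [gprod, List.map_cons, List.map_nil, List.prod_cons, List.prod_nil, mul_one, hi, mul_assoc]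
  have e := hxf.2
  rw [split] at e ⊢
  have g : ∀ r < (T2).n, ∀ x : K, (T2).xU K r x ∈ (T2).datum.group K := fun r hr x => xU_mem_group hT hr x
  rw [(S hK).sg_mul (mul_mem (g 6 h6 _) (g 7 h7 _))
      (show hi _ _ _ _ ∈ _ from mul_mem (mul_mem (g 8 h8 _) (g 9 h9 _)) (mul_mem (g 10 h10 _) (g 11 h11 _))),
    (S hK).sg_mul (g 6 h6 _) (g 7 h7 _), sg_x hK h6, sg_x hK h7, sg_hi hK,
    show Data.G2.graph.ρ 6 = 7 by decide +kernel, show Data.G2.graph.ρ 7 = 6 by decide +kernel,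
    show Data.G2.graph.lam 6 = 1 by decide +kernel, show Data.G2.graph.lam 7 = 3 by decide +kernel,
    pow_one, swap67 hK, mul_assoc ((T2).xU K 6 _ * (T2).xU K 7 _), hi_mul hK] at e
  set B := (f 7 ^ 3 ^ m) ^ 3
  set A := f 6 ^ 3 ^ m
  have key := gprod_inj hT Data.G2.chkComm (L := [6, 7, 8, 9, 10, 11]) (by decide) (by decide +kernel)
    (fun r => if r = 6 then B else if r = 7 then A else if r = 8 then -(B * A) + f 10 ^ 3 ^ m
      else if r = 9 then -(B * A ^ 2) + f 11 ^ 3 ^ m else if r = 10 then B * A ^ 3 + f 8 ^ (3 * 3 ^ m)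
      else B ^ 2 * A ^ 3 + f 9 ^ (3 * 3 ^ m)) f (by rw [split, split]; simpa using e)
  have k6 := key 6 (by simp)
  have k7 := key 7 (by simp)
  have k10 := key 10 (by simp)
  have k11 := key 11 (by simp)
  simp at k6 k7 k10 k11
  refine ⟨f 6, f 8 ^ (3 * 3 ^ m), f 9 ^ (3 * 3 ^ m), ?_⟩
  rw [k6] at k10 k11
  rw [ree, pow_theta' hK, pow_theta' hK, show f 6 ^ 3 ^ m = f 7 from k7, ← k10, ← k11]
  congr 2
  · simp only [A, ← pow_mul]; ring
  · simp only [A, ← pow_mul]; ring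

end CfsgLib.Chevalley.Twist.G2
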