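import Cfsg.Agent.Lib.Chevalley.Twist.RootUniq
import Cfsg.Agent.Lib.Chevalley.Steinberg

/-!
Automorphisms of a Chevalley group permuting the root subgroups and preserving the positive system;
their fixed points decompose along the Bruhat decomposition.
-/

set_option autoImplicit false

namespace CfsgLib.Chevalley.Tbl

/-- An automorphism sending `x_r(t)` to `x_{ρ r}(φ_r t)`. -/
structure Twist (T : Tbl) (F : Type*) [Field F] where
  valid : T.Valid
  comm : T.chkComm = true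
  ρ : Equiv.Perm (Fin T.n)
  π : Equiv.Perm (Fin T.rank)
  par : Fin T.n → F → F
  σ : ↥(T.datum.group F) ≃* ↥(T.datum.group F)
  pos : ∀ r, T.half ≤ (ρ r).val ↔ T.half ≤ r.val
  negEq : ∀ r, ρ (T.negF r) = T.negF (ρ r)
  simple : ∀ i, ρ (T.simpF valid i) = T.simpF valid (π i)
  refl : ∀ i, ρ * T.refP valid i * ρ⁻¹ = T.refP valid (π i)
  par_ne : ∀ r t, t ≠ 0 → par r t ≠ 0
  par_inv : ∀ r t, par (T.negF r) (-t⁻¹) = -(par r t)⁻¹
  σ_x : ∀ (g : ↥(T.datum.group F)) (r : Fin T.n) (t : F), (g : GL T.I F) = T.xU F r t →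
    (σ g : GL T.I F) = T.xU F (ρ r) (par r t)

variable {T : Tbl} {F : Type*} [Field F]

namespace Twist

variable (S : Twist T F)

/-- The automorphism as a function on matrices. -/
noncomputable def sg (g : GL T.I F) : GL T.I F := by
  classical
  exact if h : g ∈ T.datum.group F then (S.σ ⟨g, h⟩ : GL T.I F) else 1

theorem sg_eq {g : GL T.I F} (h : g ∈ T.datum.group F) : S.sg g = (S.σ ⟨g, h⟩ : GL T.I F) := by
  simp [sg, h]

theorem sg_mem {g : GL T.I F} (h : g ∈ T.datum.group F) : S.sg g ∈ T.datum.group F := by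
  rw [S.sg_eq h]; exact (S.σ ⟨g, h⟩).2

theorem sg_mul {g g' : GL T.I F} (h : g ∈ T.datum.group F) (h' : g' ∈ T.datum.group F) :
    S.sg (g * g') = S.sg g * S.sg g' := by
  rw [S.sg_eq h, S.sg_eq h', S.sg_eq (mul_mem h h'), ← Subgroup.coe_mul, ← map_mul]
  rfl

theorem sg_one : S.sg 1 = 1 := by
  rw [S.sg_eq (one_mem _)]
  exact congrArg Subtype.val (map_one S.σ)

theorem sg_inv {g : GL T.I F} (h : g ∈ T.datum.group F) : S.sg g⁻¹ = (S.sg g)⁻¹ := by
  rw [S.sg_eq h, S.sg_eq (inv_mem h), ← Subgroup.coe_inv, ← map_inv]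
  rfl

theorem sg_inj {g g' : GL T.I F} (h : g ∈ T.datum.group F) (h' : g' ∈ T.datum.group F)
    (e : S.sg g = S.sg g') : g = g' := by
  rw [S.sg_eq h, S.sg_eq h'] at e
  exact congrArg Subtype.val (S.σ.injective (Subtype.ext e))

theorem sg_xU (r : Fin T.n) (t : F) : S.sg (T.xU F r t) = T.xU F (S.ρ r) (S.par r t) := by
  have h := xU_mem_group (F := F) S.valid r.2 t
  rw [S.sg_eq h]
  exact S.σ_x _ r t rfl

/-- The fixed points. -/
noncomputable def fix : Subgroup (GL T.I F) where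
  carrier := {g | g ∈ T.datum.group F ∧ S.sg g = g}
  one_mem' := ⟨one_mem _, S.sg_one⟩
  mul_mem' := fun {a b} ha hb => ⟨mul_mem ha.1 hb.1, by rw [S.sg_mul ha.1 hb.1, ha.2, hb.2]⟩
  inv_mem' := fun {a} ha => ⟨inv_mem ha.1, by rw [S.sg_inv ha.1, ha.2]⟩

theorem mem_fix_iff {g : GL T.I F} : g ∈ S.fix ↔ g ∈ T.datum.group F ∧ S.sg g = g := Iff.rfl

include S in
theorem rootGen_le_group (P : ℕ → Prop) : T.rootGen F P ≤ T.datum.group F :=
  rootGen_le fun _ hr _ t => xU_mem_group S.valid hr t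

theorem sg_rootGen {P Q : ℕ → Prop} (hPQ : ∀ r : Fin T.n, P r.val → Q (S.ρ r).val) {x : GL T.I F}
    (hx : x ∈ T.rootGen F P) : S.sg x ∈ T.rootGen F Q := by
  have hle := S.rootGen_le_group P
  induction hx using Subgroup.closure_induction with
  | mem y hy =>
    obtain ⟨r, hr, hP, t, rfl⟩ := hy
    rw [S.sg_xU ⟨r, hr⟩]
    exact xU_mem_rootGen (S.ρ _).2 (hPQ ⟨r, hr⟩ hP) _
  | one => rw [S.sg_one]; exact one_mem _
  | mul a b ha hb iha ihb =>
    rw [S.sg_mul (hle ha) (hle hb)]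
    exact mul_mem iha ihb
  | inv a ha iha =>
    rw [S.sg_inv (hle ha)]
    exact inv_mem iha

theorem sg_pos {x : GL T.I F} (hx : x ∈ T.rootGen F (fun r => T.half ≤ r)) :
    S.sg x ∈ T.rootGen F (fun r => T.half ≤ r) :=
  S.sg_rootGen (fun r h => (S.pos r).mpr h) hx

theorem sg_nU (r : Fin T.n) (t : F) : S.sg (T.nU F r t) = T.nU F (S.ρ r) (S.par r t) := by
  have h1 := xU_mem_group (F := F) S.valid r.2 t
  have h2 := xU_mem_group (F := F) S.valid (T.negF r).2 (-t⁻¹)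
  rw [nU, nU, show T.xU F (T.neg r.val) (-t⁻¹) = T.xU F (T.negF r).val (-t⁻¹) from rfl,
    S.sg_mul (mul_mem h1 h2) h1, S.sg_mul h1 h2, S.sg_xU r, S.sg_xU (T.negF r),
    S.par_inv, S.negEq]
  rfl

include S in
theorem nU_mem_N (r : Fin T.n) {t : F} (ht : t ≠ 0) : T.nU F r t ∈ T.datum.monomialSubgroup F := by
  have e := nU_t S.valid r.2 (Units.mk0 t ht)
  rw [Units.val_mk0] at e
  rw [e, monomialSubgroup_eq S.valid]
  refine mul_mem (Subgroup.mem_sup_left ?_) (Subgroup.mem_sup_right (Subgroup.subset_closure ⟨r, r.2, rfl⟩))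
  rw [diagonalSubgroup_eq S.valid]
  exact Subgroup.subset_closure ⟨_, r.2, _, rfl⟩

theorem sg_diag {h : GL T.I F} (hh : h ∈ T.datum.diagonalSubgroup F) :
    S.sg h ∈ T.datum.diagonalSubgroup F := by
  have hle : T.datum.diagonalSubgroup F ≤ T.datum.group F := diag_le_group S.valid
  rw [diagonalSubgroup_eq S.valid] at hh hle
  induction hh using Subgroup.closure_induction with
  | mem y hy =>
    obtain ⟨r, hr, c, rfl⟩ := hy
    have e1 := nU_mem_group (F := F) S.valid hr (c : F)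
    have e2 := nU_mem_group (F := F) S.valid hr (-1 : F)
    rw [← hU_eq S.valid hr c, hU, S.sg_mul e1 e2, S.sg_nU ⟨r, hr⟩, S.sg_nU ⟨r, hr⟩]
    have hc : S.par ⟨r, hr⟩ (c : F) ≠ 0 := S.par_ne _ _ c.ne_zero
    have hd : S.par ⟨r, hr⟩ (-1 : F) ≠ 0 := S.par_ne _ _ (neg_ne_zero.mpr one_ne_zero)
    have hv := (S.ρ ⟨r, hr⟩).2
    have f1 := nU_t S.valid hv (Units.mk0 _ hc)
    have f2 := nU_t S.valid hv (Units.mk0 _ hd)
    rw [Units.val_mk0] at f1 f2
    rw [f1, f2, ← mul_assoc, mul_assoc (T.dU (T.hCh (S.ρ ⟨r, hr⟩).val (Units.mk0 _ hc))),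
      nU_dU_hCh S.valid hv, ← mul_assoc, mul_assoc (T.dU _ * T.dU _), nU_sq S.valid hv,
      diagonalSubgroup_eq S.valid]
    exact mul_mem (mul_mem (Subgroup.subset_closure ⟨_, hv, _, rfl⟩)
      (Subgroup.subset_closure ⟨_, hv, _, rfl⟩)) (Subgroup.subset_closure ⟨_, hv, _, rfl⟩)
  | one => rw [S.sg_one]; exact one_mem _
  | mul a b ha hb iha ihb => rw [S.sg_mul (hle ha) (hle hb)]; exact mul_mem iha ihb
  | inv a ha iha => rw [S.sg_inv (hle ha)]; exact inv_mem iha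

theorem sg_N {n : GL T.I F} (hn : n ∈ T.datum.monomialSubgroup F) :
    S.sg n ∈ T.datum.monomialSubgroup F := by
  have hT := S.valid
  obtain ⟨h, hh, l, rfl⟩ := exists_nw hT hn
  have hlG : ∀ l : List (Fin T.rank), T.nw F l ∈ T.datum.group F := fun l =>
    monomial_le_group hT (nw_mem hT l)
  rw [S.sg_mul (diag_le_group hT hh) (hlG l)]
  refine mul_mem (diag_le_N hT (S.sg_diag hh)) ?_
  clear hn
  induction l with
  | nil =>
    simp only [nw, List.map_nil, List.prod_nil]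
    rw [S.sg_one]; exact one_mem _
  | cons i l ih =>
    rw [show T.nw F (i :: l) = T.nU F (T.simple i) 1 * T.nw F l from rfl,
      S.sg_mul (nU_mem_group hT (simple_lt hT i.2) 1) (hlG l)]
    refine mul_mem ?_ ih
    rw [show T.nU F (T.simple i) 1 = T.nU F (T.simpF hT i).val 1 from rfl, S.sg_nU]
    exact S.nU_mem_N _ (S.par_ne _ _ one_ne_zero)

theorem sg_mono {n : GL T.I F} {w : Equiv.Perm (Fin T.n)} (hn : n ∈ T.datum.monomialSubgroup F)
    (hm : T.Mono n w) : T.Mono (S.sg n) (S.ρ * w * S.ρ⁻¹) := by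
  have hT := S.valid
  obtain ⟨v, -, hv⟩ := exists_mono hT (S.sg_N hn)
  suffices v = S.ρ * w * S.ρ⁻¹ by rwa [← this]
  refine Equiv.ext fun s => ?_
  obtain ⟨r, rfl⟩ := S.ρ.surjective s
  rw [Equiv.Perm.mul_apply, Equiv.Perm.mul_apply,
    show S.ρ⁻¹ (S.ρ r) = r from S.ρ.symm_apply_apply r]
  obtain ⟨c, hc⟩ := hm.conj r
  have hG := monomial_le_group hT hn
  have e := congrArg S.sg (hc 1).1
  rw [S.sg_mul hG (xU_mem_group hT r.2 _), S.sg_mul (xU_mem_group hT (w r).2 _) hG, S.sg_xU r,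
    S.sg_xU (w r)] at e
  obtain ⟨d, hd⟩ := hv.conj (S.ρ r)
  rw [(hd _).1] at e
  exact xU_root_eq hT S.comm (mul_ne_zero d.ne_zero (S.par_ne r _ one_ne_zero)) (mul_right_cancel e)

theorem sg_negSet {w : Equiv.Perm (Fin T.n)} {x : GL T.I F} (hx : x ∈ T.rootGen F (T.negSet w)) :
    S.sg x ∈ T.rootGen F (T.negSet (S.ρ * w * S.ρ⁻¹)) := by
  refine S.sg_rootGen (fun r ⟨hr, hp, hn⟩ => ⟨(S.ρ r).2, (S.pos r).mpr hp, ?_⟩) hx
  rw [show (⟨(S.ρ r).val, (S.ρ r).2⟩ : Fin T.n) = S.ρ r from rfl, Equiv.Perm.mul_apply,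
    Equiv.Perm.mul_apply, show S.ρ⁻¹ (S.ρ r) = r from S.ρ.symm_apply_apply r]
  by_contra h
  exact absurd ((S.pos _).mp (not_lt.mp h)) (not_le.mpr hn)

/-- The group of the twisted Weyl group: elements commuting with `ρ`. -/
def W1 : Subgroup (Equiv.Perm (Fin T.n)) := T.WP S.valid ⊓ Subgroup.centralizer {S.ρ}

theorem mem_W1_iff {w : Equiv.Perm (Fin T.n)} :
    w ∈ S.W1 ↔ w ∈ T.WP S.valid ∧ S.ρ * w * S.ρ⁻¹ = w := by
  rw [W1, Subgroup.mem_inf, Subgroup.mem_centralizer_singleton_iff]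
  refine and_congr_right fun _ => ⟨fun h => ?_, fun h => ?_⟩
  · rw [← h, mul_inv_cancel_right]
  · rw [mul_inv_eq_iff_eq_mul] at h; exact h.symm

/-- A fixed point in canonical form: the factors may be chosen fixed. -/
theorem fix_canonical {g : GL T.I F} (hg : g ∈ S.fix) :
    ∃ a ∈ T.rootGen F (fun r => T.half ≤ r), a ∈ S.fix ∧ ∃ n ∈ T.datum.monomialSubgroup F,
      n ∈ S.fix ∧ ∃ w ∈ S.W1, T.Mono n w ∧ ∃ u ∈ T.rootGen F (T.negSet w), u ∈ S.fix ∧ g = a * n * u := by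
  have hT := S.valid
  have hC := S.comm
  obtain ⟨hgG, hgfix⟩ := S.mem_fix_iff.mp hg
  obtain ⟨b, hb, n, hn, w, hw, hm, u, hu, e⟩ := exists_canonical hT hC hgG
  obtain ⟨a, ha, h, hh, rfl⟩ := (mem_borel_iff hT).mp hb
  rw [posUnipotent_rootGen hT] at ha
  have hn' : h * n ∈ T.datum.monomialSubgroup F := mul_mem (diag_le_N hT hh) hn
  have hm' : T.Mono (h * n) w := by simpa using (mono_diag hT hh).mul hm
  rw [mul_assoc a h n] at e
  clear hb hn hm
  set m := h * n with hmdef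
  clear_value m
  have haG := S.rootGen_le_group _ ha
  have huG := S.rootGen_le_group _ hu
  have hmG := monomial_le_group hT hn'
  have e2 : S.sg a * S.sg m * S.sg u = a * m * u := by
    rw [← S.sg_mul haG hmG, ← S.sg_mul (mul_mem haG hmG) huG, ← e, hgfix]
  have haB : ∀ {x : GL T.I F}, x ∈ T.rootGen F (fun r => T.half ≤ r) → x ∈ T.datum.borelSubgroup F :=
    fun {x} hx => Subgroup.mem_sup_left ((posUnipotent_rootGen (F := F) hT).symm ▸ hx)
  have hmσ := S.sg_mono hn' hm'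
  have huσ := S.sg_negSet hu
  obtain ⟨hd, -⟩ := canonical_unique hT hC (haB ha) (haB (S.sg_pos ha)) hn' (S.sg_N hn') hm' hu huσ
    e2.symm
  set d := m⁻¹ * S.sg m with hddef
  have hm2 : T.Mono (S.sg m) w := by
    have := hm'.mul (mono_diag hT hd)
    rwa [hddef, mul_inv_cancel_left, mul_one] at this
  have hwρ : S.ρ * w * S.ρ⁻¹ = w := hmσ.unique hm2
  rw [hwρ] at huσ
  have hk : m * d * m⁻¹ ∈ T.datum.diagonalSubgroup F := conj_diag hT hn' hd
  have e3 : a * m * u = (S.sg a * (m * d * m⁻¹)) * m * S.sg u := by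
    rw [← e2, hddef]; group
  obtain ⟨-, h2⟩ := canonical_unique hT hC (haB ha)
    (mul_mem (haB (S.sg_pos ha)) (Subgroup.mem_sup_right hk)) hn' hn' hm' hu huσ e3
  obtain ⟨h3, h4⟩ := h2 hm' rfl
  obtain ⟨h5, h6⟩ := borel_unique hT hC ha (S.sg_pos ha) (one_mem _) hk (by rw [mul_one]; exact h3)
  have h7 : d = 1 := by
    have := h6.symm
    rwa [conj_eq_one_iff] at this
  rw [hddef, inv_mul_eq_one] at h7
  exact ⟨a, ha, ⟨haG, h5.symm⟩, m, hn', ⟨hmG, h7.symm⟩, w, S.mem_W1_iff.mpr ⟨hw, hwρ⟩, hm', u, hu,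
    ⟨huG, h4.symm⟩, e⟩

end Twist

end CfsgLib.Chevalley.Tbl
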