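import Cfsg.Agent.Lib.Chevalley.PoincareCheck
import Cfsg.Agent.Lib.Chevalley.PerfectCheck

/-!
Certificates listing the elements of a twisted Weyl group with their lengths.
-/

set_option autoImplicit false

namespace CfsgLib.Chevalley

/-- An element: images of the positive roots (one byte each), depth, parent, last generator, length
degree, products with the generators. -/
structure Ent where
  key : ℕ
  dep : ℕ
  par : ℕ
  g : ℕ
  deg : ℕ
  trans : List ℕ

/-- A byte of a packed list. -/
def byteAt (key k : ℕ) : ℕ := Nat.land (Nat.shiftRight key (8 * k)) 255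

/-- The listed elements and the packed generators. -/
structure Elts where
  len : ℕ
  ent : ℕ → Ent
  gens : List ℕ
  e : ℕ

namespace Tbl

variable (T : Tbl)

def cntNeg (key : ℕ) : ℕ → ℕ
  | 0 => 0
  | k + 1 => (bif Nat.blt (byteAt key k) T.half then 1 else 0) + cntNeg key k

def chkEltGens (words : List (List ℕ)) (E : Elts) : Bool :=
  Nat.beq E.gens.length words.length &&
  allLt (fun j => allLt (fun r =>
    Nat.beq (byteAt (E.gens.getD j 0) r) (T.actWord (words.getD j []) r)) T.n) words.length

/-- The image of a packed element under a packed generator. -/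
def chkMulKey (G a b : ℕ) : Bool :=
  allLt (fun k => Nat.beq (byteAt G (byteAt a k)) (byteAt b k)) T.half

def chkElt (E : Elts) (m : ℕ) : Bool :=
  let R := E.ent m
  (bif Nat.beq R.dep 0 then
    allLt (fun k => Nat.beq (byteAt R.key k) (T.half + k)) T.half
  else
    Nat.blt R.par E.len && Nat.blt R.g E.gens.length && Nat.blt (E.ent R.par).dep R.dep &&
    T.chkMulKey (E.gens.getD R.g 0) (E.ent R.par).key R.key) &&
  allLt (fun k => Nat.blt (byteAt R.key k) T.n) T.half &&
  allLt (fun j => Nat.blt (R.trans.getD j 0) E.len &&
    T.chkMulKey (E.gens.getD j 0) R.key (E.ent (R.trans.getD j 0)).key) E.gens.length &&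
  Nat.beq (T.cntNeg R.key T.half) (E.e * R.deg) &&
  Nat.blt R.key (Nat.pow 256 T.half) &&
  (Nat.beq (m + 1) E.len || Nat.blt R.key (E.ent (m + 1)).key)

def chkElts (words : List (List ℕ)) (E : Elts) : Bool :=
  T.chkEltGens words E && Nat.blt 0 E.e &&
    (List.range E.len).any (fun m => Nat.beq (E.ent m).dep 0) &&
    allLt (T.chkElt E) E.len

end Tbl

/-- The degrees as a coefficient list. -/
def Elts.hist (E : Elts) : List ℤ := pHist ((List.range E.len).map fun m => (E.ent m).deg)

end CfsgLib.Chevalley
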